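import Cfsg.Agent.Lib.JFourLocal.FourPoints
import Cfsg.Agent.Lib.JFour.Cons
import Cfsg.Agent.Lib.JFour.XCase

/-!
# Two classes of involutions and the types of the outer involutions

`wz` is not conjugate to `z`, and of an outer involution `u` centralizing an element of order three
and its translate `uz` exactly one is conjugate to `z`, the other to `wz`.
-/

set_option autoImplicit false
set_option maxRecDepth 100000
set_option linter.style.haveILetI false
set_option linter.unusedSectionVars false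

open Cfsg

namespace CfsgLib.JFourLocal

open CfsgLib.JFour

variable {G : Type*} [Group G] [Finite G] {M : Type*} [Group M] [Finite M] {z π : G} {E : Subgroup G}

/-- An element of order three which is a kernel element times another one has no `z` part. -/
theorem no_z_part (J : Ctx M z π E) {s t u : G} {k : ℕ} (hu : u = 1 ∨ u = z) (hs : s * s * s = 1)
    (ht : t * t * t = 1) (htz : t * z = z * t) (htp : t * π = π * t) (he : s = u * π ^ k * t) :
    s = π ^ k * t := by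
  rcases hu with h | h
  · rw [he, h, one_mul]
  exfalso
  rw [h] at he
  have h1 : Commute z (π ^ k * t) :=
    ((show Commute π z from J.piz).pow_left k).symm.mul_right (show Commute z t from htz.symm)
  have h3 : (z * (π ^ k * t)) ^ 3 = 1 := by
    rw [← mul_assoc, ← he, pow_succ, pow_two, hs]
  rw [h1.mul_pow, ((show Commute π t from htp.symm).pow_left k).mul_pow, ← pow_mul, mul_comm k, pow_mul,
    J.pi_pow_three, one_pow, one_mul, pow_succ t, pow_two, ht, mul_one, pow_succ, pow_two, J.zz,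
    one_mul] at h3
  exact J.z_ne h3

/-- An element of `C(z, π)` whose image commutes with the image of `w` commutes with `w`. -/
theorem comm_of_proj (J : Ctx M z π E) (F : JFour.Small M) {g : ℕ → M} (T : Tables M g)
    {a b : ↥(CZ z π)} (P : J.IsPair a b) {w h : G} (hw : w ∈ CZ z π) (hwne : w ≠ z)
    (hh : h * z * h⁻¹ = w) (hha : h * (a : G) * h⁻¹ = π) {d : ↥(CZ z π)}
    (hd : J.proj d * J.proj ⟨w, hw⟩ = J.proj ⟨w, hw⟩ * J.proj d) : (d : G) * w = w * d := by
  classical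
  obtain ⟨heq, hcard, -⟩ := J.cent_facts F T P hw hwne hh hha
  have hw2 : w * w = 1 := by
    rw [← hh, show h * z * h⁻¹ * (h * z * h⁻¹) = h * (z * z) * h⁻¹ by group, J.zz]; group
  have hxo : orderOf (J.proj ⟨w, hw⟩) = 2 := by
    refine orderOf_eq_prime (by rw [pow_two, ← map_mul,
      show (⟨w, hw⟩ : ↥(CZ z π)) * ⟨w, hw⟩ = 1 from Subtype.ext hw2, map_one]) fun e => ?_
    rcases J.small_of_proj_one e (Or.inl hw2) with e' | e'
    · rw [show w = 1 from e', mul_inv_eq_one] at hh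
      exact J.z_ne (mul_eq_left.1 hh)
    · exact hwne e'
  set K := (Subgroup.centralizer ({J.proj ⟨w, hw⟩} : Set M)).comap J.proj with hK
  set W := Subgroup.centralizer ({(⟨w, hw⟩ : ↥(CZ z π))} : Set ↥(CZ z π)) with hW
  have hWK : W ≤ K := fun c hc => by
    rw [hK, Subgroup.mem_comap, Subgroup.mem_centralizer_singleton_iff, ← map_mul, ← map_mul,
      Subgroup.mem_centralizer_singleton_iff.1 hc]
  have hKcard : Nat.card K = 2304 := by
    let f : ↥K →* M := J.proj.comp K.subtype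
    have hr : f.range = Subgroup.centralizer ({J.proj ⟨w, hw⟩} : Set M) := by
      rw [MonoidHom.range_comp, Subgroup.range_subtype, hK,
        Subgroup.map_comap_eq_self_of_surjective J.proj_surj]
    have hk : Nat.card f.ker = Nat.card J.proj.ker :=
      Nat.card_congr ⟨fun s => ⟨s.1.1, s.2⟩,
        fun t => ⟨⟨t.1, Subgroup.mem_comap.2 (by rw [show J.proj t.1 = 1 from t.2]; exact one_mem _)⟩, t.2⟩,
        fun _ => rfl, fun _ => rfl⟩
    have h1 := J.proj.ker.card_mul_index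
    rw [Subgroup.index_ker, MonoidHom.range_eq_top.2 J.proj_surj, Subgroup.card_top, J.card_CZ F.card,
      F.card] at h1
    rw [← f.ker.card_mul_index, Subgroup.index_ker, hr, F.card_invol _ hxo, hk]
    omega
  have hWcard : 2304 ≤ Nat.card W := by
    rw [← hcard, heq]
    refine Nat.card_le_card_of_injective (fun t => ⟨⟨t, t.2.1⟩, Subgroup.mem_centralizer_singleton_iff.2
      (Subtype.ext (Subgroup.mem_centralizer_singleton_iff.1 t.2.2))⟩) fun s t e => ?_
    exact Subtype.ext (congrArg (fun q : ↥W => ((q : ↥(CZ z π)) : G)) e)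
  have hKW : W = K := Subgroup.eq_of_le_of_card_ge hWK (by omega)
  have hdK : d ∈ K := by
    rw [hK, Subgroup.mem_comap, Subgroup.mem_centralizer_singleton_iff]; exact hd
  rw [← hKW, hW, Subgroup.mem_centralizer_singleton_iff] at hdK
  exact congrArg Subtype.val hdK

/-- Two subgroups of order three centralizing the same involution of `M` are conjugate under its centralizer. -/
theorem exists_conj_three (F : JFour.Small M) {x α β : M} (hx : orderOf x = 2) (hα : orderOf α = 3)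
    (hβ : orderOf β = 3) (hαx : α * x = x * α) (hβx : β * x = x * β) :
    ∃ m : M, m * x = x * m ∧ (m * α * m⁻¹ = β ∨ m * α * m⁻¹ = β⁻¹) := by
  classical
  haveI := Fact.mk Nat.prime_three
  set C := Subgroup.centralizer ({x} : Set M) with hC
  let a : ↥C := ⟨α, Subgroup.mem_centralizer_singleton_iff.2 hαx⟩
  let b : ↥C := ⟨β, Subgroup.mem_centralizer_singleton_iff.2 hβx⟩
  have hfac : (Nat.card ↥C).factorization 3 = 1 := by
    rw [F.card_invol x hx, show (384 : ℕ) = 3 ^ 1 * 128 by norm_num,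
      Nat.factorization_mul (by norm_num) (by norm_num), Finsupp.add_apply, Nat.factorization_pow,
      Nat.factorization_eq_zero_of_not_dvd (show ¬ 3 ∣ 128 by norm_num)]
    simp [Nat.prime_three.factorization_self]
  have hsyl : ∀ c : ↥C, orderOf (c : M) = 3 → Nat.card ↥(Subgroup.zpowers c) = 3 ^ (Nat.card ↥C).factorization 3 :=
    fun c hc => by rw [Nat.card_zpowers, ← Subgroup.orderOf_coe, hc, hfac, pow_one]
  obtain ⟨m, hm⟩ := MulAction.exists_smul_eq ↥C (Sylow.ofCard (Subgroup.zpowers a) (hsyl a hα))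
    (Sylow.ofCard (Subgroup.zpowers b) (hsyl b hβ))
  have h1 : m * a * m⁻¹ ∈ Subgroup.zpowers b := by
    have h2 : m * a * m⁻¹ ∈
        ((m • Sylow.ofCard (Subgroup.zpowers a) (hsyl a hα) : Sylow 3 ↥C) : Subgroup ↥C) := by
      rw [Sylow.coe_subgroup_smul]
      exact ⟨a, Subgroup.mem_zpowers a, rfl⟩
    rw [hm] at h2
    exact h2
  obtain ⟨i, hi⟩ := (isOfFinOrder_of_finite b).mem_powers_iff_mem_zpowers.2 h1
  have hi' : β ^ i = (m : M) * α * (m : M)⁻¹ := by simpa [a, b] using congrArg Subtype.val hi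
  refine ⟨m, Subgroup.mem_centralizer_singleton_iff.1 m.2, ?_⟩
  have hlt : i % 3 < 3 := Nat.mod_lt _ (by norm_num)
  rw [← hi', ← Nat.div_add_mod i 3, pow_add, pow_mul, ← hβ, pow_orderOf_eq_one, one_pow, one_mul, hβ]
  interval_cases hc : i % 3
  · exfalso
    rw [← Nat.div_add_mod i 3, pow_add, pow_mul, hc, ← hβ, pow_orderOf_eq_one, one_pow, one_mul,
      pow_zero, eq_comm, mul_inv_eq_one, mul_eq_left] at hi'
    rw [hi', orderOf_one] at hα
    norm_num at hα
  · exact Or.inl (pow_one β)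
  · refine Or.inr (eq_inv_of_mul_eq_one_left ?_)
    rw [← pow_succ, show 2 + 1 = orderOf β from hβ.symm, pow_orderOf_eq_one]

/-- **Two classes of involutions.**  `w z` is not conjugate to `z`. -/
theorem not_conj_wz (J : Ctx M z π E) (F : JFour.Small M) {g : ℕ → M} (T : Tables M g)
    (hC : Subgroup.centralizer ({π} : Set G) = CZ z π)
    (hdim : ∀ c ∈ CZ z π, c * c = 1 → c ≠ 1 → c ≠ z → Nat.card (fx z E c) = 2 ^ 9)
    {a b : ↥(CZ z π)} (P : J.IsPair a b) {w h : G} (hw : w ∈ CZ z π) (hwne : w ≠ z)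
    (hh : h * z * h⁻¹ = w) (hha : h * (a : G) * h⁻¹ = π) (k : G) : k * z * k⁻¹ ≠ w * z := by
  intro hk
  have hwzC : w * z ∈ CZ z π := mul_mem hw J.z_mem_CZ
  have hw1 : w ≠ 1 := fun e => by
    rw [e, mul_inv_eq_one] at hh
    exact J.z_ne (mul_eq_left.1 hh)
  have hwzne : w * z ≠ z := fun e => hw1 (mul_eq_right.1 e)
  obtain ⟨h', hh', hha'⟩ := J.exists_h F hdim P (k := k) (hk ▸ hwzC) (hk ▸ hwzne)
  rw [hk] at hh'
  obtain ⟨w1, w2, FP, -, -, hp1⟩ := four_points J F hC P hw hwne hh hha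
  obtain ⟨v1, v2, FP', hv1, hv2, hq1⟩ := four_points J F hC P hwzC hwzne hh' hha'
  set p := h * π * h⁻¹ with hp
  set q := h' * π * h'⁻¹ with hq
  have hxx : J.proj ⟨w * z, hwzC⟩ = J.proj ⟨w, hw⟩ := by
    rw [show (⟨w * z, hwzC⟩ : ↥(CZ z π)) = ⟨w, hw⟩ * ⟨z, J.z_mem_CZ⟩ from rfl, map_mul, J.proj_z, mul_one]
  have hw2 : w * w = 1 := by
    rw [← hh, show h * z * h⁻¹ * (h * z * h⁻¹) = h * (z * z) * h⁻¹ by group, J.zz]; group
  set x := J.proj ⟨w, hw⟩ with hx
  have hxo : orderOf x = 2 := by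
    refine orderOf_eq_prime (by rw [hx, pow_two, ← map_mul,
      show (⟨w, hw⟩ : ↥(CZ z π)) * ⟨w, hw⟩ = 1 from Subtype.ext hw2, map_one]) fun e => ?_
    rcases J.small_of_proj_one e (Or.inl hw2) with e' | e'
    exacts [hw1 e', hwne e']
  set α := J.proj ⟨p, FP.a_mem⟩ with hα
  set β := J.proj ⟨q, FP'.a_mem⟩ with hβ
  have hαo : orderOf α = 3 := orderOf_eq_prime (by
    rw [hα, pow_succ, pow_two, ← map_mul, ← map_mul,
      show (⟨p, FP.a_mem⟩ : ↥(CZ z π)) * ⟨p, FP.a_mem⟩ * ⟨p, FP.a_mem⟩ = 1 from Subtype.ext FP.a_cube,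
      map_one]) (hp1 _)
  have hβo : orderOf β = 3 := orderOf_eq_prime (by
    rw [hβ, pow_succ, pow_two, ← map_mul, ← map_mul,
      show (⟨q, FP'.a_mem⟩ : ↥(CZ z π)) * ⟨q, FP'.a_mem⟩ * ⟨q, FP'.a_mem⟩ = 1 from Subtype.ext FP'.a_cube,
      map_one]) (hq1 _)
  have hαx : α * x = x * α := by
    rw [hα, hx, ← map_mul, ← map_mul]; exact congrArg J.proj (Subtype.ext FP.aw)
  have hβx : β * x = x * β := by
    rw [hβ, ← hxx, ← map_mul, ← map_mul]; exact congrArg J.proj (Subtype.ext FP'.aw)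
  obtain ⟨m, hmx, hm⟩ := exists_conj_three F hxo hαo hβo hαx hβx
  obtain ⟨d, rfl⟩ := J.proj_surj m
  have hdw : (d : G) * w = w * d := comm_of_proj J F T P hw hwne hh hha hmx
  have hl : ((d : G) * h) * z * ((d : G) * h)⁻¹ = w := by
    calc ((d : G) * h) * z * ((d : G) * h)⁻¹ = (d : G) * (h * z * h⁻¹) * (d : G)⁻¹ := by group
      _ = w := by rw [hh, hdw, mul_inv_cancel_right]
  obtain ⟨hdz, hdπ⟩ := mem_CZ.1 d.2
  have hdp3 : (d : G) * p * (d : G)⁻¹ * ((d : G) * p * (d : G)⁻¹) * ((d : G) * p * (d : G)⁻¹) = 1 := by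
    rw [show (d : G) * p * (d : G)⁻¹ * ((d : G) * p * (d : G)⁻¹) * ((d : G) * p * (d : G)⁻¹) =
      (d : G) * (p * p * p) * (d : G)⁻¹ by group, FP.a_cube]; group
  have key : ∀ t : ↥(CZ z π), (t : G) * t * t = 1 → J.proj d * α * (J.proj d)⁻¹ = J.proj t →
      ∃ i, i < 3 ∧ ((d : G) * h) * π * ((d : G) * h)⁻¹ = π ^ i * (t : G) := by
    intro t ht e
    obtain ⟨u, -, hu, i, hi, he⟩ := J.exists_pow' (c := d * ⟨p, FP.a_mem⟩ * d⁻¹ * t⁻¹)
      (by rw [map_mul, map_mul, map_mul, map_inv, map_inv, ← hα, e, mul_inv_cancel])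
    simp only [Subgroup.coe_mul, InvMemClass.coe_inv] at he
    refine ⟨i, hi, ?_⟩
    rw [← no_z_part J hu hdp3 ht (mem_CZ.1 t.2).1 (mem_CZ.1 t.2).2 (mul_inv_eq_iff_eq_mul.1 he), hp]
    group
  have hne_of : ∀ v : G, ∀ hv : v ∈ CZ z π, J.proj ⟨v, hv⟩ ≠ J.proj ⟨w * z, hwzC⟩ → w ≠ v := fun v hv hne e => by
    subst e
    exact hne hxx.symm
  have hwz' : w ≠ w * z := fun e => J.z_ne (mul_eq_left.1 e.symm)
  have hqπ : Commute π q := (show Commute q π from (mem_CZ.1 FP'.a_mem).2).symm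
  rcases hm with hm | hm
  · obtain ⟨i, hi, he⟩ := key ⟨q, FP'.a_mem⟩ FP'.a_cube hm
    interval_cases i
    · rw [pow_zero, one_mul] at he
      refine hwz' (hl.symm.trans ((conj_z_eq J F hC (Or.inl ?_)).trans hh'))
      rw [he]
    · refine hne_of v2 FP'.w2_mem (hv2 _) ?_
      rw [← hl]
      exact FP'.z_minus _ (Or.inl (by rw [he, pow_one]))
    · refine hne_of v1 FP'.w1_mem (hv1 _) ?_
      rw [← hl]
      exact FP'.z_plus _ (Or.inl (by rw [he, pow_two, ← J.pi_inv]))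
  · obtain ⟨i, hi, he⟩ := key ⟨q, FP'.a_mem⟩⁻¹ (by
      show q⁻¹ * q⁻¹ * q⁻¹ = 1
      rw [← mul_inv_rev, ← mul_inv_rev, ← mul_assoc, FP'.a_cube, inv_one])
      (by rw [map_inv]; exact hm)
    simp only [InvMemClass.coe_inv] at he
    interval_cases i
    · rw [pow_zero, one_mul] at he
      refine hwz' (hl.symm.trans ((conj_z_eq J F hC (Or.inr ?_)).trans hh'))
      rw [he]
    · refine hne_of v1 FP'.w1_mem (hv1 _) ?_
      rw [← hl]
      refine FP'.z_plus _ (Or.inr ?_)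
      rw [he, pow_one, mul_inv_rev π⁻¹ q, inv_inv]
      exact hqπ.inv_right.eq
    · refine hne_of v2 FP'.w2_mem (hv2 _) ?_
      rw [← hl]
      refine FP'.z_minus _ (Or.inr ?_)
      rw [he, pow_two, ← J.pi_inv, mul_inv_rev π q]
      exact (hqπ.inv_inv).eq

/-- **Outer involutions.**  A lift of an outer involution centralizing `a` is an involution, and
exactly one of it and its translate by `z` is conjugate to `z`. -/
theorem outer_types (J : Ctx M z π E) (F : JFour.Small M)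
    (hC : Subgroup.centralizer ({π} : Set G) = CZ z π) {a b : ↥(CZ z π)} (P : J.IsPair a b)
    {w h : G} (hw : w ∈ CZ z π) (hwne : w ≠ z) (hh : h * z * h⁻¹ = w) (hha : h * (a : G) * h⁻¹ = π)
    {u : G} (huz : u * z = z * u) (hu : u * u = 1 ∨ u * u = z) (hup : u * π * u⁻¹ = π⁻¹)
    (hua : u * (a : G) = (a : G) * u) :
    u * u = 1 ∧ ((∃ g₁ g₂ : G, g₁ * z * g₁⁻¹ = u ∧ g₂ * (w * z) * g₂⁻¹ = u * z) ∨
      (∃ g₁ g₂ : G, g₁ * z * g₁⁻¹ = u * z ∧ g₂ * (w * z) * g₂⁻¹ = u)) := by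
  obtain ⟨w1, w2, FP, -, -, -⟩ := four_points J F hC P hw hwne hh hha
  set p := h * π * h⁻¹ with hp
  obtain ⟨c, hcd⟩ : ∃ c, c = h * u * h⁻¹ := ⟨_, rfl⟩
  have hcπ : c * π = π * c := by
    rw [hcd, show h * u * h⁻¹ * π = h * u * h⁻¹ * (h * a * h⁻¹) by rw [hha]]
    calc h * u * h⁻¹ * (h * a * h⁻¹) = h * (u * a) * h⁻¹ := by group
      _ = h * ((a : G) * u) * h⁻¹ := by rw [hua]
      _ = h * a * h⁻¹ * (h * u * h⁻¹) := by group
      _ = _ := by rw [hha]
  have hcC : c ∈ CZ z π := hC.le (Subgroup.mem_centralizer_singleton_iff.2 hcπ)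
  have hcz := (mem_CZ.1 hcC).1
  have hcw : c * w = w * c := by
    rw [hcd, ← hh]
    calc h * u * h⁻¹ * (h * z * h⁻¹) = h * (u * z) * h⁻¹ := by group
      _ = _ := by rw [huz]; group
  have hcp : c * p * c⁻¹ = p⁻¹ := by
    rw [hcd, hp]
    calc h * u * h⁻¹ * (h * π * h⁻¹) * (h * u * h⁻¹)⁻¹ = h * (u * π * u⁻¹) * h⁻¹ := by group
      _ = _ := by rw [hup]; group
  -- `c` exchanges the two further points
  obtain ⟨k, hk⟩ := FP.plus
  have hcw1 : c * w1 * c⁻¹ = w2 := by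
    rw [← FP.z_plus k (Or.inl hk), ← FP.z_minus (c * k) (Or.inr ?_)]
    · group
    · calc c * k * π * (c * k)⁻¹ = c * (k * π * k⁻¹) * c⁻¹ := by group
        _ = (c * π⁻¹ * c⁻¹) * (c * p * c⁻¹) := by rw [hk]; group
        _ = π⁻¹ * p⁻¹ := by rw [(show Commute c π from hcπ).inv_right.eq, mul_inv_cancel_right, hcp]
        _ = _ := by
            rw [mul_inv_rev π p]
            exact (show Commute p π from (mem_CZ.1 FP.a_mem).2).symm.inv_inv.eq
  have hww : w * w = 1 := by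
    rw [← hh, show h * z * h⁻¹ * (h * z * h⁻¹) = h * (z * z) * h⁻¹ by group, J.zz]; group
  have hwi : w⁻¹ = w := inv_eq_of_mul_eq_one_right hww
  have h12 : w1 * w2 = w * z := by
    calc w1 * w2 = w⁻¹ * (w * w1 * w2) := by group
      _ = _ := by rw [FP.prod, hwi]
  have hw1i : w1⁻¹ = w1 := inv_eq_of_mul_eq_one_right FP.w1_sq
  have hsq : c * c = h * (u * u) * h⁻¹ := by rw [hcd]; group
  have hu2 : u * u = 1 := by
    refine hu.resolve_right fun e => ?_
    rw [e, hh] at hsq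
    have hw2e : w2 * w * w1 = z := by
      have hw2 : w2 = w1 * (w * z) := by rw [← h12, ← mul_assoc, FP.w1_sq, one_mul]
      rw [hw2, mul_assoc w1 (w * z) w,
        show w * z * w = z by rw [mul_assoc, ← (mem_CZ.1 hw).1, ← mul_assoc, hww, one_mul],
        (mem_CZ.1 FP.w1_mem).1, mul_assoc, FP.w1_sq, mul_one]
    let d : ↥(CZ z π) := ⟨c * w1, mul_mem hcC FP.w1_mem⟩
    have hd : (d : G) * d = z := by
      show c * w1 * (c * w1) = z
      calc c * w1 * (c * w1) = (c * w1 * c⁻¹) * (c * c) * w1 := by group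
        _ = z := by rw [hcw1, hsq, hw2e]
    have := J.sq_eq_one F (c := d) (Or.inr hd)
    rw [hd] at this
    exact J.z_ne this
  rw [hu2, mul_one, mul_inv_cancel] at hsq
  refine ⟨hu2, ?_⟩
  have hci : c⁻¹ = c := inv_eq_of_mul_eq_one_right hsq
  have hconj : w1 * c * w1⁻¹ = w * z * c := by
    rw [hw1i, ← h12, ← hcw1, hci]
    calc w1 * c * w1 = w1 * c * w1 * (c * c) := by rw [hsq, mul_one]
      _ = _ := by group
  have hcne : c ≠ 1 := by
    intro e
    rw [e] at hcp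
    simp only [one_mul, inv_one, mul_one] at hcp
    have h2 : p * p = 1 := by nth_rewrite 2 [hcp]; rw [mul_inv_cancel]
    have h3 := FP.a_cube
    rw [h2, one_mul, hp, mul_inv_eq_one, mul_eq_left] at h3
    exact J.pi1 h3
  have hcnz : c ≠ z := by
    intro e
    rw [e, ← (mem_CZ.1 FP.a_mem).1, mul_inv_cancel_right] at hcp
    have h2 : p * p = 1 := by nth_rewrite 2 [hcp]; rw [mul_inv_cancel]
    have h3 := FP.a_cube
    rw [h2, one_mul, hp, mul_inv_eq_one, mul_eq_left] at h3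
    exact J.pi1 h3
  have hw1' : w ≠ 1 := fun e => by
    rw [e, mul_inv_eq_one] at hh
    exact J.z_ne (mul_eq_left.1 hh)
  have ho : ∀ {t : G} (ht : t ∈ CZ z π), t * t = 1 → t ≠ 1 → t ≠ z → orderOf (J.proj ⟨t, ht⟩) = 2 := by
    intro t ht ht2 ht1 htz
    refine orderOf_eq_prime (by rw [pow_two, ← map_mul,
      show (⟨t, ht⟩ : ↥(CZ z π)) * ⟨t, ht⟩ = 1 from Subtype.ext ht2, map_one]) fun e => ?_
    rcases J.small_of_proj_one e (Or.inl ht2) with e' | e'
    exacts [ht1 e', htz e']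
  obtain ⟨m, hm⟩ := isConj_iff.1 (F.invol_conj _ _ (ho hcC hsq hcne hcnz) (ho hw hww hw1' hwne))
  obtain ⟨d, rfl⟩ := J.proj_surj m
  rw [← map_inv, ← map_mul, ← map_mul] at hm
  obtain ⟨v, -, hv, i, hi, he⟩ := J.exists_pow' (c := d * ⟨c, hcC⟩ * d⁻¹ * ⟨w, hw⟩⁻¹)
    (by rw [map_mul, map_inv, hm, mul_inv_cancel])
  simp only [Subgroup.coe_mul, InvMemClass.coe_inv] at he
  have he' : (d : G) * c * (d : G)⁻¹ = v * π ^ i * w := by rw [← he]; group
  have hpi : π ^ i = 1 := by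
    have hcc : Commute (v * π ^ i) w := by
      refine Commute.mul_left ?_ ((show Commute π w from (mem_CZ.1 hw).2.symm).pow_left i)
      rcases hv with e | e <;> rw [e]
      exacts [Commute.one_left _, (mem_CZ.1 hw).1.symm]
    have h2 : (v * π ^ i * w) ^ 2 = 1 := by
      rw [← he', conj_pow, pow_two, hsq]; group
    have hvv : Commute v (π ^ i) := by
      rcases hv with e | e <;> rw [e]
      exacts [Commute.one_left _, ((show Commute π z from J.piz).pow_left i).symm]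
    rw [hcc.mul_pow, hvv.mul_pow, pow_two w, hww, mul_one, pow_two v,
      show v * v = 1 by rcases hv with e | e <;> rw [e]; exacts [one_mul 1, J.zz], one_mul] at h2
    have h3 : (π ^ i) ^ 3 = 1 := by rw [← pow_mul, mul_comm, pow_mul, J.pi_pow_three, one_pow]
    rwa [pow_succ, h2, one_mul] at h3
  rw [hpi, mul_one] at he'
  obtain ⟨hdz, -⟩ := mem_CZ.1 d.2
  have huv : u = h⁻¹ * c * h := by rw [hcd]; group
  have hcwz : c * w = w1⁻¹ * (z * c) * w1 := by
    calc c * w = w1⁻¹ * (w1 * c * w1⁻¹) * (w1 * w) := by group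
      _ = w1⁻¹ * (w * z * c) * (w * w1) := by rw [hconj, FP.comm]
      _ = w1⁻¹ * (w * (z * c * w)) * w1 := by group
      _ = w1⁻¹ * (w * (w * (z * c))) * w1 := by
          rw [show z * c * w = w * (z * c) from
            ((show Commute z w from (mem_CZ.1 hw).1.symm).mul_left (show Commute c w from hcw)).eq]
      _ = _ := by rw [← mul_assoc w, hww, one_mul]
  have huzv : u * z = h⁻¹ * (w1⁻¹ * (z * c) * w1) * h := by rw [← hcwz, hcd, ← hh]; group
  have hzdi : z * (d : G)⁻¹ = (d : G)⁻¹ * z := (show Commute (d : G) z from hdz).inv_left.symm.eq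
  rcases hv with e | e <;> rw [e] at he'
  · rw [one_mul] at he'
    refine Or.inl ⟨h⁻¹ * (d : G)⁻¹ * h, h⁻¹ * w1⁻¹ * (d : G)⁻¹, ?_, ?_⟩
    · calc h⁻¹ * (d : G)⁻¹ * h * z * (h⁻¹ * (d : G)⁻¹ * h)⁻¹
          = h⁻¹ * ((d : G)⁻¹ * (h * z * h⁻¹) * (d : G)) * h := by group
        _ = u := by rw [hh, ← he', huv]; group
    · calc h⁻¹ * w1⁻¹ * (d : G)⁻¹ * (w * z) * (h⁻¹ * w1⁻¹ * (d : G)⁻¹)⁻¹
          = h⁻¹ * (w1⁻¹ * ((d : G)⁻¹ * (w * z) * (d : G)) * w1) * h := by group
        _ = u * z := by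
            rw [(mem_CZ.1 hw).1, ← mul_assoc (d : G)⁻¹ z w, ← hzdi, ← he', huzv]; group
  · refine Or.inr ⟨h⁻¹ * w1⁻¹ * (d : G)⁻¹ * h, h⁻¹ * (d : G)⁻¹, ?_, ?_⟩
    · have hzc : (d : G) * (z * c) * (d : G)⁻¹ = w := by
        rw [← mul_assoc (d : G), hdz, mul_assoc z, mul_assoc z, he', ← mul_assoc, J.zz, one_mul]
      calc h⁻¹ * w1⁻¹ * (d : G)⁻¹ * h * z * (h⁻¹ * w1⁻¹ * (d : G)⁻¹ * h)⁻¹
          = h⁻¹ * (w1⁻¹ * ((d : G)⁻¹ * (h * z * h⁻¹) * (d : G)) * w1) * h := by group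
        _ = u * z := by rw [hh, ← hzc, huzv]; group
    · calc h⁻¹ * (d : G)⁻¹ * (w * z) * (h⁻¹ * (d : G)⁻¹)⁻¹
          = h⁻¹ * ((d : G)⁻¹ * (w * z) * (d : G)) * h := by group
        _ = u := by rw [(mem_CZ.1 hw).1, ← he', huv]; group

end CfsgLib.JFourLocal
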