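import Cfsg.Agent.Lib.JFour.M22Checks
import Cfsg.Agent.Lib.M22Order.Counts
import Cfsg.Agent.Lib.Golay.Systems.M22Centralizer
import Cfsg.Agent.Lib.Golay.Aut

/-!
# An involutory outer automorphism of the group on 22 points fixing elements of orders seven and three

The automorphism is conjugation by an involution of the group on 24 points exchanging the two
fixed points.  The element of order seven is self-centralizing and not conjugate to its inverse.
-/

set_option autoImplicit false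
set_option maxRecDepth 100000
set_option linter.style.haveILetI false

open Cfsg

namespace CfsgLib.JFourLocal.OuterData

open CfsgLib.Golay CfsgLib.Golay.SylowTwo

/-- The element of order three. -/
def tP : ℕ := 978923701430982883110139208264898016

/-- The involution exchanging the two points. -/
def uP : ℕ := 9437160506436232652817343441937463

theorem mem_ok : JFour.M22Cert.inG Aut.elt7 = true ∧ JFour.M22Cert.inG tP = true ∧ inM24 uP = true ∧
    validP uP = true ∧ ap uP 23 = 0 ∧ ap uP 0 = 23 := by decide +kernel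

theorem rel_ok : eqP (mulP uP uP) idP = true ∧ eqP (mulP uP Aut.elt7) (mulP Aut.elt7 uP) = true ∧
    eqP (mulP uP tP) (mulP tP uP) = true ∧ eqP (mulP tP (mulP tP tP)) idP = true ∧
    eqP tP idP = false := by decide +kernel

/-- A checked packed permutation lies in the group. -/
theorem mem_of_inG {P : ℕ} (h : JFour.M22Cert.inG P = true) :
    validP P = true ∧ toPerm P ∈ Cfsg.Spor.M22 := by
  simp only [JFour.M22Cert.inG, Bool.and_eq_true, beq_iff_eq] at h
  obtain ⟨⟨h24, h0⟩, h23⟩ := h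
  have hv : validP P = true := by
    simp only [inM24, Bool.and_eq_true] at h24
    exact h24.1
  have e23 : pt 23 = (none : GolayPt) := by decide +kernel
  have e0 : pt 0 = (some 0 : GolayPt) := by decide +kernel
  refine ⟨hv, mem_M22_iff.2 ⟨toPerm_mem_M24 h24, ?_, ?_⟩⟩
  · rw [toPerm_apply hv, show idx (none : GolayPt) = 23 by decide +kernel, h23, e23]
  · rw [toPerm_apply hv, show idx (some 0 : GolayPt) = 0 by decide +kernel, h0, e0]

/-- The automorphism and the two elements it fixes. -/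
theorem exists_aut : ∃ (s t : ↥Cfsg.Spor.M22) (α : MulAut ↥Cfsg.Spor.M22),
    orderOf s = 7 ∧ Subgroup.centralizer ({s} : Set ↥Cfsg.Spor.M22) = Subgroup.zpowers s ∧
    (∀ m : ↥Cfsg.Spor.M22, m * s * m⁻¹ ≠ s⁻¹) ∧ orderOf t = 3 ∧ α s = s ∧ α t = t ∧
    (∀ m, α (α m) = m) ∧ ∀ m : ↥Cfsg.Spor.M22, α ≠ MulAut.conj m := by
  obtain ⟨hs, ht, hu24, hvu, hu23, hu0⟩ := mem_ok
  obtain ⟨huu, hus, hut, ht3, ht1⟩ := rel_ok
  obtain ⟨c1, c2, c3, ⟨ci, hci, hcne⟩, c4, c5, c6, c7, c8, c9, c10⟩ := Aut.elt7_chk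
  obtain ⟨hvs, hsM⟩ := mem_of_inG hs
  obtain ⟨hvt, htM⟩ := mem_of_inG ht
  have hg : toPerm uP ∈ M24 := toPerm_mem_M24 hu24
  have h1 : toPerm uP none = some 0 := by
    rw [toPerm_apply hvu, show idx (none : GolayPt) = 23 by decide +kernel, hu23]; decide +kernel
  have h2 : toPerm uP (some 0) = none := by
    rw [toPerm_apply hvu, show idx (some 0 : GolayPt) = 0 by decide +kernel, hu0]; decide +kernel
  have he : ∀ {P Q : ℕ}, validP P = true → validP Q = true → eqP P Q = true → toPerm P = toPerm Q :=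
    fun hP hQ h => toPerm_eq_of_eqP hP hQ h
  have huu' : toPerm uP * toPerm uP = 1 := by
    rw [← toPerm_mulP hvu hvu, he (validP_mulP hvu hvu) validP_idP huu, toPerm_idP]
  have hus' : toPerm uP * toPerm (Aut.elt7) = toPerm (Aut.elt7) * toPerm uP := by
    rw [← toPerm_mulP hvu hvs, ← toPerm_mulP hvs hvu]
    exact he (validP_mulP hvu hvs) (validP_mulP hvs hvu) hus
  have hut' : toPerm uP * toPerm tP = toPerm tP * toPerm uP := by
    rw [← toPerm_mulP hvu hvt, ← toPerm_mulP hvt hvu]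
    exact he (validP_mulP hvu hvt) (validP_mulP hvt hvu) hut
  have hui : (toPerm uP)⁻¹ = toPerm uP := inv_eq_of_mul_eq_one_right huu'
  let f : ↥Cfsg.Spor.M22 →* ↥Cfsg.Spor.M22 :=
    MonoidHom.mk' (fun x => ⟨toPerm uP * x * (toPerm uP)⁻¹, conj_mem_M22 hg h1 h2 x.2⟩)
      fun x y => Subtype.ext (by simp [mul_assoc])
  have hff : ∀ x, f (f x) = x := fun x => Subtype.ext (by
    show toPerm uP * (toPerm uP * x * (toPerm uP)⁻¹) * (toPerm uP)⁻¹ = x
    calc _ = (toPerm uP * toPerm uP) * x * (toPerm uP * toPerm uP)⁻¹ := by group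
      _ = _ := by rw [huu']; group)
  let α : MulAut ↥Cfsg.Spor.M22 :=
    { toFun := f, invFun := f, left_inv := hff, right_inv := hff, map_mul' := f.map_mul }
  have hsF : toPerm Aut.elt7 ∈ fixH M24 F22 := toPerm_mem_fix24 c1 c2
  have hpw := toPerm_powP hvs
  have hx7 : toPerm Aut.elt7 ^ 7 = 1 := by rw [← (hpw 7).2, c3, (hpw 0).2, pow_zero]
  have hM : Cfsg.Spor.M22 = fixH M24 F22 := CfsgLib.M22Order.Counts.eq_fix22
  set s : ↥Cfsg.Spor.M22 := ⟨toPerm (Aut.elt7), hsM⟩ with hsdef
  have htM3 : toPerm tP * (toPerm tP * toPerm tP) = 1 := by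
    rw [← toPerm_mulP hvt hvt, ← toPerm_mulP hvt (validP_mulP hvt hvt),
      he (validP_mulP hvt (validP_mulP hvt hvt)) validP_idP ht3, toPerm_idP]
  haveI : Fact (Nat.Prime 7) := ⟨by norm_num⟩
  refine ⟨s, ⟨toPerm tP, htM⟩, α, ?_, ?_, fun m e => ?_, ?_, ?_, ?_, hff, fun m e => ?_⟩
  · refine orderOf_eq_prime (Subtype.ext (by simpa [s] using hx7)) fun e => hcne ?_
    have := (idx_toPerm hvs (pt ci)).symm
    rw [show toPerm Aut.elt7 = 1 from congrArg Subtype.val e, Equiv.Perm.one_apply,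
      idx_pt ci (List.mem_range.1 hci)] at this
    exact this
  · refine le_antisymm (fun m hm => ?_) (Subgroup.zpowers_le.2 (Subgroup.mem_centralizer_singleton_iff.2 rfl))
    obtain ⟨j, P, hP, hgP⟩ := exists_of_normOK (p := 7) c2 c1 c3 (by norm_num) c9 c10 c4 Aut.elt7_cent
      (g := (m : Equiv.Perm GolayPt)) (hM.le m.2)
      (congrArg Subtype.val (Subgroup.mem_centralizer_singleton_iff.1 hm))
    rw [List.mem_singleton.1 hP, (hpw 0).2, pow_zero, mul_one] at hgP
    exact Subgroup.mem_zpowers_iff.2 ⟨j, Subtype.ext (by simp [s, hgP])⟩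
  · have e1 : (m : Equiv.Perm GolayPt) * toPerm Aut.elt7 * (m : Equiv.Perm GolayPt)⁻¹ =
        (toPerm Aut.elt7)⁻¹ := congrArg Subtype.val e
    have e2 : (toPerm Aut.elt7)⁻¹ = toPerm (powP Aut.elt7 6) := by
      rw [(hpw 6).2]
      exact inv_eq_of_mul_eq_one_right (by rw [← pow_succ', hx7])
    obtain ⟨j, P, hP, -⟩ := exists_of_normOK (p := 7) c7 c6 c8 (by norm_num) c9 c10 c5 Aut.elt7_real
      (g := (m : Equiv.Perm GolayPt)) (hM.le m.2) (by rw [← e2, ← e1, inv_mul_cancel_right])
    simp at hP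
  · refine orderOf_eq_prime (Subtype.ext (by simpa [pow_succ, mul_assoc] using htM3)) fun e => ?_
    have h := eqP_of_toPerm_eq hvt validP_idP ((congrArg Subtype.val e).trans toPerm_idP.symm)
    rw [h] at ht1
    exact Bool.noConfusion ht1
  · exact Subtype.ext (show toPerm uP * toPerm (Aut.elt7) * (toPerm uP)⁻¹ = toPerm (Aut.elt7) by
      rw [hus', mul_inv_cancel_right])
  · exact Subtype.ext (show toPerm uP * toPerm tP * (toPerm uP)⁻¹ = toPerm tP by
      rw [hut', mul_inv_cancel_right])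
  · refine not_inner_M22 hg h1 h2 ⟨m, m.2, fun x hx => ?_⟩
    exact congrArg Subtype.val (DFunLike.congr_fun e ⟨x, hx⟩)

end CfsgLib.JFourLocal.OuterData
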