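import Cfsg.Agent.Lib.JFourLocal.Classes

/-!
# An outer element centralizing an element of order seven and the element `a`

Every outer element induces an outer automorphism of `M`, because `π` is the commutator of lifts
and gets inverted.  As the inner automorphisms have index two, every outer automorphism is induced.
-/

set_option autoImplicit false
set_option maxRecDepth 100000
set_option linter.style.haveILetI false
set_option linter.unusedSectionVars false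

open Cfsg

namespace CfsgLib.JFourLocal

open CfsgLib.JFour

variable {G : Type*} [Group G] [Finite G] {M : Type*} [Group M] [Finite M] {z π : G} {E : Subgroup G}

/-- An element inverting `π` and fixing `z` normalizes `C(z, π)`. -/
theorem conj_mem_CZ {σ : G} (hz : σ * z = z * σ) (hp : σ * π * σ⁻¹ = π⁻¹) {c : G} (hc : c ∈ CZ z π) :
    σ * c * σ⁻¹ ∈ CZ z π := by
  obtain ⟨h1, h2⟩ := mem_CZ.1 hc
  have hs : σ * z * σ⁻¹ = z := by rw [hz, mul_inv_cancel_right]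
  have hs' : σ * π⁻¹ * σ⁻¹ = π := by
    rw [show σ * π⁻¹ * σ⁻¹ = (σ * π * σ⁻¹)⁻¹ by group, hp, inv_inv]
  refine mem_CZ.2 ⟨?_, ?_⟩
  · calc σ * c * σ⁻¹ * z = σ * c * σ⁻¹ * (σ * z * σ⁻¹) := by rw [hs]
      _ = σ * (c * z) * σ⁻¹ := by group
      _ = σ * z * σ⁻¹ * (σ * c * σ⁻¹) := by rw [h1]; group
      _ = _ := by rw [hs]
  · calc σ * c * σ⁻¹ * π = σ * c * σ⁻¹ * (σ * π⁻¹ * σ⁻¹) := by rw [hs']
      _ = σ * (c * π⁻¹) * σ⁻¹ := by group
      _ = σ * π⁻¹ * σ⁻¹ * (σ * c * σ⁻¹) := by rw [(show Commute c π from h2).inv_right.eq]; group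
      _ = _ := by rw [hs']

/-- The elements of the kernel are central in `C(z, π)`. -/
theorem ker_central (J : Ctx M z π E) {v c : ↥(CZ z π)} (hv : J.proj v = 1) : v * c = c * v := by
  obtain ⟨u, -, hu, k, -, he⟩ := J.exists_pow' hv
  refine Subtype.ext ?_
  show (v : G) * c = c * v
  rw [he]
  obtain ⟨hcz, hcp⟩ := mem_CZ.1 c.2
  refine (Commute.mul_left ?_ ((show Commute π (c : G) from hcp.symm).pow_left k)).eq
  rcases hu with e | e <;> rw [e]
  exacts [Commute.one_left _, hcz.symm]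

/-- **All automorphisms are induced.**  An outer automorphism of `M` is induced by an element
inverting `π`. -/
theorem exists_inducing (J : Ctx M z π E) {a b : ↥(CZ z π)} (P : J.IsPair a b)
    (hidx : (MulAut.conj : M →* MulAut M).range.index = 2) {α : MulAut M}
    (hα : ∀ m, α ≠ MulAut.conj m) :
    ∃ σ : G, σ * z = z * σ ∧ σ * π * σ⁻¹ = π⁻¹ ∧ ∀ (c : ↥(CZ z π)) (h : σ * (c : G) * σ⁻¹ ∈ CZ z π),
      J.proj ⟨σ * (c : G) * σ⁻¹, h⟩ = α (J.proj c) := by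
  classical
  obtain ⟨σ, hσz, hσp⟩ := J.swap
  let f : ↥(CZ z π) →* M := J.proj.comp
    (MonoidHom.mk' (fun c => (⟨σ * (c : G) * σ⁻¹, conj_mem_CZ hσz hσp c.2⟩ : ↥(CZ z π))) fun c d =>
      Subtype.ext (by simp [mul_assoc]))
  have hker : J.proj.ker ≤ f.ker := by
    intro c hc
    obtain ⟨u, huE, hu, k, -, he⟩ := J.exists_pow' hc
    refine J.proj_eq_one.2 ?_
    obtain ⟨k', hk', hkk⟩ : ∃ k' : ℕ, k' < 3 ∧ (π⁻¹) ^ k = π ^ k' := by
      refine ⟨2 * k % 3, Nat.mod_lt _ (by norm_num), ?_⟩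
      rw [← J.orderOf_pi, pow_mod_orderOf, J.pi_inv, ← pow_two, ← pow_mul]
    refine ⟨u, hu, ?_⟩
    have hv : σ * (c : G) * σ⁻¹ = u * π ^ k' := by
      rw [he, ← hkk, ← hσp, conj_pow]
      have : σ * u * σ⁻¹ = u := by
        rcases hu with e | e <;> rw [e]
        · group
        · rw [hσz, mul_inv_cancel_right]
      calc σ * (u * π ^ k) * σ⁻¹ = (σ * u * σ⁻¹) * (σ * π ^ k * σ⁻¹) := by group
        _ = _ := by rw [this]
    show (σ * (c : G) * σ⁻¹ = u) ∨ (σ * (c : G) * σ⁻¹ = u * π) ∨ (σ * (c : G) * σ⁻¹ = u * π⁻¹)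
    rw [hv]
    interval_cases k'
    · exact Or.inl (by rw [pow_zero, mul_one])
    · exact Or.inr (Or.inl (by rw [pow_one]))
    · exact Or.inr (Or.inr (by rw [pow_two, ← J.pi_inv]))
  let φ : M →* M := J.proj.liftOfSurjective J.proj_surj ⟨f, hker⟩
  have hφ : ∀ c, φ (J.proj c) = f c := fun c =>
    MonoidHom.liftOfRightInverse_comp_apply J.proj _ _ ⟨f, hker⟩ c
  have hσz' : σ⁻¹ * z = z * σ⁻¹ := (show Commute σ z from hσz).inv_left.eq
  have hσp' : σ⁻¹ * π * σ⁻¹⁻¹ = π⁻¹ := by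
    have e : π = σ⁻¹ * π⁻¹ * σ := by rw [← hσp]; group
    calc σ⁻¹ * π * σ⁻¹⁻¹ = (σ⁻¹ * π⁻¹ * σ)⁻¹ := by group
      _ = _ := by rw [← e]
  have hφs : Function.Surjective φ := fun m => by
    obtain ⟨c, rfl⟩ := J.proj_surj m
    refine ⟨J.proj ⟨σ⁻¹ * (c : G) * σ⁻¹⁻¹, conj_mem_CZ hσz' hσp' c.2⟩, ?_⟩
    rw [hφ]
    refine congrArg J.proj (Subtype.ext ?_)
    show σ * (σ⁻¹ * (c : G) * σ⁻¹⁻¹) * σ⁻¹ = c
    group
  let ψ : MulAut M := MulEquiv.ofBijective φ ⟨Finite.injective_iff_surjective.2 hφs, hφs⟩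
  have hψ : ψ ∉ (MulAut.conj : M →* MulAut M).range := by
    rintro ⟨m, hm⟩
    obtain ⟨d, rfl⟩ := J.proj_surj m
    -- on `a` and `b` the element acts as `d` up to central factors
    have key : ∀ c : ↥(CZ z π), ∃ v : ↥(CZ z π), J.proj v = 1 ∧
        σ * (c : G) * σ⁻¹ = (v : G) * ((d : G) * c * (d : G)⁻¹) := by
      intro c
      refine ⟨⟨σ * (c : G) * σ⁻¹, conj_mem_CZ hσz hσp c.2⟩ * (d * c * d⁻¹)⁻¹, ?_, ?_⟩
      · rw [map_mul, map_inv, mul_inv_eq_one, map_mul, map_mul, map_inv]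
        have := DFunLike.congr_fun hm (J.proj c)
        rw [MulAut.conj_apply] at this
        rw [this]
        exact (hφ c).symm
      · simp only [Subgroup.coe_mul, InvMemClass.coe_inv]; group
    obtain ⟨va, hva, ea⟩ := key a
    obtain ⟨vb, hvb, eb⟩ := key b
    have e1 : σ * π * σ⁻¹ = (d : G) * π * (d : G)⁻¹ := by
      have h1 : va * (d * a * d⁻¹) * (vb * (d * b * d⁻¹)) * (va * (d * a * d⁻¹))⁻¹ * (vb * (d * b * d⁻¹))⁻¹
          = (d * a * d⁻¹) * (d * b * d⁻¹) * (d * a * d⁻¹)⁻¹ * (d * b * d⁻¹)⁻¹ := by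
        have ha : ∀ x, va * x = x * va := fun x => ker_central J hva
        have hb : ∀ x, vb * x = x * vb := fun x => ker_central J hvb
        generalize d * a * d⁻¹ = A
        generalize d * b * d⁻¹ = B
        calc va * A * (vb * B) * (va * A)⁻¹ * (vb * B)⁻¹
            = va * (A * vb) * B * A⁻¹ * va⁻¹ * B⁻¹ * vb⁻¹ := by group
          _ = va * (vb * A) * B * A⁻¹ * va⁻¹ * B⁻¹ * vb⁻¹ := by rw [← hb A]
          _ = va * (vb * (A * B * A⁻¹)) * va⁻¹ * B⁻¹ * vb⁻¹ := by group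
          _ = vb * (A * B * A⁻¹) * va * va⁻¹ * B⁻¹ * vb⁻¹ := by rw [ha (vb * (A * B * A⁻¹))]
          _ = vb * (A * B * A⁻¹ * B⁻¹) * vb⁻¹ := by group
          _ = _ := by rw [hb, mul_inv_cancel_right]
      have h2 := congrArg Subtype.val h1
      simp only [Subgroup.coe_mul, InvMemClass.coe_inv] at h2
      rw [← ea, ← eb] at h2
      calc σ * π * σ⁻¹ = σ * ((a : G) * b * (a : G)⁻¹ * (b : G)⁻¹) * σ⁻¹ := by rw [P.comm]
        _ = σ * (a : G) * σ⁻¹ * (σ * (b : G) * σ⁻¹) * (σ * (a : G) * σ⁻¹)⁻¹ *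
              (σ * (b : G) * σ⁻¹)⁻¹ := by group
        _ = _ := h2
        _ = (d : G) * ((a : G) * b * (a : G)⁻¹ * (b : G)⁻¹) * (d : G)⁻¹ := by group
        _ = _ := by rw [P.comm]
    rw [hσp, (mem_CZ.1 d.2).2, mul_inv_cancel_right] at e1
    exact J.pi_inv_ne e1
  have hmem : ψ⁻¹ * α ∈ (MulAut.conj : M →* MulAut M).range := by
    rw [Subgroup.mul_mem_iff_of_index_two hidx, inv_mem_iff]
    exact iff_of_false hψ (fun ⟨m, hm⟩ => hα m hm.symm)
  obtain ⟨m, hm⟩ := hmem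
  obtain ⟨d, rfl⟩ := J.proj_surj m
  obtain ⟨hdz, hdp⟩ := mem_CZ.1 d.2
  refine ⟨σ * d, ((show Commute σ z from hσz).mul_left (show Commute (d : G) z from hdz)).eq, ?_,
    fun c h => ?_⟩
  · calc σ * (d : G) * π * (σ * d)⁻¹ = σ * ((d : G) * π * (d : G)⁻¹) * σ⁻¹ := by group
      _ = π⁻¹ := by rw [hdp, mul_inv_cancel_right, hσp]
  · have e1 : α (J.proj c) = ψ (MulAut.conj (J.proj d) (J.proj c)) := by
      rw [hm, MulAut.mul_apply, MulAut.apply_inv_self]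
    rw [e1, MulAut.conj_apply, ← map_inv, ← map_mul, ← map_mul]
    show _ = φ (J.proj (d * c * d⁻¹))
    rw [hφ]
    refine congrArg J.proj (Subtype.ext ?_)
    show σ * (d : G) * c * (σ * d)⁻¹ = σ * ((d : G) * c * (d : G)⁻¹) * σ⁻¹
    group

/-- Powers of `b` move `a` along its coset of `⟨π⟩`. -/
theorem pow_conj (J : Ctx M z π E) {a b : ↥(CZ z π)} (P : J.IsPair a b) (n : ℕ) :
    (b : G) ^ n * a * ((b : G) ^ n)⁻¹ = (π⁻¹) ^ n * a := by
  induction n with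
  | zero => simp
  | succ n ih =>
    have hb : (b : G) * a * (b : G)⁻¹ = π⁻¹ * a := by
      calc (b : G) * a * (b : G)⁻¹ = ((a : G) * b * (a : G)⁻¹ * (b : G)⁻¹)⁻¹ * a := by group
        _ = _ := by rw [P.comm]
    have hbp : Commute (b : G) π⁻¹ := (show Commute (b : G) π from (mem_CZ.1 b.2).2).inv_right
    calc (b : G) ^ (n + 1) * a * ((b : G) ^ (n + 1))⁻¹
        = (b : G) * ((b : G) ^ n * a * ((b : G) ^ n)⁻¹) * (b : G)⁻¹ := by rw [pow_succ']; group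
      _ = (b : G) * π⁻¹ ^ n * a * (b : G)⁻¹ := by rw [ih]; group
      _ = π⁻¹ ^ n * ((b : G) * a * (b : G)⁻¹) := by rw [(hbp.pow_right n).eq]; group
      _ = _ := by rw [hb, pow_succ, mul_assoc]

/-- **An outer element centralizing an element of order seven and `a`.** -/
theorem exists_outer_seven (J : Ctx M z π E) (F : JFour.Small M) {a b : ↥(CZ z π)} (P : J.IsPair a b)
    (hidx : (MulAut.conj : M →* MulAut M).range.index = 2) {s t : M} {α : MulAut M}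
    (hs : orderOf s = 7) (hcent : Subgroup.centralizer ({s} : Set M) = Subgroup.zpowers s)
    (hreal : ∀ m : M, m * s * m⁻¹ ≠ s⁻¹) (ht : orderOf t = 3) (hαs : α s = s) (hαt : α t = t)
    (hαα : ∀ m, α (α m) = m) (hα : ∀ m, α ≠ MulAut.conj m) :
    ∃ (S : ↥(CZ z π)) (u : G), orderOf (S : G) = 7 ∧ orderOf (J.proj S) = 7 ∧
      (∀ m : M, m * J.proj S = J.proj S * m → m ∈ Subgroup.zpowers (J.proj S)) ∧
      (∀ m : M, m * J.proj S * m⁻¹ ≠ (J.proj S)⁻¹) ∧
      u * z = z * u ∧ (u * u = 1 ∨ u * u = z) ∧ u * π * u⁻¹ = π⁻¹ ∧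
      u * (a : G) = (a : G) * u ∧ u * (S : G) = (S : G) * u := by
  classical
  obtain ⟨σ, hσz, hσp, hσ⟩ := exists_inducing J P hidx hα
  have hσC : ∀ c : ↥(CZ z π), σ * (c : G) * σ⁻¹ ∈ CZ z π := fun c => conj_mem_CZ hσz hσp c.2
  -- the lift of `s`
  obtain ⟨c0, hc0⟩ := J.proj_surj s
  have hs7 : s ^ 7 = 1 := hs ▸ pow_orderOf_eq_one s
  obtain ⟨v, -, hv, k, -, he⟩ := J.exists_pow' (c := c0 ^ 7) (by rw [map_pow, hc0, hs7])
  set cs : ↥(CZ z π) := c0 ^ 36 with hcs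
  have hv6 : ∀ (v : G) (k : ℕ), (v = 1 ∨ v = z) → (v * π ^ k) ^ 6 = 1 := fun v k hv => by
    have hc : Commute v (π ^ k) := by
      rcases hv with e | e <;> rw [e]
      exacts [Commute.one_left _, ((show Commute π z from J.piz).pow_left k).symm]
    rw [hc.mul_pow, ← pow_mul, show k * 6 = 3 * (2 * k) by ring, pow_mul, J.pi_pow_three, one_pow, mul_one]
    rcases hv with e | e <;> rw [e]
    · exact one_pow 6
    · rw [show 6 = 2 * 3 from rfl, pow_mul, pow_two, J.zz, one_pow]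
  have hcs7 : cs ^ 7 = 1 := by
    refine Subtype.ext ?_
    rw [hcs, ← pow_mul, show 36 * 7 = 7 * (6 * 6) by norm_num, pow_mul, pow_mul, Subgroup.coe_pow,
      Subgroup.coe_pow, he, hv6 v k hv, one_pow]
    rfl
  have hpcs : J.proj cs = s := by
    rw [hcs, map_pow, hc0, show 36 = 7 * 5 + 1 by norm_num, pow_succ, pow_mul, hs7, one_pow, one_mul]
  have hs1 : s ≠ 1 := fun e => by rw [e, orderOf_one] at hs; norm_num at hs
  haveI := Fact.mk (show Nat.Prime 7 by norm_num)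
  have hcso : orderOf (cs : G) = 7 := by
    refine orderOf_eq_prime (by rw [← Subgroup.coe_pow, hcs7]; rfl) fun e => hs1 ?_
    rw [← hpcs, show cs = 1 from Subtype.ext e, map_one]
  have hσs : σ * (cs : G) * σ⁻¹ = cs := by
    set q : ↥(CZ z π) := ⟨σ * (cs : G) * σ⁻¹, hσC cs⟩ * cs⁻¹ with hq
    have hq1 : J.proj q = 1 := by
      rw [hq, map_mul, map_inv, mul_inv_eq_one, hσ cs, hpcs, hαs]
    obtain ⟨w, -, hw, j, -, hj⟩ := J.exists_pow' hq1
    have h6 : (q : G) ^ 6 = 1 := by rw [hj]; exact hv6 w j hw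
    have hmul : (⟨σ * (cs : G) * σ⁻¹, hσC cs⟩ : ↥(CZ z π)) = q * cs := by rw [hq, inv_mul_cancel_right]
    have h7 : (q : G) ^ 7 = 1 := by
      have h := congrArg (fun x : ↥(CZ z π) => ((x ^ 7 : ↥(CZ z π)) : G)) hmul
      simp only [(show Commute q cs from ker_central J hq1).mul_pow, Subgroup.coe_pow, hcs7, mul_one] at h
      rw [← h, conj_pow, ← Subgroup.coe_pow, hcs7]
      simp
    have hq0 : (q : G) = 1 := by rw [pow_succ, h6, one_mul] at h7; exact h7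
    have := congrArg Subtype.val hmul
    simpa [hq0] using this
  -- the square
  obtain ⟨w, hw, hsq⟩ : ∃ w, (w = 1 ∨ w = z) ∧ σ * σ = w := by
    have hmem : σ * σ ∈ CZ z π := by
      refine mem_CZ.2 ⟨((show Commute σ z from hσz).mul_left (show Commute σ z from hσz)).eq, ?_⟩
      have h2 : σ * π⁻¹ * σ⁻¹ = π := by
        rw [show σ * π⁻¹ * σ⁻¹ = (σ * π * σ⁻¹)⁻¹ by group, hσp, inv_inv]
      calc σ * σ * π = σ * (σ * π * σ⁻¹) * σ⁻¹ * (σ * σ) := by group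
        _ = π * (σ * σ) := by rw [hσp, h2]
    have h1 : J.proj ⟨σ * σ, hmem⟩ = 1 := by
      refine F.center_eq_one fun x => ?_
      obtain ⟨c, rfl⟩ := J.proj_surj x
      have e : (⟨σ * σ, hmem⟩ : ↥(CZ z π)) * c * (⟨σ * σ, hmem⟩ : ↥(CZ z π))⁻¹ =
          ⟨σ * ((⟨σ * (c : G) * σ⁻¹, hσC c⟩ : ↥(CZ z π)) : G) * σ⁻¹, hσC _⟩ := Subtype.ext (by
        show σ * σ * (c : G) * (σ * σ)⁻¹ = σ * (σ * (c : G) * σ⁻¹) * σ⁻¹
        group)
      have h2 := congrArg J.proj e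
      rw [map_mul, map_mul, map_inv, hσ, hσ, hαα, mul_inv_eq_iff_eq_mul] at h2
      exact h2.symm
    obtain ⟨w, -, hw, j, hj, hje⟩ := J.exists_pow' h1
    change σ * σ = w * π ^ j at hje
    have hj0 : π ^ j = (π⁻¹) ^ j := by
      have e : σ * (σ * σ) * σ⁻¹ = σ * σ := by group
      rw [hje, show σ * (w * π ^ j) * σ⁻¹ = (σ * w * σ⁻¹) * (σ * π ^ j * σ⁻¹) by group, ← conj_pow, hσp,
        show σ * w * σ⁻¹ = w by
          rcases hw with e | e <;> rw [e]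
          · group
          · rw [hσz, mul_inv_cancel_right]] at e
      exact (mul_left_cancel e).symm
    interval_cases j
    · exact ⟨w, hw, by rw [hje, pow_zero, mul_one]⟩
    · rw [pow_one, pow_one] at hj0; exact absurd hj0.symm J.pi_inv_ne
    · rw [pow_two, pow_two, ← J.pi_inv, ← mul_inv_rev, ← J.pi_inv, inv_inv] at hj0
      exact absurd hj0 J.pi_inv_ne
  -- a conjugate of `a` centralized by `σ`
  have hao : orderOf (J.proj a) = 3 := by
    refine orderOf_eq_prime ?_ P.a_ne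
    rw [pow_succ, pow_two, ← map_mul, ← map_mul, P.cube, map_one]
  obtain ⟨m, hm⟩ := isConj_iff.1 (F.three_conj _ _ hao ht)
  obtain ⟨d, rfl⟩ := J.proj_surj m
  set ta : ↥(CZ z π) := d * a * d⁻¹ with hta
  have hpta : J.proj ta = t := by rw [hta, map_mul, map_mul, map_inv, hm]
  obtain ⟨v', -, hv', k', -, he'⟩ := J.exists_pow' (c := ⟨σ * (ta : G) * σ⁻¹, hσC ta⟩ * ta⁻¹)
    (by rw [map_mul, map_inv, mul_inv_eq_one, hσ ta, hpta, hαt])
  simp only [Subgroup.coe_mul, InvMemClass.coe_inv] at he'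
  have hta3 : (ta : G) * ta * ta = 1 := by
    rw [hta]; simp only [Subgroup.coe_mul, InvMemClass.coe_inv]
    calc (d : G) * a * (d : G)⁻¹ * ((d : G) * a * (d : G)⁻¹) * ((d : G) * a * (d : G)⁻¹)
        = (d : G) * ((a : G) * a * a) * (d : G)⁻¹ := by group
      _ = 1 := by rw [show (a : G) * a * a = 1 from congrArg Subtype.val P.cube]; group
  have hσt : σ * (ta : G) * σ⁻¹ = π ^ k' * ta := by
    refine no_z_part J hv' ?_ hta3 (mem_CZ.1 ta.2).1 (mem_CZ.1 ta.2).2 (mul_inv_eq_iff_eq_mul.1 he')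
    calc σ * (ta : G) * σ⁻¹ * (σ * ta * σ⁻¹) * (σ * ta * σ⁻¹) = σ * ((ta : G) * ta * ta) * σ⁻¹ := by group
      _ = 1 := by rw [hta3]; group
  set e : ↥(CZ z π) := d * b ^ k' with hedef
  obtain ⟨hez, hep⟩ := mem_CZ.1 e.2
  have hea : (e : G) * a * (e : G)⁻¹ = (π⁻¹) ^ k' * ta := by
    rw [hedef, hta]; simp only [Subgroup.coe_mul, InvMemClass.coe_inv, Subgroup.coe_pow]
    calc (d : G) * (b : G) ^ k' * a * ((d : G) * (b : G) ^ k')⁻¹
        = (d : G) * ((b : G) ^ k' * a * ((b : G) ^ k')⁻¹) * (d : G)⁻¹ := by group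
      _ = (d : G) * (π⁻¹ ^ k' * a) * (d : G)⁻¹ := by rw [pow_conj J P]
      _ = (π⁻¹ ^ k' * (d : G)) * a * (d : G)⁻¹ := by
          rw [← mul_assoc, ((show Commute (d : G) π from (mem_CZ.1 d.2).2).inv_right.pow_right k').eq]
      _ = _ := by group
  have hσa : σ * ((e : G) * a * (e : G)⁻¹) * σ⁻¹ = (e : G) * a * (e : G)⁻¹ := by
    rw [hea, show σ * (π⁻¹ ^ k' * (ta : G)) * σ⁻¹ = (σ * π⁻¹ ^ k' * σ⁻¹) * (σ * ta * σ⁻¹) by group,
      ← conj_pow, show σ * π⁻¹ * σ⁻¹ = π by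
        rw [show σ * π⁻¹ * σ⁻¹ = (σ * π * σ⁻¹)⁻¹ by group, hσp, inv_inv], hσt, ← mul_assoc, ← pow_add]
    congr 1
    rw [J.pi_inv, ← pow_two, ← pow_mul]
    congr 1
    omega
  -- transport
  refine ⟨e⁻¹ * cs * e, (e : G)⁻¹ * σ * e, ?_, ?_, fun m hm => ?_, fun m hm => ?_, ?_, ?_, ?_, ?_, ?_⟩
  · simp only [Subgroup.coe_mul, InvMemClass.coe_inv]
    rw [← hcso, ← (MulAut.conj (e : G)⁻¹).orderOf_eq (cs : G), MulAut.conj_apply, inv_inv]
  · rw [map_mul, map_mul, map_inv, hpcs, ← hs, ← (MulAut.conj (J.proj e)⁻¹).orderOf_eq s,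
      MulAut.conj_apply, inv_inv]
  · rw [map_mul, map_mul, map_inv, hpcs] at hm ⊢
    have h1 : (J.proj e * m * (J.proj e)⁻¹) ∈ Subgroup.centralizer ({s} : Set M) := by
      rw [Subgroup.mem_centralizer_singleton_iff]
      calc J.proj e * m * (J.proj e)⁻¹ * s
          = J.proj e * (m * ((J.proj e)⁻¹ * s * J.proj e)) * (J.proj e)⁻¹ := by group
        _ = J.proj e * ((J.proj e)⁻¹ * s * J.proj e * m) * (J.proj e)⁻¹ := by rw [hm]
        _ = _ := by group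
    rw [hcent] at h1
    obtain ⟨i, hi⟩ := Subgroup.mem_zpowers_iff.1 h1
    refine Subgroup.mem_zpowers_iff.2 ⟨i, ?_⟩
    have hh := conj_zpow (i := i) (a := (J.proj e)⁻¹) (b := s)
    rw [inv_inv] at hh
    rw [hh, hi]; group
  · rw [map_mul, map_mul, map_inv, hpcs] at hm
    refine hreal (J.proj e * m * (J.proj e)⁻¹) ?_
    calc J.proj e * m * (J.proj e)⁻¹ * s * (J.proj e * m * (J.proj e)⁻¹)⁻¹
        = J.proj e * (m * ((J.proj e)⁻¹ * s * J.proj e) * m⁻¹) * (J.proj e)⁻¹ := by group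
      _ = _ := by rw [hm]; group
  · have h1 : Commute (e : G) z := hez
    exact ((h1.inv_left.mul_left (show Commute σ z from hσz)).mul_left h1).eq
  · rcases hw with e' | e'
    · exact Or.inl (by
        calc (e : G)⁻¹ * σ * e * ((e : G)⁻¹ * σ * e) = (e : G)⁻¹ * (σ * σ) * e := by group
          _ = 1 := by rw [hsq, e']; group)
    · exact Or.inr (by
        calc (e : G)⁻¹ * σ * e * ((e : G)⁻¹ * σ * e) = (e : G)⁻¹ * (σ * σ) * e := by group
          _ = (e : G)⁻¹ * (z * e) := by rw [hsq, e']; group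
          _ = z := by rw [← hez, inv_mul_cancel_left])
  · calc (e : G)⁻¹ * σ * e * π * ((e : G)⁻¹ * σ * e)⁻¹
        = (e : G)⁻¹ * (σ * ((e : G) * π * (e : G)⁻¹) * σ⁻¹) * e := by group
      _ = π⁻¹ := by
          rw [hep, mul_inv_cancel_right, hσp, (show Commute (e : G) π from hep).inv_inv.eq,
            inv_mul_cancel_right]
  · rw [← mul_inv_eq_iff_eq_mul]
    calc (e : G)⁻¹ * σ * e * a * ((e : G)⁻¹ * σ * e)⁻¹
        = (e : G)⁻¹ * (σ * ((e : G) * a * (e : G)⁻¹) * σ⁻¹) * e := by group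
      _ = _ := by rw [hσa]; group
  · simp only [Subgroup.coe_mul, InvMemClass.coe_inv]
    rw [← mul_inv_eq_iff_eq_mul]
    calc (e : G)⁻¹ * σ * e * ((e : G)⁻¹ * cs * e) * ((e : G)⁻¹ * σ * e)⁻¹
        = (e : G)⁻¹ * (σ * (cs : G) * σ⁻¹) * e := by group
      _ = _ := by rw [hσs]

end CfsgLib.JFourLocal
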