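import Mathlib.GroupTheory.Sylow
import Mathlib.GroupTheory.Transfer
import Cfsg.Agent.Lib.JFour.Proj

/-!
# The elements of order seven of the group of order 443520

The subgroups of order seven are Sylow subgroups, self-centralizing, and their automizers have
order three.
-/

set_option autoImplicit false
set_option linter.unusedSectionVars false

namespace CfsgLib.JFourLocal

variable {M : Type*} [Group M] [Finite M]

theorem seven_fac : (443520 : ℕ).factorization 7 = 1 := by
  rw [show (443520 : ℕ) = 7 ^ 1 * 63360 by norm_num,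
    Nat.factorization_mul (by norm_num) (by norm_num), Finsupp.add_apply, Nat.factorization_pow,
    Nat.factorization_eq_zero_of_not_dvd (show ¬ 7 ∣ 63360 by norm_num)]
  simp [(show Nat.Prime 7 by norm_num).factorization_self]

theorem pow_seven_mod {x : M} (hx : orderOf x = 7) (i : ℕ) : x ^ i = x ^ (i % 7) := by
  rw [← hx, pow_mod_orderOf]

/-- Subgroups of order seven are conjugate. -/
theorem seven_conj (hM : Nat.card M = 443520) {x y : M} (hx : orderOf x = 7) (hy : orderOf y = 7) :
    ∃ (m : M) (j : ℕ), j % 7 ≠ 0 ∧ m * x * m⁻¹ = y ^ j := by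
  classical
  haveI := Fact.mk (show Nat.Prime 7 by norm_num)
  have hsyl : ∀ c : M, orderOf c = 7 → Nat.card ↥(Subgroup.zpowers c) = 7 ^ (Nat.card M).factorization 7 :=
    fun c hc => by rw [Nat.card_zpowers, hc, hM, seven_fac, pow_one]
  obtain ⟨m, hm⟩ := MulAction.exists_smul_eq M (Sylow.ofCard (Subgroup.zpowers x) (hsyl x hx))
    (Sylow.ofCard (Subgroup.zpowers y) (hsyl y hy))
  have h1 : m * x * m⁻¹ ∈ Subgroup.zpowers y := by
    have h2 : m * x * m⁻¹ ∈ ((m • Sylow.ofCard (Subgroup.zpowers x) (hsyl x hx) : Sylow 7 M) : Subgroup M) := by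
      rw [Sylow.coe_subgroup_smul]
      exact ⟨x, Subgroup.mem_zpowers x, rfl⟩
    rw [hm] at h2
    exact h2
  obtain ⟨i, hi⟩ := (isOfFinOrder_of_finite y).mem_powers_iff_mem_zpowers.2 h1
  have hi' : y ^ i = m * x * m⁻¹ := hi
  refine ⟨m, i, fun h0 => ?_, hi'.symm⟩
  rw [pow_seven_mod hy, h0, pow_zero, eq_comm, mul_inv_eq_one, mul_eq_left] at hi'
  rw [hi', orderOf_one] at hx
  omega

/-- The facts about the elements of order seven. -/
structure SevenFacts (M : Type*) [Group M] : Prop where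
  card : Nat.card M = 443520
  cent : ∀ m n : M, orderOf m = 7 → n * m = m * n → n ∈ Subgroup.zpowers m
  real : ∀ m n : M, orderOf m = 7 → n * m * n⁻¹ ≠ m⁻¹
  square : ∀ m : M, orderOf m = 7 → ∃ n : M, n * m * n⁻¹ = m ^ 2

/-- They follow from the facts for one element. -/
theorem seven_facts (F : JFour.Small M) {s : M} (hs : orderOf s = 7)
    (hcent : Subgroup.centralizer ({s} : Set M) = Subgroup.zpowers s)
    (hreal : ∀ m : M, m * s * m⁻¹ ≠ s⁻¹) : SevenFacts M := by
  classical
  haveI := Fact.mk (show Nat.Prime 7 by norm_num)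
  have hinv : ∀ {y : M} {j : ℕ}, orderOf y = 7 → j % 7 ≠ 0 → ∃ k : ℕ, (y ^ j) ^ k = y := by
    intro y j hy hj
    refine ⟨j ^ 5, ?_⟩
    rw [← pow_mul, pow_seven_mod hy]
    conv_rhs => rw [← pow_one y]
    congr 1
    rw [← pow_succ', Nat.pow_mod]
    have : j % 7 < 7 := Nat.mod_lt _ (by norm_num)
    interval_cases j % 7 <;> simp at hj ⊢
  -- the automizer of `s`
  obtain ⟨n, hn⟩ : ∃ n : M, n * s * n⁻¹ = s ^ 2 := by
    by_contra hno
    push Not at hno
    have hauto : ∀ n : M, n * s * n⁻¹ ∈ Subgroup.zpowers s → n * s = s * n := by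
      intro n hn
      obtain ⟨i, hi⟩ := (isOfFinOrder_of_finite s).mem_powers_iff_mem_zpowers.2 hn
      have hi' : n * s * n⁻¹ = s ^ (i % 7) := by rw [← pow_seven_mod hs]; exact hi.symm
      have hq : ∀ q, n ^ q * s * (n ^ q)⁻¹ = s ^ ((i % 7) ^ q) := by
        intro q
        induction q with
        | zero => simp
        | succ q ih =>
          rw [pow_succ', show n * n ^ q * s * (n * n ^ q)⁻¹ = n * (n ^ q * s * (n ^ q)⁻¹) * n⁻¹ by group, ih,
            ← conj_pow, hi', ← pow_mul, pow_succ']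
      have h2 := hno (n ^ 2)
      have h3 := hreal (n ^ 3)
      rw [hq, pow_seven_mod hs] at h2 h3
      rw [show s⁻¹ = s ^ 6 from inv_eq_of_mul_eq_one_right (by rw [← pow_succ', show 6 + 1 = 7 from rfl, ← hs, pow_orderOf_eq_one])] at h3
      have hlt : i % 7 < 7 := Nat.mod_lt _ (by norm_num)
      interval_cases hc : i % 7
      · rw [pow_zero, mul_inv_eq_one, mul_eq_left] at hi'
        rw [hi', orderOf_one] at hs
        omega
      · rw [pow_one] at hi'
        exact mul_inv_eq_iff_eq_mul.1 hi'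
      · exact absurd hi' (hno n)
      · simp at h3
      · simp at h2
      · simp at h3
      · simp at h3
    let P : Sylow 7 M := Sylow.ofCard (Subgroup.zpowers s) (by
      rw [Nat.card_zpowers, hs, F.card, seven_fac, pow_one])
    have hP : Subgroup.normalizer ((P : Subgroup M) : Set M) ≤ Subgroup.centralizer ((P : Subgroup M) : Set M) := by
      intro n hn
      have h1 := hauto n ((Subgroup.mem_normalizer_iff.1 hn s).1 (Subgroup.mem_zpowers s))
      refine Subgroup.mem_centralizer_iff.2 fun y hy => ?_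
      obtain ⟨k, rfl⟩ := Subgroup.mem_zpowers_iff.1 (show y ∈ Subgroup.zpowers s from hy)
      exact ((show Commute s n from h1.symm).zpow_left k).eq
    have hc := MonoidHom.ker_transferSylow_isComplement' P hP
    have hmul := hc.card_mul
    rw [show Nat.card ↥(P : Subgroup M) = 7 by
      show Nat.card ↥(Subgroup.zpowers s) = 7
      rw [Nat.card_zpowers, hs], F.card] at hmul
    rcases F.simple.eq_bot_or_eq_top_of_normal (MonoidHom.transferSylow P hP).ker inferInstance with e | e <;>
      rw [e] at hmul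
    · rw [Subgroup.card_bot] at hmul; omega
    · rw [Subgroup.card_top, F.card] at hmul; omega
  have hcs : ∀ n : M, n * s = s * n → n ∈ Subgroup.zpowers s := fun n hn =>
    hcent.le (Subgroup.mem_centralizer_singleton_iff.2 hn)
  -- transfer along conjugation
  have key : ∀ x : M, orderOf x = 7 → ∃ (m : M) (j k : ℕ), m * x * m⁻¹ = s ^ j ∧ (s ^ j) ^ k = s := by
    intro x hx
    obtain ⟨m, j, hj, hmj⟩ := seven_conj F.card hx hs
    obtain ⟨k, hk⟩ := hinv hs hj
    exact ⟨m, j, k, hmj, hk⟩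
  refine ⟨F.card, fun x y hx hy => ?_, fun x y hx he => ?_, fun x hx => ?_⟩
  · obtain ⟨m, j, k, hmj, hk⟩ := key x hx
    have h1 : m * y * m⁻¹ * s = s * (m * y * m⁻¹) := by
      have h2 : Commute (m * y * m⁻¹) (s ^ j) := by
        rw [← hmj]
        show m * y * m⁻¹ * (m * x * m⁻¹) = m * x * m⁻¹ * (m * y * m⁻¹)
        calc m * y * m⁻¹ * (m * x * m⁻¹) = m * (y * x) * m⁻¹ := by group
          _ = _ := by rw [hy]; group
      have h3 := h2.pow_right k
      rw [hk] at h3
      exact h3.eq
    obtain ⟨i, hi⟩ := (isOfFinOrder_of_finite s).mem_powers_iff_mem_zpowers.2 (hcs _ h1)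
    have hi' : s ^ i = m * y * m⁻¹ := hi
    rw [← hk, ← hmj, conj_pow, conj_pow, mul_left_inj, mul_right_inj] at hi'
    rw [← hi']
    exact Subgroup.pow_mem _ (Subgroup.pow_mem _ (Subgroup.mem_zpowers x) k) i
  · obtain ⟨m, j, k, hmj, hk⟩ := key x hx
    refine hreal (m * y * m⁻¹) ?_
    rw [← hk, ← conj_pow, ← inv_pow]
    congr 1
    rw [← hmj, show m * y * m⁻¹ * (m * x * m⁻¹) * (m * y * m⁻¹)⁻¹ = m * (y * x * y⁻¹) * m⁻¹ by group, he]
    group
  · obtain ⟨m, j, k, hmj, hk⟩ := key x hx
    refine ⟨m⁻¹ * n * m, ?_⟩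
    rw [show m⁻¹ * n * m * x * (m⁻¹ * n * m)⁻¹ = m⁻¹ * (n * (m * x * m⁻¹) * n⁻¹) * m by group, hmj, ← conj_pow,
      hn, ← pow_mul, mul_comm, pow_mul, ← hmj, conj_pow]
    group

end CfsgLib.JFourLocal
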