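import Mathlib.GroupTheory.Perm.Cycle.Type
import Cfsg.Agent.Lib.JFour.Cons
import Cfsg.Agent.Lib.JFour.Inner
import Cfsg.Agent.Lib.JFourLocal.Outer
import Cfsg.Agent.Lib.JFourLocal.SevenM

/-!
# Elements of order seven in the centralizer of `z`

They act fixed point freely on `E` modulo the center, are conjugate to elements of `C(z, π)`, and
their centralizers and normalizers there are determined by those in `M`.
-/

set_option autoImplicit false
set_option maxRecDepth 100000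
set_option linter.style.haveILetI false
set_option linter.unusedSectionVars false

open Cfsg

namespace CfsgLib.JFourLocal

open CfsgLib.JFour CfsgLib.JFour.Ctx

/-- A word of order seven. -/
def sevenW : List ℕ := [0, 2, 4]

/-- The powers of a matrix. -/
def powB (B : List ℕ) : ℕ → List ℕ
  | 0 => idB
  | k + 1 => comp B (powB B k)

theorem sevenW_ok : okB (wordB MS sevenW) = true ∧
    (powB (wordB MS sevenW) 7 == idB) = true ∧ sevenW.all (fun k => decide (k < 5)) = true ∧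
    (List.range 4096).all (fun n => Nat.beq n 0 || !Nat.beq (ap (wordB MS sevenW) n) n) = true := by
  decide +kernel

variable {G : Type*} [Group G] [Finite G] {M : Type*} [Group M] [Finite M] {z π : G} {E : Subgroup G}
  (J : Ctx M z π E)

include J

theorem acts_powB {g : ℕ → M} {vec : ℕ → G} (Mo : J.Model g vec) {c : G} (hcz : c * z = z * c)
    {B : List ℕ} (hc : Acts z vec c B) : ∀ n, Acts z vec (c ^ n) (powB B n)
  | 0 => by rw [pow_zero]; exact Mo.coords.acts_one J
  | n + 1 => by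
    rw [pow_succ', powB]
    exact Mo.coords.acts_mul J hc hcz (acts_powB Mo hcz hc n) (okB_comp hc.1 (acts_powB Mo hcz hc n).1)

theorem rel_pow {d e : G} (hd : d * z = z * d) (h : Rel z (d * e * d⁻¹) e) :
    ∀ n : ℕ, Rel z (d ^ n * e * (d ^ n)⁻¹) e
  | 0 => by rw [pow_zero]; exact Or.inl (by group)
  | n + 1 => by
    have h1 := J.rel_conj hd (rel_pow hd h n)
    rw [show d * (d ^ n * e * (d ^ n)⁻¹) * d⁻¹ = d ^ (n + 1) * e * (d ^ (n + 1))⁻¹ by rw [pow_succ']; group] at h1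
    exact J.rel_trans h1 h

theorem kernel_pow_six {q : ↥(CZ z π)} (hq : J.proj q = 1) : (q : G) ^ 6 = 1 := by
  obtain ⟨v, -, hv, j, -, he⟩ := J.exists_pow' hq
  have hvc : Commute v (π ^ j) := by
    rcases hv with e | e <;> rw [e]
    exacts [Commute.one_left _, ((show Commute π z from J.piz).pow_left j).symm]
  rw [he, hvc.mul_pow, ← pow_mul, show j * 6 = 3 * (2 * j) by ring, pow_mul, J.pi_pow_three, one_pow, mul_one]
  rcases hv with e | e <;> rw [e]
  · exact one_pow 6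
  · rw [show 6 = 2 * 3 from rfl, pow_mul, pow_two, J.zz, one_pow]

/-- Elements of order dividing seven with equal images are equal. -/
theorem eq_of_proj {a b : ↥(CZ z π)} (ha : (a : G) ^ 7 = 1) (hb : (b : G) ^ 7 = 1)
    (h : J.proj a = J.proj b) : a = b := by
  set q := a * b⁻¹ with hq
  have hq1 : J.proj q = 1 := by rw [hq, map_mul, map_inv, h, mul_inv_cancel]
  have ha' : a ^ 7 = 1 := Subtype.ext (by rw [Subgroup.coe_pow]; exact ha)
  have hb' : b ^ 7 = 1 := Subtype.ext (by rw [Subgroup.coe_pow]; exact hb)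
  have h6 : q ^ 6 = 1 := Subtype.ext (by rw [Subgroup.coe_pow]; exact kernel_pow_six J hq1)
  have e : a = q * b := by rw [hq, inv_mul_cancel_right]
  rw [e, (show Commute q b from ker_central J hq1).mul_pow, hb', mul_one, pow_succ, h6, one_mul] at ha'
  rw [e, ha', one_mul]

theorem proj_order_seven {y : ↥(CZ z π)} (hy : orderOf (y : G) = 7) : orderOf (J.proj y) = 7 := by
  haveI := Fact.mk (show Nat.Prime 7 by norm_num)
  have h7 : (y : G) ^ 7 = 1 := hy ▸ pow_orderOf_eq_one _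
  refine orderOf_eq_prime (by rw [← map_pow, show y ^ 7 = 1 from Subtype.ext (by
    rw [Subgroup.coe_pow]; exact h7), map_one]) fun e => ?_
  have h1 : y = 1 := eq_of_proj J h7 (by simp) (by rw [e, map_one])
  rw [h1, Subgroup.coe_one, orderOf_one] at hy
  omega

/-- An element of order seven fixing no vector but the zero one. -/
theorem exists_seven_fpf (hM : Nat.card M = 443520) {g : ℕ → M} {vec : ℕ → G} (Mo : J.Model g vec) :
    ∃ s : ↥(CZ z π), orderOf (s : G) = 7 ∧
      ∀ e ∈ E, Rel z ((s : G) * e * (s : G)⁻¹) e → e = 1 ∨ e = z := by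
  obtain ⟨hok, h7, hlt, hfix⟩ := sevenW_ok
  obtain ⟨c, -, hA⟩ := Mo.lift (w := sevenW) fun k hk => of_decide_eq_true (List.all_eq_true.1 hlt k hk)
  have hcz : (c : G) * z = z * c := (mem_CZ.1 c.2).1
  have hA7 : Acts z vec ((c : G) ^ 7) idB := by
    have := acts_powB J Mo hcz hA 7
    rwa [beq_iff_eq.1 h7] at this
  -- a vector fixed by a power prime to seven
  have key : ∀ {e : G} {k : ℕ}, e ∈ E → k % 7 ≠ 0 → Rel z ((c : G) ^ k * e * ((c : G) ^ k)⁻¹) e →
      e = 1 ∨ e = z := by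
    intro e k he hk hr
    obtain ⟨n, hn, hen⟩ := Mo.coords.surj e he
    have hkz : (c : G) ^ k * z = z * (c : G) ^ k := ((show Commute (c : G) z from hcz).pow_left k).eq
    have h7z : (c : G) ^ 7 * z = z * (c : G) ^ 7 := ((show Commute (c : G) z from hcz).pow_left 7).eq
    have hv : Rel z ((c : G) ^ k * vec n * ((c : G) ^ k)⁻¹) (vec n) :=
      J.rel_trans (J.rel_conj hkz (J.rel_symm hen)) (J.rel_trans hr hen)
    have hv7 : Rel z ((c : G) ^ 7 * vec n * ((c : G) ^ 7)⁻¹) (vec n) := by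
      have := hA7.2 n hn
      rwa [ap_idB hn] at this
    have e1 : k * k ^ 5 = 1 + 7 * (k * k ^ 5 / 7) := by
      have h1 : k * k ^ 5 % 7 = 1 := by
        rw [← pow_succ', Nat.pow_mod]
        have : k % 7 < 7 := Nat.mod_lt _ (by norm_num)
        interval_cases k % 7 <;> simp at hk ⊢
      omega
    have h1 : Rel z ((c : G) * vec n * (c : G)⁻¹) (vec n) := by
      have ha := rel_pow J hkz hv (k ^ 5)
      rw [← pow_mul, e1, pow_add, pow_one, pow_mul] at ha
      have hb := rel_pow J h7z hv7 (k * k ^ 5 / 7)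
      rw [show (c : G) * ((c : G) ^ 7) ^ (k * k ^ 5 / 7) * vec n * ((c : G) * ((c : G) ^ 7) ^ (k * k ^ 5 / 7))⁻¹ =
        (c : G) * (((c : G) ^ 7) ^ (k * k ^ 5 / 7) * vec n * (((c : G) ^ 7) ^ (k * k ^ 5 / 7))⁻¹) * (c : G)⁻¹ by
          group] at ha
      exact J.rel_trans (J.rel_symm (J.rel_conj hcz hb)) ha
    have hn0 : ap (wordB MS sevenW) n = n :=
      (Mo.coords.rel_iff J (okB_lt hok n) hn).1 (J.rel_trans (J.rel_symm (hA.2 n hn)) h1)
    have := List.all_eq_true.1 hfix n (List.mem_range.2 hn)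
    simp only [Bool.or_eq_true, Nat.beq_eq, Bool.not_eq_true', hn0, Nat.beq_refl] at this
    simp only [Bool.true_eq_false, or_false] at this
    rw [this] at hen
    have h00 : Rel z (vec 0) 1 := by
      rcases Mo.coords.add 0 0 (by norm_num) (by norm_num) with q | q
      · have q' : vec 0 = vec 0 * vec 0 := q
        exact Or.inl (left_eq_mul.1 q')
      · have q' : vec 0 = z * (vec 0 * vec 0) := q
        refine Or.inr ?_
        rw [mul_one]
        have : z * vec 0 = vec 0 * vec 0 := by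
          nth_rw 1 [q']
          rw [← mul_assoc, J.zz, one_mul]
        exact (mul_right_cancel this).symm
    rcases J.rel_trans hen h00 with q | q
    · exact Or.inl q
    · exact Or.inr (by rw [q, mul_one])
  -- the seven-part
  set N := orderOf (c : G)
  have hNd : N % 7 = 0 := by
    by_contra hne
    have hall : ∀ e ∈ E, e = 1 ∨ e = z := fun e he => key he hne (by
      rw [pow_orderOf_eq_one]; exact Or.inl (by group))
    have h2 : Nat.card E ≤ 2 := by
      rw [← J.card_zpowers_z]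
      refine Subgroup.card_le_of_le fun e he => ?_
      rcases hall e he with q | q <;> rw [q]
      exacts [one_mem _, Subgroup.mem_zpowers z]
    rw [J.cardE] at h2
    norm_num at h2
  have hdvd : N ∣ 6 * 443520 := by
    rw [← J.card_CZ hM]
    exact Subgroup.orderOf_dvd_natCard _ c.2
  obtain ⟨m, hm⟩ := Nat.dvd_of_mod_eq_zero hNd
  have hm7 : m % 7 ≠ 0 := fun h => by
    obtain ⟨l, hl⟩ := Nat.dvd_of_mod_eq_zero h
    have : 49 ∣ 6 * 443520 := by
      refine Dvd.dvd.trans ?_ hdvd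
      exact ⟨l, by rw [hm, hl]; ring⟩
    norm_num at this
  refine ⟨c ^ m, ?_, fun e he hr => key he hm7 (by simpa using hr)⟩
  rw [Subgroup.coe_pow, orderOf_pow' _ (by intro h; rw [h] at hm7; simp at hm7)]
  show N / Nat.gcd N m = 7
  rw [hm, Nat.gcd_eq_right (dvd_mul_left m 7), Nat.mul_div_cancel _ (Nat.pos_of_ne_zero
    fun h => by rw [h] at hm7; simp at hm7)]

/-- The fixed points of any element of order seven of `C(z, π)`. -/
theorem fixed_center (SF : SevenFacts M) {g : ℕ → M} {vec : ℕ → G} (Mo : J.Model g vec) {s : ↥(CZ z π)}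
    (hs : orderOf (s : G) = 7) {e : G} (he : e ∈ E) (hc : e * s = s * e) : e = 1 ∨ e = z := by
  obtain ⟨s0, hs0, hfix⟩ := exists_seven_fpf J SF.card Mo
  obtain ⟨m, j, hj, hmj⟩ := seven_conj SF.card (proj_order_seven J hs) (proj_order_seven J hs0)
  obtain ⟨d, rfl⟩ := J.proj_surj m
  have hs7 : (s : G) ^ 7 = 1 := hs ▸ pow_orderOf_eq_one _
  have hs07 : (s0 : G) ^ 7 = 1 := hs0 ▸ pow_orderOf_eq_one _
  have hd : d * s * d⁻¹ = s0 ^ j := eq_of_proj J
    (by
      simp only [Subgroup.coe_mul, InvMemClass.coe_inv, conj_pow, hs7]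
      group)
    (by rw [Subgroup.coe_pow, ← pow_mul, mul_comm, pow_mul, hs07, one_pow])
    (by rw [map_mul, map_mul, map_inv, map_pow]; exact hmj)
  obtain ⟨hdz, -⟩ := mem_CZ.1 d.2
  have hd' : (d : G) * s * (d : G)⁻¹ = (s0 : G) ^ j := by
    have := congrArg Subtype.val hd
    simpa using this
  have h1 : Commute ((d : G) * e * (d : G)⁻¹) ((s0 : G) ^ j) := by
    rw [← hd']
    show (d : G) * e * (d : G)⁻¹ * ((d : G) * s * (d : G)⁻¹) = _
    calc (d : G) * e * (d : G)⁻¹ * ((d : G) * s * (d : G)⁻¹) = (d : G) * (e * s) * (d : G)⁻¹ := by group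
      _ = _ := by rw [hc]; group
  have h2 := h1.pow_right (j ^ 5)
  have e1 : ((s0 : G) ^ j) ^ (j ^ 5) = (s0 : G) := by
    rw [← pow_mul, pow_seven_mod hs0]
    conv_rhs => rw [← pow_one (s0 : G)]
    congr 1
    rw [← pow_succ', Nat.pow_mod]
    have : j % 7 < 7 := Nat.mod_lt _ (by norm_num)
    interval_cases j % 7 <;> simp at hj ⊢
  rw [e1] at h2
  rcases hfix _ (J.conjE hdz he) (Or.inl (by rw [h2.symm.eq, mul_inv_cancel_right])) with q | q
  · exact Or.inl (by rwa [mul_inv_eq_one, mul_eq_left] at q)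
  · refine Or.inr ?_
    calc e = (d : G)⁻¹ * ((d : G) * e * (d : G)⁻¹) * d := by group
      _ = (d : G)⁻¹ * (z * d) := by rw [q, mul_assoc]
      _ = z := by rw [← hdz, inv_mul_cancel_left]

/-- Every element of order seven of `C(z)` is conjugate to one of `C(z, π)`. -/
theorem exists_conj_seven {x : G} (hx : orderOf x = 7) (hxz : x * z = z * x) :
    ∃ e ∈ E, ∃ y : ↥(CZ z π), orderOf (y : G) = 7 ∧ e * (y : G) * e⁻¹ = x := by
  haveI := Fact.mk (show Nat.Prime 7 by norm_num)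
  have hx7 : x ^ 7 = 1 := hx ▸ pow_orderOf_eq_one x
  have hxH : x ∈ H0 z π E := by
    by_contra hn
    have h2 := J.mul_mem_H0 hxz hxz hn hn
    apply hn
    have := (H0 z π E).pow_mem h2 4
    rwa [← pow_two, ← pow_mul, show 2 * 4 = 7 + 1 from rfl, pow_succ, hx7, one_mul] at this
  obtain ⟨e0, he0, c, hc, hxc⟩ := J.mem_H0.1 hxH
  obtain ⟨hcz, -⟩ := mem_CZ.1 hc
  have hpow : ∀ n : ℕ, x ^ n * (c ^ n)⁻¹ ∈ E := by
    intro n
    induction n with
    | zero => simp
    | succ n ih =>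
      have e : x ^ (n + 1) * (c ^ (n + 1))⁻¹ = e0 * (c * (x ^ n * (c ^ n)⁻¹) * c⁻¹) := by
        rw [pow_succ' x, pow_succ' c, hxc]; group
      rw [e]
      exact E.mul_mem he0 (J.conjE hcz ih)
  have hc7E : c ^ 7 ∈ E := by
    have := hpow 7
    rw [hx7, one_mul] at this
    exact E.inv_mem_iff.1 this
  have hc14 : c ^ 14 = 1 := by
    rw [show 14 = 7 * 2 from rfl, pow_mul]
    rcases J.eq_center_of_mem_E (pow_mem hc 7) hc7E with q | q <;> rw [q]
    · exact one_pow 2
    · rw [pow_two, J.zz]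
  set y : ↥(CZ z π) := ⟨c ^ 8, pow_mem hc 8⟩
  have hy7 : (y : G) ^ 7 = 1 := by
    show (c ^ 8) ^ 7 = 1
    rw [← pow_mul, show 8 * 7 = 14 * 4 from rfl, pow_mul, hc14, one_pow]
  have hxy : x * (y : G)⁻¹ ∈ E := by
    have e : x * (c ^ 8)⁻¹ = e0 * (c ^ 7)⁻¹ := by
      have : c ^ 8 = c ^ 7 * c := pow_succ c 7
      rw [this, hxc]; group
    show x * (c ^ 8)⁻¹ ∈ E
    rw [e]
    exact E.mul_mem he0 (E.inv_mem hc7E)
  have hy1 : (y : G) ≠ 1 := fun h => by
    rw [h, inv_one, mul_one] at hxy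
    have := Subgroup.orderOf_dvd_natCard _ hxy
    rw [hx, J.cardE] at this
    norm_num at this
  have hyo : orderOf (y : G) = 7 := orderOf_eq_prime hy7 hy1
  obtain ⟨hyz, -⟩ := mem_CZ.1 y.2
  -- a fixed point of `e ↦ x * e * y⁻¹`
  letI := Fintype.ofFinite ↥E
  have hmem : ∀ {a b : G}, a * b⁻¹ ∈ E → b * z = z * b → ∀ e ∈ E, a * e * b⁻¹ ∈ E := fun {a b} h hb e he => by
    rw [show a * e * b⁻¹ = a * b⁻¹ * (b * e * b⁻¹) by group]
    exact E.mul_mem h (J.conjE hb he)
  have hinv : x⁻¹ * (y : G) ∈ E := by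
    have h := J.conjE' hyz (E.inv_mem hxy)
    rw [show (y : G)⁻¹ * (x * (y : G)⁻¹)⁻¹ * y = x⁻¹ * y by
      rw [mul_inv_rev, inv_inv, ← mul_assoc, inv_mul_cancel, one_mul]] at h
    exact h
  let σ : Equiv.Perm ↥E :=
    { toFun := fun e => ⟨x * e * (y : G)⁻¹, hmem hxy hyz e e.2⟩
      invFun := fun e => ⟨x⁻¹ * e * y, by
        have := hmem (a := x⁻¹) (b := (y : G)⁻¹) (by rw [inv_inv]; exact hinv)
          ((show Commute (y : G) z from hyz).inv_left).eq e e.2
        rwa [inv_inv] at this⟩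
      left_inv := fun e => Subtype.ext (by
        show x⁻¹ * (x * e * (y : G)⁻¹) * y = e
        group)
      right_inv := fun e => Subtype.ext (by
        show x * (x⁻¹ * e * y) * (y : G)⁻¹ = e
        group) }
  have hσ : ∀ (n : ℕ) (e : ↥E), ((σ ^ n) e : G) = x ^ n * e * ((y : G) ^ n)⁻¹ := by
    intro n
    induction n with
    | zero => intro e; simp
    | succ n ih =>
      intro e
      rw [pow_succ', Equiv.Perm.mul_apply]
      show x * ((σ ^ n) e : G) * (y : G)⁻¹ = _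
      rw [ih e, pow_succ' x, pow_succ' (y : G)]
      group
  obtain ⟨e, he⟩ := Equiv.Perm.exists_fixed_point_of_prime (p := 7) (n := 1) (α := ↥E)
    (by rw [← Nat.card_eq_fintype_card, J.cardE]; norm_num) (σ := σ)
    (Equiv.ext fun e => Subtype.ext (by rw [pow_one, hσ, hx7, hy7]; simp))
  refine ⟨e, e.2, y, hyo, ?_⟩
  have he' : x * e * (y : G)⁻¹ = e := congrArg Subtype.val he
  calc (e : G) * y * (e : G)⁻¹ = x * e * (y : G)⁻¹ * y * (e : G)⁻¹ := by rw [he']
    _ = x := by group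

/-- An element of `H0` conjugating a seven-element of `C(z, π)` into `C(z, π)`. -/
theorem H0_conj {s : ↥(CZ z π)} (hs : orderOf (s : G) = 7) {y : G} (hy : y ∈ H0 z π E) {s' : ↥(CZ z π)}
    (hs' : (s' : G) ^ 7 = 1) (h : y * (s : G) * y⁻¹ = s') :
    ∃ e ∈ E, ∃ c : ↥(CZ z π), y = e * c ∧ c * s * c⁻¹ = s' := by
  obtain ⟨e, he, c, hc, rfl⟩ := J.mem_H0.1 hy
  refine ⟨e, he, ⟨c, hc⟩, rfl, eq_of_proj J ?_ hs' (J.proj_eq ?_)⟩
  · simp only [Subgroup.coe_mul, InvMemClass.coe_inv, conj_pow]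
    rw [show (s : G) ^ 7 = 1 from hs ▸ pow_orderOf_eq_one _]
    group
  · have hsz := (mem_CZ.1 s'.2).1
    show c * (s : G) * c⁻¹ * (s' : G)⁻¹ ∈ E
    rw [show c * (s : G) * c⁻¹ * (s' : G)⁻¹ = e⁻¹ * (e * c * s * (e * c)⁻¹) * e * (s' : G)⁻¹ by group, h,
      show e⁻¹ * (s' : G) * e * (s' : G)⁻¹ = e⁻¹ * ((s' : G) * e * (s' : G)⁻¹) by group]
    exact E.mul_mem (E.inv_mem he) (J.conjE hsz he)

/-- **The centralizer of a seven-element in `C(z)`.** -/
theorem cent_seven (SF : SevenFacts M) {g : ℕ → M} {vec : ℕ → G} (Mo : J.Model g vec) {s : ↥(CZ z π)}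
    (hs : orderOf (s : G) = 7) {u : G} (huz : u * z = z * u) (hup : u * π * u⁻¹ = π⁻¹) (huu : u * u = 1)
    (hus : u * (s : G) = s * u) {y : G} (hyz : y * z = z * y) (hys : y * (s : G) = s * y) :
    ∃ i j k l : ℕ, y = (s : G) ^ i * z ^ j * π ^ k * u ^ l := by
  suffices key : ∀ {y : G}, y ∈ H0 z π E → y * (s : G) = s * y →
      ∃ i j k : ℕ, y = (s : G) ^ i * z ^ j * π ^ k by
    by_cases hy : y ∈ H0 z π E
    · obtain ⟨i, j, k, he⟩ := key hy hys
      exact ⟨i, j, k, 0, by rw [he, pow_zero, mul_one]⟩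
    · obtain ⟨i, j, k, he⟩ := key (J.mul_mem_H0 hyz huz hy (J.swap_not_mem huz hup))
        ((show Commute y (s : G) from hys).mul_left hus).eq
      exact ⟨i, j, k, 1, by rw [← he, pow_one, mul_assoc, huu, mul_one]⟩
  intro y hy hys
  have hs7 : (s : G) ^ 7 = 1 := hs ▸ pow_orderOf_eq_one _
  obtain ⟨e, he, c, rfl, hce⟩ := H0_conj J hs hy hs7 (by rw [hys, mul_inv_cancel_right])
  have hcs : c * s = s * c := mul_inv_eq_iff_eq_mul.1 hce
  have hcs' : (c : G) * s = s * c := congrArg Subtype.val hcs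
  have hes : e * (s : G) = s * e := by
    refine mul_right_cancel (b := (c : G)) ?_
    calc e * (s : G) * c = e * c * s := by rw [mul_assoc, ← hcs', mul_assoc]
      _ = _ := by rw [hys, mul_assoc]
  obtain ⟨i, hi⟩ := (isOfFinOrder_of_finite (J.proj s)).mem_powers_iff_mem_zpowers.2
    (SF.cent _ (J.proj c) (proj_order_seven J hs) (by rw [← map_mul, ← map_mul, hcs]))
  obtain ⟨v, -, hv, k, -, hk⟩ := J.exists_pow' (c := (s ^ i)⁻¹ * c)
    (by rw [map_mul, map_inv, map_pow, show J.proj c = J.proj s ^ i from hi.symm, inv_mul_cancel])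
  simp only [Subgroup.coe_mul, InvMemClass.coe_inv, Subgroup.coe_pow] at hk
  have hc' : (c : G) = (s : G) ^ i * v * π ^ k := by rw [mul_assoc, ← hk, mul_inv_cancel_left]
  have hzs : Commute z ((s : G) ^ i) := (show Commute z (s : G) from (mem_CZ.1 s.2).1.symm).pow_right i
  rcases fixed_center J SF Mo hs he hes with q | q <;> rw [q, hc']
  · rcases hv with w | w <;> rw [w]
    · exact ⟨i, 0, k, by simp⟩
    · exact ⟨i, 1, k, by simp⟩
  · rcases hv with w | w <;> rw [w]
    · exact ⟨i, 1, k, by rw [mul_one, pow_one, ← mul_assoc, hzs.eq]⟩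
    · exact ⟨i, 0, k, by rw [pow_zero, mul_one, ← mul_assoc, ← mul_assoc, hzs.eq, mul_assoc _ z z, J.zz, mul_one]⟩

/-- No element of `C(z)` inverts a seven-element. -/
theorem no_inverse (SF : SevenFacts M) {s : ↥(CZ z π)} (hs : orderOf (s : G) = 7) {u : G}
    (huz : u * z = z * u) (hup : u * π * u⁻¹ = π⁻¹) (hus : u * (s : G) = s * u) {y : G}
    (hyz : y * z = z * y) : y * (s : G) * y⁻¹ ≠ (s : G)⁻¹ := by
  intro h
  suffices key : ∀ {y : G}, y ∈ H0 z π E → y * (s : G) * y⁻¹ ≠ (s : G)⁻¹ by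
    by_cases hy : y ∈ H0 z π E
    · exact key hy h
    · refine key (J.mul_mem_H0 hyz huz hy (J.swap_not_mem huz hup)) ?_
      rw [show y * u * (s : G) * (y * u)⁻¹ = y * (u * s * u⁻¹) * y⁻¹ by group, hus, mul_inv_cancel_right]
      exact h
  intro y hy h
  have hs7 : ((s⁻¹ : ↥(CZ z π)) : G) ^ 7 = 1 := by
    rw [InvMemClass.coe_inv, inv_pow, ← hs, pow_orderOf_eq_one, inv_one]
  obtain ⟨e, -, c, -, hce⟩ := H0_conj J hs hy (s' := s⁻¹) hs7 h
  refine SF.real _ (J.proj c) (proj_order_seven J hs) ?_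
  rw [← map_inv, ← map_mul, ← map_mul, hce, map_inv]

/-- An element of `C(z)` squaring it. -/
theorem exists_square (SF : SevenFacts M) {s : ↥(CZ z π)} (hs : orderOf (s : G) = 7) :
    ∃ n : G, n * z = z * n ∧ n * (s : G) * n⁻¹ = (s : G) ^ 2 := by
  obtain ⟨m, hm⟩ := SF.square _ (proj_order_seven J hs)
  obtain ⟨c, rfl⟩ := J.proj_surj m
  have hs7 : (s : G) ^ 7 = 1 := hs ▸ pow_orderOf_eq_one _
  have h : c * s * c⁻¹ = s ^ 2 := eq_of_proj J
    (by
      simp only [Subgroup.coe_mul, InvMemClass.coe_inv, conj_pow, hs7]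
      group)
    (by rw [Subgroup.coe_pow, ← pow_mul, mul_comm, pow_mul, hs7, one_pow])
    (by rw [map_mul, map_mul, map_inv, map_pow]; exact hm)
  exact ⟨c, (mem_CZ.1 c.2).1, by simpa using congrArg Subtype.val h⟩

end CfsgLib.JFourLocal
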