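import Mathlib.GroupTheory.Perm.Cycle.Type
import Cfsg.Agent.Lib.JFour.VFinal

/-!
# An element of order seven centralizing an element of the second class

Its fixed space in the elementary subgroup of order `2 ^ 11` is a four group without conjugates of `z`
and the centralizer of the two elements is the product with a dihedral group of order eight.
-/

set_option autoImplicit false
set_option maxRecDepth 100000
set_option linter.style.haveILetI false
set_option linter.unusedSectionVars false

open Cfsg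
open scoped Classical

namespace CfsgLib.JFourLocal

open CfsgLib.JFour

variable {G : Type*} [Group G] [Finite G] {M : Type*} [Group M] [Finite M] {z π : G} {E : Subgroup G}

/-- An element of prime order acting on a finite subgroup. -/
theorem card_inf_modEq {U : Subgroup G} {y : G} {p : ℕ} (hp : p.Prime)
    (hy : ∀ u ∈ U, y * u * y⁻¹ ∈ U) (hyp : orderOf y = p) :
    Nat.card U ≡ Nat.card ↥(U ⊓ Subgroup.centralizer ({y} : Set G)) [MOD p] := by
  haveI := Fact.mk hp
  have heq : U.map (MulAut.conj y).toMonoidHom = U := by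
    refine Subgroup.eq_of_le_of_card_ge ?_ (by rw [Subgroup.card_map_of_injective (MulAut.conj y).injective])
    rintro _ ⟨v, hv, rfl⟩
    exact hy v hv
  have hyN : y ∈ Subgroup.normalizer (U : Set G) := by
    rw [Subgroup.mem_normalizer_iff]
    intro v
    conv_rhs => rw [← heq, Subgroup.mem_map_equiv, MulAut.conj_symm_apply]
    rw [show y⁻¹ * (y * v * y⁻¹) * y = v by group]
  let A := Subgroup.zpowers y
  have hAN : ∀ a : ↥A, (a : G) ∈ Subgroup.normalizer (U : Set G) := fun a =>
    Subgroup.zpowers_le.2 hyN a.2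
  letI : MulAction ↥A ↥U :=
    { smul := fun a v => ⟨(a : G) * v * (a : G)⁻¹, (Subgroup.mem_normalizer_iff.1 (hAN a) v).1 v.2⟩
      one_smul := fun v => Subtype.ext (by show (1 : G) * v * (1 : G)⁻¹ = v; group)
      mul_smul := fun a b v => Subtype.ext (by
        show ((a * b : ↥A) : G) * v * ((a * b : ↥A) : G)⁻¹ = (a : G) * ((b : G) * v * (b : G)⁻¹) * (a : G)⁻¹
        simp only [Subgroup.coe_mul]
        group) }
  have hA : IsPGroup p ↥A := IsPGroup.of_card (n := 1) (by rw [Nat.card_zpowers, hyp, pow_one])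
  refine (hA.card_modEq_card_fixedPoints (α := ↥U)).trans (congrArg (· % p) (Nat.card_congr ?_))
  refine ⟨fun v => ⟨(v.1 : G), v.1.2, Subgroup.mem_centralizer_singleton_iff.2 ?_⟩,
    fun v => ⟨⟨v, v.2.1⟩, ?_⟩, fun v => Subtype.ext (Subtype.ext rfl), fun v => rfl⟩
  · have h : y * (v.1 : G) * y⁻¹ = v.1 := congrArg Subtype.val (v.2 ⟨y, Subgroup.mem_zpowers y⟩)
    exact (mul_inv_eq_iff_eq_mul.1 h).symm
  · rintro ⟨a, ha⟩
    obtain ⟨i, rfl⟩ := Subgroup.mem_zpowers_iff.1 ha
    refine Subtype.ext ?_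
    show y ^ i * v * (y ^ i)⁻¹ = v
    rw [((show Commute y (v : G) from
      (Subgroup.mem_centralizer_singleton_iff.1 v.2.2).symm).zpow_left i).eq, mul_inv_cancel_right]

theorem pow_two_cases' {a : G} (h : a * a = 1) (n : ℕ) : a ^ n = 1 ∨ a ^ n = a := by
  rcases Nat.mod_two_eq_zero_or_one n with e | e <;>
    rw [← Nat.mod_add_div n 2, pow_add, pow_mul, pow_two a, h, one_pow, mul_one, e]
  exacts [Or.inl (pow_zero a), Or.inr (pow_one a)]

theorem fixed_arith : (∀ f < 12, 2 ^ f % 7 = 4 → 2 ^ f % 5 = 2 ^ 11 % 5 → f = 11) ∧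
    (∀ f < 12, 2 ^ f % 7 = 4 → 2 ^ f % 11 = 2 ^ 11 % 11 → f = 11) ∧
    ∀ f < 12, 2 ^ f % 7 = 4 → 2 ^ f ≤ 4 → 2 ^ f = 4 := by decide

section Std

variable {J : Ctx M z π E} {g : ℕ → M} {vec : ℕ → G} {V : Subgroup G} (D : J.Std g vec V)
include D

/-- The fixed space in `V` of an element of order seven centralizing an element of the second class. -/
theorem fixed_seven {t s : G} (ht : IsD z V t) (hs : orderOf s = 7) (hst : s * t = t * s) :
    Nat.card ↥(V ⊓ Subgroup.centralizer ({s} : Set G)) = 4 ∧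
      ∀ w ∈ V ⊓ Subgroup.centralizer ({s} : Set G), w ≠ 1 → IsD z V w := by
  set W := V ⊓ Subgroup.centralizer ({s} : Set G) with hW
  have hsN := D.cent_le_normalizer ht hst
  have hD : ∀ w ∈ W, w ≠ 1 → IsD z V w := by
    rintro w ⟨hwV, hws⟩ h1
    refine ⟨hwV, h1, fun hzw => ?_⟩
    obtain ⟨k, rfl⟩ := isConj_iff.1 hzw
    obtain ⟨n, hn, hne⟩ := D.fuse D.isV.z_mem hwV
    set N := Subgroup.normalizer (V : Set G)
    have hs' : n⁻¹ * s * n ∈ N ⊓ Subgroup.centralizer ({z} : Set G) := by
      refine ⟨N.mul_mem (N.mul_mem (N.inv_mem hn) hsN) hn, Subgroup.mem_centralizer_singleton_iff.2 ?_⟩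
      have h := (Subgroup.mem_centralizer_singleton_iff.1 hws)
      rw [← hne] at h
      calc n⁻¹ * s * n * z = n⁻¹ * (s * (n * z * n⁻¹)) * n := by group
        _ = _ := by rw [← h]; group
    have h := Subgroup.orderOf_dvd_natCard _ hs'
    rw [D.card_normalizer_cent, show n⁻¹ * s * n = MulAut.conj n⁻¹ s by simp,
      MulEquiv.orderOf_eq, hs] at h
    norm_num at h
  refine ⟨?_, hD⟩
  have htW : t ∈ W := ⟨ht.1, Subgroup.mem_centralizer_singleton_iff.2 hst.symm⟩
  have hmod := card_inf_modEq (U := V) (by norm_num) (fun u hu => D.conj_mem hsN hu) hs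
  rw [D.isV.card] at hmod
  obtain ⟨f, hf, hfc⟩ := (Nat.dvd_prime_pow Nat.prime_two).1
    (show Nat.card W ∣ 2 ^ 11 from D.isV.card ▸ Subgroup.card_dvd_of_le inf_le_left)
  have hle : Nat.card W ≤ 4 := D.free_le inf_le_left (fun w hw hzw => (hD w hw (conj_ne_one J.z_ne hzw)).2.2 hzw)
    htW ht.2.1
  have hmod' : 2 ^ f % 7 = 4 := by rw [← hfc, ← hmod]; norm_num
  rw [hfc] at hle ⊢
  exact fixed_arith.2.2 f (by omega) hmod' hle

/-- No element of order three centralizes both. -/
theorem no_three (h3 : ∀ y : G, orderOf y = 3 → IsConj y π)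
    (hM7 : ∀ m n : M, orderOf m = 7 → n * m = m * n → n ∈ Subgroup.zpowers m)
    {t s y : G} (ht : IsD z V t) (hs : orderOf s = 7) (hst : s * t = t * s) (hyt : y * t = t * y)
    (hys : y * s = s * y) : orderOf y ≠ 3 := by
  intro hy
  obtain ⟨k, hk⟩ := isConj_iff.1 (h3 y hy)
  have hmem : ∀ {a : G}, a * y = y * a → k * a * k⁻¹ ∈ CZ z π := fun {a} ha =>
    D.full.hC.le (Subgroup.mem_centralizer_singleton_iff.2 (by
      rw [← hk]
      calc k * a * k⁻¹ * (k * y * k⁻¹) = k * (a * y) * k⁻¹ := by group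
        _ = _ := by rw [ha]; group))
  set t' : ↥(CZ z π) := ⟨k * t * k⁻¹, hmem hyt.symm⟩ with ht'
  set s' : ↥(CZ z π) := ⟨k * s * k⁻¹, hmem hys.symm⟩ with hs'
  haveI := Fact.mk (show Nat.Prime 7 by norm_num)
  have hs'7 : orderOf (J.proj s') = 7 := by
    refine orderOf_eq_prime ?_ fun e => ?_
    · rw [← map_pow, show s' ^ 7 = 1 from Subtype.ext (by
        rw [Subgroup.coe_pow, hs']
        show (k * s * k⁻¹) ^ 7 = 1
        rw [conj_pow, ← hs, pow_orderOf_eq_one]; group), map_one]
    · obtain ⟨v, -, hv, j, -, he⟩ := J.exists_pow' e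
      have hvc : Commute v (π ^ j) := by
        rcases hv with e | e <;> rw [e]
        exacts [Commute.one_left _, ((show Commute π z from J.piz).pow_left j).symm]
      have h6 : (s' : G) ^ 6 = 1 := by
        rw [he, hvc.mul_pow, ← pow_mul, show j * 6 = 3 * (2 * j) by ring, pow_mul, J.pi_pow_three, one_pow,
          mul_one]
        rcases hv with e | e <;> rw [e]
        · exact one_pow 6
        · rw [show 6 = 2 * 3 from rfl, pow_mul, pow_two, J.zz, one_pow]
      rw [hs'] at h6
      change (k * s * k⁻¹) ^ 6 = 1 at h6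
      rw [conj_pow, mul_inv_eq_one, mul_eq_left] at h6
      have := orderOf_dvd_of_pow_eq_one h6
      rw [hs] at this
      norm_num at this
  have hc : J.proj t' * J.proj s' = J.proj s' * J.proj t' := by
    rw [← map_mul, ← map_mul]
    congr 1
    refine Subtype.ext ?_
    show k * t * k⁻¹ * (k * s * k⁻¹) = k * s * k⁻¹ * (k * t * k⁻¹)
    calc k * t * k⁻¹ * (k * s * k⁻¹) = k * (t * s) * k⁻¹ := by group
      _ = _ := by rw [← hst]; group
  have ht2 : (t' : G) * t' = 1 := by
    show k * t * k⁻¹ * (k * t * k⁻¹) = 1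
    rw [show k * t * k⁻¹ * (k * t * k⁻¹) = k * (t * t) * k⁻¹ by group, D.isV.sq t ht.1]
    group
  obtain ⟨i, hi⟩ := Subgroup.mem_zpowers_iff.1 (hM7 _ _ hs'7 hc)
  have h1 : J.proj t' = 1 := by
    have h7 : (J.proj t') ^ 7 = 1 := by
      rw [← hi, ← zpow_natCast, ← zpow_mul, mul_comm, zpow_mul, zpow_natCast, ← hs'7, pow_orderOf_eq_one,
        one_zpow]
    have h2 : (J.proj t') ^ 2 = 1 := by
      rw [pow_two, ← map_mul, show t' * t' = 1 from Subtype.ext ht2, map_one]
    rw [show 7 = 2 * 3 + 1 from rfl, pow_succ, pow_mul, h2, one_pow, one_mul] at h7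
    exact h7
  rcases J.small_of_proj_one h1 (Or.inl ht2) with e | e
  · exact ht.2.1 (by
      have e' : k * t * k⁻¹ = 1 := e
      rw [mul_inv_eq_one, mul_eq_left] at e'
      exact e')
  · exact ht.2.2 ((isConj_conj_iff k).1 (by rw [show k * t * k⁻¹ = z from e]))

/-- An element of order five or eleven centralizing `t`, `s` and the four group is trivial. -/
theorem no_five {t s y : G} (ht : IsD z V t) (hs : orderOf s = 7) (hst : s * t = t * s)
    (hyt : y * t = t * y) (hys : y * s = s * y)
    (hyW : ∀ w ∈ V ⊓ Subgroup.centralizer ({s} : Set G), y * w = w * y) {p : ℕ} (hp : p = 5 ∨ p = 11) :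
    orderOf y ≠ p := by
  intro hy
  have hpp : p.Prime := by rcases hp with e | e <;> rw [e] <;> norm_num
  have hsN := D.cent_le_normalizer ht hst
  have hyN := D.cent_le_normalizer ht hyt
  set F := V ⊓ Subgroup.centralizer ({y} : Set G) with hF
  have h1 := card_inf_modEq (U := V) hpp (fun u hu => D.conj_mem hyN hu) hy
  have hsF : ∀ u ∈ F, s * u * s⁻¹ ∈ F := fun u hu =>
    ⟨D.conj_mem hsN hu.1, Subgroup.mem_centralizer_singleton_iff.2
      (((show Commute s y from hys.symm).mul_left
        (show Commute u y from Subgroup.mem_centralizer_singleton_iff.1 hu.2)).mul_left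
        (show Commute s y from hys.symm).inv_left).eq⟩
  have h2 := card_inf_modEq (U := F) (by norm_num) hsF hs
  have heq : F ⊓ Subgroup.centralizer ({s} : Set G) = V ⊓ Subgroup.centralizer ({s} : Set G) :=
    le_antisymm (fun v hv => ⟨hv.1.1, hv.2⟩)
      fun v hv => ⟨⟨hv.1, Subgroup.mem_centralizer_singleton_iff.2 (hyW v hv).symm⟩, hv.2⟩
  rw [heq, (fixed_seven D ht hs hst).1] at h2
  rw [D.isV.card] at h1
  obtain ⟨f, hf, hfc⟩ := (Nat.dvd_prime_pow Nat.prime_two).1
    (show Nat.card F ∣ 2 ^ 11 from D.isV.card ▸ Subgroup.card_dvd_of_le inf_le_left)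
  rw [hfc] at h1 h2
  have h11 : f = 11 := by
    rcases hp with e | e <;> rw [e] at h1
    · exact fixed_arith.1 f (by omega) h2 h1.symm
    · exact fixed_arith.2.1 f (by omega) h2 h1.symm
  have hFV : F = V := Subgroup.eq_of_le_of_card_ge inf_le_left (by rw [D.isV.card, hfc, h11])
  have hyV : y ∈ V := D.centralizer_le (Subgroup.mem_centralizer_iff.2 fun v hv =>
    Subgroup.mem_centralizer_singleton_iff.1 (hFV.ge hv).2)
  have := orderOf_dvd_of_pow_eq_one (show y ^ 2 = 1 by rw [pow_two]; exact D.isV.sq y hyV)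
  rw [hy] at this
  rcases hp with e | e <;> rw [e] at this <;> norm_num at this

/-- **The centralizer of an element of the second class and an element of order seven.** -/
theorem exists_second (h3 : ∀ y : G, orderOf y = 3 → IsConj y π)
    (hM7 : ∀ m n : M, orderOf m = 7 → n * m = m * n → n ∈ Subgroup.zpowers m)
    {t s r : G} (ht : IsD z V t) (hs : orderOf s = 7) (hst : s * t = t * s)
    (hr : r * r = 1) (hrt : r * t = t * r) (hrs : r * s = s * r) (hrz : IsConj z r)
    (hC : ∀ y : G, y * r = r * y → y * s = s * y → y * t = t * y →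
      ∃ i a c : ℕ, y = s ^ i * t ^ a * r ^ c) :
    ∃ x : G, x * x = 1 ∧ x * s = s * x ∧ x * t = t * x ∧ r * x * r = x * t ∧ ¬ IsConj z x ∧
      (∀ y : G, y * t = t * y → y * s = s * y → ∃ i a b c : ℕ, y = s ^ i * t ^ a * x ^ b * r ^ c) ∧
      ∀ y : G, y * x = x * y → y * s = s * y → y * t * y⁻¹ = t ∨ y * t * y⁻¹ = x * t := by
  haveI := Fact.mk Nat.prime_two
  set W := V ⊓ Subgroup.centralizer ({s} : Set G) with hW
  have hW4 : Nat.card W = 4 := (fixed_seven D ht hs hst).1
  have hWD : ∀ w ∈ W, w ≠ 1 → IsD z V w := (fixed_seven D ht hs hst).2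
  have hVab := D.isV.comm
  have hWsq : ∀ w ∈ W, w * w = 1 := fun w hw => D.isV.sq w hw.1
  have hWs : ∀ w ∈ W, w * s = s * w := fun w hw => Subgroup.mem_centralizer_singleton_iff.1 hw.2
  have htW : t ∈ W := ⟨ht.1, Subgroup.mem_centralizer_singleton_iff.2 hst.symm⟩
  have htt : t * t = 1 := D.isV.sq t ht.1
  have hr' : r⁻¹ = r := inv_eq_of_mul_eq_one_right hr
  have hrN := D.cent_le_normalizer ht hrt
  have hrW : r ∉ W := fun h => (hWD r h (conj_ne_one J.z_ne hrz)).2.2 hrz
  have hs7 : ∀ i : ℕ, (s ^ i) ^ 4 = 1 → s ^ i = 1 := fun i h => by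
    rw [← pow_mul] at h
    have h7 := orderOf_dvd_of_pow_eq_one h
    rw [hs] at h7
    exact orderOf_dvd_iff_pow_eq_one.1 (by
      rw [hs]; exact (Nat.Coprime.dvd_of_dvd_mul_right (by norm_num) h7))
  have hrconj : ∀ w ∈ W, r * w * r ∈ W := fun w hw => by
    have h : r * w * r⁻¹ ∈ W := ⟨D.conj_mem hrN hw.1, Subgroup.mem_centralizer_singleton_iff.2
      (((show Commute r s from hrs).mul_left (show Commute w s from hWs w hw)).mul_left
        (show Commute r s from hrs).inv_left).eq⟩
    rwa [hr'] at h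
  -- members of the four group commuting with `r`
  have hfix : ∀ w ∈ W, w * r = r * w → w = 1 ∨ w = t := by
    intro w hw hwr
    obtain ⟨i, a, c, he⟩ := hC w hwr (hWs w hw) (hVab w hw.1 t ht.1)
    have htW' : t ^ a ∈ W := W.pow_mem htW a
    have hrc : s ^ i * r ^ c ∈ W := by
      have e1 : Commute (t ^ a) (r ^ c) := ((show Commute r t from hrt).symm.pow_left a).pow_right c
      have e2 : s ^ i * r ^ c = w * (t ^ a)⁻¹ := by
        rw [he, mul_assoc, mul_assoc, ← e1.inv_left.eq, mul_inv_cancel_left]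
      rw [e2]
      exact W.mul_mem hw (W.inv_mem htW')
    have hsi : s ^ i = 1 := hs7 i (by
      have h4 : (s ^ i * r ^ c) ^ 4 = 1 := by
        rw [show 4 = 2 * 2 from rfl, pow_mul, pow_two (s ^ i * r ^ c), hWsq _ hrc, one_pow]
      rw [((show Commute s r from hrs.symm).pow_pow i c).mul_pow, ← pow_mul r, mul_comm c, pow_mul,
        show r ^ 4 = 1 by rw [show 4 = 2 * 2 from rfl, pow_mul, pow_two r, hr, one_pow], one_pow, mul_one] at h4
      exact h4)
    rw [hsi, one_mul] at hrc he
    rcases JFourLocal.pow_two_cases' hr c with e | e <;> rw [e] at hrc he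
    · rw [mul_one] at he
      rw [he]
      exact JFourLocal.pow_two_cases' htt a
    · exact absurd hrc hrW
  -- the element `x`
  obtain ⟨x, hxW, hx1, hxt⟩ : ∃ x ∈ W, x ≠ 1 ∧ x ≠ t := by
    by_contra hno
    push Not at hno
    have hsub : (W : Set G) ⊆ ↑({1, t} : Finset G) := fun w hw => by
      by_cases h1 : w = 1
      · simp [h1]
      · simp [hno w hw h1]
    have h := Set.ncard_le_ncard hsub (Finset.finite_toSet _)
    rw [Set.ncard_coe_finset, ← Nat.card_coe_set_eq] at h
    simp only [SetLike.coe_sort_coe, hW4] at h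
    have h2 : ({1, t} : Finset G).card ≤ 2 := Finset.card_le_two
    omega
  have hxtW : x * t ∈ W := W.mul_mem hxW htW
  have hWset : ∀ w ∈ W, w = 1 ∨ w = t ∨ w = x ∨ w = x * t := by
    have hxt1 : x * t ≠ 1 := fun e => hxt (by rw [eq_inv_of_mul_eq_one_left e, inv_eq_of_mul_eq_one_right htt])
    have hc : ({1, t, x, x * t} : Finset G).card = 4 := by
      rw [Finset.card_insert_of_notMem, Finset.card_insert_of_notMem, Finset.card_pair]
      · exact fun e => ht.2.1 (mul_eq_left.1 e.symm)
      · simp only [Finset.mem_insert, Finset.mem_singleton, not_or]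
        exact ⟨Ne.symm hxt, fun e => hx1 (mul_eq_right.1 e.symm)⟩
      · simp only [Finset.mem_insert, Finset.mem_singleton, not_or]
        exact ⟨Ne.symm ht.2.1, Ne.symm hx1, Ne.symm hxt1⟩
    have heq : (↑({1, t, x, x * t} : Finset G) : Set G) = (W : Set G) :=
      Set.eq_of_subset_of_ncard_le (by
        intro w hw
        simp only [Finset.coe_insert, Finset.coe_singleton, Set.mem_insert_iff, Set.mem_singleton_iff] at hw
        rcases hw with rfl | rfl | rfl | rfl
        exacts [W.one_mem, htW, hxW, hxtW]) (by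
        rw [Set.ncard_coe_finset, hc, ← Nat.card_coe_set_eq]
        simp only [SetLike.coe_sort_coe, hW4, le_refl]) (Set.toFinite _)
    intro w hw
    have : w ∈ (↑({1, t, x, x * t} : Finset G) : Set G) := heq ▸ hw
    simpa using this
  have hxr : r * x * r = x * t := by
    rcases hWset _ (hrconj x hxW) with e | e | e | e
    · refine absurd ?_ hx1
      calc x = r * r * x * (r * r) := by rw [hr]; group
        _ = r * (r * x * r) * r := by group
        _ = 1 := by rw [e, mul_one, hr]
    · refine absurd ?_ hxt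
      calc x = r * r * x * (r * r) := by rw [hr]; group
        _ = r * (r * x * r) * r := by group
        _ = t := by rw [e, hrt, mul_assoc, hr, mul_one]
    · exfalso
      rcases hfix x hxW (by
        calc x * r = r * x * r * r := by rw [e]
          _ = r * x := by rw [mul_assoc, hr, mul_one]) with k | k
      exacts [hx1 k, hxt k]
    · exact e
  have hxD := hWD x hxW hx1
  have hrx : x * r ≠ r * x := fun h => by
    rcases hfix x hxW h with k | k
    exacts [hx1 k, hxt k]
  -- the pointwise centralizer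
  set K := Subgroup.centralizer (W : Set G) ⊓ Subgroup.centralizer ({s} : Set G) with hK
  have hKW : ∀ k ∈ K, ∀ w ∈ W, k * w = w * k := fun k hk w hw =>
    (Subgroup.mem_centralizer_iff.1 hk.1 w hw).symm
  have hKs : ∀ k ∈ K, k * s = s * k := fun k hk => Subgroup.mem_centralizer_singleton_iff.1 hk.2
  have hmemK : ∀ {k : G}, k * t = t * k → k * x = x * k → k * s = s * k → k ∈ K := fun {k} h1 h2 h3' =>
    ⟨Subgroup.mem_centralizer_iff.2 fun w hw => by
      rcases hWset w hw with e | e | e | e <;> rw [e]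
      · rw [one_mul, mul_one]
      · exact h1.symm
      · exact h2.symm
      · exact ((show Commute k x from h2).mul_right (show Commute k t from h1)).eq.symm,
     Subgroup.mem_centralizer_singleton_iff.2 h3'⟩
  have hsK : s ∈ K := hmemK hst (hWs x hxW).symm rfl
  have hWK : W ≤ K := fun w hw => hmemK (hVab w hw.1 t ht.1) (hVab w hw.1 x hxW.1) (hWs w hw)
  have hrK : r ∉ K := fun h => hrx (hKW r h x hxW).symm
  obtain ⟨a, hKc⟩ : ∃ a, Nat.card K = 7 * 2 ^ a := by
    have hle : K ≤ Subgroup.centralizer ({t} : Set G) := fun k hk =>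
      Subgroup.mem_centralizer_singleton_iff.2 (hKW k hk t htW)
    have hd := Subgroup.card_dvd_of_le hle
    rw [D.card_cent ht] at hd
    have h7 : 7 ∣ Nat.card K := hs ▸ Subgroup.orderOf_dvd_natCard _ hsK
    have hq : ∀ q : ℕ, q = 3 ∨ q = 5 ∨ q = 11 → ¬ q ∣ Nat.card K := by
      intro q hq h
      haveI := Fact.mk (show q.Prime by rcases hq with e | e | e <;> rw [e] <;> norm_num)
      obtain ⟨y, hy⟩ := exists_prime_orderOf_dvd_card' (G := ↥K) q h
      rw [← Subgroup.orderOf_coe] at hy
      rcases hq with e | e | e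
      · exact no_three D h3 hM7 ht hs hst (hKW y y.2 t htW) (hKs y y.2) (hy.trans e)
      · exact no_five D ht hs hst (hKW y y.2 t htW) (hKs y y.2) (hKW y y.2) (Or.inl e) hy
      · exact no_five D ht hs hst (hKW y y.2 t htW) (hKs y y.2) (hKW y y.2) (Or.inr e) hy
    rw [show 2 ^ 11 * 887040 = 7 * 2 ^ 19 * (3 ^ 2 * 5 * 11) by norm_num] at hd
    have hco : Nat.Coprime (Nat.card K) (3 ^ 2 * 5 * 11) := by
      refine Nat.Coprime.mul_right (Nat.Coprime.mul_right (Nat.Coprime.pow_right 2 ?_) ?_) ?_
      all_goals refine ((Nat.Prime.coprime_iff_not_dvd (by norm_num)).2 (hq _ ?_)).symm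
      exacts [Or.inl rfl, Or.inr (Or.inl rfl), Or.inr (Or.inr rfl)]
    obtain ⟨m, hm⟩ := h7
    have hd' := hco.dvd_of_dvd_mul_right hd
    rw [hm] at hd'
    obtain ⟨a, -, rfl⟩ := (Nat.dvd_prime_pow Nat.prime_two).1 (Nat.dvd_of_mul_dvd_mul_left (by norm_num) hd')
    exact ⟨a, hm⟩
  -- the subgroup `zpowers s × W`
  set sK : ↥K := ⟨s, hsK⟩
  set A := Subgroup.zpowers sK
  set B := W.subgroupOf K
  haveI : A.Normal := ⟨fun y hy k => by
    obtain ⟨n, rfl⟩ := Subgroup.mem_zpowers_iff.1 hy
    have h : Commute k sK := Subtype.ext (hKs k k.2)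
    rw [(h.zpow_right n).eq, mul_inv_cancel_right]
    exact hy⟩
  haveI : B.Normal := ⟨fun y hy k => by
    rw [show k * y * k⁻¹ = y by rw [show k * y = y * k from Subtype.ext (hKW k k.2 y hy), mul_inv_cancel_right]]
    exact hy⟩
  set K0 := A ⊔ B with hK0
  have hmem0 : ∀ k ∈ K0, ∃ i : ℕ, ∃ w ∈ W, (k : G) = s ^ i * w := by
    intro k hk
    rw [hK0, ← SetLike.mem_coe, Subgroup.mul_normal] at hk
    obtain ⟨p, hp, q, hq, rfl⟩ := hk
    obtain ⟨i, hi⟩ := (isOfFinOrder_of_finite sK).mem_powers_iff_mem_zpowers.2 hp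
    exact ⟨i, q, hq, by rw [← hi]; rfl⟩
  have hin0 : ∀ {k : ↥K} (i : ℕ) {w : G}, w ∈ W → (k : G) = s ^ i * w → k ∈ K0 := fun {k} i {w} hw e => by
    rw [show k = sK ^ i * ⟨w, hWK hw⟩ from Subtype.ext (by rw [e]; rfl)]
    exact K0.mul_mem (Subgroup.mem_sup_left (A.pow_mem (Subgroup.mem_zpowers sK) i))
      (Subgroup.mem_sup_right (show (⟨w, hWK hw⟩ : ↥K) ∈ B from hw))
  have hrKconj : ∀ k ∈ K, r * k * r ∈ K := fun k hk => by
    have hcc : ∀ {w : G}, w ∈ W → (r * k * r) * w = w * (r * k * r) := fun {w} hw => by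
      have h := hKW k hk _ (hrconj w hw)
      calc r * k * r * w = r * (k * (r * w * r)) * r⁻¹ := by group
        _ = r * (r * w * r * k) * r⁻¹ := by rw [h]
        _ = (r * r) * w * (r * k * r⁻¹) := by group
        _ = _ := by rw [hr, one_mul, hr']
    exact hmemK (hcc htW) (hcc hxW) (((show Commute r s from hrs).mul_left (show Commute k s from hKs k hk)
      |>.mul_left (show Commute r s from hrs)).eq)
  -- a fixed coset lies in the subgroup
  have hkey : ∀ k : ↥K, k⁻¹ * ⟨r * k * r, hrKconj k k.2⟩ ∈ K0 → k ∈ K0 := by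
    intro k hk
    obtain ⟨i, w, hw, he⟩ := hmem0 _ hk
    have he' : r * (k : G) * r = k * (s ^ i * w) := by
      have e : (k : G)⁻¹ * (r * k * r) = s ^ i * w := he
      rw [← e, mul_inv_cancel_left]
    have hd : s ^ i * w * (r * (s ^ i * w) * r) = 1 := by
      have h2 : (k : G) = k * (s ^ i * w * (r * (s ^ i * w) * r)) := by
        calc (k : G) = r * r * k * (r * r) := by rw [hr]; group
          _ = r * (r * k * r) * r := by group
          _ = r * (k * (s ^ i * w)) * r := by rw [he']
          _ = r * k * r * (r * (s ^ i * w) * r) := by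
            rw [show r * (k : G) * r * (r * (s ^ i * w) * r) = r * k * (r * r) * (s ^ i * w) * r by group,
              hr, mul_one]
            group
          _ = _ := by rw [he']; group
      exact mul_eq_left.1 h2.symm
    have hsc : r * s ^ i = s ^ i * r := ((show Commute r s from hrs).pow_right i).eq
    have hw' : r * w * r ∈ W := hrconj w hw
    have hd' : s ^ i * s ^ i * (w * (r * w * r)) = 1 := by
      rw [← hd, ← mul_assoc r, hsc, show s ^ i * w * (s ^ i * r * w * r) = s ^ i * (w * s ^ i) * (r * w * r) by group,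
        ((show Commute w s from hWs w hw).pow_right i).eq]
      group
    have hsi : s ^ i = 1 := hs7 i (by
      have e : s ^ i * s ^ i = (w * (r * w * r))⁻¹ := eq_inv_of_mul_eq_one_left hd'
      rw [show 4 = 2 * 2 from rfl, pow_mul, pow_two (s ^ i), e, inv_pow, pow_two,
        hWsq _ (W.mul_mem hw hw'), inv_one])
    rw [hsi, one_mul, one_mul] at hd'
    rw [hsi, one_mul] at he'
    have hrw : w * r = r * w := by
      have e : w = r * w * r := by rw [← inv_eq_of_mul_eq_one_right hd', inv_eq_of_mul_eq_one_right (hWsq w hw)]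
      calc w * r = r * w * r * r := by rw [← e]
        _ = r * w := by rw [mul_assoc, hr, mul_one]
    have hcase : ∃ k' : G, k' * r = r * k' ∧ k' ∈ K ∧ ∃ v ∈ W, (k : G) = k' * v := by
      rcases hfix w hw hrw with e | e
      · refine ⟨k, ?_, k.2, 1, W.one_mem, (mul_one _).symm⟩
        rw [e, mul_one] at he'
        calc (k : G) * r = r * k * r * r := by rw [he']
          _ = r * k := by rw [mul_assoc, hr, mul_one]
      · rw [e] at he'
        refine ⟨k * x, ?_, K.mul_mem k.2 (hWK hxW), x, hxW, by rw [mul_assoc, hWsq x hxW, mul_one]⟩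
        have e2 : r * ((k : G) * x) * r = k * x := by
          calc r * ((k : G) * x) * r = r * k * r * (r * x * r) := by
                rw [show r * (k : G) * r * (r * x * r) = r * k * (r * r) * x * r by group, hr, mul_one]; group
            _ = (k : G) * (t * (x * t)) := by rw [he', hxr]; group
            _ = k * x := by rw [hVab x hxW.1 t ht.1, ← mul_assoc t, htt, one_mul]
        calc (k : G) * x * r = r * ((k : G) * x) * r * r := by rw [e2]
          _ = r * ((k : G) * x) := by rw [mul_assoc, hr, mul_one]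
    obtain ⟨k', hk'r, hk'K, v, hv, hkv⟩ := hcase
    obtain ⟨i, a', c, he⟩ := hC k' hk'r (hKs _ hk'K) (hKW _ hk'K t htW)
    rcases JFourLocal.pow_two_cases' hr c with e | e <;> rw [e] at he
    · refine hin0 i (W.mul_mem (W.pow_mem htW a') hv) ?_
      rw [hkv, he, mul_one, mul_assoc]
    · refine absurd ?_ hrK
      have := K.mul_mem (K.inv_mem (K.mul_mem (K.pow_mem hsK i) (K.pow_mem (hWK htW) a'))) hk'K
      rwa [he, inv_mul_cancel_left] at this
  -- there is nothing else
  have hall : ∀ k : ↥K, k ∈ K0 := by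
    by_contra hno
    push Not at hno
    obtain ⟨k1, hk1⟩ := hno
    letI := Fintype.ofFinite (↥K ⧸ K0)
    let ρ : ↥K →* ↥K :=
      { toFun := fun k => ⟨r * k * r, hrKconj k k.2⟩
        map_one' := Subtype.ext (by show r * 1 * r = 1; rw [mul_one, hr])
        map_mul' := fun k l => Subtype.ext (by
          show r * ((k : G) * l) * r = r * k * r * (r * l * r)
          rw [show r * (k : G) * r * (r * l * r) = r * k * (r * r) * l * r by group, hr, mul_one]
          group) }
    have hρ0 : K0 ≤ K0.comap ρ := by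
      intro k hk
      obtain ⟨i, w, hw, he⟩ := hmem0 k hk
      refine hin0 i (hrconj w hw) ?_
      show r * (k : G) * r = _
      rw [he, ← mul_assoc r, ((show Commute r s from hrs).pow_right i).eq]
      group
    let σ0 := QuotientGroup.map K0 K0 ρ hρ0
    have hσ2 : ∀ q, σ0 (σ0 q) = q := by
      intro q
      induction q using QuotientGroup.induction_on with
      | H k =>
        simp only [σ0, QuotientGroup.map_mk]
        refine congrArg QuotientGroup.mk (Subtype.ext ?_)
        show r * (r * (k : G) * r) * r = k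
        rw [show r * (r * (k : G) * r) * r = r * r * k * (r * r) by group, hr, one_mul, mul_one]
    let σ : Equiv.Perm (↥K ⧸ K0) := ⟨σ0, σ0, hσ2, hσ2⟩
    have hσp : σ ^ 2 ^ 1 = 1 := Equiv.ext fun q => by
      rw [pow_one, pow_two, Equiv.Perm.mul_apply]
      exact hσ2 q
    have hcard : 2 ∣ Fintype.card (↥K ⧸ K0) := by
      have h7 : 7 ∣ Nat.card K0 := by
        have h0 := Subgroup.orderOf_dvd_natCard K0 (hin0 (k := sK) 1 W.one_mem (by simp [sK]))
        rwa [← Subgroup.orderOf_coe sK, show ((sK : ↥K) : G) = s from rfl, hs] at h0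
      have h := K0.card_eq_card_quotient_mul_card_subgroup
      rw [hKc] at h
      obtain ⟨m, hm⟩ := h7
      rw [hm] at h
      have h' : Nat.card (↥K ⧸ K0) * m = 2 ^ a := by
        refine Nat.eq_of_mul_eq_mul_left (show 0 < 7 by norm_num) ?_
        rw [h]; ring
      obtain ⟨b, -, hb⟩ := (Nat.dvd_prime_pow Nat.prime_two).1 (Dvd.intro m h')
      rw [← Nat.card_eq_fintype_card, hb]
      refine dvd_pow_self 2 fun hb0 => hk1 ?_
      rw [hb0, pow_zero] at hb
      exact (QuotientGroup.eq_one_iff k1).1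
        ((Finite.card_le_one_iff_subsingleton.1 hb.le).elim _ _)
    obtain ⟨q, hq, hq1⟩ := Equiv.Perm.exists_fixed_point_of_prime' (p := 2) (n := 1) hcard hσp
      (a := (1 : ↥K ⧸ K0)) (map_one σ0)
    induction q using QuotientGroup.induction_on with
    | H k =>
      exact hq1 ((QuotientGroup.eq_one_iff k).2 (hkey k (QuotientGroup.eq.1 hq.symm)))
  -- the centralizer of `t` and `s`
  refine ⟨x, hWsq x hxW, hWs x hxW, hVab x hxW.1 t ht.1, hxr, hxD.2.2, fun y hyt hys => ?_,
    fun y hyx hys => ?_⟩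
  · have hyN := D.cent_le_normalizer ht hyt
    have hys' : Commute y s := hys
    have hyxW : y * x * y⁻¹ ∈ W := ⟨D.conj_mem hyN hxW.1, Subgroup.mem_centralizer_singleton_iff.2
      ((hys'.mul_left (show Commute x s from hWs x hxW)).mul_left hys'.inv_left).eq⟩
    have hlist : ∀ k ∈ K, ∃ i a b : ℕ, k = s ^ i * t ^ a * x ^ b := by
      intro k hk
      obtain ⟨i, w, hw, he⟩ := hmem0 ⟨k, hk⟩ (hall _)
      change k = s ^ i * w at he
      rcases hWset w hw with e | e | e | e <;> rw [e] at he
      · exact ⟨i, 0, 0, by simp [he]⟩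
      · exact ⟨i, 1, 0, by rw [he, pow_one, pow_zero, mul_one]⟩
      · exact ⟨i, 0, 1, by rw [he, pow_zero, pow_one, mul_one]⟩
      · exact ⟨i, 1, 1, by rw [he, pow_one, pow_one, hVab x hxW.1 t ht.1, mul_assoc]⟩
    rcases hWset _ hyxW with e | e | e | e
    · exact absurd (by rw [mul_inv_eq_one, mul_eq_left] at e; exact e) hx1
    · refine absurd ?_ hxt
      calc x = y⁻¹ * (y * x * y⁻¹) * y := by group
        _ = y⁻¹ * (t * y) := by rw [e, mul_assoc]
        _ = t := by rw [← hyt, inv_mul_cancel_left]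
    · obtain ⟨i, a, b, he⟩ := hlist y (hmemK hyt (mul_inv_eq_iff_eq_mul.1 e) hys)
      exact ⟨i, a, b, 0, by rw [he, pow_zero, mul_one]⟩
    · have hryx : r * y * x = x * (r * y) := by
        calc r * y * x = r * (y * x * y⁻¹) * y := by group
          _ = r * (x * t) * y := by rw [e]
          _ = r * x * r * (r * t) * y := by
            rw [← mul_assoc (r * x * r), mul_assoc (r * x), hr, mul_one]; group
          _ = x * (r * y) := by
            rw [hxr, hrt, mul_assoc x t, ← mul_assoc t t, htt, one_mul, mul_assoc]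
      obtain ⟨i, a, b, he⟩ := hlist (r * y)
        (hmemK ((show Commute r t from hrt).mul_left hyt).eq hryx ((show Commute r s from hrs).mul_left hys').eq)
      have hy : y = r * (s ^ i * t ^ a * x ^ b) := by rw [← he, ← mul_assoc, hr, one_mul]
      have hc1 : r * (s ^ i * t ^ a) = s ^ i * t ^ a * r :=
        (((show Commute r s from hrs).pow_right i).mul_right ((show Commute r t from hrt).pow_right a)).eq
      rcases JFourLocal.pow_two_cases' (hWsq x hxW) b with eb | eb <;> rw [eb] at hy
      · exact ⟨i, a, 0, 1, by rw [hy, pow_zero, pow_one, mul_one]; exact hc1⟩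
      · refine ⟨i, a + 1, 1, 1, ?_⟩
        rw [hy, pow_one, pow_one, ← mul_assoc, hc1, pow_succ]
        calc s ^ i * t ^ a * r * x = s ^ i * t ^ a * (r * x * r) * r := by
              rw [mul_assoc _ (r * x * r) r, mul_assoc (r * x), hr, mul_one]; group
          _ = s ^ i * t ^ a * (x * t) * r := by rw [hxr]
          _ = _ := by rw [hVab x hxW.1 t ht.1]; group
  · have hyN := D.cent_le_normalizer hxD hyx
    have hys' : Commute y s := hys
    have hytW : y * t * y⁻¹ ∈ W := ⟨D.conj_mem hyN ht.1, Subgroup.mem_centralizer_singleton_iff.2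
      ((hys'.mul_left (show Commute t s from hst.symm)).mul_left hys'.inv_left).eq⟩
    rcases hWset _ hytW with e | e | e | e
    · exact absurd (by rw [mul_inv_eq_one, mul_eq_left] at e; exact e) ht.2.1
    · exact Or.inl e
    · refine absurd ?_ hxt
      symm
      calc t = y⁻¹ * (y * t * y⁻¹) * y := by group
        _ = y⁻¹ * (x * y) := by rw [e, mul_assoc]
        _ = x := by rw [← hyx, inv_mul_cancel_left]
    · exact Or.inr e

end Std

end CfsgLib.JFourLocal
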