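import Cfsg.Agent.Lib.JFourLocal.SevenGroup
import Cfsg.Agent.Lib.JFourLocal.SevenH
import Cfsg.Agent.Lib.JFourLocal.SevenV
import Cfsg.Agent.Lib.JFourLocal.OuterData
import Cfsg.Agent.Lib.JFour.Three

/-!
# A subgroup of order seven of `C(z)` with the pattern of centralizers
-/

set_option autoImplicit false
set_option maxRecDepth 100000
set_option linter.style.haveILetI false
set_option linter.unusedSectionVars false

open Cfsg

namespace CfsgLib.JFourLocal

open CfsgLib.JFour CfsgLib.JFour.Ctx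

variable {G : Type*} [Group G] [Finite G]

/-- The pattern is preserved by conjugation with an element commuting with `z`. -/
theorem Seven.map {z π s u x : G} (S : Seven z π s u x) {c : G} (hc : c * z = z * c) :
    Seven z (c * π * c⁻¹) (c * s * c⁻¹) (c * u * c⁻¹) (c * x * c⁻¹) := by
  set φ : G ≃* G := MulAut.conj c with hφ
  have e : ∀ y, c * y * c⁻¹ = φ y := fun y => rfl
  have hz : φ z = z := by rw [← e, hc, mul_inv_cancel_right]
  have hcm : ∀ {a b : G}, a * b = b * a → φ a * φ b = φ b * φ a := fun h => by rw [← map_mul, h, map_mul]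
  have hcj : ∀ {y : G}, IsConj z (φ y) → IsConj z y := fun h =>
    h.trans (isConj_iff.2 ⟨c⁻¹, by rw [← e]; group⟩)
  simp only [e]
  exact
    { zz := S.zz
      z1 := S.z1
      s7 := φ.orderOf_eq s ▸ S.s7
      p3 := by rw [← map_pow, S.p3, map_one]
      p1 := fun h => S.p1 (φ.injective (h.trans (map_one φ).symm))
      uu := by rw [← map_mul, S.uu, map_one]
      xx := by rw [← map_mul, S.xx, map_one]
      zs := by rw [← hz]; exact hcm S.zs
      ps := hcm S.ps
      us := hcm S.us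
      xs := hcm S.xs
      uz := by rw [← hz]; exact hcm S.uz
      pz := by rw [← hz]; exact hcm S.pz
      up := by rw [← map_mul, ← map_mul, S.up, map_inv]
      xt := by rw [← hz, ← map_mul]; exact hcm S.xt
      zx := by rw [← hz, ← map_mul, ← map_mul, ← map_mul, ← map_mul, S.zx]
      nt := fun h => S.nt (hcj (by rwa [map_mul, hz]))
      nx := fun h => S.nx (hcj h)
      cz := fun y hy hys => by
        obtain ⟨i, j, k, l, he⟩ := S.cz (φ.symm y) (φ.injective (by simp [hz, hy]))
          (φ.injective (by simp [hys]))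
        refine ⟨i, j, k, l, ?_⟩
        rw [← φ.apply_symm_apply y, he, map_mul, map_mul, map_mul, map_pow, map_pow, map_pow, map_pow, hz]
      ct := fun y hy hys => by
        obtain ⟨i, a, b, l, he⟩ := S.ct (φ.symm y) (φ.injective (by simp [hz, hy]))
          (φ.injective (by simp [hys]))
        refine ⟨i, a, b, l, ?_⟩
        rw [← φ.apply_symm_apply y, he, map_mul, map_mul, map_mul, map_pow, map_pow, map_pow, map_pow,
          map_mul, hz]
      cx := fun y hy hys => by
        rcases S.cx (φ.symm y) (φ.injective (by simp [hy])) (φ.injective (by simp [hys])) with h | h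
        · exact Or.inl (by have := congrArg φ h; simpa [hz] using this)
        · exact Or.inr (by have := congrArg φ h; simpa [hz] using this)
      cp := fun y hy => by
        have h := congrArg φ (S.cp (φ.symm y) (φ.injective (by simp [hy])))
        simpa [hz] using h }

/-- An involution of `C(z, π)` not conjugate to `z` is conjugate to `w * z`. -/
theorem conj_wz {M : Type*} [Group M] [Finite M] {z π : G} {E : Subgroup G} (J : Ctx M z π E)
    (F : JFour.Small M) {w h : G} (hw : w ∈ CZ z π) (hwne : w ≠ z) (hh : h * z * h⁻¹ = w)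
    {c : ↥(CZ z π)} (hc2 : (c : G) * c = 1) (hc1 : J.proj c ≠ 1) (hnc : ¬ IsConj z (c : G)) :
    IsConj (c : G) (w * z) := by
  have hw2 : w * w = 1 := by
    rw [← hh, show h * z * h⁻¹ * (h * z * h⁻¹) = h * (z * z) * h⁻¹ by group, J.zz]; group
  have hw1 : J.proj ⟨w, hw⟩ ≠ 1 := fun e => by
    rcases J.small_of_proj_one e (Or.inl hw2) with k | k
    · change w = 1 at k
      rw [k, mul_inv_eq_one] at hh
      exact J.z_ne (mul_eq_left.1 hh)
    · exact hwne k
  have ho : ∀ {t : ↥(CZ z π)}, (t : G) * t = 1 → J.proj t ≠ 1 → orderOf (J.proj t) = 2 := fun {t} ht2 ht =>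
    orderOf_eq_prime (by rw [pow_two, ← map_mul, show t * t = 1 from Subtype.ext ht2, map_one]) ht
  obtain ⟨m, hm⟩ := isConj_iff.1 (F.invol_conj _ _ (ho hc2 hc1) (ho hw2 hw1))
  obtain ⟨d, rfl⟩ := J.proj_surj m
  have hd2 : ((d * c * d⁻¹ : ↥(CZ z π)) : G) * (d * c * d⁻¹ : ↥(CZ z π)) = 1 := by
    calc _ = (d : G) * ((c : G) * c) * (d : G)⁻¹ := by simp only [Subgroup.coe_mul, InvMemClass.coe_inv]; group
      _ = 1 := by rw [hc2]; group
  have hwz : w * z = z * w := (mem_CZ.1 hw).1
  rcases J.lift_unique (c := (⟨w, hw⟩ : ↥(CZ z π))) hw2 hd2 (by rw [map_mul, map_mul, map_inv, hm]) with k | k <;>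
    simp only [Subgroup.coe_mul, InvMemClass.coe_inv] at k
  · exact absurd (((isConj_iff.2 ⟨h, hh⟩).trans (isConj_iff.2 ⟨(d : G), k⟩).symm)) hnc
  · exact isConj_iff.2 ⟨(d : G), by rw [k, hwz]⟩

variable [IsSimpleGroup G]

/-- **A subgroup of order seven with the pattern, and the other ones.** -/
theorem exists_seven (hG : ¬ IsMulCommutative G) {z : G} (hJ : IsOfJankoFourTypeAt z) {s' : G}
    (hs' : orderOf s' = 7) (hs'z : s' * z = z * s') :
    ∃ (π s u x : G), Seven z π s u x ∧ s' ∈ Subgroup.zpowers s ∧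
      (∀ y : G, y * z = z * y → y * s * y⁻¹ ≠ s⁻¹) ∧ ∃ n : G, n * z = z * n ∧ n * s * n⁻¹ = s ^ 2 := by
  classical
  haveI := Fact.mk Nat.prime_two
  obtain ⟨P, hP⟩ := hJ
  obtain ⟨π, -, J, g, vec, S⟩ := exists_full hG hP
  set E := twoCoreOfCentralizer z with hE
  have hU := unique11_of_type (G := G) ⟨z, P, hP⟩
  obtain ⟨V, hV⟩ := S.exists_isV
  have D : J.Std g vec V := ⟨S, hV, hU⟩
  have F := D.small
  obtain ⟨a, b, PR, -, w, h, hw, hwne, hh, hha⟩ := D.full.fus
  obtain ⟨sM, tM, α, hsM, hcM, hrM, htM, hαs, hαt, hαα, hα⟩ := OuterData.exists_aut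
  have SF := seven_facts F hsM hcM hrM
  have hidx : (MulAut.conj : ↥Cfsg.Spor.M22 →* MulAut ↥Cfsg.Spor.M22).range.index = 2 := by
    rw [Subgroup.index_eq_card]
    exact Cfsg.Agent.S2062.result
  obtain ⟨s0, u, hs0, -, -, -, huz, hu2, hup, hua, hus⟩ :=
    exists_outer_seven J F PR hidx hsM hcM hrM htM hαs hαt hαα hα
  obtain ⟨huu, htypes⟩ := outer_types J F D.full.hC PR hw hwne hh hha huz hu2 hup hua
  -- choose the one conjugate to `z`
  obtain ⟨v, hvz, hvv, hvp, hvs, hnt, g₂, hg₂⟩ : ∃ v : G, v * z = z * v ∧ v * v = 1 ∧ v * π * v⁻¹ = π⁻¹ ∧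
      v * (s0 : G) = (s0 : G) * v ∧ ¬ IsConj z (z * v) ∧ ∃ g₂ : G, g₂ * (w * z) * g₂⁻¹ = z * v := by
    have hwzn := not_conj_wz J F D.full.T D.full.hC D.full.hdim PR hw hwne hh hha
    have hn : ∀ {y g₂ : G}, g₂ * (w * z) * g₂⁻¹ = y → ¬ IsConj z y := fun {y g₂} he hc => by
      obtain ⟨k, hk⟩ := isConj_iff.1 (hc.trans (isConj_iff.2 ⟨g₂, he⟩).symm)
      exact hwzn k hk
    rcases htypes with ⟨g₁, g₂, -, h2⟩ | ⟨g₁, g₂, -, h2⟩
    · rw [huz] at h2
      exact ⟨u, huz, huu, hup, hus, hn h2, g₂, h2⟩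
    · refine ⟨z * u, ?_, ?_, ?_, ?_, ?_, g₂, ?_⟩
      · rw [mul_assoc, huz, ← mul_assoc]
      · rw [show z * u * (z * u) = z * (u * z) * u by group, huz, ← mul_assoc z, J.zz, one_mul, huu]
      · calc z * u * π * (z * u)⁻¹ = z * (u * π * u⁻¹) * z⁻¹ := by group
          _ = z * π⁻¹ * z⁻¹ := by rw [hup]
          _ = π⁻¹ := by
            rw [((show Commute π z from J.piz).inv_left).symm.eq, mul_inv_cancel_right]
      · exact ((show Commute z (s0 : G) from (mem_CZ.1 s0.2).1.symm).mul_left hus).eq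
      · rw [show z * (z * u) = u by rw [← mul_assoc, J.zz, one_mul]]; exact hn h2
      · rw [show z * (z * u) = u by rw [← mul_assoc, J.zz, one_mul]]; exact h2
  -- the element of the second class in `V`
  obtain ⟨t0, ht0, k, hk⟩ : ∃ t0, IsD z V t0 ∧ ∃ k : G, k * t0 * k⁻¹ = z * v := by
    obtain ⟨y, hy, hy1⟩ : ∃ y ∈ hexK g, y ≠ 1 := by
      refine SetLike.not_le_iff_exists.1 (show ¬ hexK g ≤ (⊥ : Subgroup ↥Cfsg.Spor.M22) from fun hle => ?_)
        |>.imp fun y hy => ⟨hy.1, fun e => hy.2 (e ▸ Subgroup.one_mem _)⟩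
      have := Subgroup.card_le_of_le hle
      rw [D.hexK_card_eq.1, Subgroup.card_bot] at this
      norm_num at this
    obtain ⟨c, hc, hc2⟩ := J.exists_lift_invol F (D.full.hexK_sq y hy)
    have hcV := hV.lift c hc2 (hc ▸ hy)
    have hc1 : J.proj c ≠ 1 := hc ▸ hy1
    have hzc : z * (c : G) = ((⟨z, J.z_mem_CZ⟩ * c : ↥(CZ z π)) : G) := rfl
    obtain ⟨c', hc'2, hc'1, hc'n, hc'V⟩ : ∃ c' : ↥(CZ z π), (c' : G) * c' = 1 ∧ J.proj c' ≠ 1 ∧
        ¬ IsConj z (c' : G) ∧ (c' : G) ∈ V := by
      rcases D.z_or_zc hc2 hc1 with q | q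
      · refine ⟨⟨z, J.z_mem_CZ⟩ * c, ?_, ?_, q.2, V.mul_mem hV.z_mem hcV⟩
        · show z * (c : G) * (z * c) = 1
          rw [show z * (c : G) * (z * c) = z * ((c : G) * z) * c by group, (mem_CZ.1 c.2).1, ← mul_assoc z, J.zz,
            one_mul, hc2]
        · rw [map_mul, J.proj_z, one_mul]; exact hc1
      · exact ⟨c, hc2, hc1, q.2, hcV⟩
    have h1 : (c' : G) ≠ 1 := fun e => hc'1 (by rw [show c' = 1 from Subtype.ext e, map_one])
    obtain ⟨k, hk⟩ := isConj_iff.1 ((conj_wz J F hw hwne hh hc'2 hc'1 hc'n).trans (isConj_iff.2 ⟨g₂, hg₂⟩))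
    exact ⟨c', ⟨hc'V, h1, hc'n⟩, k, hk⟩
  -- the pattern of the centralizer of `s0`
  obtain ⟨x, hS⟩ : ∃ x : G, Seven z π (s0 : G) v x := by
    have hvi : v⁻¹ = v := inv_eq_of_mul_eq_one_right hvv
    have hvp' : v * π * v = π⁻¹ := by rw [hvi] at hvp; exact hvp
    have hs0z := (mem_CZ.1 s0.2).1
    have hs0p := (mem_CZ.1 s0.2).2
    have hp1 := J.pi1
    have hp3 : π ^ 3 = 1 := J.pi_pow_three
    -- back to `V`
    set ψ : G ≃* G := MulAut.conj k⁻¹ with hψ
    have hψt : ψ (z * v) = t0 := by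
      rw [← hk, hψ, MulAut.conj_apply]; group
    have hz3 : ∀ y : G, orderOf y = 3 → IsConj y π := fun y hy => one_class_three hG ⟨z, P, hP⟩ y π hy
      (haveI := Fact.mk Nat.prime_three; orderOf_eq_prime hp3 hp1)
    obtain ⟨x', hxx, hxs, hxt, hrx, hnx, hct, hcx⟩ := exists_second D hz3 SF.cent (t := t0) (s := ψ s0)
      (r := ψ z) ht0 (by rw [ψ.orderOf_eq]; exact hs0)
      (by rw [← hψt, ← map_mul, ← map_mul]; exact congrArg ψ ((show Commute (s0 : G) z from hs0z).mul_right (show Commute (s0 : G) v from hvs.symm)).eq)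
      (by rw [← map_mul, J.zz, map_one])
      (by rw [← hψt, ← map_mul, ← map_mul]; exact congrArg ψ ((Commute.refl z).mul_right (show Commute z v from hvz.symm)).eq)
      (by rw [← map_mul, ← map_mul, hs0z])
      (isConj_iff.2 ⟨k⁻¹, rfl⟩)
      (fun y hyr hys hyt => by
        have e1 : ψ.symm y * z = z * ψ.symm y := ψ.injective (by simpa using hyr)
        have e2 : ψ.symm y * s0 = s0 * ψ.symm y := ψ.injective (by simpa using hys)
        have e3 : ψ.symm y * (z * v) = z * v * ψ.symm y := ψ.injective (by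
          rw [map_mul ψ (ψ.symm y), map_mul ψ _ (ψ.symm y), hψt, ψ.apply_symm_apply]; exact hyt)
        obtain ⟨i, j, m, l, he⟩ := cent_seven J SF D.full.Mo hs0 hvz hvp hvv hvs e1 e2
        -- the power of `π` vanishes
        have hm : π ^ m = 1 := by
          have e4 : ψ.symm y * v = v * ψ.symm y := by
            have h := ((show Commute (ψ.symm y) (z * v) from e3)).eq
            calc ψ.symm y * v = ψ.symm y * (z * (z * v)) := by rw [← mul_assoc z, J.zz, one_mul]
              _ = z * ψ.symm y * (z * v) := by rw [← mul_assoc, e1]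
              _ = z * (z * v * ψ.symm y) := by rw [mul_assoc, h]
              _ = v * ψ.symm y := by rw [← mul_assoc, ← mul_assoc z, J.zz, one_mul]
          have hA : Commute ((s0 : G) ^ i * z ^ j) v :=
            ((show Commute (s0 : G) v from hvs.symm).pow_left i).mul_left ((show Commute z v from hvz.symm).pow_left j)
          rw [he] at e4
          have hl : Commute (v ^ l) v := (Commute.refl v).pow_left l
          have h5 : Commute (π ^ m) v := by
            have hall : Commute ((s0 : G) ^ i * z ^ j * π ^ m * v ^ l) v := e4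
            have := (hA.inv_left.mul_left hall).mul_left hl.inv_left
            rwa [show ((s0 : G) ^ i * z ^ j)⁻¹ * ((s0 : G) ^ i * z ^ j * π ^ m * v ^ l) * (v ^ l)⁻¹ = π ^ m by
              group] at this
          have h6 : π ^ m = (π ^ m)⁻¹ := by
            calc π ^ m = v * π ^ m * v⁻¹ := by rw [h5.symm.eq, mul_inv_cancel_right]
              _ = _ := by rw [← conj_pow, hvp, inv_pow]
          have h7 : π ^ m * π ^ m = 1 := by nth_rw 2 [h6]; exact mul_inv_cancel _
          calc π ^ m = π ^ m * π ^ m * π ^ m := by rw [h7, one_mul]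
            _ = 1 := by rw [← pow_add, ← pow_add, show m + m + m = 3 * m by ring, pow_mul, hp3, one_pow]
        rw [hm, mul_one] at he
        refine ⟨i, l, j + l, ?_⟩
        have e6 : v ^ l = (z * v) ^ l * z ^ l := by
          rw [← (show Commute (z * v) z from (Commute.refl z).mul_left hvz).mul_pow,
            mul_assoc, hvz, ← mul_assoc, J.zz, one_mul]
        rw [e6] at he
        have e7 : ψ.symm y = (s0 : G) ^ i * (z * v) ^ l * z ^ (j + l) := by
          rw [he, pow_add, mul_assoc ((s0 : G) ^ i), mul_assoc ((s0 : G) ^ i)]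
          congr 1
          rw [← mul_assoc, ← mul_assoc, ((show Commute z (z * v) from
            (Commute.refl z).mul_right hvz.symm).pow_pow j l).eq]
        rw [← ψ.apply_symm_apply y, e7, map_mul, map_mul, map_pow, map_pow, map_pow, hψt])
    refine ⟨ψ.symm x',
      { zz := J.zz
        z1 := J.z_ne
        s7 := hs0
        p3 := hp3
        p1 := hp1
        uu := hvv
        xx := ψ.injective (by simpa using hxx)
        zs := hs0z.symm
        ps := hs0p.symm
        us := hvs
        xs := ψ.injective (by simpa using hxs)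
        uz := hvz
        pz := J.piz
        up := hvp'
        xt := ψ.injective (by rw [map_mul ψ, map_mul ψ _ (ψ.symm x'), hψt, ψ.apply_symm_apply]; exact hxt)
        zx := ψ.injective (by rw [map_mul ψ, map_mul ψ, map_mul ψ _ (z * v), hψt, ψ.apply_symm_apply]; exact hrx)
        nt := hnt
        nx := fun hc => hnx (hc.trans (isConj_iff.2 ⟨k⁻¹, by rw [← MulAut.conj_apply]; exact ψ.apply_symm_apply x'⟩))
        cz := fun y h1 h2 => cent_seven J SF D.full.Mo hs0 hvz hvp hvv hvs h1 h2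
        ct := fun y h1 h2 => ?_
        cx := fun y h1 h2 => ?_
        cp := fun y hy => (mem_CZ.1 (D.full.hC.le (Subgroup.mem_centralizer_singleton_iff.2 hy))).1 }⟩
    · obtain ⟨i, p, q, r, he⟩ := hct (ψ y) (by rw [← hψt, ← map_mul, h1, map_mul])
        (by rw [← map_mul, h2, map_mul])
      refine ⟨i, p, q, r, ψ.injective ?_⟩
      rw [he, map_mul, map_mul, map_mul, map_pow, map_pow, map_pow, map_pow, hψt, ψ.apply_symm_apply]
    · rcases hcx (ψ y) (by rw [← ψ.apply_symm_apply x', ← map_mul, h1, map_mul])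
        (by rw [← map_mul, h2, map_mul]) with q | q
      · exact Or.inl (ψ.injective (by rw [map_mul, map_mul, map_inv, hψt]; exact q))
      · exact Or.inr (ψ.injective (by
          rw [map_mul, map_mul, map_inv, map_mul ψ (ψ.symm x'), hψt, ψ.apply_symm_apply]; exact q))
  -- the given element
  obtain ⟨e, he, y, hy, hye⟩ := exists_conj_seven J hs' hs'z
  obtain ⟨m, j, -, hmj⟩ := seven_conj SF.card (proj_order_seven J hy) (proj_order_seven J hs0)
  obtain ⟨d, rfl⟩ := J.proj_surj m
  have hy7 : (y : G) ^ 7 = 1 := hy ▸ pow_orderOf_eq_one _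
  have hs07 : (s0 : G) ^ 7 = 1 := hs0 ▸ pow_orderOf_eq_one _
  have hdy : d * y * d⁻¹ = s0 ^ j := eq_of_proj J
    (by
      simp only [Subgroup.coe_mul, InvMemClass.coe_inv, conj_pow, hy7]
      group)
    (by rw [Subgroup.coe_pow, ← pow_mul, mul_comm, pow_mul, hs07, one_pow])
    (by rw [map_mul, map_mul, map_inv, map_pow]; exact hmj)
  have hdy' : (d : G) * y * (d : G)⁻¹ = (s0 : G) ^ j := by
    have := congrArg Subtype.val hdy
    simpa using this
  set c := e * (d : G)⁻¹ with hc
  have hcz : c * z = z * c :=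
    ((show Commute e z from J.s.z_comm he).mul_left (show Commute (d : G) z from (mem_CZ.1 d.2).1).inv_left).eq
  have hcz' : c⁻¹ * z = z * c⁻¹ := (show Commute c z from hcz).inv_left.eq
  refine ⟨_, _, _, _, hS.map hcz, ?_, fun y' hy' h => ?_, ?_⟩
  · refine Subgroup.mem_zpowers_iff.2 ⟨(j : ℤ), ?_⟩
    rw [zpow_natCast, conj_pow, ← hdy', hc, ← hye]
    group
  · refine no_inverse J SF hs0 hvz hvp hvs (y := c⁻¹ * y' * c) ?_ ?_
    · exact (((show Commute c⁻¹ z from hcz').mul_left hy').mul_left hcz).eq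
    · calc c⁻¹ * y' * c * (s0 : G) * (c⁻¹ * y' * c)⁻¹ = c⁻¹ * (y' * (c * s0 * c⁻¹) * y'⁻¹) * c := by group
        _ = (s0 : G)⁻¹ := by rw [h]; group
  · obtain ⟨n, hnz, hns⟩ := exists_square J SF hs0
    refine ⟨c * n * c⁻¹, (((show Commute c z from hcz).mul_left hnz).mul_left hcz').eq, ?_⟩
    rw [conj_pow, ← hns]
    group

end CfsgLib.JFourLocal
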