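import Cfsg.Agent.S5572
import Cfsg.Agent.S5573
import Cfsg.Agent.Lib.JFour.VFinal

/-!
# Every element of order seven in a group of Janko-four type
-/

set_option autoImplicit false
set_option linter.style.haveILetI false
set_option linter.unusedSectionVars false

open Cfsg

namespace CfsgLib.JFourLocal

open CfsgLib.JFour CfsgLib.JFour.Ctx

variable {G : Type*} [Group G] [Finite G] [IsSimpleGroup G]

theorem centralizer_map_equiv (φ : G ≃* G) (H : Subgroup G) :
    Subgroup.centralizer ((H.map φ.toMonoidHom : Subgroup G) : Set G) =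
      (Subgroup.centralizer (H : Set G)).map φ.toMonoidHom := by
  ext x
  rw [Subgroup.mem_map_equiv, Subgroup.mem_centralizer_iff, Subgroup.mem_centralizer_iff]
  constructor
  · exact fun h a ha => φ.injective (by simpa using h (φ a) ⟨a, ha, rfl⟩)
  · rintro h _ ⟨a, ha, rfl⟩
    have := congrArg φ (h a ha)
    simpa using this

/-- The local structure at an element of order seven. -/
theorem seven_local (hG : ¬ IsMulCommutative G) {z : G} (hJ : IsOfJankoFourTypeAt z) {s : G}
    (hs : orderOf s = 7) :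
    ∃ I : Subgroup G, I ≤ Subgroup.centralizer ({s} : Set G) ∧ Nonempty (↥I ≃* Equiv.Perm (Fin 5)) ∧
      (∀ x ∈ Subgroup.centralizer ({s} : Set G), x ^ 120 = 1 → x ∈ I) ∧
      Nat.card ↥(Subgroup.centralizer ({s} : Set G)) = 840 ∧
      Nat.card ↥(Subgroup.normalizer (Subgroup.zpowers s : Set G)) = 2520 := by
  classical
  haveI := Fact.mk (show Nat.Prime 7 by norm_num)
  -- an element in `C(z)`
  obtain ⟨s0, hs0⟩ : ∃ s0 : ↥(Subgroup.centralizer ({z} : Set G)), orderOf s0 = 7 := by
    obtain ⟨P, hP⟩ := id hJ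
    haveI := Fact.mk Nat.prime_two
    obtain ⟨π, -, J, g, vec, S⟩ := exists_full hG hP
    refine exists_prime_orderOf_dvd_card' 7 ?_
    refine Dvd.dvd.trans ?_ (Subgroup.card_dvd_of_le
      (show CZ z π ≤ Subgroup.centralizer ({z} : Set G) from inf_le_left))
    rw [J.card_CZ S.small.card]
    norm_num
  rw [← Subgroup.orderOf_coe] at hs0
  set H0 := Subgroup.zpowers (s0 : G)
  have hH0 : Nat.card H0 = 7 := by rw [Nat.card_zpowers, hs0]
  obtain ⟨h49, ⟨I0, ⟨-, hI0C, hcomm, hbot, hsup⟩, ⟨e0⟩⟩, hN3, hN⟩ :=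
    Cfsg.Agent.S5573.result hG z hJ H0 hH0 (Subgroup.zpowers_le.2 s0.2)
  -- conjugacy of Sylow subgroups
  have hfac : (Nat.card G).factorization 7 = 1 := by
    have h1 : 7 ∣ Nat.card G := hH0 ▸ H0.card_subgroup_dvd_card
    have h2 := (Nat.Prime.dvd_iff_one_le_factorization (by norm_num) Nat.card_pos.ne').1 h1
    by_contra hne
    have h2' : 7 ^ 2 ∣ Nat.card G :=
      ((show Nat.Prime 7 by norm_num).pow_dvd_iff_le_factorization Nat.card_pos.ne').2 (by omega)
    exact h49 (by simpa using h2')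
  have hsyl : ∀ c : G, orderOf c = 7 → Nat.card ↥(Subgroup.zpowers c) = 7 ^ (Nat.card G).factorization 7 :=
    fun c hc => by rw [Nat.card_zpowers, hc, hfac, pow_one]
  obtain ⟨w, hw⟩ := MulAction.exists_smul_eq G (Sylow.ofCard H0 (hsyl _ hs0))
    (Sylow.ofCard (Subgroup.zpowers s) (hsyl s hs))
  set φ : G ≃* G := MulAut.conj w
  have hmap : H0.map φ.toMonoidHom = Subgroup.zpowers s := by
    have h := congrArg (fun T : Sylow 7 G => (T : Subgroup G)) hw
    simp only [Sylow.coe_subgroup_smul, Sylow.coe_ofCard] at h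
    rw [← h]
    rfl
  have hcs : Subgroup.centralizer ({s} : Set G) = (Subgroup.centralizer (H0 : Set G)).map φ.toMonoidHom := by
    rw [← centralizer_map_equiv, hmap, Subgroup.zpowers_eq_closure, Subgroup.centralizer_closure]
  have hI120 : Nat.card I0 = 120 := by
    rw [Nat.card_congr e0.toEquiv, Nat.card_perm, Nat.card_fin]; rfl
  refine ⟨I0.map φ.toMonoidHom, hcs ▸ Subgroup.map_mono hI0C,
    ⟨(I0.equivMapOfInjective φ.toMonoidHom φ.injective).symm.trans e0⟩, ?_, ?_, ?_⟩
  · intro x hx hx120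
    rw [hcs] at hx
    obtain ⟨y, hy, rfl⟩ := hx
    refine Subgroup.mem_map_of_mem _ ?_
    have hy120 : y ^ 120 = 1 := φ.injective (by rw [map_pow, map_one]; exact hx120)
    have hco := Subgroup.coe_mul_of_right_le_normalizer_left H0 I0
      (hI0C.trans (Subgroup.centralizer_le_normalizer _))
    rw [← hsup, SetLike.mem_coe, ← SetLike.mem_coe, hco] at hy
    obtain ⟨a, ha, j, hj, rfl⟩ := hy
    have hj120 : j ^ 120 = 1 := by
      have h := pow_card_eq_one' (G := ↥I0) (x := ⟨j, hj⟩)
      rw [hI120] at h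
      exact congrArg Subtype.val h
    rw [(show Commute a j from hcomm a ha j hj).mul_pow, hj120, mul_one] at hy120
    have ha7 : a ^ 7 = 1 := by
      have h := pow_card_eq_one' (G := ↥H0) (x := ⟨a, ha⟩)
      rw [hH0] at h
      exact congrArg Subtype.val h
    have ha1 : a = 1 := by simpa using pow_gcd_eq_one.2 ⟨hy120, ha7⟩
    show a * j ∈ I0
    rw [ha1, one_mul]
    exact hj
  · rw [hcs, Subgroup.card_map_of_injective φ.injective]
    omega
  · rw [← hmap, ← Subgroup.map_equiv_normalizer_eq, Subgroup.card_map_of_injective φ.injective, hN]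
    norm_num

end CfsgLib.JFourLocal
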