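import Cfsg.Agent.Lib.JFourLocal.TenCoord

/-!
# The conjugates of `z` in the standard subgroup

They form one orbit of its normalizer, of length 155.
-/

set_option autoImplicit false
set_option maxRecDepth 100000
set_option linter.style.haveILetI false
set_option linter.unusedSectionVars false

open Cfsg

namespace CfsgLib.JFourLocal

open CfsgLib.JFour CfsgLib.JFour.Ctx

variable {G : Type*} [Group G] [Finite G] {M : Type*} [Group M] [Finite M] {z π : G} {E : Subgroup G}
  {J : Ctx M z π E} {g : ℕ → M} {vec : ℕ → G} {V A : Subgroup G} {el : ℕ → G} {s : ↥(CZ z π)}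

namespace TenBase

variable (B : TenBase J g vec A el s)
include B

/-- The members of a linked list are conjugate to its seed under the normalizer. -/
theorem conj_linked {L : List (ℕ × ℕ × ℕ)} {seed : ℕ} (hs : seed < 1024) (hL : tenLinked L seed = true) {i : ℕ}
    (hi : i < L.length) : (L.getD i default).1 < 1024 ∧
      ∃ n ∈ Subgroup.normalizer (A : Set G), n * z = z * n ∧ n * el seed * n⁻¹ = el (L.getD i default).1 := by
  induction i using Nat.strong_induction_on with
  | _ i ih =>
    have h := List.all_eq_true.1 hL i (List.mem_range.2 hi)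
    simp only [Bool.or_eq_true, Bool.and_eq_true, Nat.beq_eq, Nat.blt_eq] at h
    rcases h with ⟨-, h⟩ | ⟨⟨hj, hq⟩, he⟩
    · rw [h]
      exact ⟨hs, 1, one_mem _, by simp, by group⟩
    obtain ⟨hlt, n, hn, hnz, hne⟩ := ih _ hj (hj.trans hi)
    obtain ⟨m, hm, hmz, hme⟩ := B.maps _ hq
    refine ⟨he ▸ ap_lt1024 (getD_bound hq).1 _, m * n, mul_mem hm hn,
      ((show Commute m z from hmz).mul_left (show Commute n z from hnz)).eq, ?_⟩
    rw [← he, ← hme _ hlt, ← hne]
    group

/-- Membership in a mask gives conjugacy with the seed. -/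
theorem conj_mask {L : List (ℕ × ℕ × ℕ)} {seed : ℕ} (hs : seed < 1024) (hL : tenLinked L seed = true) {x : ℕ}
    (hx : (L.map Prod.fst).contains x = true) :
    ∃ n ∈ Subgroup.normalizer (A : Set G), n * z = z * n ∧ n * el seed * n⁻¹ = el x := by
  obtain ⟨t, ht, rfl⟩ := List.mem_map.1 (List.contains_iff_mem.1 hx)
  obtain ⟨i, hi, rfl⟩ := List.getElem_of_mem ht
  obtain ⟨-, h⟩ := B.conj_linked hs hL hi
  rwa [List.getD_eq_getElem _ _ hi] at h

theorem el_zero : el 0 = 1 := by
  have h := B.add 0 0 (by norm_num) (by norm_num)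
  rwa [Nat.xor_self, left_eq_mul] at h

variable (D : TenCtx J g vec V) (hA : IsTen J g A)
include D hA

/-- The classes in terms of the two seeds. -/
theorem class_cases : ∃ h b : Bool, ∀ x < 1024, IsConj z (el x) ↔ (tenCls h b).testBit x = true := by
  classical
  obtain ⟨c, hc2, hc1, hct⟩ := B.top
  obtain ⟨h, hh0, hh1⟩ : ∃ h : Bool, (IsConj z (el 128) ↔ h = false) ∧ (IsConj z (el 129) ↔ h = true) := by
    have e129 : el 129 = el 128 * z := by
      rw [← B.el_one, ← B.add 128 1 (by norm_num) (by norm_num)]; rfl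
    have ecz : (c : G) * z = z * c := (mem_CZ.1 c.2).1
    rw [e129, hct, ecz]
    rcases D.std.z_or_zc hc2 hc1 with q | q
    · exact ⟨false, iff_of_true q.1 rfl, iff_of_false q.2 (by simp)⟩
    · exact ⟨true, iff_of_false q.2 (by simp), iff_of_true q.1 rfl⟩
  set seed2 := (tenL2.getD 0 default).1
  refine ⟨h, decide (IsConj z (el seed2)), fun x hx => ?_⟩
  obtain ⟨hL0, hL1, hL2, hmask⟩ := ten_orbits_ok
  have hm := List.all_eq_true.1 hmask x (List.mem_range.2 hx)
  have hcv := List.all_eq_true.1 ten_cover_ok x (List.mem_range.2 hx)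
  simp only [Bool.and_eq_true, Bool.or_eq_true, Bool.not_eq_true'] at hm
  have key : ∀ {L : List (ℕ × ℕ × ℕ)} {seed : ℕ}, seed < 1024 → tenLinked L seed = true →
      (L.map Prod.fst).contains x = true → (IsConj z (el x) ↔ IsConj z (el seed)) := by
    intro L seed hs hL hc
    obtain ⟨n, -, -, he⟩ := B.conj_mask hs hL hc
    rw [← he]
    exact isConj_conj_iff n
  rw [tenCls, Nat.testBit_lor, Nat.testBit_lor, Nat.testBit_lor]
  by_cases hx128 : x < 128
  · simp only [show Nat.blt x 128 = true from Nat.blt_eq ▸ hx128, if_true, Bool.and_eq_true, Bool.not_eq_true'] at hcv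
    obtain ⟨⟨⟨h0, h1⟩, h2⟩, hE⟩ := hcv
    have e0 : (if h then tenO1 else tenO0).testBit x = false := by cases h <;> assumption
    have e2 : (if decide (IsConj z (el seed2)) then tenO2 else 0).testBit x = false := by
      split <;> simp [h2]
    rw [e0, e2, Bool.or_false, Bool.or_false]
    by_cases hx2 : x < 2
    · simp only [show Nat.blt x 2 = true from Nat.blt_eq ▸ hx2, if_true, Bool.not_eq_true'] at hE
      rw [hE, Bool.or_false]
      interval_cases x
      · rw [B.el_zero]
        exact iff_of_false (fun hc => J.z_ne (isConj_one_left.1 hc)) (by decide)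
      · rw [B.el_one]
        exact iff_of_true (IsConj.refl z) (by decide)
    · have hx2' : Nat.blt x 2 = false := by
        rw [Bool.eq_false_iff, Ne, Nat.blt_eq]; exact hx2
      simp only [hx2', Bool.false_eq_true, if_false, Bool.and_eq_true, beq_iff_eq, Bool.or_eq_true] at hE
      have h2b : (2 : ℕ).testBit x = false := by
        rw [show (2 : ℕ) = 2 ^ 1 from rfl, Nat.testBit_two_pow]; simp; omega
      rw [h2b, Bool.false_or, hE.1]
      -- the vector
      obtain ⟨k, hk⟩ : ∃ k, k = x / 2 := ⟨_, rfl⟩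
      rw [← hk] at hE ⊢
      have hk64 : k < 64 := by omega
      have hlt : ap tenB k < 4096 := JFour.ap_lt (by decide) k
      have hrel : Rel z (el x) (vec (ap tenB k)) := by
        refine J.rel_trans ?_ (B.low k hk64)
        rcases Nat.mod_two_eq_zero_or_one x with hp | hp
        · exact Or.inl (congrArg el (by omega))
        · refine Or.inr ?_
          rw [← B.el_one, ← B.add 1 (2 * k) (by norm_num) (by omega)]
          refine congrArg el ?_
          rw [show 1 = tenBit true from rfl, ← bit_add, show tenBit true = 1 from rfl]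
          omega
      cases hl : inLay layA (ap tenB k)
      · have hB' : inLay layB (ap tenB k) = true := hE.2.resolve_left (by simp [hl])
        exact iff_of_false (D.std.not_conj_of_layB hlt hB' hrel) (by simp)
      · exact iff_of_true (D.std.conj_of_layA hlt hl hrel) rfl
  · have hb : Nat.blt x 128 = false := by
      rw [Bool.eq_false_iff, Ne, Nat.blt_eq]; exact hx128
    simp only [hb, Bool.false_eq_true, if_false, Bool.and_eq_true, Bool.or_eq_true, Bool.not_eq_true'] at hcv
    obtain ⟨hE, hO⟩ := hcv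
    have h2b : (2 : ℕ).testBit x = false := by
      rw [show (2 : ℕ) = 2 ^ 1 from rfl, Nat.testBit_two_pow]; simp; omega
    rw [h2b, hE, Bool.false_or, Bool.false_or]
    rcases hO with (⟨⟨a0, a1⟩, a2⟩ | ⟨⟨a0, a1⟩, a2⟩) | ⟨⟨a0, a1⟩, a2⟩
    · rw [key (by norm_num) hL0 (hm.1.1.resolve_left (by simp [a0])), hh0]
      cases h <;> simp [a0, a1, apply_ite (fun m : ℕ => m.testBit x), a2]
    · rw [key (by norm_num) hL1 (hm.1.2.resolve_left (by simp [a1])), hh1]
      cases h <;> simp [a0, a1, apply_ite (fun m : ℕ => m.testBit x), a2]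
    · rw [key (by decide +kernel) hL2 (hm.2.resolve_left (by simp [a2]))]
      cases h <;> simp [a0, a1, apply_ite (fun m : ℕ => m.testBit x), a2, seed2]

/-- The normalizer is transitive on the conjugates of `z` in the subgroup. -/
theorem fuse {a : G} (ha : a ∈ A) (hc : IsConj z a) :
    ∃ n ∈ Subgroup.normalizer (A : Set G), n * z * n⁻¹ = a := by
  obtain ⟨k, hk⟩ := isConj_iff.1 hc
  obtain ⟨A', hA'⟩ : ∃ A', A' = A.map (MulAut.conj k⁻¹).toMonoidHom := ⟨_, rfl⟩
  have hmem : ∀ x, x ∈ A' ↔ k * x * k⁻¹ ∈ A := fun x => by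
    rw [hA', Subgroup.mem_map_equiv, MulAut.conj_symm_apply, inv_inv]
  have hS : IsSelf z A' := by
    refine ⟨fun x hx => ?_, ?_, (hmem z).2 (by rw [hk]; exact ha), fun x hx => (hmem x).2 (D.centralizer_le hA ?_)⟩
    · have h := hA.sq _ ((hmem x).1 hx)
      calc x * x = k⁻¹ * (k * x * k⁻¹ * (k * x * k⁻¹)) * k := by group
        _ = 1 := by rw [h]; group
    · rw [hA', Subgroup.card_map_of_injective (MulAut.conj k⁻¹).injective, hA.card]
    · refine Subgroup.mem_centralizer_iff.2 fun y hy => ?_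
      have h := Subgroup.mem_centralizer_iff.1 hx (k⁻¹ * y * k) ((hmem _).2 (by
        rw [show k * (k⁻¹ * y * k) * k⁻¹ = y by group]; exact hy))
      calc y * (k * x * k⁻¹) = k * (k⁻¹ * y * k * x) * k⁻¹ := by group
        _ = _ := by rw [h]; group
  obtain ⟨ψ, hψ⟩ := J.exists_projH
  obtain ⟨d, hd⟩ := D.self_classify hS hψ
  have he := hA.unique D.small hd
  rw [hA', Subgroup.map_map] at he
  refine ⟨k * (d : G)⁻¹, inv_mem_iff.1 ?_, ?_⟩
  · rw [mul_inv_rev, inv_inv, Subgroup.mem_normalizer_iff]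
    intro y
    conv_rhs => rw [← he]
    constructor
    · exact fun hy => ⟨y, hy, by simp [mul_assoc]⟩
    · rintro ⟨v, hv, hve⟩
      simp only [MonoidHom.comp_apply, MulEquiv.coe_toMonoidHom, MulAut.conj_apply, inv_inv, mul_inv_rev] at hve
      have hvy : v = y := by
        have : (d : G) * k⁻¹ * v * (k * (d : G)⁻¹) = (d : G) * k⁻¹ * y * (k * (d : G)⁻¹) := by
          rw [← mul_assoc, ← mul_assoc] at hve
          simpa [mul_assoc] using hve
        exact mul_left_cancel (mul_right_cancel this)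
      exact hvy ▸ hv
  · calc k * (d : G)⁻¹ * z * (k * (d : G)⁻¹)⁻¹ = k * ((d : G)⁻¹ * z * d) * k⁻¹ := by group
      _ = a := by rw [mul_assoc (d : G)⁻¹, ← (mem_CZ.1 d.2).1, inv_mul_cancel_left, hk]

/-- The neighbours in the class are as many as those of `z`. -/
theorem nbr_eq {D0 : ℕ} (hD : ∀ x < 1024, IsConj z (el x) ↔ D0.testBit x = true) {x : ℕ} (hx : x < 1024)
    (hxD : D0.testBit x = true) : tenNbr D0 1 = tenNbr D0 x := by
  classical
  obtain ⟨n, hn, hne⟩ := B.fuse D hA (B.mem x) ((hD x hx).2 hxD)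
  have hnm : ∀ {a : G}, a ∈ A → n * a * n⁻¹ ∈ A := fun ha => (Subgroup.mem_normalizer_iff.1 hn _).1 ha
  have hcount : ∀ y < 1024, tenNbr D0 y = Set.ncard {a : G | a ∈ A ∧ IsConj z a ∧ IsConj z (a * el y)} := by
    intro y hy
    have heq : {a : G | a ∈ A ∧ IsConj z a ∧ IsConj z (a * el y)} =
        el '' ↑(((List.range 1024).filter fun d => D0.testBit d && D0.testBit (Nat.xor d y)).toFinset) := by
      ext a
      simp only [Set.mem_ofPred_eq, Set.mem_image, Finset.mem_coe, List.mem_toFinset, List.mem_filter,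
        List.mem_range, Bool.and_eq_true]
      constructor
      · rintro ⟨ha, h1, h2⟩
        obtain ⟨d, hd, rfl⟩ := B.surj a ha
        refine ⟨d, ⟨hd, (hD d hd).1 h1, ?_⟩, rfl⟩
        rw [← B.add d y hd hy] at h2
        exact (hD _ (Nat.xor_lt_two_pow (n := 10) hd hy)).1 h2
      · rintro ⟨d, ⟨hd, h1, h2⟩, rfl⟩
        refine ⟨B.mem d, (hD d hd).2 h1, ?_⟩
        rw [← B.add d y hd hy]
        exact (hD _ (Nat.xor_lt_two_pow (n := 10) hd hy)).2 h2
    rw [heq, Set.ncard_image_of_injOn, Set.ncard_coe_finset,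
      List.toFinset_card_of_nodup (List.nodup_range.filter _)]
    · rfl
    intro a ha b hb h
    simp only [Finset.mem_coe, List.mem_toFinset, List.mem_filter, List.mem_range] at ha hb
    exact B.inj a b ha.1 hb.1 h
  rw [hcount 1 (by norm_num), hcount x hx, ← Set.ncard_image_of_injective _ (MulAut.conj n).injective]
  congr 1
  ext a
  simp only [Set.mem_image, Set.mem_ofPred_eq, MulAut.conj_apply]
  constructor
  · rintro ⟨b, ⟨hb, h1, h2⟩, rfl⟩
    refine ⟨hnm hb, (isConj_conj_iff n).2 h1, ?_⟩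
    rw [show n * b * n⁻¹ * el x = n * (b * z) * n⁻¹ by rw [← hne]; group]
    exact (isConj_conj_iff n).2 (B.el_one ▸ h2)
  · rintro ⟨ha, h1, h2⟩
    refine ⟨n⁻¹ * a * n, ⟨(Subgroup.mem_normalizer_iff''.1 hn a).1 ha, ?_, ?_⟩, by group⟩
    · rw [← isConj_conj_iff n, show n * (n⁻¹ * a * n) * n⁻¹ = a by group]; exact h1
    · rw [B.el_one, ← isConj_conj_iff n,
        show n * (n⁻¹ * a * n * z) * n⁻¹ = a * (n * z * n⁻¹) by group, hne]
      exact h2

/-- **The class.** -/
theorem class_eq : ∀ x < 1024, IsConj z (el x) ↔ (tenCls false false).testBit x = true := by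
  obtain ⟨h, b, hD⟩ := B.class_cases D hA
  obtain ⟨h1, h2, h3, -⟩ := ten_nbr_ok
  simp only [Bool.and_eq_true, Bool.not_eq_true', beq_eq_false_iff_ne] at h1 h2 h3
  cases h <;> cases b
  · exact hD
  · exact absurd (B.nbr_eq D hA hD (by norm_num) h1.1) h1.2
  · exact absurd (B.nbr_eq D hA hD (by norm_num) h2.1) h2.2
  · exact absurd (B.nbr_eq D hA hD (by norm_num) h3.1) h3.2

/-- The orbit of `z` has length 155. -/
theorem ncard_orbit_z : Set.ncard {v : G | ∃ n ∈ Subgroup.normalizer (A : Set G), n * z * n⁻¹ = v} = 155 := by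
  classical
  have heq : {v : G | ∃ n ∈ Subgroup.normalizer (A : Set G), n * z * n⁻¹ = v} =
      el '' ↑(((List.range 1024).filter fun x => (tenCls false false).testBit x).toFinset) := by
    ext v
    simp only [Set.mem_ofPred_eq, Set.mem_image, Finset.mem_coe, List.mem_toFinset, List.mem_filter, List.mem_range]
    constructor
    · rintro ⟨n, hn, rfl⟩
      obtain ⟨x, hx, he⟩ := B.surj _ ((Subgroup.mem_normalizer_iff.1 hn z).1 hA.z_mem)
      exact ⟨x, ⟨hx, (B.class_eq D hA x hx).1 (he ▸ isConj_iff.2 ⟨n, rfl⟩)⟩, he⟩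
    · rintro ⟨x, ⟨hx, hb⟩, rfl⟩
      exact B.fuse D hA (B.mem x) ((B.class_eq D hA x hx).2 hb)
  rw [heq, Set.ncard_image_of_injOn, Set.ncard_coe_finset,
    List.toFinset_card_of_nodup (List.nodup_range.filter _)]
  · exact ten_nbr_ok.2.2.2
  intro a ha b hb h
  simp only [Finset.mem_coe, List.mem_toFinset, List.mem_filter, List.mem_range] at ha hb
  exact B.inj a b ha.1 hb.1 h

end TenBase

end CfsgLib.JFourLocal
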