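import Cfsg.Agent.Lib.JFourLocal.TenWedgeData

/-!
# Checks on the bivectors
-/

set_option autoImplicit false
set_option maxRecDepth 100000
set_option Elab.async false

namespace CfsgLib.JFourLocal

/-- The decomposable bivectors adjacent to two. -/
def tenCommon (u v : ℕ) : List ℕ :=
  tenDec.filter fun x => tenDecO.testBit (Nat.xor x u) && tenDecO.testBit (Nat.xor x v)

/-- The pencil of a point contains a bivector. -/
def inPen (a w : ℕ) : Bool := (tenPen.getD a []).contains w

theorem ten_wedge_lin : (List.range 32).all (fun a => (List.range 32).all fun c =>
    Nat.blt (tenWedge a c) 1024 && Nat.beq (tenWedge a a) 0 && Nat.beq (tenWedge 0 c) 0 &&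
      Nat.beq (tenWedge a c) (tenWedge c a) &&
      (List.range 5).all fun i => Nat.beq (tenWedge (Nat.xor a (2 ^ i)) c)
        (Nat.xor (tenWedge a c) (tenWedge (2 ^ i) c))) = true := by
  decide +kernel

theorem ten_pen_ok : tenPen.length = 32 ∧
    (List.range 32).all (fun a => Nat.beq a 0 || ((tenPen.getD a []).length == 15 &&
      (tenPen.getD a []).Nodup && (tenPen.getD a []).all fun w => tenDecO.testBit w && tenDec.contains w &&
        (List.range 32).any fun b => Nat.beq (tenWedge a b) w)) = true ∧
    (List.range 32).all (fun a => (List.range 32).all fun b =>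
      if Nat.beq a 0 || Nat.beq b 0 || Nat.beq a b then Nat.beq (tenWedge a b) 0
      else !Nat.beq (tenWedge a b) 0 && inPen a (tenWedge a b) && inPen b (tenWedge a b)) = true := by
  decide +kernel

theorem ten_dec_ok : (List.range 1024).all (fun w => tenDecO.testBit w == tenDec.contains w) = true ∧
    tenDec.all (fun w => Nat.blt w 1024 && !Nat.beq w 0) = true := by
  decide +kernel

theorem ten_inter_ok : (List.range 32).all (fun p => (List.range 32).all fun q =>
    Nat.beq p q || (tenPen.getD p []).all fun w => !inPen q w || Nat.beq w (tenWedge p q)) = true := by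
  decide +kernel

theorem ten_pair_ok : tenDec.all (fun u => tenDec.all fun v =>
    !Nat.blt u v || !tenDecO.testBit (Nat.xor u v) || (List.range 32).any fun p => inPen p u && inPen p v) = true := by
  decide +kernel

/-- The clique check at one point. -/
def tenCliqueAt (a : ℕ) : Bool :=
  (tenPen.getD a []).all fun u => (tenPen.getD a []).all fun v =>
    !Nat.blt u v || (tenCommon u v).all fun w => inPen a w ||
      Nat.blt ((tenCommon u v).filter fun x => tenDecO.testBit (Nat.xor x w)).length 12

theorem ten_clique_0 : (List.range' 0 8).all tenCliqueAt = true := by decide +kernel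

theorem ten_clique_1 : (List.range' 8 8).all tenCliqueAt = true := by decide +kernel

theorem ten_clique_2 : (List.range' 16 8).all tenCliqueAt = true := by decide +kernel

theorem ten_clique_3 : (List.range' 24 8).all tenCliqueAt = true := by decide +kernel

theorem ten_clique_ok : (List.range 32).all (fun a => (tenPen.getD a []).all fun u => (tenPen.getD a []).all fun v =>
    !Nat.blt u v || (tenCommon u v).all fun w => inPen a w ||
      Nat.blt ((tenCommon u v).filter fun x => tenDecO.testBit (Nat.xor x w)).length 12) = true := by
  show (List.range 32).all tenCliqueAt = true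
  rw [show List.range 32 = List.range' 0 8 ++ List.range' 8 8 ++ List.range' 16 8 ++ List.range' 24 8 from rfl,
    List.all_append, List.all_append, List.all_append, ten_clique_0, ten_clique_1, ten_clique_2, ten_clique_3]
  rfl

theorem ten_three_ok : tenDec.all (fun w =>
    ((List.range 32).filter fun p => inPen p w).all fun p => ((List.range 32).filter fun p => inPen p w).all fun q =>
      ((List.range 32).filter fun p => inPen p w).all fun r =>
        Nat.beq p q || Nat.beq p r || Nat.beq q r || Nat.beq r (Nat.xor p q)) = true := by
  decide +kernel

end CfsgLib.JFourLocal
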