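import Cfsg.Agent.Lib.JFourLocal.TenCodeChecks
import Cfsg.Agent.Lib.JFourLocal.TenWedgeChecks

/-!
# Checks relating the codes to the bivectors
-/

set_option autoImplicit false
set_option maxRecDepth 100000
set_option Elab.async false

namespace CfsgLib.JFourLocal

open CfsgLib.JFour

/-- The columns of the map on bivectors induced by a map of the vectors. -/
def tenWedgeMap (s : List ℕ) : List ℕ := tenPairs.map fun p => tenWedge (s.getD p.1 0) (s.getD p.2 0)

/-- The basis bivectors as pairs of basis vectors. -/
def tenBase (k : ℕ) : ℕ × ℕ := (2 ^ (tenPairs.getD k (0, 0)).1, 2 ^ (tenPairs.getD k (0, 0)).2)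

/-- The list of the others is connected by the two generators. -/
def tenLinkedND : Bool :=
  (List.range tenND.length).all fun i => (Nat.beq i 0) ||
    (Nat.blt (tenND.getD i default).2.1 i && Nat.blt (tenND.getD i default).2.2 2 &&
      Nat.beq (ap (tenWedgeMap (tenSig.getD (tenND.getD i default).2.2 [])) (tenND.getD (tenND.getD i default).2.1 default).1)
        (tenND.getD i default).1)

theorem ten_iota_ok : tenIota.all (fun c => Nat.blt c 1024) = true ∧ tenIotaI.all (fun c => Nat.blt c 1024) = true ∧
    (List.range 1024).all (fun x => Nat.beq (ap tenIota (ap tenIotaI x)) x && Nat.beq (ap tenIotaI (ap tenIota x)) x &&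
      (((tenCls false false).testBit x) == tenDecO.testBit (ap tenIota x))) = true := by
  decide +kernel

theorem ten_base_ok : (List.range 10).all (fun k => Nat.blt (tenBase k).1 32 && Nat.blt (tenBase k).2 32 &&
    Nat.beq (tenWedge (tenBase k).1 (tenBase k).2) (2 ^ k)) = true ∧
    tenSig.all (fun s => (List.range 32).all fun v => Nat.blt (ap s v) 32) = true ∧
    (List.range 2).all (fun q => (List.range 10).all fun k =>
      Nat.beq (tenWedge (ap (tenSig.getD q []) (tenBase k).1) (ap (tenSig.getD q []) (tenBase k).2))
        ((tenWedgeMap (tenSig.getD q [])).getD k 0)) = true := by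
  decide +kernel

/-- One link of the list of the others. -/
def tenLinkAt : ℕ → Bool :=
  fun i => (Nat.beq i 0) ||
    (Nat.blt (tenND.getD i default).2.1 i && Nat.blt (tenND.getD i default).2.2 2 &&
      Nat.beq (ap (tenWedgeMap (tenSig.getD (tenND.getD i default).2.2 [])) (tenND.getD (tenND.getD i default).2.1 default).1)
        (tenND.getD i default).1)

theorem ten_link_0 : (List.range' 0 217).all tenLinkAt = true := by decide +kernel

theorem ten_link_1 : (List.range' 217 217).all tenLinkAt = true := by decide +kernel

theorem ten_link_2 : (List.range' 434 217).all tenLinkAt = true := by decide +kernel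

theorem ten_link_3 : (List.range' 651 217).all tenLinkAt = true := by decide +kernel

theorem ten_nd_ok_0 : tenLinkedND = true := by
  show (List.range tenND.length).all tenLinkAt = true
  rw [show List.range tenND.length = List.range' 0 217 ++ List.range' 217 217 ++ List.range' 434 217 ++ List.range' 651 217
    by decide +kernel, List.all_append, List.all_append, List.all_append, ten_link_0, ten_link_1, ten_link_2, ten_link_3]
  rfl

theorem ten_nd_ok_1 : (tenND.all fun t => Nat.blt t.1 1024 && !Nat.beq t.1 0 && !tenDecO.testBit t.1) = true := by
  decide +kernel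

/-- A vector is listed unless it is zero or decomposable. -/
def tenListedAt : ℕ → Bool :=
  fun w => Nat.beq w 0 || tenDecO.testBit w || (tenND.map Prod.fst).contains w

theorem ten_listed_0 : (List.range' 0 256).all tenListedAt = true := by decide +kernel

theorem ten_listed_1 : (List.range' 256 256).all tenListedAt = true := by decide +kernel

theorem ten_listed_2 : (List.range' 512 256).all tenListedAt = true := by decide +kernel

theorem ten_listed_3 : (List.range' 768 256).all tenListedAt = true := by decide +kernel

theorem ten_nd_ok_2 : (List.range 1024).all (fun w => Nat.beq w 0 || tenDecO.testBit w || (tenND.map Prod.fst).contains w) = true := by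
  show (List.range 1024).all tenListedAt = true
  rw [show List.range 1024 = List.range' 0 256 ++ List.range' 256 256 ++ List.range' 512 256 ++ List.range' 768 256
    by decide +kernel, List.all_append, List.all_append, List.all_append, ten_listed_0, ten_listed_1, ten_listed_2, ten_listed_3]
  rfl

theorem ten_nd_ok_3 : ((List.range 1024).filter fun x => !Nat.beq x 0 && !(tenCls false false).testBit x).length = 868 := by
  decide +kernel

theorem ten_nd_ok : tenLinkedND = true ∧
    (tenND.all fun t => Nat.blt t.1 1024 && !Nat.beq t.1 0 && !tenDecO.testBit t.1) = true ∧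
    (List.range 1024).all (fun w => Nat.beq w 0 || tenDecO.testBit w || (tenND.map Prod.fst).contains w) = true ∧
    ((List.range 1024).filter fun x => !Nat.beq x 0 && !(tenCls false false).testBit x).length = 868 :=
  ⟨ten_nd_ok_0, ten_nd_ok_1, ten_nd_ok_2, ten_nd_ok_3⟩

end CfsgLib.JFourLocal
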