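import Cfsg.Agent.Lib.JFourLocal.TenWedgeChecks
import Mathlib.Data.Finset.Card

/-!
# The linear maps preserving the decomposable bivectors

Such a map is induced by a linear map of the vectors: it permutes the pencils, as any closed set of
fifteen decomposable bivectors is a pencil.
-/

set_option autoImplicit false
set_option maxRecDepth 100000

namespace CfsgLib.JFourLocal

open CfsgLib.JFour

theorem tenWedge_bound {a b : ℕ} (ha : a < 32) (hb : b < 32) : tenWedge a b < 1024 ∧ tenWedge a b = tenWedge b a := by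
  have h := List.all_eq_true.1 (List.all_eq_true.1 ten_wedge_lin a (List.mem_range.2 ha)) b (List.mem_range.2 hb)
  simp only [Bool.and_eq_true, Nat.blt_eq, Nat.beq_eq] at h
  exact ⟨h.1.1.1.1, h.1.2⟩

theorem tenWedge_xor {a b c : ℕ} (ha : a < 32) (hb : b < 32) (hc : c < 32) :
    tenWedge (a ^^^ b) c = tenWedge a c ^^^ tenWedge b c := by
  have h0 : tenWedge 0 c = 0 := by
    have h := List.all_eq_true.1 (List.all_eq_true.1 ten_wedge_lin 0 (by decide)) c (List.mem_range.2 hc)
    simp only [Bool.and_eq_true, Nat.beq_eq] at h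
    exact h.1.1.2
  suffices H : ∀ k ≤ 5, ∀ b < 2 ^ k, ∀ a < 32, tenWedge (a ^^^ b) c = tenWedge a c ^^^ tenWedge b c from
    H 5 le_rfl b hb a ha
  intro k
  induction k with
  | zero =>
    intro _ b hb a _
    obtain rfl : b = 0 := by simpa using hb
    simp [h0]
  | succ k ih =>
    intro hk b hb a ha
    by_cases hlt : b < 2 ^ k
    · exact ih (by omega) b hlt a ha
    obtain ⟨r, hr⟩ : ∃ r, b = r ^^^ 2 ^ k := ⟨b ^^^ 2 ^ k, by rw [Nat.xor_assoc, Nat.xor_self, Nat.xor_zero]⟩
    have hb32 : b < 32 := lt_of_lt_of_le hb (le_of_le_of_eq (Nat.pow_le_pow_right (by norm_num) hk) rfl)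
    have hk32 : 2 ^ k < 32 := Nat.pow_lt_pow_right (a := 2) (n := 5) (by norm_num) (by omega)
    have hr' : r < 2 ^ k := by
      have hr2 : r = b ^^^ 2 ^ k := by rw [hr, Nat.xor_assoc, Nat.xor_self, Nat.xor_zero]
      refine Nat.lt_pow_two_of_testBit _ fun i hi => ?_
      rw [hr2, Nat.testBit_xor, Nat.testBit_two_pow]
      rcases Nat.lt_or_eq_of_le hi with h | h
      · rw [Nat.testBit_lt_two_pow (lt_of_lt_of_le hb (Nat.pow_le_pow_right (by norm_num) h))]
        simp; omega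
      · subst h
        obtain ⟨j, rfl⟩ : ∃ j, b = 2 ^ k + j := ⟨b - 2 ^ k, by omega⟩
        rw [Nat.testBit_two_pow_add_eq, Nat.testBit_lt_two_pow (by rw [pow_succ] at hb; omega)]
        simp
    have hr32 : r < 32 := lt_of_lt_of_le hr' (le_of_lt hk32)
    have hstep : ∀ x < 32, tenWedge (x ^^^ 2 ^ k) c = tenWedge x c ^^^ tenWedge (2 ^ k) c := fun x hx => by
      have h := List.all_eq_true.1 (List.all_eq_true.1 ten_wedge_lin x (List.mem_range.2 hx)) c (List.mem_range.2 hc)
      simp only [Bool.and_eq_true, Nat.beq_eq, List.all_eq_true, List.mem_range] at h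
      exact h.2 k (by omega)
    rw [hr, ← Nat.xor_assoc, hstep _ (Nat.xor_lt_two_pow (n := 5) ha hr32), ih (by omega) r hr' a ha,
      hstep r hr32, Nat.xor_assoc]

theorem tenWedge_cases {a b : ℕ} (ha : a < 32) (hb : b < 32) :
    ((a = 0 ∨ b = 0 ∨ a = b) ∧ tenWedge a b = 0) ∨
      (a ≠ 0 ∧ b ≠ 0 ∧ a ≠ b ∧ tenWedge a b ≠ 0 ∧ inPen a (tenWedge a b) = true ∧ inPen b (tenWedge a b) = true) := by
  have h := List.all_eq_true.1 (List.all_eq_true.1 ten_pen_ok.2.2 a (List.mem_range.2 ha)) b (List.mem_range.2 hb)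
  by_cases hc : a = 0 ∨ b = 0 ∨ a = b
  · rw [if_pos (by simpa [or_assoc] using hc)] at h
    exact Or.inl ⟨hc, Nat.beq_eq ▸ h⟩
  · rw [if_neg (by simpa [or_assoc] using hc)] at h
    simp only [Bool.and_eq_true, Bool.not_eq_true', ← Bool.not_eq_true, Nat.beq_eq] at h
    push Not at hc
    exact Or.inr ⟨hc.1, hc.2.1, hc.2.2, h.1.1, h.1.2, h.2⟩

theorem mem_dec {w : ℕ} (h : w ∈ tenDec) : w < 1024 ∧ tenDecO.testBit w = true := by
  have h1 := List.all_eq_true.1 ten_dec_ok.2 w h
  simp only [Bool.and_eq_true, Nat.blt_eq] at h1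
  have h2 := List.all_eq_true.1 ten_dec_ok.1 w (List.mem_range.2 h1.1)
  rw [beq_iff_eq, List.contains_iff_mem.2 h] at h2
  exact ⟨h1.1, h2⟩

theorem pen_facts {a : ℕ} (ha : a < 32) (ha0 : a ≠ 0) : (tenPen.getD a []).length = 15 ∧
    (tenPen.getD a []).Nodup ∧ ∀ w ∈ tenPen.getD a [], tenDecO.testBit w = true ∧ w ∈ tenDec ∧
      ∃ b < 32, tenWedge a b = w := by
  have h := List.all_eq_true.1 ten_pen_ok.2.1 a (List.mem_range.2 ha)
  simp only [Bool.or_eq_true, Nat.beq_eq, ha0, false_or, Bool.and_eq_true, beq_iff_eq, decide_eq_true_eq,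
    List.all_eq_true, List.any_eq_true, List.mem_range, List.contains_iff_mem] at h
  exact ⟨h.1.1, h.1.2, fun w hw => ⟨(h.2 w hw).1.1, (h.2 w hw).1.2, (h.2 w hw).2⟩⟩

theorem lt_of_inPen {a w : ℕ} (h : inPen a w = true) : a < 32 := by
  by_contra hge
  rw [inPen, List.getD_eq_default _ _ (by rw [ten_pen_ok.1]; omega)] at h
  simp at h

/-- A linear bijection of the bivectors preserving the decomposable ones. -/
structure DecMap (f : ℕ → ℕ) : Prop where
  lt : ∀ x < 1024, f x < 1024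
  xor : ∀ x y, x < 1024 → y < 1024 → f (x ^^^ y) = f x ^^^ f y
  inj : ∀ x y, x < 1024 → y < 1024 → f x = f y → x = y
  dec : ∀ w ∈ tenDec, f w ∈ tenDec

namespace DecMap

variable {f : ℕ → ℕ} (hf : DecMap f)
include hf

theorem zero : f 0 = 0 := by
  have h := hf.xor 0 0 (by norm_num) (by norm_num)
  rwa [Nat.xor_self, Nat.xor_self] at h

/-- The image of a pencil is a pencil. -/
theorem exists_point {a : ℕ} (ha : a < 32) (ha0 : a ≠ 0) :
    ∃ p, p < 32 ∧ p ≠ 0 ∧ ∀ w ∈ tenPen.getD a [], inPen p (f w) = true := by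
  classical
  obtain ⟨hlen, hnd, hP⟩ := pen_facts ha ha0
  set L := tenPen.getD a []
  have hadj : ∀ u ∈ L, ∀ v ∈ L, u ≠ v → tenDecO.testBit (f u ^^^ f v) = true := by
    intro u hu v hv huv
    obtain ⟨b, hb, rfl⟩ := (hP u hu).2.2
    obtain ⟨c, hc, rfl⟩ := (hP v hv).2.2
    have hl1 := (tenWedge_bound ha hb).1
    have hl2 := (tenWedge_bound ha hc).1
    have e : tenWedge a b ^^^ tenWedge a c = tenWedge a (b ^^^ c) := by
      rw [(tenWedge_bound ha hb).2, (tenWedge_bound ha hc).2, ← tenWedge_xor hb hc ha,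
        (tenWedge_bound (Nat.xor_lt_two_pow (n := 5) hb hc) ha).2]
    rw [← hf.xor _ _ hl1 hl2, e]
    refine (mem_dec (hf.dec _ ?_)).2
    rcases tenWedge_cases ha (Nat.xor_lt_two_pow (n := 5) hb hc) with ⟨-, h0⟩ | ⟨-, -, -, -, h, -⟩
    · rw [h0, Nat.xor_eq_zero_iff] at e
      exact absurd e huv
    · rw [inPen, List.contains_iff_mem] at h
      exact (hP _ h).2.1
  have hlt : ∀ u ∈ L, u < 1024 := fun u hu => (mem_dec (hP u hu).2.1).1
  have hinj : ∀ u ∈ L, ∀ v ∈ L, f u = f v → u = v := fun u hu v hv h => hf.inj u v (hlt u hu) (hlt v hv) h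
  set S := L.toFinset.image f with hS
  have hSc : S.card = 15 := by
    rw [hS, Finset.card_image_of_injOn, List.toFinset_card_of_nodup hnd, hlen]
    intro u hu v hv h
    exact hinj u (List.mem_toFinset.1 hu) v (List.mem_toFinset.1 hv) h
  have hSd : ∀ x ∈ S, x ∈ tenDec := fun x hx => by
    obtain ⟨u, hu, rfl⟩ := Finset.mem_image.1 hx
    exact hf.dec u (hP u (List.mem_toFinset.1 hu)).2.1
  have hSa : ∀ x ∈ S, ∀ y ∈ S, x ≠ y → tenDecO.testBit (x ^^^ y) = true := fun x hx y hy hne => by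
    obtain ⟨u, hu, rfl⟩ := Finset.mem_image.1 hx
    obtain ⟨v, hv, rfl⟩ := Finset.mem_image.1 hy
    exact hadj u (List.mem_toFinset.1 hu) v (List.mem_toFinset.1 hv) (fun e => hne (e ▸ rfl))
  obtain ⟨x, hx, y, hy, hxy⟩ := Finset.one_lt_card.1 (show 1 < S.card by omega)
  obtain ⟨u, v, hu, hv, huv⟩ : ∃ u v, u ∈ S ∧ v ∈ S ∧ u < v := by
    rcases Nat.lt_or_gt_of_ne hxy with h | h
    exacts [⟨x, y, hx, hy, h⟩, ⟨y, x, hy, hx, h⟩]
  have hp := List.all_eq_true.1 (List.all_eq_true.1 ten_pair_ok u (hSd u hu)) v (hSd v hv)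
  simp only [Bool.or_eq_true, Bool.not_eq_true', List.any_eq_true, Bool.and_eq_true, List.mem_range,
    show Nat.blt u v = true from Nat.blt_eq ▸ huv, show tenDecO.testBit (Nat.xor u v) = true from
      hSa u hu v hv (Nat.ne_of_lt huv), Bool.true_eq_false, false_or] at hp
  obtain ⟨p, hp32, hpu, hpv⟩ := hp
  refine ⟨p, hp32, fun h0 => ?_, fun w hw => ?_⟩
  · subst h0
    have : tenPen.getD 0 [] = [] := by decide +kernel
    rw [inPen, this] at hpu
    simp at hpu
  by_contra hno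
  rw [Bool.not_eq_true] at hno
  have hwS : f w ∈ S := Finset.mem_image_of_mem f (List.mem_toFinset.2 hw)
  have hwu : f w ≠ u := fun e => by rw [e, hpu] at hno; exact Bool.noConfusion hno
  have hwv : f w ≠ v := fun e => by rw [e, hpv] at hno; exact Bool.noConfusion hno
  have hc := List.all_eq_true.1 (List.all_eq_true.1 (List.all_eq_true.1 ten_clique_ok p (List.mem_range.2 hp32))
    u (List.contains_iff_mem.1 hpu)) v (List.contains_iff_mem.1 hpv)
  simp only [Bool.or_eq_true, Bool.not_eq_true', show Nat.blt u v = true from Nat.blt_eq ▸ huv, Bool.true_eq_false,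
    false_or, List.all_eq_true] at hc
  have hmemC : ∀ x ∈ S, x ≠ u → x ≠ v → x ∈ tenCommon u v := fun x hx hxu hxv => List.mem_filter.2 ⟨hSd x hx, by
    simp only [Bool.and_eq_true]
    exact ⟨hSa x hx u hu hxu, hSa x hx v hv hxv⟩⟩
  have hc := (hc (f w) (hmemC _ hwS hwu hwv)).resolve_left (by rw [hno]; simp)
  rw [Nat.blt_eq] at hc
  have hle : (((S.erase u).erase v).erase (f w)).card ≤
      ((tenCommon u v).filter fun x => tenDecO.testBit (Nat.xor x (f w))).toFinset.card := by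
    refine Finset.card_le_card fun x hx => ?_
    simp only [Finset.mem_erase] at hx
    obtain ⟨hxw, hxv, hxu, hxS⟩ := hx
    exact List.mem_toFinset.2 (List.mem_filter.2 ⟨hmemC x hxS hxu hxv, hSa x hxS _ hwS hxw⟩)
  have h1 := Finset.pred_card_le_card_erase (a := u) (s := S)
  have h2 := Finset.pred_card_le_card_erase (a := v) (s := S.erase u)
  have h3 := Finset.pred_card_le_card_erase (a := f w) (s := (S.erase u).erase v)
  have h4 := hle.trans (List.toFinset_card_le _)
  omega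

/-- **It is induced by a linear map.** -/
theorem exists_sig : ∃ σ : ℕ → ℕ, (∀ a < 32, σ a < 32) ∧ (∀ a b, a < 32 → b < 32 → σ (a ^^^ b) = σ a ^^^ σ b) ∧
    ∀ a b, a < 32 → b < 32 → f (tenWedge a b) = tenWedge (σ a) (σ b) := by
  classical
  choose! p hp32 hp0 hp using fun a (h : a < 32 ∧ a ≠ 0) => hf.exists_point h.1 h.2
  let σ : ℕ → ℕ := fun a => if a = 0 then 0 else p a
  have hσ32 : ∀ a < 32, σ a < 32 := fun a ha => by
    simp only [σ]; split
    · norm_num
    · exact hp32 a ⟨ha, ‹_›⟩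
  have hσe : ∀ a, a ≠ 0 → σ a = p a := fun a ha => if_neg ha
  have hmem : ∀ a < 32, a ≠ 0 → ∀ {w}, inPen a w = true → inPen (σ a) (f w) = true := fun a ha ha0 {w} hw => by
    rw [hσe a ha0]; exact hp a ⟨ha, ha0⟩ w (List.contains_iff_mem.1 hw)
  -- different points go to different points
  have hinjσ : ∀ a b, a < 32 → b < 32 → a ≠ 0 → b ≠ 0 → a ≠ b → σ a ≠ σ b := by
    intro a b ha hb ha0 hb0 hab e
    obtain ⟨hlen, hnd, hPa⟩ := pen_facts ha ha0
    obtain ⟨hlen', hnd', hPb⟩ := pen_facts hb hb0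
    have hσa : σ a ≠ 0 := hσe a ha0 ▸ hp0 a ⟨ha, ha0⟩
    obtain ⟨hlen'', hnd'', -⟩ := pen_facts (hσ32 a ha) hσa
    have himg : ∀ c, c < 32 → c ≠ 0 → σ c = σ a →
        (tenPen.getD c []).toFinset.image f = (tenPen.getD (σ a) []).toFinset := by
      intro c hc hc0 hca
      obtain ⟨hl, hn, hPc⟩ := pen_facts hc hc0
      refine Finset.eq_of_subset_of_card_le (fun x hx => ?_) ?_
      · obtain ⟨w, hw, rfl⟩ := Finset.mem_image.1 hx
        exact List.mem_toFinset.2 (List.contains_iff_mem.1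
          (hca ▸ hmem c hc hc0 (List.contains_iff_mem.2 (List.mem_toFinset.1 hw))))
      · rw [List.toFinset_card_of_nodup hnd'', hlen'', Finset.card_image_of_injOn, List.toFinset_card_of_nodup hn, hl]
        intro u hu v hv h
        exact hf.inj u v (mem_dec (hPc u (List.mem_toFinset.1 hu)).2.1).1
          (mem_dec (hPc v (List.mem_toFinset.1 hv)).2.1).1 h
    have hsub : ∀ w ∈ tenPen.getD a [], w = tenWedge a b := by
      intro w hw
      have hx : f w ∈ (tenPen.getD b []).toFinset.image f := by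
        rw [himg b hb hb0 e.symm, ← himg a ha ha0 rfl]
        exact Finset.mem_image_of_mem f (List.mem_toFinset.2 hw)
      obtain ⟨v, hv, hvw⟩ := Finset.mem_image.1 hx
      have hvw' := hf.inj v w (mem_dec (hPb v (List.mem_toFinset.1 hv)).2.1).1 (mem_dec (hPa w hw).2.1).1 hvw
      subst hvw'
      have h := List.all_eq_true.1 (List.all_eq_true.1 ten_inter_ok a (List.mem_range.2 ha)) b (List.mem_range.2 hb)
      simp only [Bool.or_eq_true, Nat.beq_eq, hab, false_or, List.all_eq_true, Bool.not_eq_true'] at h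
      exact (h v hw).resolve_left (by rw [inPen, List.contains_iff_mem.2 (List.mem_toFinset.1 hv)]; simp)
    have hle : (tenPen.getD a []).toFinset.card ≤ 1 := Finset.card_le_one.2 fun u hu v hv =>
      (hsub u (List.mem_toFinset.1 hu)).trans (hsub v (List.mem_toFinset.1 hv)).symm
    rw [List.toFinset_card_of_nodup hnd, hlen] at hle
    norm_num at hle
  have hwed : ∀ a b, a < 32 → b < 32 → f (tenWedge a b) = tenWedge (σ a) (σ b) := by
    intro a b ha hb
    rcases tenWedge_cases ha hb with ⟨hc, h0⟩ | ⟨ha0, hb0, hab, -, hA, hB⟩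
    · rw [h0, hf.zero]
      rcases tenWedge_cases (hσ32 a ha) (hσ32 b hb) with ⟨-, h⟩ | ⟨h1, h2, h3, -⟩
      · exact h.symm
      · exfalso
        rcases hc with rfl | rfl | rfl
        exacts [h1 (if_pos rfl), h2 (if_pos rfl), h3 rfl]
    have h := List.all_eq_true.1 (List.all_eq_true.1 ten_inter_ok (σ a) (List.mem_range.2 (hσ32 a ha)))
      (σ b) (List.mem_range.2 (hσ32 b hb))
    simp only [Bool.or_eq_true, Nat.beq_eq, hinjσ a b ha hb ha0 hb0 hab, false_or, List.all_eq_true,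
      Bool.not_eq_true'] at h
    exact (h _ (List.contains_iff_mem.1 (hmem a ha ha0 hA))).resolve_left (by simp [hmem b hb hb0 hB])
  refine ⟨σ, hσ32, fun a b ha hb => ?_, hwed⟩
  by_cases ha0 : a = 0
  · subst ha0; simp [σ]
  by_cases hb0 : b = 0
  · subst hb0; simp [σ]
  by_cases hab : a = b
  · subst hab; simp [σ]
  set c := a ^^^ b with hcdef
  have hc : c < 32 := Nat.xor_lt_two_pow (n := 5) ha hb
  have hc0 : c ≠ 0 := fun h => hab (Nat.xor_eq_zero_iff.1 h)
  have hac : a ≠ c := fun h => hb0 (by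
    have := congrArg (a ^^^ ·) h
    simp only [hcdef, Nat.xor_self, ← Nat.xor_assoc, Nat.zero_xor] at this
    exact this.symm)
  have hbc : b ≠ c := fun h => ha0 (by
    have := congrArg (· ^^^ b) h
    simp only [hcdef, Nat.xor_self, Nat.xor_assoc, Nat.xor_zero] at this
    exact this.symm)
  have hw : tenWedge c a = tenWedge a b := by
    rw [hcdef, tenWedge_xor ha hb ha, (tenWedge_bound hb ha).2]
    rcases tenWedge_cases ha ha with ⟨-, h⟩ | ⟨-, -, h, -⟩
    · rw [h, Nat.zero_xor]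
    · exact absurd rfl h
  rcases tenWedge_cases ha hb with ⟨h, -⟩ | ⟨-, -, -, -, hA, hB⟩
  · rcases h with h | h | h <;> contradiction
  have hC : inPen c (tenWedge a b) = true := by
    rcases tenWedge_cases hc ha with ⟨h, -⟩ | ⟨-, -, -, -, h, -⟩
    · rcases h with h | h | h
      exacts [absurd h hc0, absurd h ha0, absurd h.symm hac]
    · rwa [hw] at h
  have hd : f (tenWedge a b) ∈ tenDec := hf.dec _ ((pen_facts ha ha0).2.2 _ (List.contains_iff_mem.1 hA)).2.1
  have h3 := List.all_eq_true.1 ten_three_ok _ hd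
  simp only [List.all_eq_true, List.mem_filter, List.mem_range, Bool.or_eq_true, Nat.beq_eq] at h3
  rcases h3 (σ a) ⟨hσ32 a ha, hmem a ha ha0 hA⟩ (σ b) ⟨hσ32 b hb, hmem b hb hb0 hB⟩
    (σ c) ⟨hσ32 c hc, hmem c hc hc0 hC⟩ with ((h | h) | h) | h
  · exact absurd h (hinjσ a b ha hb ha0 hb0 hab)
  · exact absurd h (hinjσ a c ha hc ha0 hc0 hac)
  · exact absurd h (hinjσ b c hb hc hb0 hc0 hbc)
  · exact h

end DecMap

end CfsgLib.JFourLocal
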