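import Cfsg.Agent.Lib.Classical.Card
import Cfsg.Agent.Lib.JFourLocal.TenOrbit
import Cfsg.Agent.Lib.JFourLocal.TenRhoChecks
import Cfsg.Agent.Lib.JFourLocal.TenWedge

/-!
# The normalizer induces the linear group of dimension five

Its order, the homomorphism onto `SL(5, 2)` with kernel the subgroup and the second orbit.
-/

set_option autoImplicit false
set_option maxRecDepth 100000
set_option linter.style.haveILetI false
set_option linter.unusedSectionVars false

open Cfsg

namespace CfsgLib.JFourLocal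

open CfsgLib.JFour CfsgLib.JFour.Ctx

/-- The number of a vector. -/
def toN (v : Fin 5 → ZMod 2) : ℕ :=
  tenBit (v 0 == 1) + 2 * tenBit (v 1 == 1) + 4 * tenBit (v 2 == 1) + 8 * tenBit (v 3 == 1) + 16 * tenBit (v 4 == 1)

/-- The vector of a number. -/
def toV (k : ℕ) : Fin 5 → ZMod 2 := fun i => if k.testBit i then 1 else 0

theorem toV_toN : ∀ v : Fin 5 → ZMod 2, toV (toN v) = v ∧ toN v < 32 := by decide +kernel

theorem toN_toV : ∀ k < 32, toN (toV k) = k := by decide +kernel

theorem toN_add : ∀ v w : Fin 5 → ZMod 2, toN (v + w) = toN v ^^^ toN w := by decide +kernel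

theorem card_SL_five_two : Nat.card (Matrix.SpecialLinearGroup (Fin 5) (ZMod 2)) = 9999360 := by
  have h := CfsgLib.Classical.sub_one_mul_card_SL (F := ZMod 2) (n := 5) (by norm_num)
  simp [-Nat.card_eq_fintype_card, Fin.prod_univ_five] at h
  omega

theorem inPen_of_mem {p w b : ℕ} (hp : p < 32) (hb : b < 32) (h : tenWedge p b = w) (hw : w ≠ 0) :
    inPen p w = true := by
  rcases tenWedge_cases hp hb with ⟨-, h0⟩ | ⟨-, -, -, -, h', -⟩
  · exact absurd (h.symm.trans h0) hw
  · rwa [h] at h'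

variable {G : Type*} [Group G] [Finite G] {M : Type*} [Group M] [Finite M] {z π : G} {E : Subgroup G}
  {J : Ctx M z π E} {g : ℕ → M} {vec : ℕ → G} {V A : Subgroup G} {el : ℕ → G} {s : ↥(CZ z π)}

namespace TenBase

variable (B : TenBase J g vec A el s) (D : TenCtx J g vec V) (hA : IsTen J g A)
include B D hA

theorem z_mem_norm : z ∈ Subgroup.normalizer (A : Set G) := Subgroup.le_normalizer hA.z_mem

theorem E_le_norm : E ≤ Subgroup.normalizer (A : Set G) := by
  set N := Subgroup.normalizer (A : Set G)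
  have hz := B.z_mem_norm D hA
  have V' := D.model.coords
  have h : ∀ k ≤ 12, ∀ n < 2 ^ k, vec n ∈ N := by
    intro k
    induction k with
    | zero =>
      intro _ n hn
      obtain rfl : n = 0 := by simpa using hn
      exact (J.mem_vec_iff hz (V'.rel_zero J)).2 (one_mem _)
    | succ k ih =>
      intro hk n hn
      by_cases hlt : n < 2 ^ k
      · exact ih (by omega) n hlt
      obtain ⟨r, rfl⟩ : ∃ r, n = r + 2 ^ k := ⟨n - 2 ^ k, by omega⟩
      have hr : r < 2 ^ k := by rw [pow_succ] at hn; omega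
      rw [add_two_pow hr]
      refine (J.mem_vec_iff hz (V'.add r _ (lt_of_lt_of_le hr
        (le_of_le_of_eq (Nat.pow_le_pow_right (by norm_num) (show k ≤ 12 by omega)) (by norm_num)))
        (two_pow_lt (n := 12) (by omega)))).2 ?_
      exact mul_mem (ih (by omega) r hr) (B.basisN k (by omega))
  intro e he
  obtain ⟨n, hn, hr⟩ := V'.surj e he
  exact (J.mem_vec_iff hz hr).2 (h 12 le_rfl n (by simpa using hn))

/-- The part of the normalizer in `C(z)` is large. -/
theorem card_cent_ge : 66060288 ≤ Nat.card ↥(Subgroup.normalizer (A : Set G) ⊓ Subgroup.centralizer ({z} : Set G)) := by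
  classical
  set N := Subgroup.normalizer (A : Set G) with hN
  set H := N ⊓ Subgroup.centralizer ({z} : Set G) with hH
  set S := N ⊓ H0 z π E with hS
  obtain ⟨ψ, hψ⟩ := J.exists_projH
  have hSH : S ≤ H := inf_le_inf_left N J.H0_le
  let f : ↥S →* M := ψ.comp (Subgroup.inclusion inf_le_right)
  have hrange : Subgroup.normalizer (tenK g : Set M) ≤ f.range := by
    intro m hm
    obtain ⟨d, rfl⟩ := J.proj_surj m
    exact ⟨⟨d, hA.mem_normalizer D.small hm, CZ_le_H0 z π E d.2⟩,
      hψ ⟨d, CZ_le_H0 z π E d.2⟩ d (by rw [mul_inv_cancel]; exact one_mem E)⟩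
  have hπN : π ∈ N := hA.mem_normalizer D.small (d := ⟨π, J.pi_mem_CZ⟩) (by rw [J.proj_pi]; exact one_mem _)
  have hker : 2 ^ 13 * 3 ≤ Nat.card f.ker := by
    let F : ↥E × Fin 3 → ↥f.ker := fun q => ⟨⟨(q.1 : G) * π ^ (q.2 : ℕ),
      mul_mem (B.E_le_norm D hA q.1.2) (pow_mem hπN _),
      mul_mem (E_le_H0 z π E q.1.2) (pow_mem J.pi_mem_H0 _)⟩, by
      rw [MonoidHom.mem_ker]
      exact (hψ ⟨(q.1 : G) * π ^ (q.2 : ℕ), mul_mem (E_le_H0 z π E q.1.2) (pow_mem J.pi_mem_H0 _)⟩
        (⟨π, J.pi_mem_CZ⟩ ^ (q.2 : ℕ)) (by simp)).trans (by rw [map_pow, J.proj_pi, one_pow])⟩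
    have hinj : Function.Injective F := by
      rintro ⟨e, i⟩ ⟨e', j⟩ h
      have h' : (e : G) * π ^ (i : ℕ) = (e' : G) * π ^ (j : ℕ) := congrArg (fun x : ↥f.ker => ((x : ↥S) : G)) h
      have hij : i = j := by
        by_contra hne
        have hmem : π ^ (i : ℕ) * (π ^ (j : ℕ))⁻¹ ∈ E := by
          rw [show π ^ (i : ℕ) * (π ^ (j : ℕ))⁻¹ = (e : G)⁻¹ * e' by
            rw [eq_inv_mul_iff_mul_eq, ← mul_assoc, h', mul_inv_cancel_right]]
          exact mul_mem (inv_mem e.2) e'.2
        have hπ2 : π * π ∉ E := fun hh => J.pi_not_mem (by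
          have := inv_mem hh; rwa [← J.pi_inv, inv_inv] at this)
        revert hmem
        fin_cases i <;> fin_cases j <;> simp at hne ⊢
        all_goals first
          | exact J.pi_not_mem
          | (intro hh; exact J.pi_not_mem (inv_mem_iff.1 hh))
          | (simp [pow_two]; exact hπ2)
          | (simp [pow_two]; exact J.pi_not_mem)
          | (rw [pow_two]; intro hh; first | exact hπ2 hh | exact hπ2 (inv_mem_iff.1 hh))
      subst hij
      exact Prod.ext (Subtype.ext (mul_right_cancel h')) rfl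
    have h := Nat.card_le_card_of_injective F hinj
    rwa [Nat.card_prod, Nat.card_fin, J.cardE] at h
  have hS_ge : 2 ^ 13 * 3 * 1344 ≤ Nat.card S := by
    rw [← f.ker.card_mul_index, Subgroup.index_ker]
    exact Nat.mul_le_mul hker ((Nat.le_of_dvd Nat.card_pos D.facts.norm).trans (Subgroup.card_le_of_le hrange))
  -- an element outside `H0`
  obtain ⟨h, hz, hp⟩ := J.swap
  have hself : IsSelf z A := ⟨hA.sq, hA.card, hA.z_mem, D.centralizer_le hA⟩
  obtain ⟨d, hd⟩ := D.self_classify (hself.map hz) hψ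
  have he := hA.unique D.small hd
  rw [Subgroup.map_map] at he
  have hdh : (d : G) * h ∈ N := by
    rw [hN, Subgroup.mem_normalizer_iff]
    intro y
    conv_rhs => rw [← he]
    simp only [Subgroup.mem_map, MonoidHom.comp_apply, MulEquiv.coe_toMonoidHom, MulAut.conj_apply]
    constructor
    · exact fun hy => ⟨y, hy, by group⟩
    · rintro ⟨v, hv, hve⟩
      have : v = y := by
        have h' : (d : G) * h * v * ((d : G) * h)⁻¹ = (d : G) * h * y * ((d : G) * h)⁻¹ := by
          rw [← hve]; group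
        exact mul_left_cancel (mul_right_cancel h')
      exact this ▸ hv
  have hdhH : (d : G) * h ∈ H :=
    ⟨hdh, Subgroup.mem_centralizer_singleton_iff.2
      ((show Commute (d : G) z from (mem_CZ.1 d.2).1).mul_left (show Commute h z from hz)).eq⟩
  have hne : (S.subgroupOf H).index ≠ 1 := fun e1 => J.swap_not_mem hz hp (by
    rw [Subgroup.index_eq_one, Subgroup.subgroupOf_eq_top] at e1
    have := mul_mem (inv_mem (CZ_le_H0 z π E d.2)) (e1 hdhH).2
    rwa [inv_mul_cancel_left] at this)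
  have hidx := (S.subgroupOf H).card_mul_index
  rw [Nat.card_congr (Subgroup.subgroupOfEquivOfLe hSH).toEquiv] at hidx
  have h2 : 2 ≤ (S.subgroupOf H).index := by
    have := (S.subgroupOf H).index_ne_zero_of_finite
    omega
  calc 66060288 = 2 ^ 13 * 3 * 1344 * 2 := by norm_num
    _ ≤ Nat.card S * (S.subgroupOf H).index := Nat.mul_le_mul hS_ge h2
    _ = _ := hidx

/-- The normalizer is large. -/
theorem card_norm_ge : 2 ^ 10 * 9999360 ≤ Nat.card ↥(Subgroup.normalizer (A : Set G)) := by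
  rw [← card_orbit_mul (Subgroup.normalizer (A : Set G)) z, B.ncard_orbit_z D hA]
  exact le_of_eq_of_le (by norm_num) (Nat.mul_le_mul_left 155 (B.card_cent_ge D hA))

/-- The code of a conjugate. -/
noncomputable def act (_ : TenBase J g vec A el s) (n : G) (x : ℕ) : ℕ :=
  Classical.epsilon fun y => y < 1024 ∧ el y = n * el x * n⁻¹

theorem act_spec {n : G} (hn : n ∈ Subgroup.normalizer (A : Set G)) (x : ℕ) :
    B.act n x < 1024 ∧ el (B.act n x) = n * el x * n⁻¹ := by
  refine Classical.epsilon_spec (p := fun y => y < 1024 ∧ el y = n * el x * n⁻¹) ?_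
  exact B.surj _ ((Subgroup.mem_normalizer_iff.1 hn _).1 (B.mem x))

/-- The induced map on bivectors. -/
noncomputable def wmap (B : TenBase J g vec A el s) (n : G) (w : ℕ) : ℕ := ap tenIota (B.act n (ap tenIotaI w))

omit B D hA in
theorem iota_spec {x : ℕ} (hx : x < 1024) : ap tenIota x < 1024 ∧ ap tenIotaI x < 1024 ∧
    ap tenIota (ap tenIotaI x) = x ∧ ap tenIotaI (ap tenIota x) = x ∧
    ((tenCls false false).testBit x = tenDecO.testBit (ap tenIota x)) := by
  obtain ⟨h1, h2, h3⟩ := ten_iota_ok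
  have h := List.all_eq_true.1 h3 x (List.mem_range.2 hx)
  simp only [Bool.and_eq_true, Nat.beq_eq, beq_iff_eq] at h
  simp only [List.all_eq_true, Nat.blt_eq] at h1 h2
  exact ⟨ap_lt1024 h1 x, ap_lt1024 h2 x, h.1.1, h.1.2, h.2⟩

theorem wmap_dec {n : G} (hn : n ∈ Subgroup.normalizer (A : Set G)) : DecMap (B.wmap n) := by
  have hlt : ∀ x < 1024, B.wmap n x < 1024 := fun x hx => (iota_spec (B.act_spec D hA hn _).1).1
  have hxor : ∀ x y, x < 1024 → y < 1024 → B.wmap n (x ^^^ y) = B.wmap n x ^^^ B.wmap n y := by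
    intro x y hx hy
    simp only [wmap]
    rw [← ap_xor, ap_xor tenIotaI]
    refine congrArg (ap tenIota) (B.inj _ _ (B.act_spec D hA hn _).1
      (Nat.xor_lt_two_pow (n := 10) (B.act_spec D hA hn _).1 (B.act_spec D hA hn _).1) ?_)
    rw [(B.act_spec D hA hn _).2, B.add _ _ (iota_spec hx).2.1 (iota_spec hy).2.1,
      B.add _ _ (B.act_spec D hA hn _).1 (B.act_spec D hA hn _).1, (B.act_spec D hA hn _).2,
      (B.act_spec D hA hn _).2]
    group
  refine ⟨hlt, hxor, fun x y hx hy h => ?_, fun w hw => ?_⟩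
  · have h' := congrArg (ap tenIotaI) h
    simp only [wmap, (iota_spec (B.act_spec D hA hn _).1).2.2.2.1] at h'
    have h'' := congrArg el h'
    rw [(B.act_spec D hA hn _).2, (B.act_spec D hA hn _).2, mul_right_cancel_iff, mul_right_inj] at h''
    have := B.inj _ _ (iota_spec hx).2.1 (iota_spec hy).2.1 h''
    rw [← (iota_spec hx).2.2.1, this, (iota_spec hy).2.2.1]
  · obtain ⟨hw', hwb⟩ := mem_dec hw
    have hc := (B.class_eq D hA _ (iota_spec hw').2.1).2 (by
      rw [(iota_spec (iota_spec hw').2.1).2.2.2.2, (iota_spec hw').2.2.1]; exact hwb)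
    have hc' : IsConj z (el (B.act n (ap tenIotaI w))) := by
      rw [(B.act_spec D hA hn _).2]; exact (isConj_conj_iff n).2 hc
    have hb := (B.class_eq D hA _ (B.act_spec D hA hn _).1).1 hc'
    rw [(iota_spec (B.act_spec D hA hn _).1).2.2.2.2] at hb
    have h := List.all_eq_true.1 ten_dec_ok.1 (B.wmap n w) (List.mem_range.2 (hlt w hw'))
    rw [beq_iff_eq] at h
    exact List.contains_iff_mem.1 (h.symm.trans hb)

/-- The matrix of an element. -/
def IsMat (B : TenBase J g vec A el s) (n : G) (X : Matrix (Fin 5) (Fin 5) (ZMod 2)) : Prop :=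
  ∀ v w : Fin 5 → ZMod 2, B.wmap n (tenWedge (toN v) (toN w)) = tenWedge (toN (X.mulVec v)) (toN (X.mulVec w))

theorem exists_mat {n : G} (hn : n ∈ Subgroup.normalizer (A : Set G)) : ∃ X, IsMat B n X := by
  obtain ⟨σ, hσ, hσa, hσw⟩ := (B.wmap_dec D hA hn).exists_sig
  let L : (Fin 5 → ZMod 2) →+ (Fin 5 → ZMod 2) := AddMonoidHom.mk' (fun v => toV (σ (toN v))) fun v w => by
    refine (toV_toN _).1.symm.trans ((congrArg toV ?_).trans (toV_toN _).1)
    rw [toN_add (toV _) (toV _), toN_toV _ (hσ _ (toV_toN v).2), toN_toV _ (hσ _ (toV_toN w).2),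
      toN_toV _ (hσ _ (toV_toN _).2), toN_add, hσa _ _ (toV_toN v).2 (toV_toN w).2]
  refine ⟨LinearMap.toMatrix' (L.toZModLinearMap 2), fun v w => ?_⟩
  rw [LinearMap.toMatrix'_mulVec, LinearMap.toMatrix'_mulVec]
  show _ = tenWedge (toN (toV (σ (toN v)))) (toN (toV (σ (toN w))))
  rw [toN_toV _ (hσ _ (toV_toN v).2), toN_toV _ (hσ _ (toV_toN w).2)]
  exact hσw _ _ (toV_toN v).2 (toV_toN w).2

/-- Two wedges with a vector determine it. -/
theorem mat_inj {n : G} (hn : n ∈ Subgroup.normalizer (A : Set G)) {X : Matrix (Fin 5) (Fin 5) (ZMod 2)}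
    (hX : IsMat B n X) : Function.Injective X.mulVec := by
  intro v w h
  by_contra hne
  have hN : toN v ≠ toN w := fun e => hne (by rw [← (toV_toN v).1, e, (toV_toN w).1])
  -- some vector is outside their difference
  have hd : toN v ^^^ toN w ≠ 0 := fun e => hN (Nat.xor_eq_zero_iff.1 e)
  set d := toN v ^^^ toN w with hd'
  have hd32 : d < 32 := Nat.xor_lt_two_pow (n := 5) (toV_toN v).2 (toV_toN w).2
  obtain ⟨b, hb, hb0, hbd⟩ : ∃ b, b < 32 ∧ b ≠ 0 ∧ b ≠ d := by
    by_cases h1 : d = 1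
    exacts [⟨2, by norm_num, by norm_num, by omega⟩, ⟨1, by norm_num, by norm_num, Ne.symm h1⟩]
  have hD := B.wmap_dec D hA hn
  have e1 := hX v (toV b)
  have e2 := hX w (toV b)
  rw [h] at e1
  have e3 := hD.inj _ _ (tenWedge_bound (toV_toN v).2 (toV_toN _).2).1 (tenWedge_bound (toV_toN w).2 (toV_toN _).2).1
    (e1.trans e2.symm)
  rw [toN_toV b hb] at e3
  have e4 : tenWedge d b = 0 := by
    rw [hd', tenWedge_xor (toV_toN v).2 (toV_toN w).2 hb, e3, Nat.xor_self]
  rcases tenWedge_cases hd32 hb with ⟨h', -⟩ | ⟨-, -, -, h', -⟩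
  · rcases h' with h' | h' | h'
    exacts [hd h', hb0 h', hbd h'.symm]
  · exact h' e4

theorem mat_det {n : G} (hn : n ∈ Subgroup.normalizer (A : Set G)) {X : Matrix (Fin 5) (Fin 5) (ZMod 2)}
    (hX : IsMat B n X) : X.det = 1 := by
  have hu : IsUnit X.det :=
    (Matrix.isUnit_iff_isUnit_det X).1 (Matrix.mulVec_injective_iff_isUnit.1 (B.mat_inj D hA hn hX))
  have key : ∀ a : ZMod 2, a ≠ 0 → a = 1 := by decide
  exact key _ hu.ne_zero

theorem mat_unique {n : G} (hn : n ∈ Subgroup.normalizer (A : Set G)) {X Y : Matrix (Fin 5) (Fin 5) (ZMod 2)}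
    (hX : IsMat B n X) (hY : IsMat B n Y) : X = Y := by
  refine Matrix.mulVec_injective (funext fun v => ?_)
  rw [← (toV_toN (X.mulVec v)).1, ← (toV_toN (Y.mulVec v)).1]
  refine congrArg toV ?_
  by_cases hv : toN v = 0
  · have : v = 0 := by rw [← (toV_toN v).1, hv]; decide
    rw [this, Matrix.mulVec_zero, Matrix.mulVec_zero]
  -- two different wedges with `v`
  obtain ⟨a, b, ha, hb, h0a, h0b, hab⟩ : ∃ a b, a < 32 ∧ b < 32 ∧ tenWedge (toN v) a ≠ 0 ∧
      tenWedge (toN v) b ≠ 0 ∧ tenWedge (toN v) a ≠ tenWedge (toN v) b := by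
    have key : ∀ x < 32, x ≠ 0 → ∃ a < 32, ∃ b < 32, tenWedge x a ≠ 0 ∧ tenWedge x b ≠ 0 ∧
        tenWedge x a ≠ tenWedge x b := by decide +kernel
    obtain ⟨a, ha, b, hb, h⟩ := key _ (toV_toN v).2 hv
    exact ⟨a, b, ha, hb, h⟩
  have hD := B.wmap_dec D hA hn
  have hne : ∀ c < 32, tenWedge (toN v) c ≠ 0 → B.wmap n (tenWedge (toN v) c) ≠ 0 := fun c hc h e =>
    h (hD.inj _ _ (tenWedge_bound (toV_toN v).2 hc).1 (by norm_num) (e.trans hD.zero.symm))
  have hmem : ∀ {Z : Matrix (Fin 5) (Fin 5) (ZMod 2)}, IsMat B n Z → ∀ c < 32, tenWedge (toN v) c ≠ 0 →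
      inPen (toN (Z.mulVec v)) (B.wmap n (tenWedge (toN v) c)) = true := by
    intro Z hZ c hc h
    have e := hZ v (toV c)
    rw [toN_toV c hc] at e
    exact inPen_of_mem (toV_toN _).2 (toV_toN _).2 e.symm (hne c hc h)
  by_contra hpq
  have h := List.all_eq_true.1 (List.all_eq_true.1 ten_inter_ok _ (List.mem_range.2 (toV_toN (X.mulVec v)).2)) _
    (List.mem_range.2 (toV_toN (Y.mulVec v)).2)
  simp only [Bool.or_eq_true, Nat.beq_eq, hpq, false_or, List.all_eq_true, Bool.not_eq_true'] at h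
  have e1 := (h _ (List.contains_iff_mem.1 (hmem hX a ha h0a))).resolve_left (by simp [hmem hY a ha h0a])
  have e2 := (h _ (List.contains_iff_mem.1 (hmem hX b hb h0b))).resolve_left (by simp [hmem hY b hb h0b])
  exact hab (hD.inj _ _ (tenWedge_bound (toV_toN v).2 ha).1 (tenWedge_bound (toV_toN v).2 hb).1 (e1.trans e2.symm))

theorem wmap_mul {m n : G} (hm : m ∈ Subgroup.normalizer (A : Set G)) (hn : n ∈ Subgroup.normalizer (A : Set G))
    (w : ℕ) : B.wmap (m * n) w = B.wmap m (B.wmap n w) := by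
  simp only [wmap, (iota_spec (B.act_spec D hA hn _).1).2.2.2.1]
  refine congrArg (ap tenIota) (B.inj _ _ (B.act_spec D hA (mul_mem hm hn) _).1 (B.act_spec D hA hm _).1 ?_)
  rw [(B.act_spec D hA (mul_mem hm hn) _).2, (B.act_spec D hA hm _).2, (B.act_spec D hA hn _).2]
  group

/-- The elements of the subgroup act trivially, and only they. -/
theorem wmap_trivial {n : G} (hn : n ∈ Subgroup.normalizer (A : Set G)) :
    n ∈ A ↔ ∀ k < 10, B.wmap n (2 ^ k) = 2 ^ k := by
  constructor
  · intro hnA k hk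
    have h2 : (2 : ℕ) ^ k < 1024 := two_pow_lt (n := 10) hk
    have : B.act n (ap tenIotaI (2 ^ k)) = ap tenIotaI (2 ^ k) := by
      refine B.inj _ _ (B.act_spec D hA hn _).1 (iota_spec h2).2.1 ?_
      rw [(B.act_spec D hA hn _).2, hA.comm n hnA _ (B.mem _), mul_inv_cancel_right]
    rw [wmap, this, (iota_spec h2).2.2.1]
  · intro h
    refine D.centralizer_le hA (Subgroup.mem_centralizer_iff.2 fun a ha => ?_)
    obtain ⟨x, hx, rfl⟩ := B.surj a ha
    have hall : ∀ w < 2 ^ 10, n * el (ap tenIotaI w) * n⁻¹ = el (ap tenIotaI w) := by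
      refine xor_ext (f := fun w => n * el (ap tenIotaI w) * n⁻¹) (h := fun w => el (ap tenIotaI w)) 10
        (fun a b ha hb => ?_) (fun a b ha hb => ?_) fun k hk => ?_
      · simp only [ap_xor]
        rw [B.add _ _ (iota_spec (by simpa using ha)).2.1 (iota_spec (by simpa using hb)).2.1]
        group
      · simp only [ap_xor]
        exact B.add _ _ (iota_spec (by simpa using ha)).2.1 (iota_spec (by simpa using hb)).2.1
      · have h2 : (2 : ℕ) ^ k < 1024 := two_pow_lt (n := 10) hk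
        rw [← (B.act_spec D hA hn _).2]
        refine congrArg el ?_
        have := congrArg (ap tenIotaI) (h k hk)
        rwa [wmap, (iota_spec (B.act_spec D hA hn _).1).2.2.2.1] at this
    have := hall (ap tenIota x) (by simpa using (iota_spec hx).1)
    rw [(iota_spec hx).2.2.2.1] at this
    exact (mul_inv_eq_iff_eq_mul.1 this).symm

/-- **The homomorphism.** -/
theorem exists_rho : ∃ ρ : ↥(Subgroup.normalizer (A : Set G)) →* Matrix.SpecialLinearGroup (Fin 5) (ZMod 2),
    Function.Surjective ρ ∧ (∀ n : ↥(Subgroup.normalizer (A : Set G)), ρ n = 1 ↔ (n : G) ∈ A) ∧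
    ∀ n : ↥(Subgroup.normalizer (A : Set G)), IsMat B (n : G) (ρ n : Matrix (Fin 5) (Fin 5) (ZMod 2)) := by
  classical
  set N := Subgroup.normalizer (A : Set G)
  choose X hX using fun n : ↥N => B.exists_mat D hA n.2
  let ρ : ↥N →* Matrix.SpecialLinearGroup (Fin 5) (ZMod 2) :=
    MonoidHom.mk' (fun n => ⟨X n, B.mat_det D hA n.2 (hX n)⟩) fun m n => Subtype.ext (by
      refine B.mat_unique D hA (m * n).2 (hX (m * n)) fun v w => ?_
      show B.wmap ((m : G) * n) _ = tenWedge (toN ((X m * X n).mulVec v)) (toN ((X m * X n).mulVec w))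
      rw [B.wmap_mul D hA m.2 n.2, hX n v w, hX m, Matrix.mulVec_mulVec, Matrix.mulVec_mulVec])
  have hone : ∀ n : ↥N, ρ n = 1 ↔ (n : G) ∈ A := by
    intro n
    rw [B.wmap_trivial D hA n.2]
    have hb : ∀ k < 10, (tenBase k).1 < 32 ∧ (tenBase k).2 < 32 ∧ tenWedge (tenBase k).1 (tenBase k).2 = 2 ^ k :=
      fun k hk => by
        have h := List.all_eq_true.1 ten_base_ok.1 k (List.mem_range.2 hk)
        simp only [Bool.and_eq_true, Nat.blt_eq, Nat.beq_eq] at h
        exact ⟨h.1.1, h.1.2, h.2⟩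
    constructor
    · intro h k hk
      have hX1 : X n = 1 := congrArg Subtype.val h
      obtain ⟨h1, h2, h3⟩ := hb k hk
      have := hX n (toV (tenBase k).1) (toV (tenBase k).2)
      rwa [hX1, Matrix.one_mulVec, Matrix.one_mulVec, toN_toV _ h1, toN_toV _ h2, h3] at this
    · intro h
      refine Subtype.ext (B.mat_unique D hA n.2 (hX n) fun v w => ?_)
      show _ = tenWedge (toN ((1 : Matrix (Fin 5) (Fin 5) (ZMod 2)).mulVec v))
        (toN ((1 : Matrix (Fin 5) (Fin 5) (ZMod 2)).mulVec w))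
      rw [Matrix.one_mulVec, Matrix.one_mulVec]
      have hD := B.wmap_dec D hA n.2
      have hall : ∀ k ≤ 10, ∀ x < 2 ^ k, B.wmap n x = x := by
        intro k
        induction k with
        | zero =>
          intro _ x hx
          obtain rfl : x = 0 := by simpa using hx
          exact hD.zero
        | succ k ih =>
          intro hk x hx
          by_cases hlt : x < 2 ^ k
          · exact ih (by omega) x hlt
          obtain ⟨r, rfl⟩ : ∃ r, x = r + 2 ^ k := ⟨x - 2 ^ k, by omega⟩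
          have hr : r < 2 ^ k := by rw [pow_succ] at hx; omega
          rw [add_two_pow hr, hD.xor r _ (lt_of_lt_of_le hr
            (le_of_le_of_eq (Nat.pow_le_pow_right (by norm_num) (show k ≤ 10 by omega)) (by norm_num)))
            (two_pow_lt (n := 10) (by omega)), ih (by omega) r hr, h k (by omega)]
      exact hall 10 le_rfl _ (by simpa using (tenWedge_bound (toV_toN v).2 (toV_toN w).2).1)
  refine ⟨ρ, ?_, hone, fun n => hX n⟩
  have hk : Nat.card ρ.ker ≤ 2 ^ 10 := by
    rw [← hA.card]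
    refine Nat.card_le_card_of_injective (fun n => ⟨((n : ↥N) : G), (hone _).1 n.2⟩) fun a b e => ?_
    exact Subtype.ext (Subtype.ext (congrArg (fun x : ↥A => (x : G)) e))
  have h := ρ.ker.card_mul_index
  rw [Subgroup.index_ker] at h
  have hr : 9999360 ≤ Nat.card ρ.range := by
    have h1 := B.card_norm_ge D hA
    rw [← h] at h1
    exact Nat.le_of_mul_le_mul_left (h1.trans (Nat.mul_le_mul_right _ hk)) (by norm_num)
  rw [← MonoidHom.range_eq_top]
  exact Subgroup.eq_top_of_le_card _ (by rw [card_SL_five_two]; exact hr)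

/-- The second orbit. -/
theorem exists_orbit_b : ∃ b ∈ A, b ≠ 1 ∧ ¬ IsConj z b ∧
    {v : G | ∃ n ∈ Subgroup.normalizer (A : Set G), n * b * n⁻¹ = v} = {v | v ∈ A ∧ v ≠ 1 ∧ ¬ IsConj z v} := by
  classical
  obtain ⟨ρ, hρ, -, hmat⟩ := B.exists_rho D hA
  obtain ⟨hlink, hall, hcov, -⟩ := ten_nd_ok
  have hgen : ∀ q < 2, ∃ n ∈ Subgroup.normalizer (A : Set G), ∀ w < 1024,
      B.wmap n w = ap (tenWedgeMap (tenSig.getD q [])) w := by
    intro q hq
    set S := tenSig.getD q [] with hS
    let X : Matrix (Fin 5) (Fin 5) (ZMod 2) := Matrix.of fun i j => toV (ap S (2 ^ (j : ℕ))) i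
    have hX : X.det = 1 ∧ ∀ v : Fin 5 → ZMod 2, toN (X.mulVec v) = ap S (toN v) := by
      have key : ∀ q < 2, (Matrix.of fun i j : Fin 5 => toV (ap (tenSig.getD q []) (2 ^ (j : ℕ))) i).det = 1 ∧
          ∀ v : Fin 5 → ZMod 2, toN ((Matrix.of fun i j : Fin 5 => toV (ap (tenSig.getD q []) (2 ^ (j : ℕ))) i).mulVec v)
            = ap (tenSig.getD q []) (toN v) := by decide +kernel
      exact key q hq
    obtain ⟨n, hn⟩ := hρ ⟨X, hX.1⟩
    refine ⟨n, n.2, ?_⟩
    have hm := hmat n
    rw [hn] at hm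
    have hD := B.wmap_dec D hA n.2
    suffices H : ∀ k ≤ 10, ∀ w < 2 ^ k, B.wmap n w = ap (tenWedgeMap S) w from
      fun w hw => H 10 le_rfl w (by simpa using hw)
    intro k
    induction k with
    | zero =>
      intro _ w hw
      obtain rfl : w = 0 := by simpa using hw
      rw [hD.zero, ap_zero]
    | succ k ih =>
      intro hk w hw
      by_cases hlt : w < 2 ^ k
      · exact ih (by omega) w hlt
      obtain ⟨r, rfl⟩ : ∃ r, w = r + 2 ^ k := ⟨w - 2 ^ k, by omega⟩
      have hr : r < 2 ^ k := by rw [pow_succ] at hw; omega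
      rw [add_two_pow hr, hD.xor r _ (lt_of_lt_of_le hr
        (le_of_le_of_eq (Nat.pow_le_pow_right (by norm_num) (show k ≤ 10 by omega)) (by norm_num)))
        (two_pow_lt (n := 10) (by omega)), ih (by omega) r hr, ap_xor]
      refine congrArg _ ?_
      have hk10 : k < 10 := by omega
      have h := List.all_eq_true.1 ten_base_ok.1 k (List.mem_range.2 hk10)
      simp only [Bool.and_eq_true, Nat.blt_eq, Nat.beq_eq] at h
      have h' := List.all_eq_true.1 (List.all_eq_true.1 ten_base_ok.2.2 q (List.mem_range.2 hq)) k (List.mem_range.2 hk10)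
      rw [Nat.beq_eq, ← hS] at h'
      have e := hm (toV (tenBase k).1) (toV (tenBase k).2)
      rw [toN_toV _ h.1.1, toN_toV _ h.1.2, h.2] at e
      rw [e, ap_pow]
      show tenWedge (toN (X.mulVec _)) (toN (X.mulVec _)) = _
      rw [hX.2, hX.2, toN_toV _ h.1.1, toN_toV _ h.1.2, h']
  set seed := (tenND.getD 0 default).1
  have hreach : ∀ i < tenND.length, (tenND.getD i default).1 < 1024 ∧
      ∃ n ∈ Subgroup.normalizer (A : Set G), B.wmap n seed = (tenND.getD i default).1 := by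
    intro i
    induction i using Nat.strong_induction_on with
    | _ i ih =>
      intro hi
      have hlt : (tenND.getD i default).1 < 1024 := by
        have h := List.all_eq_true.1 hall (tenND.getD i default) (by
          rw [List.getD_eq_getElem _ _ hi]; exact List.getElem_mem _)
        simp only [Bool.and_eq_true, Nat.blt_eq] at h
        exact h.1.1
      refine ⟨hlt, ?_⟩
      have h := List.all_eq_true.1 hlink i (List.mem_range.2 hi)
      simp only [Bool.or_eq_true, Bool.and_eq_true, Nat.beq_eq, Nat.blt_eq] at h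
      rcases h with rfl | ⟨⟨hj, hq⟩, he⟩
      · refine ⟨1, one_mem _, ?_⟩
        have : B.act 1 (ap tenIotaI seed) = ap tenIotaI seed := by
          refine B.inj _ _ (B.act_spec D hA (one_mem _) _).1 (iota_spec hlt).2.1 ?_
          rw [(B.act_spec D hA (one_mem _) _).2]; group
        rw [wmap, this, (iota_spec hlt).2.2.1]
      obtain ⟨hjl, n, hn, hne⟩ := ih _ hj (hj.trans hi)
      obtain ⟨m, hm, hme⟩ := hgen _ hq
      exact ⟨m * n, mul_mem hm hn, by rw [B.wmap_mul D hA hm hn, hne, hme _ hjl, he]⟩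
  have hseed : seed < 1024 ∧ seed ≠ 0 ∧ tenDecO.testBit seed = false := by decide +kernel
  have hcls : ∀ x < 1024, (el x ≠ 1 ∧ ¬ IsConj z (el x)) ↔
      (x ≠ 0 ∧ tenDecO.testBit (ap tenIota x) = false) := by
    intro x hx
    rw [B.class_eq D hA x hx, (iota_spec hx).2.2.2.2, Bool.not_eq_true]
    refine and_congr_left fun _ => not_congr ⟨fun h => B.inj x 0 hx (by norm_num) (by rw [h, B.el_zero]), fun h => ?_⟩
    rw [h, B.el_zero]
  have hb := (hcls _ (iota_spec hseed.1).2.1).2 ⟨fun h => hseed.2.1 (by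
      rw [← (iota_spec hseed.1).2.2.1, h, ap_zero]), by rw [(iota_spec hseed.1).2.2.1]; exact hseed.2.2⟩
  refine ⟨el (ap tenIotaI seed), B.mem _, hb.1, hb.2, Set.ext fun v => ⟨?_, ?_⟩⟩
  · rintro ⟨n, hn, rfl⟩
    refine ⟨(Subgroup.mem_normalizer_iff.1 hn _).1 (B.mem _), fun h => hb.1 ?_, fun h => hb.2 ((isConj_conj_iff n).1 h)⟩
    rwa [mul_inv_eq_one, mul_eq_left] at h
  · rintro ⟨hv, hv1, hvc⟩
    obtain ⟨x, hx, rfl⟩ := B.surj v hv
    obtain ⟨hx0, hxd⟩ := (hcls x hx).1 ⟨hv1, hvc⟩
    have hw := List.all_eq_true.1 hcov (ap tenIota x) (List.mem_range.2 (iota_spec hx).1)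
    have hne0 : ap tenIota x ≠ 0 := fun h => hx0 (by rw [← (iota_spec hx).2.2.2.1, h, ap_zero])
    simp only [Bool.or_eq_true, Nat.beq_eq, hne0, hxd, Bool.false_eq_true, false_or, List.contains_iff_mem,
      List.mem_map] at hw
    obtain ⟨t, ht, hte⟩ := hw
    obtain ⟨i, hi, rfl⟩ := List.getElem_of_mem ht
    obtain ⟨-, n, hn, he⟩ := hreach i hi
    rw [List.getD_eq_getElem _ _ hi, hte] at he
    refine ⟨n, hn, ?_⟩
    rw [← (B.act_spec D hA hn _).2]
    refine congrArg el ?_
    have := congrArg (ap tenIotaI) he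
    rwa [wmap, (iota_spec (B.act_spec D hA hn _).1).2.2.2.1, (iota_spec hx).2.2.2.1] at this

/-- It has length 868. -/
theorem exists_orbit_868 : ∃ b ∈ A,
    Set.ncard {v : G | ∃ n ∈ Subgroup.normalizer (A : Set G), n * b * n⁻¹ = v} = 868 := by
  classical
  obtain ⟨b, hb, -, -, heq⟩ := B.exists_orbit_b D hA
  refine ⟨b, hb, ?_⟩
  have h2 : {v : G | v ∈ A ∧ v ≠ 1 ∧ ¬ IsConj z v} =
      el '' ↑(((List.range 1024).filter fun x => !Nat.beq x 0 && !(tenCls false false).testBit x).toFinset) := by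
    ext v
    simp only [Set.mem_ofPred_eq, Set.mem_image, Finset.mem_coe, List.mem_toFinset, List.mem_filter, List.mem_range,
      Bool.and_eq_true, Bool.not_eq_true', ← Bool.not_eq_true, Nat.beq_eq]
    constructor
    · rintro ⟨hv, h1, h2⟩
      obtain ⟨x, hx, rfl⟩ := B.surj v hv
      exact ⟨x, ⟨hx, fun h => h1 (by rw [h, B.el_zero]), fun h => h2 ((B.class_eq D hA x hx).2 h)⟩, rfl⟩
    · rintro ⟨x, ⟨hx, h1, h2⟩, rfl⟩
      exact ⟨B.mem x, fun h => h1 (B.inj x 0 hx (by norm_num) (by rw [h, B.el_zero])),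
        fun h => h2 ((B.class_eq D hA x hx).1 h)⟩
  rw [heq, h2, Set.ncard_image_of_injOn, Set.ncard_coe_finset,
    List.toFinset_card_of_nodup (List.nodup_range.filter _)]
  · exact ten_nd_ok.2.2.2
  intro a ha b hb h
  simp only [Finset.mem_coe, List.mem_toFinset, List.mem_filter, List.mem_range] at ha hb
  exact B.inj a b ha.1 hb.1 h

/-- **No proper invariant subgroup.** -/
theorem irreducible {W : Subgroup G} (hW : W ≤ A)
    (hN : Subgroup.normalizer (A : Set G) ≤ Subgroup.normalizer (W : Set G)) : W = ⊥ ∨ W = A := by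
  classical
  obtain ⟨b, hb, hb1, hbz, heqb⟩ := B.exists_orbit_b D hA
  have hclosed : ∀ {a : G}, a ∈ W → ∀ n ∈ Subgroup.normalizer (A : Set G), n * a * n⁻¹ ∈ W := fun ha n hn =>
    (Subgroup.mem_normalizer_iff.1 (hN hn) _).1 ha
  set O1 := {v : G | ∃ n ∈ Subgroup.normalizer (A : Set G), n * z * n⁻¹ = v} with hO1
  set O2 := {v : G | ∃ n ∈ Subgroup.normalizer (A : Set G), n * b * n⁻¹ = v} with hO2
  have hO1c : O1.ncard = 155 := B.ncard_orbit_z D hA
  have hsplit : ∀ a ∈ A, a = 1 ∨ a ∈ O1 ∨ a ∈ O2 := by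
    intro a ha
    by_cases h1 : a = 1
    · exact Or.inl h1
    by_cases h2 : IsConj z a
    · exact Or.inr (Or.inl (B.fuse D hA ha h2))
    · exact Or.inr (Or.inr (heqb.ge ⟨ha, h1, h2⟩))
  have hclz : ∀ {a : G}, a ∈ O1 → a ∈ W → z ∈ W := by
    rintro a ⟨n, hn, rfl⟩ ha
    have := hclosed ha n⁻¹ (inv_mem hn)
    rwa [show n⁻¹ * (n * z * n⁻¹) * n⁻¹⁻¹ = z by group] at this
  have hclb : ∀ {a : G}, a ∈ O2 → a ∈ W → b ∈ W := by
    rintro a ⟨n, hn, rfl⟩ ha
    have := hclosed ha n⁻¹ (inv_mem hn)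
    rwa [show n⁻¹ * (n * b * n⁻¹) * n⁻¹⁻¹ = b by group] at this
  by_cases hz : z ∈ W <;> by_cases hbW : b ∈ W
  · refine Or.inr (le_antisymm hW fun a ha => ?_)
    rcases hsplit a ha with h | ⟨n, hn, h⟩ | ⟨n, hn, h⟩
    · exact h ▸ one_mem W
    · exact h ▸ hclosed hz n hn
    · exact h ▸ hclosed hbW n hn
  · exfalso
    have hWset : (W : Set G) = insert 1 O1 := by
      ext a
      rw [Set.mem_insert_iff]
      constructor
      · intro ha
        rcases hsplit a (hW ha) with h | h | h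
        exacts [Or.inl h, Or.inr h, absurd (hclb h ha) hbW]
      · rintro (rfl | ⟨n, hn, rfl⟩)
        exacts [one_mem W, hclosed hz n hn]
    have h1 : (1 : G) ∉ O1 := by
      rintro ⟨n, -, h⟩
      rw [mul_inv_eq_one, mul_eq_left] at h
      exact J.z_ne h
    have hc : Nat.card W = 156 := by
      rw [← SetLike.coe_sort_coe, Nat.card_coe_set_eq, hWset, Set.ncard_insert_of_notMem h1, hO1c]
    have hd := Subgroup.card_dvd_of_le hW
    rw [hc, hA.card] at hd
    norm_num at hd
  · exfalso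
    have hO2c : O2.ncard = 868 := by
      have htot : (A : Set G) = insert 1 (O1 ∪ O2) := by
        ext a
        constructor
        · exact fun ha => hsplit a ha
        · rintro (rfl | ⟨n, hn, rfl⟩ | ⟨n, hn, rfl⟩)
          exacts [one_mem A, (Subgroup.mem_normalizer_iff.1 hn z).1 hA.z_mem, (Subgroup.mem_normalizer_iff.1 hn b).1 hb]
      have hdisj : Disjoint O1 O2 := Set.disjoint_left.2 fun a ha ha2 => by
        obtain ⟨n, -, h⟩ := ha
        exact (heqb.le ha2).2.2 (isConj_iff.2 ⟨n, h⟩)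
      have h1 : (1 : G) ∉ O1 ∪ O2 := by
        rintro (⟨n, -, h⟩ | ⟨n, -, h⟩) <;> rw [mul_inv_eq_one, mul_eq_left] at h
        exacts [J.z_ne h, hb1 h]
      have := congrArg Set.ncard htot
      rw [Set.ncard_insert_of_notMem h1, Set.ncard_union_eq hdisj, hO1c, ← Nat.card_coe_set_eq,
        SetLike.coe_sort_coe, hA.card] at this
      omega
    have hWset : (W : Set G) = insert 1 O2 := by
      ext a
      rw [Set.mem_insert_iff]
      constructor
      · intro ha
        rcases hsplit a (hW ha) with h | h | h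
        exacts [Or.inl h, absurd (hclz h ha) hz, Or.inr h]
      · rintro (rfl | ⟨n, hn, rfl⟩)
        exacts [one_mem W, hclosed hbW n hn]
    have h1 : (1 : G) ∉ O2 := by
      rintro ⟨n, -, h⟩
      rw [mul_inv_eq_one, mul_eq_left] at h
      exact hb1 h
    have hc : Nat.card W = 869 := by
      rw [← SetLike.coe_sort_coe, Nat.card_coe_set_eq, hWset, Set.ncard_insert_of_notMem h1, hO2c]
    have hd := Subgroup.card_dvd_of_le hW
    rw [hc, hA.card] at hd
    norm_num at hd
  · refine Or.inl ((Subgroup.eq_bot_iff_forall _).2 fun a ha => ?_)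
    rcases hsplit a (hW ha) with h | h | h
    exacts [h, absurd (hclz h ha) hz, absurd (hclb h ha) hbW]

end TenBase

end CfsgLib.JFourLocal
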