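import Cfsg.Agent.Lib.Gaschutz.Split
import Cfsg.Agent.Lib.JFourLocal.PentadSeven
import Cfsg.Agent.Lib.JFourLocal.TenRho

/-!
# The normalizer splits over the subgroup of order `2 ^ 10`

A complement of order `2 ^ 10` in a subgroup of odd index is built from a piece of `E`, a dihedral
group of lifts and an outer involution, and Gaschütz's theorem does the rest.
-/

set_option autoImplicit false
set_option maxRecDepth 100000
set_option linter.style.haveILetI false
set_option linter.unusedSectionVars false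

open Cfsg

namespace CfsgLib.JFourLocal

open CfsgLib.JFour CfsgLib.JFour.Ctx

theorem perm_five_key : ∀ g : Equiv.Perm (Fin 5), g * g * (g * g) = 1 → g * g ≠ 1 →
    ∀ p : Equiv.Perm (Fin 5), p * p * p = 1 → g * g * p = p * (g * g) → p = 1 := by
  decide +kernel

/-- The product of two subgroups, one normalizing the other, meeting trivially. -/
theorem ten_sup {G : Type*} [Group G] [Finite G] {X Y : Subgroup G} (hle : Y ≤ Subgroup.normalizer (X : Set G))
    (hd : ∀ x ∈ X, x ∈ Y → x = 1) :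
    Nat.card ↥(X ⊔ Y) = Nat.card X * Nat.card Y ∧ ∀ v ∈ X ⊔ Y, ∃ x ∈ X, ∃ y ∈ Y, x * y = v := by
  have hco := Subgroup.coe_mul_of_right_le_normalizer_left X Y hle
  have hmem : ∀ v, v ∈ X ⊔ Y → ∃ x ∈ X, ∃ y ∈ Y, x * y = v := fun v hv => by
    rw [← SetLike.mem_coe, hco] at hv
    exact hv
  refine ⟨?_, hmem⟩
  rw [← Nat.card_prod]
  refine (Nat.card_eq_of_bijective (fun q : ↥X × ↥Y => (⟨(q.1 : G) * q.2,
    mul_mem (Subgroup.mem_sup_left q.1.2) (Subgroup.mem_sup_right q.2.2)⟩ : ↥(X ⊔ Y))) ⟨?_, fun v => ?_⟩).symm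
  · rintro ⟨a, b⟩ ⟨c, d⟩ h
    have h' : (a : G) * b = c * d := congrArg Subtype.val h
    have e : (c : G)⁻¹ * a = d * (b : G)⁻¹ := by
      rw [eq_mul_inv_iff_mul_eq, mul_assoc, h', inv_mul_cancel_left]
    have hac : (c : G)⁻¹ * a = 1 := hd _ (mul_mem (inv_mem c.2) a.2) (e ▸ mul_mem d.2 (inv_mem b.2))
    rw [inv_mul_eq_one] at hac
    rw [← hac] at h'
    exact Prod.ext (Subtype.ext hac.symm) (Subtype.ext (mul_left_cancel h'))
  · obtain ⟨x, hx, y, hy, he⟩ := hmem v v.2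
    exact ⟨(⟨x, hx⟩, ⟨y, hy⟩), Subtype.ext he⟩

variable {G : Type*} [Group G] [Finite G]

/-- An element commuting with an element of order seven and inverting `π` squares to one. -/
theorem sq_outer [IsSimpleGroup G] (hG : ¬ IsMulCommutative G) {z : G} (hJ : IsOfJankoFourTypeAt z)
    {σ π s : G} (hs : orderOf s = 7) (hσs : σ * s = s * σ) (hπs : π * s = s * π) (hπz : π * z = z * π)
    (hπ3 : π ^ 3 = 1) (hπ1 : π ≠ 1) (hzz : z * z = 1) (hσ : σ * σ = 1 ∨ σ * σ = z) : σ * σ = 1 := by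
  refine hσ.resolve_right fun he => ?_
  obtain ⟨I, -, ⟨e⟩, hI, -, -⟩ := seven_local hG hJ hs
  have h4 : σ ^ 4 = 1 := by rw [show 4 = 2 * 2 from rfl, pow_mul, pow_two σ, he, pow_two, hzz]
  have hσI : σ ∈ I := hI σ (Subgroup.mem_centralizer_singleton_iff.2 hσs) (by
    rw [show 120 = 4 * 30 from rfl, pow_mul, h4, one_pow])
  have hπI : π ∈ I := hI π (Subgroup.mem_centralizer_singleton_iff.2 hπs) (by
    rw [show 120 = 3 * 40 from rfl, pow_mul, hπ3, one_pow])
  set a : ↥I := ⟨σ, hσI⟩ with ha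
  set p : ↥I := ⟨π, hπI⟩ with hp
  have h1 : a * a * (a * a) = 1 := Subtype.ext (by
    show σ * σ * (σ * σ) = 1
    rw [he, hzz])
  have h2 : a * a ≠ 1 := fun h => by
    have hz1 : z = 1 := he.symm.trans (congrArg Subtype.val h)
    have hJ' := hJ
    obtain ⟨P, hP⟩ := hJ'
    obtain ⟨π', -, J⟩ := exists_ctx hP
    exact J.z_ne hz1
  have h3 : p * p * p = 1 := Subtype.ext (by
    show π * π * π = 1
    rw [← hπ3, pow_succ, pow_two])
  have h5 : a * a * p = p * (a * a) := Subtype.ext (by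
    show σ * σ * π = π * (σ * σ)
    rw [he, hπz])
  have := perm_five_key (e a) (by rw [← map_mul, ← map_mul, h1, map_one])
    (fun h => h2 (e.injective (by rw [map_mul, map_one]; exact h))) (e p)
    (by rw [← map_mul, ← map_mul, h3, map_one]) (by simp only [← map_mul, h5])
  exact hπ1 (congrArg Subtype.val (e.injective (this.trans (map_one e).symm)))

variable {M : Type*} [Group M] [Finite M] {z π : G} {E : Subgroup G}
  {J : Ctx M z π E} {g : ℕ → M} {vec : ℕ → G} {V A : Subgroup G} {el : ℕ → G} {s : ↥(CZ z π)}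

/-- The cubic in the element of order seven. -/
def tenCubic (s x : G) : G := s * (s * (s * x * s⁻¹) * s⁻¹) * s⁻¹ * (s * (s * x * s⁻¹) * s⁻¹) * x

namespace TenBase

variable (B : TenBase J g vec A el s) (D : TenCtx J g vec V) (hA : IsTen J g A)
include B D hA

/-- The piece of `E` cut out by the element of order seven. -/
theorem exists_R : ∃ R : Subgroup G, R ≤ E ∧ z ∈ R ∧ Nat.card R = 128 ∧
    (∀ a ∈ R, ∀ b ∈ R, a * b = b * a) ∧ (∀ a ∈ R, a * a = 1) ∧ (∀ a ∈ R, π * a * π⁻¹ ∈ R) ∧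
    (∀ a ∈ R, a ∈ A → a = 1 ∨ a = z) ∧
    (∀ (c : G) (w : List ℕ), c * z = z * c → w ∈ [tenIW, tenJW] → Acts z vec c (wB w) →
      ∀ a ∈ R, c * a * c⁻¹ ∈ R) ∧
    ∀ σ : G, σ * z = z * σ → σ * (s : G) = (s : G) * σ → ∀ a ∈ R, σ * a * σ⁻¹ ∈ R := by
  classical
  have V' := D.model.coords
  have hsA := B.seven.2.2
  have hsz := (mem_CZ.1 s.2).1
  have hsxor : ∀ m n, tenR m = true → tenR n = true → tenR (Nat.xor m n) = true := by
    intro m n hm hn
    rw [tenR, Nat.beq_eq] at hm hn ⊢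
    have e : Nat.xor m n = m ^^^ n := rfl
    simp only [e, ap_xor]
    change (ap tenS (ap tenS (ap tenS m)) ^^^ ap tenS (ap tenS (ap tenS n))) ^^^
      (ap tenS (ap tenS m) ^^^ ap tenS (ap tenS n)) ^^^ (m ^^^ n) = 0
    calc _ = ((ap tenS (ap tenS (ap tenS m)) ^^^ ap tenS (ap tenS m)) ^^^ m) ^^^
          ((ap tenS (ap tenS (ap tenS n)) ^^^ ap tenS (ap tenS n)) ^^^ n) := by ac_rfl
      _ = 0 := by
        rw [show (ap tenS (ap tenS (ap tenS m)) ^^^ ap tenS (ap tenS m)) ^^^ m = 0 from hm,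
          show (ap tenS (ap tenS (ap tenS n)) ^^^ ap tenS (ap tenS n)) ^^^ n = 0 from hn]
        rfl
  have h0 : tenR 0 = true := by decide +kernel
  let R : Subgroup G :=
    { carrier := {x | x ∈ E ∧ ∃ n, n < 4096 ∧ Rel z x (vec n) ∧ tenR n = true}
      one_mem' := ⟨one_mem E, 0, by norm_num, J.rel_symm (V'.rel_zero J), h0⟩
      mul_mem' := by
        rintro x y ⟨hx, m, hm, hxm, hpm⟩ ⟨hy, n, hn, hyn, hpn⟩
        refine ⟨mul_mem hx hy, Nat.xor m n, Nat.xor_lt_two_pow (n := 12) hm hn, ?_, hsxor m n hpm hpn⟩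
        exact J.rel_trans (J.rel_mul (J.s.z_comm (V'.mem m hm)) hxm hyn) (J.rel_symm (V'.add m n hm hn))
      inv_mem' := by
        rintro x ⟨hx, m, hm, hxm, hpm⟩
        exact ⟨inv_mem hx, m, hm, J.rel_trans (J.rel_inv hx) hxm, hpm⟩ }
  have hRE : R ≤ E := fun x hx => hx.1
  have hiff : ∀ n, n < 4096 → (vec n ∈ R ↔ tenR n = true) := fun n hn =>
    ⟨fun ⟨_, m, hm, hr, hp⟩ => (V'.rel_iff J hn hm).1 hr ▸ hp, fun hp => ⟨V'.mem n hn, n, hn, J.rel_refl _, hp⟩⟩
  have hzR : z ∈ R := ⟨J.s.z_mem, 0, by norm_num,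
    J.rel_trans (Or.inr (mul_one z).symm) (J.rel_symm (V'.rel_zero J)), h0⟩
  obtain ⟨hcnt, hiso, hinv⟩ := ten_R_ok
  have hcard : Nat.card R = 128 := by rw [V'.card_eq J hRE hzR _ hiff, hcnt]
  have hinv' : ∀ n < 4096, tenR n = true → ((n = 0 ∨ fixP tenW n = false) ∧ tenR (ap gW0 n) = true ∧
      tenR (ap (wB tenIW) n) = true ∧ tenR (ap (wB tenJW) n) = true) := fun n hn hp => by
    have h := List.all_eq_true.1 hinv n (List.mem_filter.2 ⟨List.mem_range.2 hn, hp⟩)
    simp only [Bool.and_eq_true, Bool.or_eq_true, Bool.not_eq_true', Nat.beq_eq] at h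
    exact ⟨h.1.1.1, h.1.1.2, h.1.2, h.2⟩
  have hconj : ∀ {c : G} {B' : List ℕ}, c * z = z * c → Acts z vec c B' →
      (∀ n < 4096, tenR n = true → tenR (ap B' n) = true) → ∀ a ∈ R, c * a * c⁻¹ ∈ R := by
    intro c B' hcz hc hp a ⟨ha, n, hn, hr, hpn⟩
    exact ⟨J.conjE hcz ha, ap B' n, okB_lt hc.1 n, J.rel_trans (J.rel_conj hcz hr) (hc.2 n hn), hp n hn hpn⟩
  have hab : ∀ a ∈ R, ∀ b ∈ R, a * b = b * a := by
    rintro a ⟨ha, m, hm, hra, hpm⟩ b ⟨hb, n, hn, hrb, hpn⟩
    have hbb := List.all_eq_true.1 (List.all_eq_true.1 hiso m (List.mem_filter.2 ⟨List.mem_range.2 hm, hpm⟩)) n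
      (List.mem_filter.2 ⟨List.mem_range.2 hn, hpn⟩)
    have h := D.conj_vec hm hn hra hrb
    rw [beq_iff_eq.1 hbb, if_neg (by simp), one_mul] at h
    exact mul_inv_eq_iff_eq_mul.1 h
  have hπ : ∀ a ∈ R, π * a * π⁻¹ ∈ R := hconj J.piz D.model.om fun n hn hp => (hinv' n hn hp).2.1
  refine ⟨R, hRE, hzR, hcard, hab, fun a ha => J.sq_of_invariant hRE hab hπ ha, hπ, ?_, ?_, ?_⟩
  · rintro a ⟨haE, n, hn, hr, hp⟩ haA
    obtain ⟨U, hU, -, -, -, -, -⟩ := D.fix_data
    have hvU : vec n ∈ U := (J.mem_vec_iff hU.z_mem hr).1 ((D.inf_eq hA hU).le ⟨haA, haE⟩)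
    rcases (hinv' n hn hp).1 with h | h
    · subst h
      rcases J.rel_trans hr (V'.rel_zero J) with k | k
      · exact Or.inl k
      · exact Or.inr (by rw [k, mul_one])
    · rw [(hU.iff n hn).1 hvU] at h
      exact Bool.noConfusion h
  · intro c w hcz hw hc
    refine hconj hcz hc fun n hn hp => ?_
    simp only [List.mem_cons, List.not_mem_nil, or_false] at hw
    rcases hw with rfl | rfl
    exacts [(hinv' n hn hp).2.2.1, (hinv' n hn hp).2.2.2]
  · -- intrinsic description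
    have hcub : ∀ {a : G} {n : ℕ}, n < 4096 → Rel z a (vec n) →
        Rel z (tenCubic (s : G) a) (vec (Nat.xor (Nat.xor (ap tenS (ap tenS (ap tenS n))) (ap tenS (ap tenS n))) n)) := by
      intro a n hn hr
      have l1 := okB_lt hsA.1 n
      have l2 := okB_lt hsA.1 (ap tenS n)
      have l3 := okB_lt hsA.1 (ap tenS (ap tenS n))
      have step : ∀ {x : G} {m : ℕ}, m < 4096 → Rel z x (vec m) →
          Rel z ((s : G) * x * (s : G)⁻¹) (vec (ap tenS m)) :=
        fun hm h => J.rel_trans (J.rel_conj hsz h) (hsA.2 _ hm)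
      have r2 := step l1 (step hn hr)
      have r3 := step l2 r2
      rw [tenCubic]
      refine J.rel_trans ?_ (J.rel_symm (V'.add _ n (Nat.xor_lt_two_pow (n := 12) l3 l2) hn))
      refine J.rel_mul (J.s.z_comm (V'.mem _ (Nat.xor_lt_two_pow (n := 12) l3 l2))) ?_ hr
      refine J.rel_trans ?_ (J.rel_symm (V'.add _ _ l3 l2))
      exact J.rel_mul (J.s.z_comm (V'.mem _ l3)) r3 r2
    intro σ hσz hσs a ⟨ha, n, hn, hr, hp⟩
    obtain ⟨m, hm, hrm⟩ := V'.surj _ (J.conjE hσz ha)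
    refine ⟨J.conjE hσz ha, m, hm, hrm, ?_⟩
    have hz1 : Rel z (tenCubic (s : G) a) 1 := by
      have h := hcub hn hr
      rw [tenR, Nat.beq_eq] at hp
      rw [hp] at h
      exact J.rel_trans h (V'.rel_zero J)
    have e : tenCubic (s : G) (σ * a * σ⁻¹) = σ * tenCubic (s : G) a * σ⁻¹ := by
      have hc : ∀ x, (s : G) * (σ * x * σ⁻¹) * (s : G)⁻¹ = σ * ((s : G) * x * (s : G)⁻¹) * σ⁻¹ := fun x => by
        calc (s : G) * (σ * x * σ⁻¹) * (s : G)⁻¹ = ((s : G) * σ) * x * ((s : G) * σ)⁻¹ := by group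
          _ = (σ * (s : G)) * x * (σ * (s : G))⁻¹ := by rw [hσs]
          _ = _ := by group
      simp only [tenCubic, hc]
      group
    have h2 : Rel z (tenCubic (s : G) (σ * a * σ⁻¹)) 1 := by
      rw [e]
      have := J.rel_conj hσz hz1
      rwa [mul_one, mul_inv_cancel] at this
    rw [tenR, Nat.beq_eq]
    refine V'.inj _ ?_ (J.rel_trans (J.rel_symm (hcub hm hrm)) h2)
    exact Nat.xor_lt_two_pow (n := 12) (Nat.xor_lt_two_pow (n := 12) (okB_lt hsA.1 _) (okB_lt hsA.1 _)) hm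

/-- Its image under the commutator with `π`. -/
theorem exists_R0 : ∃ R0 : Subgroup G, R0 ≤ E ∧ Nat.card R0 = 64 ∧ (∀ a ∈ R0, a ∈ A → a = 1) ∧
    (∀ (c : G) (w : List ℕ), c * z = z * c → c * π = π * c → w ∈ [tenIW, tenJW] → Acts z vec c (wB w) →
      c * c = 1 → c ∈ Subgroup.normalizer (R0 : Set G)) ∧
    ∀ σ : G, σ * z = z * σ → σ * (s : G) = (s : G) * σ → σ * π * σ⁻¹ = π⁻¹ → σ * σ = 1 →
      σ ∈ Subgroup.normalizer (R0 : Set G) := by
  classical
  obtain ⟨R, hRE, hzR, hRc, hRab, -, hRπ, hRA, hRcj, hRσ⟩ := B.exists_R D hA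
  have hπ' : ∀ a ∈ R, π⁻¹ * a * π ∈ R := fun a ha => by
    have := hRπ _ (hRπ a ha)
    rwa [show π * (π * a * π⁻¹) * π⁻¹ = π * π * a * (π * π)⁻¹ by group, ← J.pi_inv, inv_inv] at this
  have hφR : ∀ a ∈ R, tenPhi π a ∈ R := fun a ha => mul_mem (hRπ a ha) (inv_mem ha)
  let φ : ↥R →* G := MonoidHom.mk' (fun a => tenPhi π a) fun a b => by
    have h1 : Commute (tenPhi π (b : G)) (a : G)⁻¹ := hRab _ (hφR b b.2) _ (inv_mem a.2)
    show tenPhi π ((a : G) * b) = tenPhi π a * tenPhi π b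
    simp only [tenPhi] at h1 ⊢
    calc π * ((a : G) * b) * π⁻¹ * ((a : G) * b)⁻¹
        = π * a * π⁻¹ * ((π * b * π⁻¹ * (b : G)⁻¹) * (a : G)⁻¹) := by group
      _ = _ := by rw [h1.eq]; group
  set R0 := φ.range with hR0
  have hker : ∀ a : ↥R, tenPhi π (a : G) = 1 → (a : G) = 1 ∨ (a : G) = z := by
    intro a h
    rcases J.fpf_rel (hRE a.2) (Or.inl (mul_inv_eq_one.1 h)) with k | k
    · exact Or.inl k
    · exact Or.inr (by rw [k, mul_one])
  have hkc : Nat.card φ.ker = 2 := by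
    have hzk : (⟨z, hzR⟩ : ↥R) ∈ φ.ker := by
      show tenPhi π z = 1
      rw [tenPhi, J.piz, mul_inv_cancel_right, mul_inv_cancel]
    have hle : φ.ker.map R.subtype = Subgroup.zpowers z := by
      refine le_antisymm ?_ (Subgroup.zpowers_le.2 ⟨_, hzk, rfl⟩)
      rintro _ ⟨a, ha, rfl⟩
      rcases hker a ha with k | k
      · show (a : G) ∈ _
        rw [k]; exact one_mem _
      · show (a : G) ∈ _
        rw [k]; exact Subgroup.mem_zpowers z
    rw [← Subgroup.card_map_of_injective R.subtype_injective, hle, J.card_zpowers_z]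
  have hR0R : R0 ≤ R := by
    rintro _ ⟨a, rfl⟩
    exact hφR a a.2
  have hc : Nat.card R0 = 64 := by
    have h := φ.ker.card_mul_index
    rw [Subgroup.index_ker, hkc, hRc] at h
    rw [hR0]; omega
  refine ⟨R0, hR0R.trans hRE, hc, fun x hx hxA => ?_, ?_, ?_⟩
  · rcases hRA x (hR0R hx) hxA with k | k
    · exact k
    exfalso
    obtain ⟨a, rfl⟩ := hx
    have k' : π * (a : G) * π⁻¹ = z * a := mul_inv_eq_iff_eq_mul.1 k
    have ha : tenPhi π (a : G) = 1 := by
      rcases J.fpf_rel (hRE a.2) (Or.inr k') with q | q <;> simp only [tenPhi, q]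
      · simp
      · rw [mul_one, J.piz, mul_inv_cancel_right, mul_inv_cancel]
    exact J.z_ne (k.symm.trans ha)
  · intro c w hcz hcp hw hc hc2
    have hci : c⁻¹ = c := inv_eq_of_mul_eq_one_right hc2
    have hfwd : ∀ x ∈ R0, c * x * c⁻¹ ∈ R0 := by
      rintro _ ⟨a, rfl⟩
      refine ⟨⟨_, hRcj c w hcz hw hc a a.2⟩, ?_⟩
      show tenPhi π (c * a * c⁻¹) = c * tenPhi π a * c⁻¹
      simp only [tenPhi]
      calc π * (c * a * c⁻¹) * π⁻¹ * (c * a * c⁻¹)⁻¹ = (π * c) * a * (π * c)⁻¹ * c * (a : G)⁻¹ * c⁻¹ := by group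
        _ = (c * π) * a * (c * π)⁻¹ * c * (a : G)⁻¹ * c⁻¹ := by rw [hcp]
        _ = _ := by group
    rw [Subgroup.mem_normalizer_iff]
    refine fun x => ⟨hfwd x, fun h => ?_⟩
    have := hfwd _ h
    rw [hci] at this
    rwa [show c * (c * x * c) * c = (c * c) * x * (c * c) by group, hc2, one_mul, mul_one] at this
  · intro σ hσz hσs hσp hσ2
    have hσi : σ⁻¹ = σ := inv_eq_of_mul_eq_one_right hσ2
    have hfwd : ∀ x ∈ R0, σ * x * σ⁻¹ ∈ R0 := by
      rintro _ ⟨a, rfl⟩
      set a' := σ * (a : G) * σ⁻¹ with ha'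
      have ha'R : a' ∈ R := hRσ σ hσz hσs a a.2
      have hb : π⁻¹ * a' * π ∈ R := hπ' a' ha'R
      have e : σ * tenPhi π a * σ⁻¹ = (tenPhi π (π⁻¹ * a' * π))⁻¹ := by
        simp only [tenPhi]
        calc σ * (π * a * π⁻¹ * (a : G)⁻¹) * σ⁻¹
            = (σ * π * σ⁻¹) * a' * (σ * π * σ⁻¹)⁻¹ * a'⁻¹ := by rw [ha']; group
          _ = _ := by rw [hσp]; group
      show σ * tenPhi π a * σ⁻¹ ∈ R0
      rw [e]
      exact inv_mem ⟨⟨_, hb⟩, rfl⟩
    rw [Subgroup.mem_normalizer_iff]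
    refine fun x => ⟨hfwd x, fun h => ?_⟩
    have := hfwd _ h
    rw [hσi] at this
    rwa [show σ * (σ * x * σ) * σ = (σ * σ) * x * (σ * σ) by group, hσ2, one_mul, mul_one] at this

end TenBase

namespace TenCtx

variable (D : TenCtx J g vec V) (hA : IsTen J g A)
include D hA

/-- The dihedral group of lifts. -/
theorem exists_dih : ∃ ci cj : ↥(CZ z π), (ci : G) * ci = 1 ∧ (cj : G) * cj = 1 ∧
    J.proj ci = (tenIW.map g).prod ∧ J.proj cj = (tenJW.map g).prod ∧
    Nat.card ↥(Subgroup.closure ({(ci : G), (cj : G)} : Set G)) = 8 ∧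
    Subgroup.closure ({(ci : G), (cj : G)} : Set G) ≤ CZ z π ∧
    ∀ c : ↥(CZ z π), (c : G) ∈ Subgroup.closure ({(ci : G), (cj : G)} : Set G) →
      (J.proj c ∈ tenK g → (c : G) = 1) := by
  classical
  have F := D.small
  obtain ⟨ci, hci, hci2⟩ := J.exists_lift_invol F (D.facts.sq tenIW (List.mem_append_right _ List.mem_cons_self))
  obtain ⟨cj, hcj, hcj2⟩ := J.exists_lift_invol F
    (D.facts.sq tenJW (List.mem_append_right _ (List.mem_cons_of_mem _ List.mem_cons_self)))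
  set i := (tenIW.map g).prod with hi
  set j := (tenJW.map g).prod with hj
  have hii : i * i = 1 := by rw [← hci, ← map_mul, show ci * ci = 1 from Subtype.ext hci2, map_one]
  have hjj : j * j = 1 := by rw [← hcj, ← map_mul, show cj * cj = 1 from Subtype.ext hcj2, map_one]
  set a : ↥(CZ z π) := ci * cj with ha
  have hiI : ci⁻¹ = ci := inv_eq_of_mul_eq_one_right (Subtype.ext hci2)
  have hjI : cj⁻¹ = cj := inv_eq_of_mul_eq_one_right (Subtype.ext hcj2)
  have hinv : ci * a * ci = a⁻¹ := by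
    rw [ha, mul_inv_rev, hiI, hjI, show ci * (ci * cj) * ci = (ci * ci) * cj * ci by group,
      show ci * ci = 1 from Subtype.ext hci2, one_mul]
  have hpa : J.proj a = i * j := by rw [ha, map_mul, hci, hcj]
  obtain ⟨hf1, hf2⟩ := D.facts.four
  have e4 : ((tenIW ++ tenJW ++ tenIW ++ tenJW).map g).prod = i * j * (i * j) := by
    simp only [List.map_append, List.prod_append, hi, hj, mul_assoc]
  rw [e4] at hf1 hf2
  have hq : J.proj (a * a) = i * j * (i * j) := by rw [map_mul, hpa]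
  -- the lift has order four
  have ha4 : a * a * (a * a) = 1 := by
    have hw1 : J.proj (a * a * (a * a)) = 1 := by rw [map_mul, hq, hf2]
    have hwinv : ci * (a * a * (a * a)) * ci⁻¹ = (a * a * (a * a))⁻¹ := by
      have h : ∀ x y : ↥(CZ z π), ci * x * ci⁻¹ * (ci * y * ci⁻¹) = ci * (x * y) * ci⁻¹ := fun x y => by group
      rw [← h, ← h, hiI, hinv]; group
    have hcen := ker_central J (c := ci) hw1
    rw [← hcen, mul_inv_cancel_right] at hwinv
    have hww : ((a * a * (a * a) : ↥(CZ z π)) : G) * (a * a * (a * a) : ↥(CZ z π)) = 1 := by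
      rw [← Subgroup.coe_mul]
      nth_rewrite 2 [hwinv]
      rw [mul_inv_cancel]; rfl
    exact Subtype.ext (J.sq_eq_one F (c := a * a) (by
      simpa only [Subgroup.coe_mul] using J.small_of_proj_one hw1 (Or.inl hww)))
  have ha4' : a ^ 4 = 1 := by
    rw [show (4 : ℕ) = 2 * 2 from rfl, pow_mul, pow_two a, pow_two, ha4]
  have hflip : ∀ k : ℕ, ci * a ^ k = a ^ (3 * k) * ci := by
    intro k
    have h3 : a⁻¹ = a ^ 3 := inv_eq_of_mul_eq_one_right (by rw [← pow_succ', ha4'])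
    have h : (ci * a * ci⁻¹) ^ k = ci * a ^ k * ci⁻¹ := conj_pow
    rw [hiI, hinv, h3, ← pow_mul] at h
    rw [h, mul_assoc (ci * a ^ k), show ci * ci = 1 from Subtype.ext hci2, mul_one]
  -- the members
  let T : Subgroup ↥(CZ z π) :=
    { carrier := {x | ∃ k, k < 4 ∧ (x = a ^ k ∨ x = a ^ k * ci)}
      one_mem' := ⟨0, by norm_num, Or.inl (pow_zero a).symm⟩
      mul_mem' := by
        have hm : ∀ n, a ^ n = a ^ (n % 4) := fun n => by
          nth_rewrite 1 [← Nat.div_add_mod n 4]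
          rw [pow_add, pow_mul, ha4', one_pow, one_mul]
        rintro x y ⟨k, -, hx⟩ ⟨l, -, hy⟩
        rcases hx with rfl | rfl <;> rcases hy with rfl | rfl
        · exact ⟨(k + l) % 4, Nat.mod_lt _ (by norm_num), Or.inl (by rw [← hm, pow_add])⟩
        · exact ⟨(k + l) % 4, Nat.mod_lt _ (by norm_num), Or.inr (by rw [← hm, pow_add, mul_assoc])⟩
        · exact ⟨(k + 3 * l) % 4, Nat.mod_lt _ (by norm_num), Or.inr (by
            rw [← hm, pow_add, mul_assoc, hflip, ← mul_assoc])⟩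
        · refine ⟨(k + 3 * l) % 4, Nat.mod_lt _ (by norm_num), Or.inl ?_⟩
          rw [← hm, mul_assoc, ← mul_assoc ci, hflip, mul_assoc (a ^ (3 * l)),
            show ci * ci = 1 from Subtype.ext hci2, mul_one, pow_add]
      inv_mem' := by
        rintro x ⟨k, hk, rfl | rfl⟩
        · refine ⟨(4 - k) % 4, Nat.mod_lt _ (by norm_num), Or.inl (inv_eq_of_mul_eq_one_right ?_)⟩
          rw [← pow_add]
          interval_cases k <;> simp [ha4']
        · refine ⟨k, hk, Or.inr (inv_eq_of_mul_eq_one_right ?_)⟩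
          rw [mul_assoc (a ^ k), ← mul_assoc ci, hflip, mul_assoc (a ^ (3 * k)),
            show ci * ci = 1 from Subtype.ext hci2, mul_one, ← pow_add, show k + 3 * k = 4 * k by ring, pow_mul,
            ha4', one_pow] }
  have hciT : ci ∈ T := ⟨0, by norm_num, Or.inr (by rw [pow_zero, one_mul])⟩
  have haT : a ∈ T := ⟨1, by norm_num, Or.inl (pow_one a).symm⟩
  have hcjT : cj ∈ T := by
    have := mul_mem hciT haT
    rwa [ha, ← mul_assoc, show ci * ci = 1 from Subtype.ext hci2, one_mul] at this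
  set W := Subgroup.closure ({(ci : G), (cj : G)} : Set G) with hW
  have hWT : W = T.map (CZ z π).subtype := by
    refine le_antisymm ?_ ?_
    · rw [hW, Subgroup.closure_le]
      rintro x (rfl | rfl)
      exacts [⟨ci, hciT, rfl⟩, ⟨cj, hcjT, rfl⟩]
    · have h1 : (ci : G) ∈ W := Subgroup.subset_closure (Set.mem_insert _ _)
      have h2 : (cj : G) ∈ W := Subgroup.subset_closure (Set.mem_insert_of_mem _ rfl)
      have h3 : ∀ k : ℕ, ((a ^ k : ↥(CZ z π)) : G) ∈ W := fun k => by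
        rw [Subgroup.coe_pow, ha, Subgroup.coe_mul]
        exact pow_mem (mul_mem h1 h2) k
      rintro _ ⟨x, ⟨k, -, rfl | rfl⟩, rfl⟩
      exacts [h3 k, mul_mem (h3 k) h1]
  -- they are separated by their images
  have hpi : J.proj ci = i := hci
  have hpk : ∀ k, k < 4 → (i * j) ^ k = 1 → k = 0 := by
    intro k hk h
    by_contra h0
    refine hf1 ?_
    interval_cases k
    · exact absurd rfl h0
    · rw [pow_one] at h; rw [h, one_mul]
    · rwa [pow_two] at h
    · have h4 : (i * j) ^ 4 = 1 := by rw [← hpa, ← map_pow, ha4', map_one]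
      rw [pow_succ, h, one_mul] at h4
      rw [h4, one_mul]
  have hpk' : ∀ k, (i * j) ^ k * i ≠ 1 := by
    intro k h
    refine hf1 ?_
    have hc : Commute (i * j) i := by
      have := (Commute.self_pow (i * j) k).inv_right
      rwa [← eq_inv_of_mul_eq_one_right h] at this
    calc i * j * (i * j) = (i * j * i) * j := by group
      _ = (i * (i * j)) * j := by rw [hc.eq]
      _ = (i * i) * (j * j) := by group
      _ = 1 := by rw [hii, hjj, one_mul]
  have hker : ∀ x ∈ T, J.proj x = 1 → x = 1 := by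
    rintro x ⟨k, hk, rfl | rfl⟩ h
    · rw [map_pow, hpa] at h
      rw [hpk k hk h, pow_zero]
    · rw [map_mul, map_pow, hpa, hpi] at h
      exact absurd h (hpk' k)
  have hcard : Nat.card T = 8 := by
    let f : Fin 4 × Bool → ↥T := fun q => ⟨a ^ (q.1 : ℕ) * (if q.2 then ci else 1),
      ⟨q.1, q.1.2, by cases q.2 <;> simp⟩⟩
    have hf : Function.Bijective f := by
      refine ⟨?_, ?_⟩
      · rintro ⟨k, b⟩ ⟨l, b'⟩ h
        have h' := congrArg (fun x : ↥T => J.proj (x : ↥(CZ z π))) h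
        simp only [f, map_mul, map_pow, hpa] at h'
        have hswap : ∀ k l : Fin 4, (i * j) ^ (k : ℕ) * i ≠ (i * j) ^ (l : ℕ) := by
          intro k l e
          refine hpk' (k + 3 * l) ?_
          have h4 : ((i * j) ^ (l : ℕ)) * (i * j) ^ (3 * (l : ℕ)) = 1 := by
            rw [← pow_add, show (l : ℕ) + 3 * l = 4 * l by ring, pow_mul, ← hpa, ← map_pow, ha4', map_one, one_pow]
          rw [show (k : ℕ) + 3 * l = 3 * l + k by ring, pow_add, mul_assoc, e, ← pow_add, add_comm, pow_add, h4]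
        have hsame : ∀ k l : Fin 4, (i * j) ^ (k : ℕ) = (i * j) ^ (l : ℕ) → k = l := by
          intro k l e
          have h4 : (i * j) ^ 4 = 1 := by rw [← hpa, ← map_pow, ha4', map_one]
          have : (i * j) ^ ((k : ℕ) + (4 - l)) = 1 := by
            rw [pow_add, e, ← pow_add, Nat.add_sub_cancel' l.2.le, h4]
          rw [← Nat.div_add_mod ((k : ℕ) + (4 - l)) 4, pow_add, pow_mul, h4, one_pow, one_mul] at this
          have := hpk _ (Nat.mod_lt _ (by norm_num)) this
          omega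
        cases b <;> cases b' <;> simp only [if_true, if_false, Bool.false_eq_true, map_one, mul_one, hpi] at h'
        · exact Prod.ext (hsame k l h') rfl
        · exact absurd h'.symm (hswap l k)
        · exact absurd h' (hswap k l)
        · exact Prod.ext (hsame k l (mul_right_cancel h')) rfl
      · rintro ⟨x, k, hk, rfl | rfl⟩
        · exact ⟨(⟨k, hk⟩, false), Subtype.ext (by simp [f])⟩
        · exact ⟨(⟨k, hk⟩, true), Subtype.ext (by simp [f])⟩
    rw [← Nat.card_eq_of_bijective f hf, Nat.card_prod, Nat.card_fin, Nat.card_eq_fintype_card, Fintype.card_bool]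
  refine ⟨ci, cj, hci2, hcj2, hci, hcj, ?_, ?_, fun c hc hK => ?_⟩
  · rw [← hW, hWT, Subgroup.card_map_of_injective (CZ z π).subtype_injective, hcard]
  · rw [← hW, hWT]; exact Subgroup.map_subtype_le T
  obtain ⟨x, hx, hxc⟩ := hWT.le hc
  obtain rfl : x = c := Subtype.ext hxc
  rw [hker x hx ?_]
  · rfl
  obtain ⟨k, hk, hxe⟩ := hx
  -- the images are listed
  have hmeet : ∀ v ∈ ([[], [tenIW], [tenJW], [tenIW, tenJW], [tenJW, tenIW], [tenIW, tenJW, tenIW, tenJW],
      [tenIW, tenJW, tenIW], [tenJW, tenIW, tenJW]] : List (List (List ℕ))),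
      (v.map fun w => (w.map g).prod).prod ∈ tenK g → (v.map fun w => (w.map g).prod).prod = 1 := by
    intro v hv
    have := D.facts.meet v.flatten (List.mem_map_of_mem hv)
    rwa [List.map_flatten, List.prod_flatten, List.map_map] at this
  have e3 : i * j * (i * j) * (i * j) = j * i := by
    calc i * j * (i * j) * (i * j) = i * j * (i * j) * (i * j * (i * j)) * (i * j)⁻¹ := by group
      _ = _ := by rw [hf2, one_mul, mul_inv_rev, inv_eq_of_mul_eq_one_right hii, inv_eq_of_mul_eq_one_right hjj]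
  rcases hxe with rfl | rfl <;> simp only [map_mul, map_pow, hpa, hpi] at hK ⊢ <;> interval_cases k <;>
    simp only [pow_succ, pow_zero, one_mul] at hK ⊢
  · have := hmeet [tenIW, tenJW] (by simp)
    simp only [List.map_cons, List.map_nil, List.prod_cons, List.prod_nil, mul_one] at this
    exact this hK
  · have := hmeet [tenIW, tenJW, tenIW, tenJW] (by simp)
    simp only [List.map_cons, List.map_nil, List.prod_cons, List.prod_nil, mul_one] at this
    rw [← hi, ← hj, ← mul_assoc i j] at this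
    exact this hK
  · rw [e3] at hK ⊢
    have := hmeet [tenJW, tenIW] (by simp)
    simp only [List.map_cons, List.map_nil, List.prod_cons, List.prod_nil, mul_one] at this
    exact this hK
  · have := hmeet [tenIW] (by simp)
    simp only [List.map_cons, List.map_nil, List.prod_cons, List.prod_nil, mul_one] at this
    exact this hK
  · have := hmeet [tenIW, tenJW, tenIW] (by simp)
    simp only [List.map_cons, List.map_nil, List.prod_cons, List.prod_nil, mul_one] at this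
    rw [← hi, ← hj, ← mul_assoc] at this
    exact this hK
  · have e2 : i * j * (i * j) * i = j * i * j := by
      rw [← inv_eq_of_mul_eq_one_right hf2]
      simp only [mul_inv_rev, inv_eq_of_mul_eq_one_right hii, inv_eq_of_mul_eq_one_right hjj]
      rw [mul_assoc, mul_assoc j i i, hii, mul_one]
      first | done | rw [← mul_assoc]
    rw [e2] at hK ⊢
    have := hmeet [tenJW, tenIW, tenJW] (by simp)
    simp only [List.map_cons, List.map_nil, List.prod_cons, List.prod_nil, mul_one] at this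
    rw [← hi, ← hj, ← mul_assoc] at this
    exact this hK
  · have e1 : i * j * (i * j) * (i * j) * i = j := by rw [e3, mul_assoc, hii, mul_one]
    rw [e1] at hK ⊢
    have := hmeet [tenJW] (by simp)
    simp only [List.map_cons, List.map_nil, List.prod_cons, List.prod_nil, mul_one] at this
    exact this hK

/-- The outer involution. -/
theorem exists_outer_ten [IsSimpleGroup G] (hG : ¬ IsMulCommutative G) (hJ : IsOfJankoFourTypeAt z)
    (hidx : (MulAut.conj : M →* MulAut M).range.index = 2) (hs7 : (s : G) ^ 7 = 1)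
    (hsp : J.proj s = (tenSW.map g).prod) :
    ∃ σ : G, σ * z = z * σ ∧ σ * π * σ⁻¹ = π⁻¹ ∧ σ * σ = 1 ∧ σ * (s : G) = (s : G) * σ ∧
      σ ∈ Subgroup.normalizer (A : Set G) ∧
      ∀ w ∈ [tenIW, tenJW], ∀ c : ↥(CZ z π), (c : G) * c = 1 → J.proj c = (w.map g).prod → σ * (c : G) = c * σ := by
  classical
  haveI := Fact.mk (show Nat.Prime 7 by norm_num)
  have F := D.small
  obtain ⟨a, b, PR, -⟩ := D.std.full.fus
  obtain ⟨α, hαα, hαo, hαfix⟩ := D.facts.aut
  obtain ⟨σ, hσz, hσp, hσ⟩ := exists_inducing J PR hidx hαo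
  have hσC : ∀ c : ↥(CZ z π), σ * (c : G) * σ⁻¹ ∈ CZ z π := fun c => conj_mem_CZ hσz hσp c.2
  -- it centralizes the element of order seven
  have hso : orderOf (s : G) = 7 := by
    refine orderOf_eq_prime hs7 fun e => ?_
    have h := D.facts.seven
    rw [← hsp, show s = 1 from Subtype.ext e, map_one, orderOf_one] at h
    norm_num at h
  have hαs : α (J.proj s) = J.proj s := hsp ▸ hαfix tenSW List.mem_cons_self
  have hσs : σ * (s : G) = (s : G) * σ := by
    set q : ↥(CZ z π) := ⟨σ * (s : G) * σ⁻¹, hσC s⟩ * s⁻¹ with hq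
    have hq1 : J.proj q = 1 := by rw [hq, map_mul, map_inv, mul_inv_eq_one, hσ s, hαs]
    obtain ⟨u, -, hu, k, -, hk⟩ := J.exists_pow' hq1
    have h6 : (q : G) ^ 6 = 1 := by
      have hc : Commute u (π ^ k) := by
        rcases hu with e | e <;> rw [e]
        exacts [Commute.one_left _, ((show Commute π z from J.piz).pow_left k).symm]
      rw [hk, hc.mul_pow, ← pow_mul, show k * 6 = 3 * (2 * k) by ring, pow_mul, J.pi_pow_three, one_pow, mul_one]
      rcases hu with e | e <;> rw [e]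
      · exact one_pow 6
      · rw [show 6 = 2 * 3 from rfl, pow_mul, pow_two, J.zz, one_pow]
    have hmul : (⟨σ * (s : G) * σ⁻¹, hσC s⟩ : ↥(CZ z π)) = q * s := by rw [hq, inv_mul_cancel_right]
    have h7 : (q : G) ^ 7 = 1 := by
      have h := congrArg (fun x : ↥(CZ z π) => ((x ^ 7 : ↥(CZ z π)) : G)) hmul
      simp only [(show Commute q s from ker_central J hq1).mul_pow, Subgroup.coe_pow, Subgroup.coe_mul,
        hs7, mul_one] at h
      rw [← h, conj_pow, hs7]
      simp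
    have hq0 : (q : G) = 1 := by rw [pow_succ, h6, one_mul] at h7; exact h7
    have h := congrArg Subtype.val hmul
    simp only [Subgroup.coe_mul, hq0, one_mul] at h
    exact mul_inv_eq_iff_eq_mul.1 h
  -- its square
  have hσ' : σ * π⁻¹ * σ⁻¹ = π := by
    rw [show σ * π⁻¹ * σ⁻¹ = (σ * π * σ⁻¹)⁻¹ by group, hσp, inv_inv]
  have hsq : σ * σ = 1 ∨ σ * σ = z := by
    have hmem : σ * σ ∈ CZ z π := by
      refine mem_CZ.2 ⟨((show Commute σ z from hσz).mul_left (show Commute σ z from hσz)).eq, ?_⟩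
      calc σ * σ * π = σ * (σ * π * σ⁻¹) * σ⁻¹ * (σ * σ) := by group
        _ = π * (σ * σ) := by rw [hσp, hσ']
    have h1 : J.proj ⟨σ * σ, hmem⟩ = 1 := by
      refine F.center_eq_one fun x => ?_
      obtain ⟨c, rfl⟩ := J.proj_surj x
      have e : (⟨σ * σ, hmem⟩ : ↥(CZ z π)) * c * (⟨σ * σ, hmem⟩ : ↥(CZ z π))⁻¹ =
          ⟨σ * ((⟨σ * (c : G) * σ⁻¹, hσC c⟩ : ↥(CZ z π)) : G) * σ⁻¹, hσC _⟩ := Subtype.ext (by
        show σ * σ * (c : G) * (σ * σ)⁻¹ = σ * (σ * (c : G) * σ⁻¹) * σ⁻¹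
        group)
      have h2 := congrArg J.proj e
      rw [map_mul, map_mul, map_inv, hσ, hσ, hαα, mul_inv_eq_iff_eq_mul] at h2
      exact h2.symm
    obtain ⟨w, -, hw, k, hk, hje⟩ := J.exists_pow' h1
    change σ * σ = w * π ^ k at hje
    have hk0 : π ^ k = (π⁻¹) ^ k := by
      have e : σ * (σ * σ) * σ⁻¹ = σ * σ := by group
      rw [hje, show σ * (w * π ^ k) * σ⁻¹ = (σ * w * σ⁻¹) * (σ * π ^ k * σ⁻¹) by group, ← conj_pow, hσp,
        show σ * w * σ⁻¹ = w by
          rcases hw with e | e <;> rw [e]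
          · group
          · rw [hσz, mul_inv_cancel_right]] at e
      exact (mul_left_cancel e).symm
    have : π ^ k = 1 := by
      interval_cases k
      · exact pow_zero π
      · rw [pow_one, pow_one] at hk0; exact absurd hk0.symm J.pi_inv_ne
      · rw [pow_two, pow_two, ← J.pi_inv, ← mul_inv_rev, ← J.pi_inv, inv_inv] at hk0
        exact absurd hk0 J.pi_inv_ne
    rw [this, mul_one] at hje
    rw [hje]; exact hw
  have hσ2 : σ * σ = 1 := sq_outer hG hJ hso hσs ((mem_CZ.1 s.2).2.symm) J.piz J.pi_pow_three J.pi1 J.zz hsq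
  have hσi : σ⁻¹ = σ := inv_eq_of_mul_eq_one_right hσ2
  refine ⟨σ, hσz, hσp, hσ2, hσs, ?_, ?_⟩
  · have hαK : ∀ m ∈ tenK g, α m = m := by
      intro m hm
      refine MonoidHom.eqOn_closure (f := α.toMonoidHom) (g := MonoidHom.id M) ?_ hm
      rintro _ ⟨w, hw, rfl⟩
      exact hαfix w (List.mem_append_right _ hw)
    refine hA.normalize F hσz (fun c hc => ⟨conj_mem_CZ hσz hσp hc, ?_⟩) fun c c' h => ?_
    · have := conj_mem_CZ hσz hσp hc
      rw [hσi] at this ⊢
      exact this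
    · have e : c' = ⟨σ * (c : G) * σ⁻¹, hσC c⟩ := Subtype.ext h
      rw [e, hσ]
      refine ⟨fun hm => ?_, fun hm => by rwa [hαK _ hm]⟩
      have := hαK _ hm
      rw [hαα] at this
      rwa [this]
  · intro w hw c hc2 hcp
    have hpne : J.proj c ≠ 1 := by
      obtain ⟨hf1, -⟩ := D.facts.four
      simp only [List.map_append, List.prod_append] at hf1
      have hii := D.facts.sq tenIW (List.mem_append_right _ List.mem_cons_self)
      have hjj := D.facts.sq tenJW (List.mem_append_right _ (List.mem_cons_of_mem _ List.mem_cons_self))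
      intro e
      rw [e] at hcp
      simp only [List.mem_cons, List.not_mem_nil, or_false] at hw
      rcases hw with rfl | rfl <;> rw [← hcp] at hf1 <;> simp [hii, hjj] at hf1
    have hα : α (J.proj c) = J.proj c := by
      rw [hcp]
      refine hαfix w ?_
      simp only [List.mem_cons, List.not_mem_nil, or_false] at hw
      rcases hw with rfl | rfl <;> simp
    set c' : ↥(CZ z π) := ⟨σ * (c : G) * σ⁻¹, hσC c⟩ with hc'
    have hc'2 : (c' : G) * c' = 1 := by
      show σ * (c : G) * σ⁻¹ * (σ * c * σ⁻¹) = 1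
      calc σ * (c : G) * σ⁻¹ * (σ * c * σ⁻¹) = σ * ((c : G) * c) * σ⁻¹ := by group
        _ = 1 := by rw [hc2]; group
    rcases J.lift_unique hc2 hc'2 (by rw [hc', hσ, hα]) with k | k
    · exact mul_inv_eq_iff_eq_mul.1 k
    · exfalso
      change σ * (c : G) * σ⁻¹ = z * c at k
      rcases D.std.z_or_zc hc2 hpne with q | q
      · exact q.2 (k ▸ q.1.trans (isConj_iff.2 ⟨σ, rfl⟩))
      · exact q.2 ((k ▸ q.1 : IsConj z (σ * (c : G) * σ⁻¹)).trans (isConj_iff.2 ⟨σ, rfl⟩).symm)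

end TenCtx

namespace TenBase

variable (B : TenBase J g vec A el s) (D : TenCtx J g vec V) (hA : IsTen J g A)
include B D hA

theorem card_norm : Nat.card ↥(Subgroup.normalizer (A : Set G)) = 2 ^ 10 * 9999360 := by
  obtain ⟨ρ, hρ, hone, -⟩ := B.exists_rho D hA
  have h := ρ.ker.card_mul_index
  rw [Subgroup.index_ker, MonoidHom.range_eq_top.2 hρ, Subgroup.card_top, card_SL_five_two,
    show ρ.ker = A.subgroupOf _ by ext n; exact hone n,
    Nat.card_congr (Subgroup.subgroupOfEquivOfLe Subgroup.le_normalizer).toEquiv, hA.card] at h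
  exact h.symm

/-- A subgroup of order `2 ^ 10` of the normalizer meeting the subgroup trivially. -/
theorem exists_half [IsSimpleGroup G] (hG : ¬ IsMulCommutative G) (hJ : IsOfJankoFourTypeAt z)
    (hidx : (MulAut.conj : M →* MulAut M).range.index = 2) :
    ∃ P : Subgroup G, P ≤ Subgroup.normalizer (A : Set G) ∧ Nat.card P = 2 ^ 10 ∧ ∀ x ∈ P, x ∈ A → x = 1 := by
  classical
  have F := D.small
  obtain ⟨R0, hR0E, hR0c, hR0A, hR0cj, hR0σ⟩ := B.exists_R0 D hA
  obtain ⟨ci, cj, hci2, hcj2, hci, hcj, hWc, hWC, hWK⟩ := D.exists_dih hA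
  obtain ⟨σ, hσz, hσp, hσ2, hσs, hσN, hσfix⟩ := D.exists_outer_ten hA hG hJ hidx B.seven.1 B.seven.2.1
  set W := Subgroup.closure ({(ci : G), (cj : G)} : Set G) with hW
  have hwi : tenIW ∈ [tenIW, tenJW] := List.mem_cons_self
  have hwj : tenJW ∈ [tenIW, tenJW] := List.mem_cons_of_mem _ List.mem_cons_self
  have hcR : ∀ w ∈ [tenIW, tenJW], ∀ c : ↥(CZ z π), (c : G) * c = 1 → J.proj c = (w.map g).prod →
      (c : G) ∈ Subgroup.normalizer (R0 : Set G) ∧ (c : G) ∈ Subgroup.normalizer (A : Set G) := by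
    intro w hw c hc2 hcp
    obtain ⟨hcz, hcπ⟩ := mem_CZ.1 c.2
    refine ⟨hR0cj c w hcz hcπ hw ?_ hc2, hA.mem_normalizer F (hcp ▸ D.facts.norm2 w hw)⟩
    exact acts_ten D.model F (tenW_words (List.mem_append_right _ hw)) (c := c)
      (by rw [mul_inv_cancel]; exact one_mem E) (by rw [hc2]; exact one_mem E) hcp
  have hWR : W ≤ Subgroup.normalizer (R0 : Set G) := by
    rw [hW, Subgroup.closure_le]
    rintro x (rfl | rfl)
    exacts [(hcR _ hwi ci hci2 hci).1, (hcR _ hwj cj hcj2 hcj).1]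
  have hWN : W ≤ Subgroup.normalizer (A : Set G) := by
    rw [hW, Subgroup.closure_le]
    rintro x (rfl | rfl)
    exacts [(hcR _ hwi ci hci2 hci).2, (hcR _ hwj cj hcj2 hcj).2]
  set S := Subgroup.zpowers σ with hS
  have hσH : σ ∉ H0 z π E := J.swap_not_mem hσz hσp
  have hS1 : ∀ x ∈ S, x ∈ H0 z π E → x = 1 := by
    intro x hx hxH
    obtain ⟨k, rfl⟩ := Subgroup.mem_zpowers_iff.1 hx
    rcases Int.even_or_odd k with ⟨m, rfl⟩ | ⟨m, rfl⟩
    · rw [zpow_add, ← (Commute.refl σ).mul_zpow, hσ2, one_zpow]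
    · exfalso
      rw [zpow_add_one, zpow_mul, zpow_two, hσ2, one_zpow, one_mul] at hxH
      exact hσH hxH
  have hWσ : S ≤ Subgroup.centralizer (W : Set G) := by
    rw [hS, Subgroup.zpowers_le, hW, Subgroup.centralizer_closure, Subgroup.mem_centralizer_iff]
    rintro x (rfl | rfl)
    exacts [(hσfix _ hwi ci hci2 hci).symm, (hσfix _ hwj cj hcj2 hcj).symm]
  have hWH : W ≤ H0 z π E := fun x hx => CZ_le_H0 z π E (hWC hx)
  obtain ⟨hQc, hQmem⟩ := ten_sup (X := W) (Y := S) (hWσ.trans (Subgroup.centralizer_le_normalizer _))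
    fun x hx hxS => hS1 x hxS (hWH hx)
  have hSc : Nat.card S = 2 := by
    rw [hS, Nat.card_zpowers]
    exact orderOf_eq_prime (by rw [pow_two, hσ2]) fun e => hσH (e ▸ one_mem _)
  rw [hWc, hSc] at hQc
  -- the intersection of the big factor with `H0`
  have hQH : ∀ x ∈ W ⊔ S, x ∈ H0 z π E → x ∈ W := by
    intro x hx hxH
    obtain ⟨d, hd, e, he, rfl⟩ := hQmem x hx
    have : e = 1 := hS1 e he (by simpa using mul_mem (inv_mem (hWH hd)) hxH)
    rw [this, mul_one]
    exact hd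
  have hWE : ∀ x ∈ W, x ∈ E → x = 1 := by
    intro x hx hxE
    refine hWK ⟨x, hWC hx⟩ hx ?_
    rw [J.proj_part (h := x) ⟨x, hWC hx⟩ 1 (by simp) (by simpa using hxE), map_one]
    exact one_mem _
  have hQR : W ⊔ S ≤ Subgroup.normalizer (R0 : Set G) :=
    sup_le hWR (Subgroup.zpowers_le.2 (hR0σ σ hσz hσs hσp hσ2))
  obtain ⟨hPc, hPmem⟩ := ten_sup (X := R0) (Y := W ⊔ S) hQR fun x hx hxQ =>
    hWE x (hQH x hxQ (E_le_H0 z π E (hR0E hx))) (hR0E hx)
  refine ⟨R0 ⊔ (W ⊔ S), sup_le (hR0E.trans (B.E_le_norm D hA)) (sup_le hWN (Subgroup.zpowers_le.2 hσN)), ?_, ?_⟩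
  · rw [hPc, hQc, hR0c]; norm_num
  intro x hx hxA
  obtain ⟨r, hr, q, hq, rfl⟩ := hPmem x hx
  have hrH := E_le_H0 z π E (hR0E hr)
  have hqW : q ∈ W := hQH q hq (by simpa using mul_mem (inv_mem hrH) (hA.le_H0 hxA))
  have hq1 : q = 1 := hWK ⟨q, hWC hqW⟩ hqW (hA.image _ hxA ⟨q, hWC hqW⟩ (by
    show r * q * q⁻¹ ∈ E
    rw [mul_inv_cancel_right]; exact hR0E hr))
  subst hq1
  rw [mul_one] at hxA ⊢
  exact hR0A r hr hxA

/-- **The normalizer splits.** -/
theorem exists_complement [IsSimpleGroup G] (hG : ¬ IsMulCommutative G) (hJ : IsOfJankoFourTypeAt z)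
    (hidx : (MulAut.conj : M →* MulAut M).range.index = 2) :
    ∃ C : Subgroup G, C ≤ Subgroup.normalizer (A : Set G) ∧ C ⊓ A = ⊥ ∧ C ⊔ A = Subgroup.normalizer (A : Set G) ∧
      Nonempty (↥C ≃* Matrix.SpecialLinearGroup (Fin 5) (ZMod 2)) := by
  classical
  obtain ⟨P, hPN, hPc, hPA⟩ := B.exists_half D hA hG hJ hidx
  set N := Subgroup.normalizer (A : Set G) with hN
  have hAN : A ≤ N := Subgroup.le_normalizer
  obtain ⟨hUc, -⟩ := ten_sup (X := A) (Y := P) hPN fun x hx hxP => hPA x hxP hx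
  set K := A.subgroupOf N with hK
  haveI : K.Normal := Subgroup.normal_subgroupOf_of_le_normalizer le_rfl
  haveI : IsMulCommutative ↥K :=
    ⟨⟨fun a b => Subtype.ext (Subtype.ext (hA.comm _ a.2 _ b.2))⟩⟩
  have hKc : Nat.card K = 2 ^ 10 := by
    rw [hK, Nat.card_congr (Subgroup.subgroupOfEquivOfLe hAN).toEquiv, hA.card]
  have hidx' : ((A ⊔ P).subgroupOf N).index = 9765 := by
    have h := ((A ⊔ P).subgroupOf N).card_mul_index
    rw [Nat.card_congr (Subgroup.subgroupOfEquivOfLe (sup_le hAN hPN)).toEquiv, hUc, hA.card, hPc,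
      B.card_norm D hA] at h
    omega
  have hbot : P.subgroupOf N ⊓ K = ⊥ := by
    rw [eq_bot_iff]
    rintro x ⟨hxP, hxA⟩
    exact Subtype.ext (hPA _ hxP hxA)
  have hsup : K ⊔ P.subgroupOf N = (A ⊔ P).subgroupOf N := by
    rw [hK, ← Subgroup.subgroupOf_sup hAN hPN]
  obtain ⟨H, hH⟩ := CfsgLib.Gaschutz.exists_complement (K := K) (U := (A ⊔ P).subgroupOf N)
    (A := P.subgroupOf N) (fun x (hx : x ∈ K) => Subgroup.mem_sup_left (show (x : G) ∈ A from hx))
    (by rw [hKc, hidx']; decide +kernel) hbot hsup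
  obtain ⟨ρ, hρ, hone, -⟩ := B.exists_rho D hA
  refine ⟨H.map N.subtype, Subgroup.map_subtype_le H, ?_, ?_, ?_⟩
  · rw [eq_bot_iff]
    rintro _ ⟨⟨x, hx, rfl⟩, hxA⟩
    have := hH.disjoint.le_bot ⟨(show x ∈ K from hxA), hx⟩
    rw [Subgroup.mem_bot] at this
    rw [this]; exact one_mem _
  · refine le_antisymm (sup_le (Subgroup.map_subtype_le H) hAN) fun x hx => ?_
    obtain ⟨⟨k, h⟩, hkh⟩ := hH.2 ⟨x, hx⟩
    rw [← show ((k : ↥N) : G) * ((h : ↥N) : G) = x from congrArg Subtype.val hkh]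
    exact mul_mem (Subgroup.mem_sup_right k.2) (Subgroup.mem_sup_left ⟨h, h.2, rfl⟩)
  · refine ⟨(H.equivMapOfInjective N.subtype N.subtype_injective).symm.trans
      (MulEquiv.ofBijective (ρ.comp H.subtype) ⟨?_, fun y => ?_⟩)⟩
    · rw [injective_iff_map_eq_one]
      intro x hx
      have := hH.disjoint.le_bot ⟨(show (x : ↥N) ∈ K from (hone _).1 hx), x.2⟩
      exact Subtype.ext (Subgroup.mem_bot.1 this)
    · obtain ⟨n, rfl⟩ := hρ y
      obtain ⟨⟨k, h⟩, hkh⟩ := hH.2 n
      refine ⟨h, ?_⟩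
      rw [← show (k : ↥N) * (h : ↥N) = n from hkh, map_mul, (hone _).2 k.2, one_mul]
      rfl

end TenBase

end CfsgLib.JFourLocal
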