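import Cfsg.Agent.Lib.JFour.VFinal
import Cfsg.Agent.Lib.JFourLocal.TenSplit

/-!
# The self-centralizing subgroups of order `2 ^ 10`

Each is conjugate to the standard one, which gives the structure of the normalizer.
-/

set_option autoImplicit false
set_option maxRecDepth 100000
set_option linter.style.haveILetI false
set_option linter.unusedSectionVars false

open Cfsg

namespace CfsgLib.JFourLocal

open CfsgLib.JFour CfsgLib.JFour.Ctx

variable {G : Type*} [Group G] [Finite G] [IsSimpleGroup G]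

/-- The data, with the position of the listed generators kept in view. -/
theorem exists_full_ten (hG : ¬ IsMulCommutative G) {z : G} {P : Subgroup G} (hJ : IsOfJankoFourTypeWith z P) :
    ∃ (π : G) (J : Ctx ↥Cfsg.Spor.M22 z π (twoCoreOfCentralizer z)) (g : ℕ → ↥Cfsg.Spor.M22) (vec : ℕ → G),
      J.Full g vec ∧ TenFacts ↥Cfsg.Spor.M22 g := by
  obtain ⟨π₀, -, J₀⟩ := exists_ctx hJ
  have T₀ := M22Cert.tables
  obtain ⟨π, -, J, θ, vec, Mo⟩ := J₀.exists_model T₀.gens
  have T := T₀.map θ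
  have F := T.gens.small
  have h44 : θ (M22Cert.gM 4) * θ (M22Cert.gM 4) = 1 := by
    simpa using T.gens.rels [4, 4] (by simp [relList])
  have h4 : θ (M22Cert.gM 4) ≠ 1 := by
    intro h
    have hne : M22Cert.gM 4 ≠ 1 := fun e => by
      have h' : Golay.toPerm (M22Cert.gensP.getD 4 Golay.SylowTwo.idP) = Golay.toPerm Golay.SylowTwo.idP := by
        rw [← (M22Cert.gM_val 4).2, e, Golay.SylowTwo.toPerm_idP]; rfl
      have := Golay.SylowTwo.eqP_of_toPerm_eq (M22Cert.gM_val 4).1 Golay.SylowTwo.validP_idP h'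
      revert this
      decide +kernel
    exact hne (θ.injective (h.trans (map_one θ).symm))
  have hdim := Mo.card_fx F h4 h44
  obtain ⟨a, b, ha, hb, PR, hA⟩ := J.exists_ab Mo T.gens
  obtain ⟨k, hk, hne⟩ := J.exists_conj_CZ hG F Mo T hdim
  obtain ⟨h, hh, hha⟩ := J.exists_h F hdim PR hk hne
  obtain ⟨-, hC⟩ := J.cent_pi_le F T hdim PR hk hne hh hha
  exact ⟨π, J, _, vec, ⟨Mo, T, sixteen_gM θ, M22Cert.hex_facts.map θ, hdim, hC,
    a, b, PR, hA, _, h, hk, hne, hh, hha⟩, TenCert.ten_gM θ⟩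

/-- The standard data exist. -/
theorem exists_tenCtx (hG : ¬ IsMulCommutative G) {z : G} (hJ : IsOfJankoFourTypeAt z) :
    ∃ (π : G) (J : Ctx ↥Cfsg.Spor.M22 z π (twoCoreOfCentralizer z)) (g : ℕ → ↥Cfsg.Spor.M22) (vec : ℕ → G)
      (V A : Subgroup G), TenCtx J g vec V ∧ IsTen J g A := by
  obtain ⟨P, hP⟩ := hJ
  obtain ⟨π, J, g, vec, S, T⟩ := exists_full_ten hG hP
  obtain ⟨V, hV⟩ := S.exists_isV
  have hU := unique11_of_type (G := G) ⟨z, P, hP⟩
  have D : TenCtx J g vec V := ⟨⟨S, hV, hU⟩, T⟩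
  obtain ⟨A, hA⟩ := D.exists_isTen
  exact ⟨π, J, g, vec, V, A, D, hA⟩

theorem conj_map_map (A : Subgroup G) (a b : G) :
    (A.map (MulAut.conj a).toMonoidHom).map (MulAut.conj b).toMonoidHom = A.map (MulAut.conj (b * a)).toMonoidHom := by
  rw [Subgroup.map_map]
  congr 1
  ext x
  simp [mul_assoc]

theorem conj_map_inv (A : Subgroup G) (a : G) :
    (A.map (MulAut.conj a).toMonoidHom).map (MulAut.conj a⁻¹).toMonoidHom = A := by
  rw [conj_map_map, inv_mul_cancel]
  ext x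
  simp

/-- **Conjugate to the standard subgroup.** -/
theorem exists_std_ten (hG : ¬ IsMulCommutative G) {z : G} (hJ : IsOfJankoFourTypeAt z) {A : Subgroup G}
    (hA : IsElementaryAbelian 2 A) (hcard : Nat.card ↥A = 2 ^ 10)
    (hself : Subgroup.centralizer (A : Set G) = A)
    {π : G} {J : Ctx ↥Cfsg.Spor.M22 z π (twoCoreOfCentralizer z)} {g : ℕ → ↥Cfsg.Spor.M22} {vec : ℕ → G}
    {V A0 : Subgroup G} (D : TenCtx J g vec V) (hA0 : IsTen J g A0) :
    ∃ c : G, A = A0.map (MulAut.conj c).toMonoidHom := by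
  haveI := Fact.mk Nat.prime_two
  obtain ⟨k, hk⟩ := exists_conj_central J (IsPGroup.of_card (p := 2) hcard)
  set A' := A.map (MulAut.conj k).toMonoidHom with hA'
  have hcent : Subgroup.centralizer (A' : Set G) = A' := by
    rw [hA', centralizer_map_equiv, hself]
  have hself' : IsSelf z A' := by
    refine ⟨?_, by rw [hA', Subgroup.card_map_of_injective (MulAut.conj k).injective, hcard], ?_, hcent.le⟩
    · rintro _ ⟨a, ha, rfl⟩
      rw [← map_mul, ← pow_two, hA.2 a ha, map_one]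
    · rw [← hcent, Subgroup.mem_centralizer_iff]
      rintro _ ⟨a, ha, rfl⟩
      exact hk a ha
  obtain ⟨ψ, hψ⟩ := J.exists_projH
  obtain ⟨d, hd⟩ := D.self_classify hself' hψ
  have h := hA0.unique D.small hd
  rw [hA', conj_map_map] at h
  exact ⟨((d : G) * k)⁻¹, by rw [← h, conj_map_inv]⟩

/-- The orbits and irreducibility move with conjugation. -/
theorem ten_structure (hG : ¬ IsMulCommutative G) {z : G} (hJ : IsOfJankoFourTypeAt z) {A : Subgroup G}
    (hA : IsElementaryAbelian 2 A) (hcard : Nat.card ↥A = 2 ^ 10)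
    (hself : Subgroup.centralizer (A : Set G) = A) :
    (∃ C : Subgroup G, C ≤ Subgroup.normalizer (A : Set G) ∧ C ⊓ A = ⊥ ∧
      C ⊔ A = Subgroup.normalizer (A : Set G) ∧
      Nonempty (↥C ≃* Matrix.SpecialLinearGroup (Fin 5) (ZMod 2))) ∧
    (∀ W : Subgroup G, W ≤ A → Subgroup.normalizer (A : Set G) ≤ Subgroup.normalizer (W : Set G) →
      W = ⊥ ∨ W = A) ∧
    ∃ a b : G, a ∈ A ∧ b ∈ A ∧
      Set.ncard {v : G | ∃ n ∈ Subgroup.normalizer (A : Set G), n * a * n⁻¹ = v} = 155 ∧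
      Set.ncard {v : G | ∃ n ∈ Subgroup.normalizer (A : Set G), n * b * n⁻¹ = v} = 868 := by
  obtain ⟨π, J, g, vec, V, A0, D, hA0⟩ := exists_tenCtx hG hJ
  obtain ⟨c, rfl⟩ := exists_std_ten hG hJ hA hcard hself D hA0
  obtain ⟨el, s, B⟩ := D.exists_base hA0
  have hidx : (MulAut.conj : ↥Cfsg.Spor.M22 →* MulAut ↥Cfsg.Spor.M22).range.index = 2 := by
    rw [Subgroup.index_eq_card]
    exact Cfsg.Agent.S2062.result
  obtain ⟨C, hCN, hCA, hCS, ⟨e⟩⟩ := B.exists_complement D hA0 hG hJ hidx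
  obtain ⟨b, hb, hb868⟩ := B.exists_orbit_868 D hA0
  set φ := MulAut.conj c with hφ
  have hinj : Function.Injective fun v : G => c * v * c⁻¹ := φ.injective
  have hN := Subgroup.map_equiv_normalizer_eq A0 φ
  refine ⟨⟨C.map φ.toMonoidHom, ?_, ?_, ?_, ⟨(C.equivMapOfInjective φ.toMonoidHom φ.injective).symm.trans e⟩⟩,
    fun W hW hWN => ?_, c * z * c⁻¹, c * b * c⁻¹, ⟨z, hA0.z_mem, rfl⟩, ⟨b, hb, rfl⟩, ?_, ?_⟩
  · exact (Subgroup.map_mono hCN).trans hN.le
  · rw [← Subgroup.map_inf _ _ _ φ.injective, hCA, Subgroup.map_bot]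
  · rw [← Subgroup.map_sup, hCS]
    exact hN
  · set W0 := W.map (MulAut.conj c⁻¹).toMonoidHom with hW0
    have hW0A : W0 ≤ A0 := by
      rw [← conj_map_inv A0 c]
      exact Subgroup.map_mono hW
    have hN0 : Subgroup.normalizer (A0 : Set G) ≤ Subgroup.normalizer (W0 : Set G) := by
      intro n hn
      rw [hW0, normalizer_conj_map, inv_inv]
      exact hWN (normalizer_conj_map.2 (by
        rwa [show c⁻¹ * (c * n * c⁻¹) * c = n by group]))
    have hback : W = W0.map φ.toMonoidHom := by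
      rw [hW0, hφ, conj_map_map, mul_inv_cancel]
      ext x
      simp
    rcases B.irreducible D hA0 hW0A hN0 with h | h <;> rw [hback, h]
    · exact Or.inl (Subgroup.map_bot _)
    · exact Or.inr rfl
  · rw [conj_orbit, Set.ncard_image_of_injective _ hinj, B.ncard_orbit_z D hA0]
  · rw [conj_orbit, Set.ncard_image_of_injective _ hinj, hb868]

/-- Existence. -/
theorem exists_ten (hG : ¬ IsMulCommutative G) {z : G} (hJ : IsOfJankoFourTypeAt z) :
    ∃ A : Subgroup G, IsElementaryAbelian 2 A ∧ Nat.card ↥A = 2 ^ 10 ∧ Subgroup.centralizer (A : Set G) = A := by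
  obtain ⟨π, J, g, vec, V, A, D, hA⟩ := exists_tenCtx hG hJ
  exact ⟨A, ⟨⟨⟨fun a b => Subtype.ext (hA.comm _ a.2 _ b.2)⟩⟩, fun a ha => by rw [pow_two]; exact hA.sq a ha⟩,
    hA.card, D.centralizer_eq hA⟩

/-- All are conjugate. -/
theorem ten_conj (hG : ¬ IsMulCommutative G) {z : G} (hJ : IsOfJankoFourTypeAt z) {A A' : Subgroup G}
    (hA : IsElementaryAbelian 2 A) (hc : Nat.card ↥A = 2 ^ 10) (hs : Subgroup.centralizer (A : Set G) = A)
    (hA' : IsElementaryAbelian 2 A') (hc' : Nat.card ↥A' = 2 ^ 10)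
    (hs' : Subgroup.centralizer (A' : Set G) = A') :
    ∃ g : G, A' = A.map (MulAut.conj g).toMonoidHom := by
  obtain ⟨π, J, g, vec, V, A0, D, hA0⟩ := exists_tenCtx hG hJ
  obtain ⟨a, rfl⟩ := exists_std_ten hG hJ hA hc hs D hA0
  obtain ⟨b, rfl⟩ := exists_std_ten hG hJ hA' hc' hs' D hA0
  exact ⟨b * a⁻¹, by rw [conj_map_map, inv_mul_cancel_right]⟩

end CfsgLib.JFourLocal
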