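import Cfsg.Agent.Lib.JFour.VData
import Cfsg.Agent.Lib.JFour.VChecks

/-!
# Checks for an element of order five

The matrix of a word of order five, of a word squaring it, the fixed vectors of the first and their
kinds.
-/

set_option autoImplicit false
set_option maxRecDepth 100000

namespace CfsgLib.JFourLocal

open CfsgLib.JFour

/-- A word of order five. -/
def fiveW : List ℕ := [4, 3, 4, 3, 0, 3, 4, 3, 0, 3, 4, 3, 0]

/-- A word of order four squaring it. -/
def fourW : List ℕ := [2, 2, 4, 1, 0]

/-- The matrix of the first word. -/
def fiveB : List ℕ := wordB MS fiveW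

/-- The nonzero fixed vectors. -/
def fix5 : List ℕ := [260, 520, 780, 1344, 2688, 4032, 1092, 2184, 3276, 1612, 1864, 2444, 2948, 3528, 3780]

/-- Those of the second kind. -/
def fixB : List ℕ := [260, 520, 780, 1344, 2688, 4032]

/-- Those of the first kind. -/
def fixA : List ℕ := [1092, 2184, 3276]

theorem five_word : fiveW.all (fun k => decide (k < 5)) = true ∧ fourW.all (fun k => decide (k < 5)) = true ∧
    okB fiveB = true ∧ okB (wordB MS fourW) = true := by decide +kernel

theorem five_rel : (comp fiveB (comp fiveB (comp fiveB (comp fiveB fiveB))) == idB) = true ∧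
    (comp (wordB MS fourW) (comp (wordB MS fourW) (comp (wordB MS fourW) (wordB MS fourW))) == idB) = true ∧
    (comp (wordB MS fourW) fiveB == comp (comp fiveB fiveB) (wordB MS fourW)) = true ∧
    fiveB ≠ idB ∧ fiveB ≠ gW0 ∧ fiveB ≠ comp gW0 gW0 ∧ gW0 ≠ idB ∧ comp gW0 gW0 ≠ idB := by decide +kernel

theorem five_fix : (List.range 4096).all (fun n =>
    Nat.beq n 0 || fix5.contains n || !Nat.beq (ap fiveB n) n) = true ∧
    fix5.all (fun n => Nat.beq (ap fiveB n) n && decide (n < 4096) && !Nat.beq n 0) = true ∧
    fix5.Nodup := by decide +kernel

theorem five_kinds : fixA.all (fun n => inLay layA n && fix5.contains n) = true ∧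
    fixB.all (fun n => inLay layB n && fix5.contains n) = true ∧
    fix5.all (fun n => fixA.contains n || fixB.contains n || inLay layC n) = true ∧
    fixA.all (fun m => fixA.all fun n => Nat.beq m n || fixA.contains (Nat.xor m n)) = true ∧
    fix5.all (fun n => !fixP hexW n || [260, 520, 780].contains n) = true ∧
    fixP hexW 260 = true := by decide +kernel

/-- The scalar acts as the sum of the second and the third power on the commutators in the fixed space. -/
theorem five_scal : (List.range 4096).all (fun m => !fixP hexW m ||
    (let x := Nat.xor m (ap fiveB m)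
     Nat.beq (ap gW0 x) (Nat.xor (ap fiveB (ap fiveB x)) (ap fiveB (ap fiveB (ap fiveB x)))))) = true ∧
    ((List.range 4096).any fun m => fixP hexW m && !Nat.beq (ap fiveB m) m) = true := by decide +kernel

theorem five_perp : (fix5.all fun n => !(bb n 1092 == false && bb n 2184 == false) || fixA.contains n) = true ∧
    (fixA.all fun a => (fix5.filter fun n => bb n a == false).length == 7) = true ∧
    ((fix5.filter fun n => bb n 260 == false).length == 7) = true ∧
    (fixB.all fun t => fixA.all fun a => fix5.any fun n => bb n t == false && bb n a) = true ∧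
    (fixB.all fun t => fix5.any fun n => bb n t) = true ∧
    (fixA.all fun m => fixA.all fun n => bb m n == false) = true := by decide +kernel

end CfsgLib.JFourLocal
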