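import Mathlib.GroupTheory.Sylow
import Cfsg.Agent.Lib.M22Order.Facts

/-!
# The elements of order five of the group of order 443520
-/

set_option autoImplicit false
set_option linter.unusedSectionVars false

namespace CfsgLib.JFourLocal

variable {M : Type*} [Group M] [Finite M]

/-- The facts used about elements of order five. -/
structure FiveFacts (M : Type*) [Group M] : Prop where
  card : Nat.card M = 443520
  cent : ∀ m n : M, orderOf m = 5 → n * m = m * n → n ∈ Subgroup.zpowers m

theorem five_facts (F : CfsgLib.M22Order.Facts M) : FiveFacts M := by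
  refine ⟨F.card, fun m n hm hn => ?_⟩
  have heq : Subgroup.zpowers m = Subgroup.centralizer ({m} : Set M) := Subgroup.eq_of_le_of_card_ge
    (Subgroup.zpowers_le.2 (Subgroup.mem_centralizer_singleton_iff.2 rfl))
    (by rw [F.card_five m hm, Nat.card_zpowers, hm])
  rw [heq]
  exact Subgroup.mem_centralizer_singleton_iff.2 hn

theorem five_fac : (443520 : ℕ).factorization 5 = 1 := by
  rw [show (443520 : ℕ) = 5 ^ 1 * 88704 by norm_num,
    Nat.factorization_mul (by norm_num) (by norm_num), Finsupp.add_apply, Nat.factorization_pow,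
    Nat.factorization_eq_zero_of_not_dvd (show ¬ 5 ∣ 88704 by norm_num)]
  simp [(show Nat.Prime 5 by norm_num).factorization_self]

/-- In a group with 5-part five, the subgroups of order five are conjugate. -/
theorem five_conj {H : Type*} [Group H] [Finite H] (hH : (Nat.card H).factorization 5 ≤ 1) {x y : H}
    (hx : orderOf x = 5) (hy : orderOf y = 5) :
    ∃ (m : H) (j : ℕ), j % 5 ≠ 0 ∧ m * x * m⁻¹ = y ^ j := by
  classical
  haveI := Fact.mk (show Nat.Prime 5 by norm_num)
  have hfac : (Nat.card H).factorization 5 = 1 := by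
    refine le_antisymm hH ((show Nat.Prime 5 by norm_num).dvd_iff_one_le_factorization Nat.card_pos.ne' |>.1 ?_)
    rw [← hx]
    exact orderOf_dvd_natCard x
  have hsyl : ∀ c : H, orderOf c = 5 → Nat.card ↥(Subgroup.zpowers c) = 5 ^ (Nat.card H).factorization 5 :=
    fun c hc => by rw [Nat.card_zpowers, hc, hfac, pow_one]
  obtain ⟨m, hm⟩ := MulAction.exists_smul_eq H (Sylow.ofCard (Subgroup.zpowers x) (hsyl x hx))
    (Sylow.ofCard (Subgroup.zpowers y) (hsyl y hy))
  have h1 : m * x * m⁻¹ ∈ Subgroup.zpowers y := by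
    have h2 : m * x * m⁻¹ ∈ ((m • Sylow.ofCard (Subgroup.zpowers x) (hsyl x hx) : Sylow 5 H) : Subgroup H) := by
      rw [Sylow.coe_subgroup_smul]
      exact ⟨x, Subgroup.mem_zpowers x, rfl⟩
    rw [hm] at h2
    exact h2
  obtain ⟨i, hi⟩ := (isOfFinOrder_of_finite y).mem_powers_iff_mem_zpowers.2 h1
  have hi' : y ^ i = m * x * m⁻¹ := hi
  refine ⟨m, i, fun h0 => ?_, hi'.symm⟩
  rw [← pow_mod_orderOf, hy, h0, pow_zero, eq_comm, mul_inv_eq_one, mul_eq_left] at hi'
  rw [hi', orderOf_one] at hx
  omega

end CfsgLib.JFourLocal
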