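import Cfsg.Agent.Lib.JFour.Cons
import Cfsg.Agent.Lib.JFour.Inner
import Cfsg.Agent.Lib.JFourLocal.Outer
import Cfsg.Agent.Lib.JFourLocal.FiveData
import Cfsg.Agent.Lib.JFourLocal.FiveM

/-!
# An element of order five in `C(z, π)` with its matrix

It is inverted and squared by elements of `C(z, π)` and centralized by an element outside `H0`.
-/

set_option autoImplicit false
set_option maxRecDepth 100000
set_option linter.style.haveILetI false
set_option linter.unusedSectionVars false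

open Cfsg

namespace CfsgLib.JFourLocal

open CfsgLib.JFour CfsgLib.JFour.Ctx

variable {G : Type*} [Group G] [Finite G] {M : Type*} [Group M] [Finite M] {z π : G} {E : Subgroup G}

/-- An element of order five acting by `fiveB`. -/
structure FiveEl (z π : G) (vec : ℕ → G) (q : G) : Prop where
  mem : q ∈ CZ z π
  ord : orderOf q = 5
  acts : Acts z vec q fiveB

theorem pow_mod_five {q : G} (hq : orderOf q = 5) (i : ℕ) : q ^ i = q ^ (i % 5) := by
  rw [← hq, pow_mod_orderOf]

theorem inv_pow_five {j : ℕ} (hj : j % 5 ≠ 0) : (j * j ^ 3) % 5 = 1 := by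
  rw [← pow_succ', Nat.pow_mod]
  have : j % 5 < 5 := Nat.mod_lt _ (by norm_num)
  interval_cases j % 5 <;> simp at hj ⊢

variable (J : Ctx M z π E)
include J

/-- An element of `C(z, π)` acting trivially lies in the centre. -/
theorem center_of_trivial {g : ℕ → M} {vec : ℕ → G} (Mo : J.Model g vec) (hM : IsSimpleGroup M)
    {c : ↥(CZ z π)} (h : ∀ e ∈ E, Rel z ((c : G) * e * (c : G)⁻¹) e) : (c : G) = 1 ∨ (c : G) = z := by
  let K : Subgroup ↥(CZ z π) :=
    { carrier := {d | ∀ e ∈ E, Rel z ((d : G) * e * (d : G)⁻¹) e}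
      one_mem' := fun e _ => Or.inl (by simp)
      mul_mem' := fun {a b} ha hb e he => by
        have h1 := J.rel_conj (mem_CZ.1 a.2).1 (hb e he)
        rw [show (a : G) * ((b : G) * e * (b : G)⁻¹) * (a : G)⁻¹ =
          ((a * b : ↥(CZ z π)) : G) * e * ((a * b : ↥(CZ z π)) : G)⁻¹ by
            simp only [Subgroup.coe_mul]; group] at h1
        exact J.rel_trans h1 (ha e he)
      inv_mem' := fun {a} ha e he => by
        have haz := (mem_CZ.1 a.2).1
        have h1 := J.rel_conj ((show Commute (a : G) z from haz).inv_left).eq (ha e he)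
        rw [show (a : G)⁻¹ * ((a : G) * e * (a : G)⁻¹) * (a : G)⁻¹⁻¹ = e by group] at h1
        exact J.rel_symm (by simpa using h1) }
  haveI : K.Normal := ⟨fun a ha d e he => by
    have hdz := (mem_CZ.1 d.2).1
    have h1 := J.rel_conj hdz (ha ((d : G)⁻¹ * e * d) (J.conjE' hdz he))
    rw [show (d : G) * ((d : G)⁻¹ * e * d) * (d : G)⁻¹ = e by group] at h1
    rw [show ((d * a * d⁻¹ : ↥(CZ z π)) : G) * e * ((d * a * d⁻¹ : ↥(CZ z π)) : G)⁻¹ =
      (d : G) * ((a : G) * ((d : G)⁻¹ * e * d) * (a : G)⁻¹) * (d : G)⁻¹ by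
        simp only [Subgroup.coe_mul, InvMemClass.coe_inv]; group]
    exact h1⟩
  haveI : (K.map J.proj).Normal := Subgroup.Normal.map inferInstance _ J.proj_surj
  obtain ⟨hw, -, hok, -⟩ := five_word
  obtain ⟨-, -, -, hne, hne1, hne2, hpi1, hpi2⟩ := five_rel
  -- the scalars
  have hscal : ∀ {d : ↥(CZ z π)}, J.proj d = 1 → ∃ B ∈ [idB, gW0, comp gW0 gW0], Acts z vec (d : G) B ∧
      (B = idB → (d : G) = 1 ∨ (d : G) = z) := by
    intro d hd
    obtain ⟨v, hvE, hv, j, hj, he⟩ := J.exists_pow' hd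
    have hpz : ∀ n, π ^ n * z = z * π ^ n := fun n => ((show Commute π z from J.piz).pow_left n).eq
    interval_cases j
    · refine ⟨idB, by simp, ?_, fun _ => ?_⟩
      · rw [he, pow_zero]; exact Mo.coords.acts_mul_E J (Mo.coords.acts_one J) hvE (by simp)
      · rw [he, pow_zero, mul_one]; exact hv
    · refine ⟨gW0, by simp, ?_, fun h => absurd h hpi1⟩
      rw [he, pow_one]; exact Mo.coords.acts_mul_E J Mo.om hvE J.piz
    · refine ⟨comp gW0 gW0, by simp, ?_, fun h => absurd h hpi2⟩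
      rw [he, pow_two]
      exact Mo.coords.acts_mul_E J (Mo.coords.acts_mul J Mo.om J.piz Mo.om (okB_comp Mo.om.1 Mo.om.1)) hvE
        (by simpa [pow_two] using hpz 2)
  have heqB : ∀ {B C : List ℕ}, okB B = true → okB C = true → (∀ n < 4096, ap B n = ap C n) → B = C := by
    intro B C hB hC hBC
    simp only [okB, Bool.and_eq_true, beq_iff_eq] at hB hC
    refine List.ext_getElem (by rw [hB.1, hC.1]) fun i h1 h2 => ?_
    have := hBC (2 ^ i) (Nat.pow_lt_pow_right (n := 12) (by norm_num) (by omega))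
    rwa [ap_pow, ap_pow, List.getD_eq_getElem _ _ h1, List.getD_eq_getElem _ _ h2] at this
  rcases hM.eq_bot_or_eq_top_of_normal (K.map J.proj) inferInstance with e | e
  · have hp : J.proj c = 1 := by
      have hc : J.proj c ∈ K.map J.proj := ⟨c, h, rfl⟩
      rwa [e, Subgroup.mem_bot] at hc
    obtain ⟨B, hB, hA, hcen⟩ := hscal hp
    refine hcen (heqB hA.1 (by decide) fun n hn => ?_)
    rw [ap_idB hn]
    refine (Mo.coords.rel_iff J (okB_lt hA.1 n) hn).1 ?_
    exact J.rel_trans (J.rel_symm (hA.2 n hn)) (h _ (Mo.coords.mem n hn))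
  · exfalso
    obtain ⟨d, -, hdA⟩ := Mo.lift (w := fiveW) fun k hk => of_decide_eq_true (List.all_eq_true.1 hw k hk)
    obtain ⟨k, hk, hkd⟩ : J.proj d ∈ K.map J.proj := e ▸ Subgroup.mem_top _
    have h1 : J.proj (k⁻¹ * d) = 1 := by rw [map_mul, map_inv, hkd, inv_mul_cancel]
    obtain ⟨B, hB, hA, -⟩ := hscal h1
    have hkz := (mem_CZ.1 k.2).1
    have hfin : fiveB = B := by
      refine heqB hdA.1 hA.1 fun n hn => ?_
      refine (Mo.coords.rel_iff J (okB_lt hdA.1 n) (okB_lt hA.1 n)).1 ?_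
      have h2 := J.rel_conj hkz (hA.2 n hn)
      rw [show (k : G) * (((k⁻¹ * d : ↥(CZ z π)) : G) * vec n * ((k⁻¹ * d : ↥(CZ z π)) : G)⁻¹) * (k : G)⁻¹ =
        (d : G) * vec n * (d : G)⁻¹ by simp only [Subgroup.coe_mul, InvMemClass.coe_inv]; group] at h2
      exact J.rel_trans (J.rel_symm (hdA.2 n hn))
        (J.rel_trans h2 (hk _ (Mo.coords.mem _ (okB_lt hA.1 n))))
    simp only [List.mem_cons, List.not_mem_nil, or_false] at hB
    rcases hB with rfl | rfl | rfl
    exacts [hne hfin, hne1 hfin, hne2 hfin]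

/-- An element of order five with the given matrix exists. -/
theorem exists_five_el (hM : Nat.card M = 443520) {g : ℕ → M} {vec : ℕ → G} (Mo : J.Model g vec) :
    ∃ q : G, FiveEl z π vec q := by
  obtain ⟨hw, -, hok, -⟩ := five_word
  obtain ⟨h5, -, -, hne, -⟩ := five_rel
  obtain ⟨c, -, hA⟩ := Mo.lift (w := fiveW) fun k hk => of_decide_eq_true (List.all_eq_true.1 hw k hk)
  have hA' : Acts z vec (c : G) fiveB := hA
  have hcz : Commute (c : G) z := (mem_CZ.1 c.2).1
  have hA5 : Acts z vec ((c : G) ^ 5) idB := by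
    have e : (c : G) ^ 5 = c * (c * (c * (c * c))) := by simp [pow_succ, mul_assoc]
    rw [e]
    rw [beq_iff_eq] at h5
    rw [← h5]
    have h2 := Mo.coords.acts_mul J hA' hcz.eq hA' (okB_comp hok hok)
    have h3 := Mo.coords.acts_mul J hA' hcz.eq h2 (okB_comp hok h2.1)
    have h4 := Mo.coords.acts_mul J hA' hcz.eq h3 (okB_comp hok h3.1)
    exact Mo.coords.acts_mul J hA' hcz.eq h4 (okB_comp hok h4.1)
  have hpow5 : ∀ b, Acts z vec (((c : G) ^ 5) ^ b) idB := by
    intro b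
    induction b with
    | zero => rw [pow_zero]; exact Mo.coords.acts_one J
    | succ b ih =>
      rw [pow_succ']
      have := Mo.coords.acts_mul J hA5 (hcz.pow_left 5).eq ih (by decide)
      rwa [show comp idB idB = idB by decide] at this
  have hcomp : comp fiveB idB = fiveB := by decide +kernel
  set N := orderOf (c : G) with hN
  have hdvd : N ∣ 6 * 443520 := by rw [← J.card_CZ hM]; exact Subgroup.orderOf_dvd_natCard _ c.2
  have hN5 : N % 5 = 0 := by
    by_contra hne5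
    apply hne
    -- a power prime to five is trivial
    have e1 := inv_pow_five hne5
    set b := N * N ^ 3 / 5
    have e2 : N * N ^ 3 = 1 + 5 * b := by omega
    have h1 : (c : G) * ((c : G) ^ 5) ^ b = 1 := by
      rw [← pow_mul, ← pow_succ', add_comm, ← e2, pow_mul, pow_orderOf_eq_one, one_pow]
    have h2 := Mo.coords.acts_mul J hA' hcz.eq (hpow5 b) (by rw [hcomp]; exact hok)
    rw [h1, hcomp] at h2
    have h3 := Mo.coords.acts_eq J h2 (Mo.coords.acts_one J)
    simp only [okB, Bool.and_eq_true, beq_iff_eq] at hok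
    refine List.ext_getElem (by rw [hok.1]; rfl) fun i hi1 hi2 => ?_
    have := h3 (2 ^ i) (Nat.pow_lt_pow_right (n := 12) (by norm_num) (by omega))
    rwa [ap_pow, ap_pow, List.getD_eq_getElem _ _ hi1, List.getD_eq_getElem _ _ hi2] at this
  obtain ⟨m, hm⟩ := Nat.dvd_of_mod_eq_zero hN5
  have hm5 : m % 5 ≠ 0 := fun h => by
    obtain ⟨l, hl⟩ := Nat.dvd_of_mod_eq_zero h
    have h25 : 25 ∣ 6 * 443520 := Dvd.dvd.trans ⟨l, by rw [hm, hl]; ring⟩ hdvd
    norm_num at h25
  -- the exponent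
  have e1 := inv_pow_five hm5
  set b := m * m ^ 3 / 5
  have e2 : m * m ^ 3 = 1 + 5 * b := by omega
  refine ⟨(c : G) ^ (m * m ^ 3), pow_mem c.2 _, ?_, ?_⟩
  · haveI := Fact.mk (show Nat.Prime 5 by norm_num)
    refine orderOf_eq_prime ?_ fun h => ?_
    · rw [← pow_mul, show m * m ^ 3 * 5 = 5 * m * m ^ 3 by ring, ← hm, pow_mul, hN, pow_orderOf_eq_one, one_pow]
    · have hd := orderOf_dvd_of_pow_eq_one h
      rw [← hN, hm] at hd
      have h5d : 5 ∣ m * m ^ 3 := (dvd_mul_right 5 m).trans hd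
      omega
  · rw [e2, pow_add, pow_one, pow_mul]
    have h2 := Mo.coords.acts_mul J hA' hcz.eq (hpow5 b) (by rw [hcomp]; exact hok)
    rwa [hcomp] at h2

/-- The element squaring it. -/
theorem exists_four_el (F : JFour.Small M) {g : ℕ → M} {vec : ℕ → G} (Mo : J.Model g vec) {q : G}
    (Q : FiveEl z π vec q) :
    ∃ f : G, f ∈ CZ z π ∧ f ^ 4 = 1 ∧ f * q * f⁻¹ = q ^ 2 := by
  obtain ⟨-, hw, -, hok⟩ := five_word
  obtain ⟨-, h4, hcm, -⟩ := five_rel
  obtain ⟨c, -, hA⟩ := Mo.lift (w := fourW) fun k hk => of_decide_eq_true (List.all_eq_true.1 hw k hk)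
  have hcz : Commute (c : G) z := (mem_CZ.1 c.2).1
  set qC : ↥(CZ z π) := ⟨q, Q.mem⟩
  have hq5 : q ^ 5 = 1 := Q.ord ▸ pow_orderOf_eq_one q
  have hqz : Commute q z := (mem_CZ.1 Q.mem).1
  have hAq2 : Acts z vec (q * q) (comp fiveB fiveB) :=
    Mo.coords.acts_mul J Q.acts hqz.eq Q.acts (okB_comp Q.acts.1 Q.acts.1)
  have h1 : Acts z vec ((c : G) * q) (comp (wordB MS fourW) fiveB) :=
    Mo.coords.acts_mul J hA hcz.eq Q.acts (okB_comp hA.1 Q.acts.1)
  have h2 : Acts z vec (q * q * c) (comp (comp fiveB fiveB) (wordB MS fourW)) :=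
    Mo.coords.acts_mul J hAq2 (hqz.mul_left hqz).eq hA (okB_comp hAq2.1 hA.1)
  rw [beq_iff_eq] at hcm
  rw [hcm] at h1
  have htriv : ((c * qC * c⁻¹ * (qC ^ 2)⁻¹ : ↥(CZ z π)) : G) = 1 ∨
      ((c * qC * c⁻¹ * (qC ^ 2)⁻¹ : ↥(CZ z π)) : G) = z := by
    refine center_of_trivial J Mo F.simple fun e he => ?_
    -- it suffices to treat the translate of a vector by `q * q * c`
    have hd : (q * q * c) * z = z * (q * q * c) := ((hqz.mul_left hqz).mul_left hcz).eq
    obtain ⟨n, hn, hr⟩ := Mo.coords.surj _ (J.conjE' hd he)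
    have hz' : ((c : G) * q) * z = z * ((c : G) * q) := (hcz.mul_left hqz).eq
    have h3 : Rel z ((c : G) * q * ((q * q * c)⁻¹ * e * (q * q * c)) * ((c : G) * q)⁻¹) e := by
      refine J.rel_trans (J.rel_conj hz' hr) (J.rel_trans (h1.2 n hn) (J.rel_trans (J.rel_symm (h2.2 n hn)) ?_))
      refine J.rel_trans (J.rel_conj hd (J.rel_symm hr)) (Or.inl ?_)
      group
    simp only [Subgroup.coe_mul, InvMemClass.coe_inv, Subgroup.coe_pow, show (qC : G) = q from rfl]
    convert h3 using 1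
    simp [pow_two, mul_assoc]
  have hfq : (c : G) * q * (c : G)⁻¹ = q ^ 2 := by
    simp only [Subgroup.coe_mul, InvMemClass.coe_inv, Subgroup.coe_pow, show (qC : G) = q from rfl] at htriv
    rcases htriv with h | h
    · exact mul_inv_eq_one.1 h
    · exfalso
      have h' : (c : G) * q * (c : G)⁻¹ = z * q ^ 2 := mul_inv_eq_iff_eq_mul.1 h
      have h5 := congrArg (· ^ 5) h'
      simp only [conj_pow, hq5, (hqz.pow_left 2).symm.mul_pow] at h5
      rw [mul_one, mul_inv_cancel, ← pow_mul, mul_comm 2 5, pow_mul, hq5, one_pow, mul_one,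
        show z ^ 5 = z by rw [show 5 = 2 * 2 + 1 from rfl, pow_succ, pow_mul, pow_two z, J.zz, one_pow, one_mul]] at h5
      exact J.z_ne h5.symm
  refine ⟨c, c.2, ?_, hfq⟩
  have hA4 : Acts z vec ((c : G) * (c * (c * c))) idB := by
    rw [beq_iff_eq] at h4
    rw [← h4]
    have h2 := Mo.coords.acts_mul J hA hcz.eq hA (okB_comp hok hok)
    have h3 := Mo.coords.acts_mul J hA hcz.eq h2 (okB_comp hok h2.1)
    exact Mo.coords.acts_mul J hA hcz.eq h3 (okB_comp hok h3.1)
  have e4 : (c : G) ^ 4 = c * (c * (c * c)) := by simp [pow_succ, mul_assoc]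
  rw [← e4] at hA4
  have h4' : (c : G) ^ 4 = 1 ∨ (c : G) ^ 4 = z := by
    have := center_of_trivial J Mo F.simple (c := c ^ 4) fun e he => by
      obtain ⟨n, hn, hr⟩ := Mo.coords.surj e he
      have hz4 := (hcz.pow_left 4).eq
      have h := hA4.2 n hn
      rw [ap_idB hn] at h
      rw [Subgroup.coe_pow]
      exact J.rel_trans (J.rel_conj hz4 hr) (J.rel_trans h (J.rel_symm hr))
    simpa using this
  have hsq := J.sq_eq_one F (c := c ^ 2) (by
    rw [Subgroup.coe_pow, ← pow_add]; exact h4')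
  rw [Subgroup.coe_pow, ← pow_add] at hsq
  exact hsq

/-- Images of order five. -/
theorem eq_of_proj_five {a b : ↥(CZ z π)} (ha : (a : G) ^ 5 = 1) (hb : (b : G) ^ 5 = 1)
    (h : J.proj a = J.proj b) : a = b := by
  set v := a * b⁻¹ with hv
  have hv1 : J.proj v = 1 := by rw [hv, map_mul, map_inv, h, mul_inv_cancel]
  have h6 : v ^ 6 = 1 := by
    obtain ⟨u, -, hu, j, -, he⟩ := J.exists_pow' hv1
    refine Subtype.ext ?_
    have hvc : Commute u (π ^ j) := by
      rcases hu with e | e <;> rw [e]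
      exacts [Commute.one_left _, ((show Commute π z from J.piz).pow_left j).symm]
    rw [Subgroup.coe_pow, he, hvc.mul_pow, ← pow_mul, show j * 6 = 3 * (2 * j) by ring, pow_mul,
      J.pi_pow_three, one_pow, mul_one]
    rcases hu with e | e <;> rw [e]
    · exact one_pow 6
    · rw [show 6 = 2 * 3 from rfl, pow_mul, pow_two, J.zz, one_pow]; rfl
  have ha' : a ^ 5 = 1 := Subtype.ext (by rw [Subgroup.coe_pow]; exact ha)
  have hb' : b ^ 5 = 1 := Subtype.ext (by rw [Subgroup.coe_pow]; exact hb)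
  have e : a = v * b := by rw [hv, inv_mul_cancel_right]
  rw [e, (show Commute v b from ker_central J hv1).mul_pow, hb', mul_one] at ha'
  have hv0 : v = 1 := by rw [pow_succ, ha', one_mul] at h6; exact h6
  rw [e, hv0, one_mul]

theorem proj_order_five {q : G} {vec : ℕ → G} (Q : FiveEl z π vec q) :
    orderOf (J.proj ⟨q, Q.mem⟩) = 5 := by
  haveI := Fact.mk (show Nat.Prime 5 by norm_num)
  have h5 : q ^ 5 = 1 := Q.ord ▸ pow_orderOf_eq_one q
  refine orderOf_eq_prime (by rw [← map_pow, show (⟨q, Q.mem⟩ : ↥(CZ z π)) ^ 5 = 1 from Subtype.ext (by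
    rw [Subgroup.coe_pow]; exact h5), map_one]) fun e => ?_
  have h1 := eq_of_proj_five J (a := ⟨q, Q.mem⟩) (b := 1) h5 (by simp) (by rw [e, map_one])
  have := Q.ord
  rw [show q = 1 from congrArg Subtype.val h1, orderOf_one] at this
  omega

/-- The powers of the squaring element realize all automorphisms. -/
theorem exists_power {q f : G} (hq : orderOf q = 5) (hf : f * q * f⁻¹ = q ^ 2) {j : ℕ} (hj : j % 5 ≠ 0) :
    ∃ i : ℕ, f ^ i * q * (f ^ i)⁻¹ = q ^ j := by
  have hi : ∀ i : ℕ, f ^ i * q * (f ^ i)⁻¹ = q ^ (2 ^ i) := by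
    intro i
    induction i with
    | zero => simp
    | succ i ih =>
      rw [pow_succ', show f * f ^ i * q * (f * f ^ i)⁻¹ = f * (f ^ i * q * (f ^ i)⁻¹) * f⁻¹ by group, ih,
        ← conj_pow, hf, ← pow_mul, pow_succ' 2 i]
  rw [pow_mod_five hq j]
  have : j % 5 < 5 := Nat.mod_lt _ (by norm_num)
  interval_cases j % 5
  · exact absurd rfl hj
  · exact ⟨0, by simp⟩
  · exact ⟨1, by rw [hi]; rfl⟩
  · exact ⟨3, by rw [hi, pow_mod_five hq]; rfl⟩
  · exact ⟨2, by rw [hi]; rfl⟩

/-- An element outside `H0` centralizing it. -/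
theorem exists_outer_five (FF : FiveFacts M) {vec : ℕ → G} {q : G} (Q : FiveEl z π vec q) {f : G}
    (hfC : f ∈ CZ z π) (hf : f * q * f⁻¹ = q ^ 2) :
    ∃ y : G, y * z = z * y ∧ y * q = q * y ∧ y ∉ H0 z π E := by
  obtain ⟨h, hz, hp⟩ := J.swap
  have hhC : h * q * h⁻¹ ∈ CZ z π := conj_mem_CZ hz hp Q.mem
  set q' : ↥(CZ z π) := ⟨h * q * h⁻¹, hhC⟩
  have hq5 : q ^ 5 = 1 := Q.ord ▸ pow_orderOf_eq_one q
  have hq'5 : (q' : G) ^ 5 = 1 := by
    show (h * q * h⁻¹) ^ 5 = 1
    rw [conj_pow, hq5]; group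
  haveI := Fact.mk (show Nat.Prime 5 by norm_num)
  have hq'o : orderOf (J.proj q') = 5 := by
    refine orderOf_eq_prime (by rw [← map_pow, show q' ^ 5 = 1 from Subtype.ext (by
      rw [Subgroup.coe_pow]; exact hq'5), map_one]) fun e => ?_
    have h1 := eq_of_proj_five J (a := q') (b := 1) hq'5 (by simp) (by rw [e, map_one])
    have h2 : h * q * h⁻¹ = 1 := congrArg Subtype.val h1
    rw [mul_inv_eq_one, mul_eq_left] at h2
    have := Q.ord
    rw [h2, orderOf_one] at this
    omega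
  obtain ⟨m, j, hj, hm⟩ := five_conj (by rw [FF.card, five_fac]) hq'o (proj_order_five J Q)
  obtain ⟨d, rfl⟩ := J.proj_surj m
  have hd : d * q' * d⁻¹ = (⟨q, Q.mem⟩ : ↥(CZ z π)) ^ j := eq_of_proj_five J
    (by
      simp only [Subgroup.coe_mul, InvMemClass.coe_inv, conj_pow, hq'5]
      group)
    (by rw [Subgroup.coe_pow, ← pow_mul, mul_comm, pow_mul, hq5, one_pow])
    (by rw [map_mul, map_mul, map_inv, map_pow]; exact hm)
  have hd' : (d : G) * h * q * ((d : G) * h)⁻¹ = q ^ j := by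
    have := congrArg Subtype.val hd
    simp only [Subgroup.coe_mul, InvMemClass.coe_inv, Subgroup.coe_pow] at this
    rw [← this]
    show (d : G) * h * q * ((d : G) * h)⁻¹ = (d : G) * (h * q * h⁻¹) * (d : G)⁻¹
    group
  obtain ⟨i, hi⟩ := exists_power J Q.ord hf hj
  have hfiz : Commute (f ^ i) z := (show Commute f z from (mem_CZ.1 hfC).1).pow_left i
  have hdz : Commute (d : G) z := (mem_CZ.1 d.2).1
  refine ⟨(f ^ i)⁻¹ * ((d : G) * h), (hfiz.inv_left.mul_left (hdz.mul_left hz)).eq, ?_, fun hy => ?_⟩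
  · calc (f ^ i)⁻¹ * ((d : G) * h) * q = (f ^ i)⁻¹ * ((d : G) * h * q * ((d : G) * h)⁻¹) * ((d : G) * h) := by group
      _ = (f ^ i)⁻¹ * (f ^ i * q * (f ^ i)⁻¹) * ((d : G) * h) := by rw [hd', hi]
      _ = _ := by group
  · refine J.swap_not_mem hz hp ?_
    have hfH : f ^ i ∈ H0 z π E := (H0 z π E).pow_mem (CZ_le_H0 z π E hfC) i
    have := (H0 z π E).mul_mem ((H0 z π E).inv_mem (CZ_le_H0 z π E d.2)) ((H0 z π E).mul_mem hfH hy)
    rwa [mul_inv_cancel_left, inv_mul_cancel_left] at this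

end CfsgLib.JFourLocal
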