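import Cfsg.Agent.Lib.JFour.VFinal
import Cfsg.Agent.Lib.JFourLocal.FiveH

/-!
# The part in `E` of the centralizer of an element of order five

It has order 32 with an elementary subgroup of order eight holding all its conjugates of `z`; the
centralizers of its other involutions lie in `C(z)`.
-/

set_option autoImplicit false
set_option maxRecDepth 100000
set_option linter.style.haveILetI false
set_option linter.unusedSectionVars false

open Cfsg
open scoped Classical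

namespace CfsgLib.JFourLocal

open CfsgLib.JFour CfsgLib.JFour.Ctx

variable {G : Type*} [Group G] [Finite G] {M : Type*} [Group M] [Finite M] {z π : G} {E : Subgroup G}

/-- The elements of `E` commuting with `q`. -/
def fiveO (E : Subgroup G) (q : G) : Subgroup G := E ⊓ Subgroup.centralizer ({q} : Set G)

theorem mem_fiveO {q e : G} : e ∈ fiveO E q ↔ e ∈ E ∧ e * q = q * e :=
  ⟨fun h => ⟨h.1, Subgroup.mem_centralizer_singleton_iff.1 h.2⟩,
    fun h => ⟨h.1, Subgroup.mem_centralizer_singleton_iff.2 h.2⟩⟩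

/-- The subgroup over the three vectors of the first kind. -/
def IsFiveA (z : G) (vec : ℕ → G) (A : Subgroup G) : Prop :=
  ∀ u, u ∈ A ↔ ∃ n, (n = 0 ∨ n ∈ fixA) ∧ Rel z u (vec n)

theorem fixA_fix {n : ℕ} (h : n ∈ fixA) : n ∈ fix5 ∧ inLay layA n = true := by
  have := List.all_eq_true.1 five_kinds.1 n h
  simp only [Bool.and_eq_true, List.contains_iff_mem] at this
  exact ⟨this.2, this.1⟩

theorem fixB_fix {n : ℕ} (h : n ∈ fixB) : n ∈ fix5 ∧ inLay layB n = true := by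
  have := List.all_eq_true.1 five_kinds.2.1 n h
  simp only [Bool.and_eq_true, List.contains_iff_mem] at this
  exact ⟨this.2, this.1⟩

theorem fix5_lt {n : ℕ} (h : n ∈ fix5) : n < 4096 ∧ n ≠ 0 ∧ ap fiveB n = n := by
  have := List.all_eq_true.1 five_fix.2.1 n h
  simp only [Bool.and_eq_true, Nat.beq_eq, decide_eq_true_eq, Bool.not_eq_true', ← Bool.not_eq_true] at this
  exact ⟨this.1.2, fun e => this.2 e, this.1.1⟩

theorem not_fixA_fixB {n : ℕ} (hA : n ∈ fixA) : n ∉ fixB ∧ n ∉ [260, 520, 780] := by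
  revert n
  decide

section Std

variable {J : Ctx M z π E} {g : ℕ → M} {vec : ℕ → G} {V : Subgroup G} (D : J.Std g vec V)
include D

theorem vec_E {n : ℕ} (hn : n < 4096) : vec n ∈ E := D.full.Mo.coords.mem n hn

theorem exact_conj {x u d : G} (hx : x ∈ E) (h1 : x ≠ 1) (hz : x ≠ z) (hd : d * z = z * d)
    (h : Rel z u (d * x * d⁻¹)) : ∃ d' : G, d' * z = z * d' ∧ d' * x * d'⁻¹ = u := by
  rcases h with h | h
  · exact ⟨d, hd, h.symm⟩
  · obtain ⟨w, hw, hwe⟩ := J.s.exists_move hx h1 hz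
    refine ⟨d * w, ((show Commute d z from hd).mul_left (show Commute w z from J.s.z_comm hw)).eq, ?_⟩
    rw [show d * w * x * (d * w)⁻¹ = d * (w * x * w⁻¹) * d⁻¹ by group, hwe, h, ← mul_assoc d, hd]
    group

/-- A translate of a vector over a layer of an orbit is conjugate to its seed. -/
theorem conj_seed {ls : List ℕ} {seed : ℕ} (hs : seed < 4096) (hs0 : seed ≠ 0)
    (h : linked ls = true ∧ single (ls.getD 0 0) seed = true) {n : ℕ} (hn : n < 4096)
    (hin : inLay ls n = true) {u : G} (hu : Rel z u (vec n)) :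
    ∃ d : G, d * z = z * d ∧ d * vec seed * d⁻¹ = u := by
  obtain ⟨d, hd⟩ := D.full.reach hs h hn hin
  have hv := D.vec_ne hs hs0
  exact exact_conj D (vec_E D hs) hv.1 hv.2 (mem_CZ.1 d.2).1 (J.rel_trans hu (J.rel_symm hd))

theorem eq_one_or_z {u : G} (h : Rel z u (vec 0)) : u = 1 ∨ u = z := by
  rcases J.rel_trans h (D.full.Mo.coords.rel_zero J) with k | k
  · exact Or.inl k
  · exact Or.inr (by rw [k, mul_one])

theorem kindA {n : ℕ} (hn : n ∈ fixA) {u : G} (h : Rel z u (vec n)) :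
    IsConj z u ∧ u * u = 1 ∧ u ∈ E := by
  obtain ⟨h5, hA⟩ := fixA_fix hn
  obtain ⟨hlt, -, -⟩ := fix5_lt h5
  have hE := J.rel_mem h (vec_E D hlt)
  obtain ⟨d, -, hd⟩ := conj_seed D (seed := 76) (by norm_num) (by norm_num) layA_ok hlt hA h
  refine ⟨hd ▸ D.conj_classes.1.trans (isConj_iff.2 ⟨d, rfl⟩), ?_, hE⟩
  rw [← hd, show d * vec 76 * d⁻¹ * (d * vec 76 * d⁻¹) = d * (vec 76 * vec 76) * d⁻¹ by group,
    D.isV.sq _ (D.full.seeds_mem D.isV).1]
  group

theorem kindB {n : ℕ} (hn : n ∈ fixB) {u : G} (h : Rel z u (vec n)) :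
    ¬ IsConj z u ∧ u ∈ E ∧ u * u = 1 ∧ ∃ d : G, d * z = z * d ∧ d * vec 260 * d⁻¹ = u := by
  obtain ⟨h5, hB⟩ := fixB_fix hn
  obtain ⟨hlt, -, -⟩ := fix5_lt h5
  obtain ⟨d, hdz, hd⟩ := conj_seed D (seed := 260) (by norm_num) (by norm_num) layB_ok hlt hB h
  refine ⟨fun k => D.conj_classes.2.1 ((isConj_conj_iff d).1 (hd ▸ k)), J.rel_mem h (vec_E D hlt), ?_,
    d, hdz, hd⟩
  rw [← hd, show d * vec 260 * d⁻¹ * (d * vec 260 * d⁻¹) = d * (vec 260 * vec 260) * d⁻¹ by group,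
    D.isV.sq _ (D.full.seeds_mem D.isV).2]
  group

variable {q : G} (Q : FiveEl z π vec q)
include Q

theorem q_comm : q * z = z * q ∧ q * π = π * q := mem_CZ.1 Q.mem

theorem q_pow : q ^ 5 = 1 := Q.ord ▸ pow_orderOf_eq_one q

theorem comm_of_rel_five {e : G} (h : Rel z (q * e * q⁻¹) e) : e * q = q * e := by
  rcases h with h | h
  · exact (mul_inv_eq_iff_eq_mul.1 h).symm
  exfalso
  have hn : ∀ n : ℕ, q ^ n * e * (q ^ n)⁻¹ = z ^ n * e := by
    intro n
    induction n with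
    | zero => simp
    | succ n ih =>
      rw [pow_succ', show q * q ^ n * e * (q * q ^ n)⁻¹ = q * (q ^ n * e * (q ^ n)⁻¹) * q⁻¹ by group, ih,
        show q * (z ^ n * e) * q⁻¹ = q * z ^ n * q⁻¹ * (q * e * q⁻¹) by group,
        ((show Commute q z from (q_comm D Q).1).pow_right n).eq, mul_inv_cancel_right, h, ← mul_assoc,
        ← pow_succ]
  have h5 := hn 5
  rw [q_pow D Q, show z ^ 5 = z by rw [show 5 = 2 * 2 + 1 from rfl, pow_succ, pow_mul, pow_two z, J.zz,
    one_pow, one_mul], one_mul, inv_one, mul_one] at h5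
  exact J.z_ne (mul_eq_right.1 h5.symm)

theorem comm_of_list {n : ℕ} (hn : n = 0 ∨ n ∈ fix5) {u : G} (h : Rel z u (vec n)) :
    u ∈ fiveO E q := by
  have hlt : n < 4096 ∧ ap fiveB n = n := by
    rcases hn with rfl | hn
    · exact ⟨by norm_num, ap_zero _⟩
    · exact ⟨(fix5_lt hn).1, (fix5_lt hn).2.2⟩
  refine mem_fiveO.2 ⟨J.rel_mem h (vec_E D hlt.1), comm_of_rel_five D Q ?_⟩
  refine J.rel_trans (J.rel_conj (q_comm D Q).1 h) (J.rel_trans ?_ (J.rel_symm h))
  have := Q.acts.2 n hlt.1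
  rwa [hlt.2] at this

theorem fixed_cases {e : G} (he : e ∈ fiveO E q) :
    ∃ n, (n = 0 ∨ n ∈ fix5) ∧ n < 4096 ∧ Rel z e (vec n) := by
  obtain ⟨heE, hc⟩ := mem_fiveO.1 he
  obtain ⟨n, hn, hr⟩ := D.full.Mo.coords.surj e heE
  refine ⟨n, ?_, hn, hr⟩
  have h1 : ap fiveB n = n := (D.full.Mo.coords.rel_iff J (okB_lt Q.acts.1 n) hn).1 (by
    refine J.rel_trans (J.rel_symm (Q.acts.2 n hn)) (J.rel_trans (J.rel_conj (q_comm D Q).1 (J.rel_symm hr)) ?_)
    rw [← hc, mul_inv_cancel_right]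
    exact hr)
  have := List.all_eq_true.1 five_fix.1 n (List.mem_range.2 hn)
  simp only [h1, Nat.beq_refl, Bool.not_true, Bool.or_false, Bool.or_eq_true, Nat.beq_eq,
    List.contains_iff_mem] at this
  exact this

/-- The involutions. -/
theorem invol_cases {e : G} (he : e ∈ fiveO E q) (h2 : e * e = 1) :
    (∃ n, (n = 0 ∨ n ∈ fixA) ∧ Rel z e (vec n)) ∨ ∃ n ∈ fixB, Rel z e (vec n) := by
  obtain ⟨n, hn, hlt, hr⟩ := fixed_cases D Q he
  rcases hn with rfl | hn
  · exact Or.inl ⟨0, Or.inl rfl, hr⟩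
  have := List.all_eq_true.1 five_kinds.2.2.1 n hn
  simp only [Bool.or_eq_true, List.contains_iff_mem] at this
  rcases this with (h | h) | h
  · exact Or.inl ⟨n, Or.inr h, hr⟩
  · exact Or.inr ⟨n, h, hr⟩
  · exfalso
    have hsq := (D.full.sq_one_iff D.isV hlt).1 (by rw [← D.full.sq_of_rel hr (vec_E D hlt)]; exact h2)
    rw [h] at hsq
    exact Bool.noConfusion hsq

theorem exists_fiveA : ∃ A : Subgroup G, IsFiveA z vec A := by
  have hlt : ∀ {n}, (n = 0 ∨ n ∈ fixA) → n < 4096 := fun {n} hn => by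
    rcases hn with rfl | hn
    · norm_num
    · exact (fix5_lt (fixA_fix hn).1).1
  have hsq : ∀ {u : G}, (∃ n, (n = 0 ∨ n ∈ fixA) ∧ Rel z u (vec n)) → u * u = 1 := by
    rintro u ⟨n, rfl | hn, hu⟩
    · rcases eq_one_or_z D hu with k | k <;> rw [k]
      exacts [one_mul 1, J.zz]
    · exact (kindA D hn hu).2.1
  refine ⟨⟨⟨⟨{u | ∃ n, (n = 0 ∨ n ∈ fixA) ∧ Rel z u (vec n)}, ?_⟩, ?_⟩, ?_⟩, fun u => Iff.rfl⟩
  · rintro u v ⟨m, hm, hu⟩ ⟨n, hn, hv⟩
    have hmE := vec_E D (hlt hm)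
    refine ⟨Nat.xor m n, ?_, J.rel_trans (J.rel_mul (J.s.z_comm hmE) hu hv)
      (J.rel_symm (D.full.Mo.coords.add m n (hlt hm) (hlt hn)))⟩
    rcases hm with rfl | hm
    · rw [show Nat.xor 0 n = n from Nat.zero_xor n]; exact hn
    rcases hn with rfl | hn
    · rw [show Nat.xor m 0 = m from Nat.xor_zero m]; exact Or.inr hm
    have := List.all_eq_true.1 (List.all_eq_true.1 five_kinds.2.2.2.1 m hm) n hn
    simp only [Bool.or_eq_true, Nat.beq_eq, List.contains_iff_mem] at this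
    rcases this with h | h
    · exact Or.inl (by rw [h]; exact Nat.xor_self n)
    · exact Or.inr h
  · exact ⟨0, Or.inl rfl, J.rel_symm (D.full.Mo.coords.rel_zero J)⟩
  · intro u hu
    rwa [show u⁻¹ = u from inv_eq_of_mul_eq_one_right (hsq hu)]

variable {A : Subgroup G} (hA : IsFiveA z vec A)
include hA

theorem A_le : A ≤ fiveO E q := fun u hu => by
  obtain ⟨n, hn, hr⟩ := (hA u).1 hu
  exact comm_of_list D Q (hn.imp_right fun h => (fixA_fix h).1) hr

theorem z_mem_A : z ∈ A :=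
  (hA z).2 ⟨0, Or.inl rfl, J.rel_trans (Or.inr (by rw [mul_one])) (J.rel_symm (D.full.Mo.coords.rel_zero J))⟩

theorem A_sq {u : G} (hu : u ∈ A) : u * u = 1 := by
  obtain ⟨n, hn | hn, hr⟩ := (hA u).1 hu
  · subst hn
    rcases eq_one_or_z D hr with k | k <;> rw [k]
    exacts [one_mul 1, J.zz]
  · exact (kindA D hn hr).2.1

theorem A_conj {u : G} (hu : u ∈ A) (h1 : u ≠ 1) : IsConj z u := by
  obtain ⟨n, hn | hn, hr⟩ := (hA u).1 hu
  · subst hn
    rcases eq_one_or_z D hr with k | k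
    · exact absurd k h1
    · exact k ▸ IsConj.refl z
  · exact (kindA D hn hr).1

/-- It holds the conjugates of `z`. -/
theorem mem_A_of_conj {e : G} (he : e ∈ fiveO E q) (h : IsConj z e) : e ∈ A := by
  have h2 : e * e = 1 := by
    obtain ⟨c, rfl⟩ := isConj_iff.1 h
    rw [show c * z * c⁻¹ * (c * z * c⁻¹) = c * (z * z) * c⁻¹ by group, J.zz]; group
  rcases invol_cases D Q he h2 with ⟨n, hn, hr⟩ | ⟨n, hn, hr⟩
  · exact (hA e).2 ⟨n, hn, hr⟩
  · exact absurd h (kindB D hn hr).1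

theorem invol_O {e : G} (he : e ∈ fiveO E q) (h2 : e * e = 1) :
    e ∈ A ∨ ∃ n ∈ fixB, Rel z e (vec n) :=
  (invol_cases D Q he h2).imp_left (hA e).2

/-- It is self-centralizing in the part in `E`. -/
theorem cent_A {e : G} (he : e ∈ fiveO E q) (hc : ∀ a ∈ A, a * e = e * a) : e ∈ A := by
  obtain ⟨n, hn, hlt, hr⟩ := fixed_cases D Q he
  refine (hA e).2 ⟨n, hn.imp_right fun hn5 => ?_, hr⟩
  have hb : ∀ a ∈ fixA, bb n a = false := by
    intro a ha
    have hal := (fix5_lt (fixA_fix ha).1).1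
    refine (D.full.comm_vec D.isV hlt hal).1 ?_
    have h1 : vec a * e = e * vec a := hc _ ((hA _).2 ⟨a, Or.inr ha, J.rel_refl _⟩)
    exact J.comm_of_rel (J.s.z_comm (vec_E D hal)) (J.rel_symm hr) h1.symm
  have := List.all_eq_true.1 five_perp.1 n hn5
  simpa [hb 1092 (by decide), hb 2184 (by decide), List.contains_iff_mem] using this

omit hA in
/-- An element outside `H0` inverts the scalar. -/
theorem outer_pi {y x : G} (hy : y * z = z * y) (hn : y ∉ H0 z π E) (hx : x ∈ E) :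
    Rel z (y * (π * x * π⁻¹) * y⁻¹) (π⁻¹ * (y * x * y⁻¹) * π) := by
  obtain ⟨f, hf, hyp⟩ := (J.not_mem_H0_iff hy).1 hn
  have hx' : y * x * y⁻¹ ∈ E := J.conjE hy hx
  rw [show y * (π * x * π⁻¹) * y⁻¹ = (y * π * y⁻¹) * (y * x * y⁻¹) * (y * π * y⁻¹)⁻¹ by group, hyp,
    show f * π⁻¹ * f⁻¹ * (y * x * y⁻¹) * (f * π⁻¹ * f⁻¹)⁻¹ =
      f * (π⁻¹ * (f⁻¹ * (y * x * y⁻¹) * f⁻¹⁻¹) * π⁻¹⁻¹) * f⁻¹ by group]
  have hpz : π⁻¹ * z = z * π⁻¹ := (Commute.inv_left (show Commute π z from J.piz)).eq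
  have h1 : f⁻¹ * (y * x * y⁻¹) * f⁻¹⁻¹ ∈ E := E.mul_mem (E.mul_mem (E.inv_mem hf) hx') (E.inv_mem (E.inv_mem hf))
  refine J.rel_trans (J.rel_conj_E hf (J.conjE hpz h1)) ?_
  have := J.rel_conj hpz (J.rel_conj_E (E.inv_mem hf) hx')
  simpa using this

omit hA in
theorem no_both {y x : G} (hy : y * z = z * y) (hn : y ∉ H0 z π E) (hx : x ∈ E) (h1 : x ≠ 1) (hz : x ≠ z)
    (hf : Rel z (y * x * y⁻¹) x) : ¬ Rel z (y * (π * x * π⁻¹) * y⁻¹) (π * x * π⁻¹) := by
  intro hf2
  have hpz : π⁻¹ * z = z * π⁻¹ := (Commute.inv_left (show Commute π z from J.piz)).eq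
  have ha : Rel z (π⁻¹ * x * π) (π * x * π⁻¹) := by
    refine J.rel_trans ?_ (J.rel_trans (J.rel_symm (outer_pi D Q hy hn hx)) hf2)
    have := J.rel_conj hpz (J.rel_symm hf)
    simpa using this
  have hb := J.rel_conj J.piz ha
  rw [show π * (π⁻¹ * x * π) * π⁻¹ = x by group,
    show π * (π * x * π⁻¹) * π⁻¹ = π * π * x * (π * π)⁻¹ by group, ← J.pi_inv, inv_inv] at hb
  have hc : Rel z (π * x * π⁻¹) x := J.rel_symm (J.rel_trans hb ha)
  rcases J.fpf_rel hx hc with k | k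
  · exact h1 k
  · exact hz (by rw [k, mul_one])

omit hA in
/-- No element outside `H0` centralizes `q` and the seed of the second kind. -/
theorem outer_seed {y : G} (hyz : y * z = z * y) (hyq : y * q = q * y)
    (hyt : y * vec 260 = vec 260 * y) : y ∈ H0 z π E := by
  by_contra hn
  have hyN := D.cent_le_normalizer D.seed_IsD hyt
  obtain ⟨hqz, hqp⟩ := q_comm D Q
  obtain ⟨hscal, hex⟩ := five_scal
  obtain ⟨m, hm, hmF⟩ := List.any_eq_true.1 hex
  rw [Bool.and_eq_true, Bool.not_eq_true'] at hmF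
  have hm' : m < 4096 := List.mem_range.1 hm
  have hmne : ap fiveB m ≠ m := fun e => by
    rw [e, Nat.beq_refl] at hmF
    exact Bool.noConfusion hmF.2
  -- the commutator with `q` of an element of the fixed space
  have key : ∀ f : G, f ∈ V → f ∈ E → Rel z (π * (f * (q * f * q⁻¹)) * π⁻¹)
      ((q * q) * (f * (q * f * q⁻¹)) * (q * q)⁻¹ *
        ((q * (q * q)) * (f * (q * f * q⁻¹)) * (q * (q * q))⁻¹)) := by
    intro f hfV hfE
    obtain ⟨k, hk, hr, hiff⟩ := J.vec_mem D.full.Mo.coords (A := V) D.isV.z_mem hfE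
    have hkP : fixP hexW k = true := (D.full.vec_mem_V D.isV hk).1 (hiff.1 hfV)
    have hlt : ap fiveB k < 4096 := okB_lt Q.acts.1 k
    set x := Nat.xor k (ap fiveB k) with hx
    have hxlt : x < 4096 := Nat.xor_lt_two_pow (n := 12) hk hlt
    have hrx : Rel z (f * (q * f * q⁻¹)) (vec x) :=
      J.rel_trans (J.rel_mul (J.s.z_comm (vec_E D hk)) hr (J.rel_trans (J.rel_conj hqz hr) (Q.acts.2 k hk)))
        (J.rel_symm (D.full.Mo.coords.add k _ hk hlt))
    have hA2 := D.full.Mo.coords.acts_mul J Q.acts hqz Q.acts (okB_comp Q.acts.1 Q.acts.1)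
    have hA3 := D.full.Mo.coords.acts_mul J Q.acts hqz hA2 (okB_comp Q.acts.1 hA2.1)
    have hp := List.all_eq_true.1 hscal k (List.mem_range.2 hk)
    simp only [hkP, Bool.not_true, Bool.false_or, Nat.beq_eq] at hp
    have h2z : (q * q) * z = z * (q * q) := ((show Commute q z from hqz).mul_left hqz).eq
    have h3z : (q * (q * q)) * z = z * (q * (q * q)) := ((show Commute q z from hqz).mul_left h2z).eq
    refine J.rel_trans (J.rel_trans (J.rel_conj J.piz hrx) (D.full.Mo.om.2 x hxlt)) (J.rel_symm ?_)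
    rw [hp]
    have e2 := J.rel_trans (J.rel_conj h2z hrx) (hA2.2 x hxlt)
    have e3 := J.rel_trans (J.rel_conj h3z hrx) (hA3.2 x hxlt)
    rw [ap_comp] at e2 e3
    rw [ap_comp] at e3
    exact J.rel_trans (J.rel_mul (J.s.z_comm (vec_E D (okB_lt Q.acts.1 _))) e2 e3)
      (J.rel_symm (D.full.Mo.coords.add _ _ (okB_lt Q.acts.1 _) (okB_lt Q.acts.1 _)))
  have hfV : vec m ∈ V := (D.full.vec_mem_V D.isV hm').2 hmF.1
  have hfE : vec m ∈ E := vec_E D hm'
  set e := vec m * (q * vec m * q⁻¹) with he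
  have heE : e ∈ E := E.mul_mem hfE (J.conjE hqz hfE)
  have hyq' : ∀ a : G, y * (q * a * q⁻¹) * y⁻¹ = q * (y * a * y⁻¹) * q⁻¹ := fun a => by
    calc y * (q * a * q⁻¹) * y⁻¹ = y * q * a * (y * q)⁻¹ := by group
      _ = q * y * a * (q * y)⁻¹ := by rw [hyq]
      _ = _ := by group
  have hye : y * e * y⁻¹ = y * vec m * y⁻¹ * (q * (y * vec m * y⁻¹) * q⁻¹) := by
    rw [← hyq', he]; group
  have h1 := key _ hfV hfE
  have h2 := key (y * vec m * y⁻¹) (D.conj_mem hyN hfV) (J.conjE hyz hfE)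
  rw [← hye] at h2
  have h3 := J.rel_conj hyz h1
  rw [show y * ((q * q) * e * (q * q)⁻¹ * ((q * (q * q)) * e * (q * (q * q))⁻¹)) * y⁻¹ =
    (q * q) * (y * e * y⁻¹) * (q * q)⁻¹ * ((q * (q * q)) * (y * e * y⁻¹) * (q * (q * q))⁻¹) by
      rw [show (q * q) * e * (q * q)⁻¹ = q * (q * e * q⁻¹) * q⁻¹ by group,
        show (q * (q * q)) * e * (q * (q * q))⁻¹ = q * (q * (q * e * q⁻¹) * q⁻¹) * q⁻¹ by group,
        show y * (q * (q * e * q⁻¹) * q⁻¹ * (q * (q * (q * e * q⁻¹) * q⁻¹) * q⁻¹)) * y⁻¹ =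
          y * (q * (q * e * q⁻¹) * q⁻¹) * y⁻¹ * (y * (q * (q * (q * e * q⁻¹) * q⁻¹) * q⁻¹) * y⁻¹) by group]
      simp only [hyq']
      group] at h3
  have h4 : Rel z (π⁻¹ * (y * e * y⁻¹) * π) (π * (y * e * y⁻¹) * π⁻¹) :=
    J.rel_trans (J.rel_symm (outer_pi D Q hyz hn heE)) (J.rel_trans h3 (J.rel_symm h2))
  have hye' : y * e * y⁻¹ ∈ E := J.conjE hyz heE
  have h5 := J.rel_conj J.piz h4
  rw [show π * (π⁻¹ * (y * e * y⁻¹) * π) * π⁻¹ = y * e * y⁻¹ by group,
    show π * (π * (y * e * y⁻¹) * π⁻¹) * π⁻¹ = π * π * (y * e * y⁻¹) * (π * π)⁻¹ by group, ← J.pi_inv,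
    inv_inv] at h5
  have h6 : Rel z (π * (y * e * y⁻¹) * π⁻¹) (y * e * y⁻¹) := J.rel_symm (J.rel_trans h5 h4)
  have h7 : Rel z e 1 := by
    rcases J.fpf_rel hye' h6 with k | k
    · exact Or.inl (by rwa [mul_inv_eq_one, mul_eq_left] at k)
    · refine Or.inr ?_
      rw [mul_one] at k ⊢
      rwa [mul_inv_eq_iff_eq_mul, ← hyz, mul_right_inj] at k
  -- but the commutator is nontrivial
  apply hmne
  have h8 : Rel z (q * vec m * q⁻¹) (vec m) := by
    have h9 : vec m * e = q * vec m * q⁻¹ := by rw [he, ← mul_assoc, D.isV.sq _ hfV, one_mul]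
    rw [← h9]
    have := J.rel_mul (J.s.z_comm hfE) (J.rel_refl (vec m)) h7
    rwa [mul_one] at this
  exact (D.full.Mo.coords.rel_iff J (okB_lt Q.acts.1 m) hm').1
    (J.rel_trans (J.rel_symm (Q.acts.2 m hm')) h8)

omit hA in
/-- The part of the centralizer in `H0`. -/
theorem cent_H0 (FF : FiveFacts M) {y : G} (hy : y ∈ H0 z π E) (hys : y * q = q * y) :
    ∃ e ∈ fiveO E q, ∃ i k : ℕ, y = e * q ^ i * π ^ k := by
  obtain ⟨hqz, hqp⟩ := q_comm D Q
  obtain ⟨e, he, c, hc, rfl⟩ := J.mem_H0.1 hy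
  set qC : ↥(CZ z π) := ⟨q, Q.mem⟩
  have hq5 := q_pow D Q
  have hcq : (⟨c, hc⟩ : ↥(CZ z π)) * qC * (⟨c, hc⟩)⁻¹ = qC := by
    refine eq_of_proj_five J ?_ hq5 (J.proj_eq ?_)
    · simp only [Subgroup.coe_mul, InvMemClass.coe_inv, conj_pow]
      rw [show (qC : G) ^ 5 = 1 from hq5]
      group
    · simp only [Subgroup.coe_mul, InvMemClass.coe_inv]
      show c * q * c⁻¹ * q⁻¹ ∈ E
      rw [show c * q * c⁻¹ * q⁻¹ = e⁻¹ * (e * c * q * (e * c)⁻¹) * e * q⁻¹ by group, hys, mul_inv_cancel_right,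
        show e⁻¹ * q * e * q⁻¹ = e⁻¹ * (q * e * q⁻¹) by group]
      exact E.mul_mem (E.inv_mem he) (J.conjE hqz he)
  have hcs : (⟨c, hc⟩ : ↥(CZ z π)) * qC = qC * ⟨c, hc⟩ := mul_inv_eq_iff_eq_mul.1 hcq
  have hcs' : c * q = q * c := congrArg Subtype.val hcs
  have hes : e * q = q * e := by
    refine mul_right_cancel (b := c) ?_
    calc e * q * c = e * c * q := by rw [mul_assoc, ← hcs', mul_assoc]
      _ = _ := by rw [hys, mul_assoc]
  obtain ⟨i, hi⟩ := (isOfFinOrder_of_finite (J.proj qC)).mem_powers_iff_mem_zpowers.2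
    (FF.cent _ (J.proj ⟨c, hc⟩) (proj_order_five J Q) (by rw [← map_mul, ← map_mul, hcs]))
  obtain ⟨v, hvE, hv, k, -, hk⟩ := J.exists_pow' (c := (qC ^ i)⁻¹ * ⟨c, hc⟩)
    (by rw [map_mul, map_inv, map_pow, show J.proj ⟨c, hc⟩ = J.proj qC ^ i from hi.symm, inv_mul_cancel])
  simp only [Subgroup.coe_mul, InvMemClass.coe_inv, Subgroup.coe_pow] at hk
  have hvq : Commute q v := by
    rcases hv with w | w <;> rw [w]
    exacts [Commute.one_right _, hqz]
  refine ⟨e * v, mem_fiveO.2 ⟨E.mul_mem he hvE, ((show Commute e q from hes).mul_left hvq.symm).eq⟩, i, k, ?_⟩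
  rw [mul_assoc e v, ← (hvq.pow_left i).eq, mul_assoc, mul_assoc, ← hk]
  show e * c = e * (q ^ i * ((q ^ i)⁻¹ * c))
  rw [mul_inv_cancel_left]

omit hA in
/-- Elements of 2-power order. -/
theorem mem_E_of_four (FF : FiveFacts M) {y : G} (hy : y ∈ H0 z π E) (hys : y * q = q * y)
    (h4 : y ^ 4 = 1) : y ∈ fiveO E q := by
  obtain ⟨e, he, i, k, rfl⟩ := cent_H0 D Q FF hy hys
  obtain ⟨hqz, hqp⟩ := q_comm D Q
  have heE := (mem_fiveO.1 he).1
  set c := q ^ i * π ^ k with hc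
  have hcC : c ∈ CZ z π := mul_mem (pow_mem Q.mem i) (pow_mem J.pi_mem_CZ k)
  have hcz := (mem_CZ.1 hcC).1
  have hpow : ∀ n : ℕ, (e * c) ^ n * (c ^ n)⁻¹ ∈ E := by
    intro n
    induction n with
    | zero => simp
    | succ n ih =>
      have e1 : (e * c) ^ (n + 1) * (c ^ (n + 1))⁻¹ = e * (c * ((e * c) ^ n * (c ^ n)⁻¹) * c⁻¹) := by
        rw [pow_succ' (e * c), pow_succ' c]; group
      rw [e1]
      exact E.mul_mem heE (J.conjE hcz ih)
  have hec : e * q ^ i * π ^ k = e * c := by rw [hc, mul_assoc]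
  have h4E : c ^ 4 ∈ E := by
    have := hpow 4
    rw [← hec, h4, one_mul] at this
    exact E.inv_mem_iff.1 this
  have h8 : c ^ 8 = 1 := by
    rw [show 8 = 4 * 2 from rfl, pow_mul]
    rcases J.eq_center_of_mem_E (pow_mem hcC 4) h4E with w | w <;> rw [w]
    · exact one_pow 2
    · rw [pow_two, J.zz]
  have h15 : c ^ 15 = 1 := by
    rw [hc, ((show Commute q π from hqp).pow_pow i k).mul_pow, ← pow_mul, ← pow_mul,
      show i * 15 = 5 * (3 * i) by ring, show k * 15 = 3 * (5 * k) by ring, pow_mul, pow_mul π, q_pow D Q,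
      J.pi_pow_three, one_pow, one_pow, mul_one]
  have hc1 : c = 1 := by
    have h := pow_gcd_eq_one.2 ⟨h8, h15⟩
    simpa using h
  rw [hec, hc1, mul_one]
  exact he

omit hA in
/-- The centralizer of the seed. -/
theorem cent_seed (FF : FiveFacts M) {y : G} (hyq : y * q = q * y) (hyt : y * vec 260 = vec 260 * y) :
    y * z = z * y ∧ ∃ e ∈ fiveO E q, e * vec 260 = vec 260 * e ∧ ∃ i : ℕ, y = e * q ^ i := by
  obtain ⟨hqz, hqp⟩ := q_comm D Q
  have hyN := D.cent_le_normalizer D.seed_IsD hyt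
  have hyz : y * z = z * y := by
    set v := y * z * y⁻¹ with hv
    have hvV : v ∈ V := D.conj_mem hyN D.isV.z_mem
    have hvq : v * q = q * v := by
      calc v * q = y * z * (y⁻¹ * q * y) * y⁻¹ := by rw [hv]; group
        _ = y * (z * q) * y⁻¹ := by rw [mul_assoc y⁻¹, ← hyq, inv_mul_cancel_left, mul_assoc y]
        _ = y * q * y⁻¹ * (y * z * y⁻¹) := by rw [← hqz]; group
        _ = _ := by rw [hyq, mul_inv_cancel_right, hv]
    obtain ⟨c, hcE, -, hc2, -, hcK⟩ := D.isV.split D.small hvV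
    set qC : ↥(CZ z π) := ⟨q, Q.mem⟩
    have hcomm : J.proj c * J.proj qC = J.proj qC * J.proj c := by
      rw [← map_mul, ← map_mul]
      refine J.proj_eq ?_
      simp only [Subgroup.coe_mul]
      show (c : G) * q * (q * c)⁻¹ ∈ E
      rw [show (c : G) * q * (q * c)⁻¹ = (v * (c : G)⁻¹)⁻¹ * (v * q * v⁻¹) * (v * (c : G)⁻¹) * q⁻¹ by group,
        hvq, mul_inv_cancel_right,
        show (v * (c : G)⁻¹)⁻¹ * q * (v * (c : G)⁻¹) * q⁻¹ = (v * (c : G)⁻¹)⁻¹ * (q * (v * (c : G)⁻¹) * q⁻¹) by group]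
      exact E.mul_mem (E.inv_mem hcE) (J.conjE hqz hcE)
    have hc1 : J.proj c = 1 := by
      have h2 : (J.proj c) ^ 2 = 1 := by
        rw [pow_two, ← map_mul, show c * c = 1 from Subtype.ext hc2, map_one]
      obtain ⟨i, hi⟩ := Subgroup.mem_zpowers_iff.1 (FF.cent _ _ (proj_order_five J Q) hcomm)
      have h5 : (J.proj c) ^ 5 = 1 := by
        rw [← hi, ← zpow_natCast, ← zpow_mul, mul_comm, zpow_mul, zpow_natCast,
          ← proj_order_five J Q, pow_orderOf_eq_one, one_zpow]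
      rw [show 5 = 2 * 2 + 1 from rfl, pow_succ, pow_mul, h2, one_pow, one_mul] at h5
      exact h5
    have hvE : v ∈ E := by
      have hcE' : (c : G) ∈ E := by
        rcases J.small_of_proj_one hc1 (Or.inl hc2) with k | k <;> rw [k]
        exacts [E.one_mem, J.s.z_mem]
      have := E.mul_mem hcE hcE'
      rwa [inv_mul_cancel_right] at this
    have hzv : IsConj z v := isConj_iff.2 ⟨y, rfl⟩
    obtain ⟨n, hn, hlt, hr⟩ := fixed_cases D Q (mem_fiveO.2 ⟨hvE, hvq⟩)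
    rcases hn with rfl | hn
    · rcases eq_one_or_z D hr with k | k
      · exact absurd k (conj_ne_one J.z_ne hzv)
      · exact mul_inv_eq_iff_eq_mul.1 k
    · exfalso
      have hfix : fixP hexW n = true := (D.full.vec_mem_V D.isV hlt).1 (by
        rcases hr with k | k
        · rw [← k]; exact hvV
        · have := V.mul_mem D.isV.z_mem hvV
          rwa [k, ← mul_assoc, J.zz, one_mul] at this)
      have h := List.all_eq_true.1 five_kinds.2.2.2.2.1 n hn
      simp only [hfix, Bool.not_true, Bool.false_or, List.contains_iff_mem] at h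
      have hB : n ∈ fixB := by
        simp only [List.mem_cons, List.not_mem_nil, or_false] at h
        rcases h with rfl | rfl | rfl <;> decide
      exact (kindB D hB hr).1 hzv
  refine ⟨hyz, ?_⟩
  obtain ⟨e, he, i, k, rfl⟩ := cent_H0 D Q FF (outer_seed D Q hyz hyq hyt) hyq
  have heE := (mem_fiveO.1 he).1
  have h260 : vec 260 ∈ E := vec_E D (by norm_num)
  have hk : π ^ k = 1 := by
    set t := vec 260
    have h1 : Rel z (q ^ i * π ^ k * t * (q ^ i * π ^ k)⁻¹) t := by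
      have h2 := J.rel_conj_E (E.inv_mem heE) h260
      rw [inv_inv] at h2
      have h3 : q ^ i * π ^ k * t * (q ^ i * π ^ k)⁻¹ = e⁻¹ * t * e := by
        calc q ^ i * π ^ k * t * (q ^ i * π ^ k)⁻¹ = e⁻¹ * (e * q ^ i * π ^ k * t * (e * q ^ i * π ^ k)⁻¹) * e := by group
          _ = _ := by rw [hyt, mul_inv_cancel_right]
      rw [h3]; exact h2
    have hqt : t * q = q * t := (mem_fiveO.1 (comm_of_list D Q (Or.inr (by decide)) (J.rel_refl t))).2
    have h4 : Rel z (π ^ k * t * (π ^ k)⁻¹) t := by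
      have hc : Commute (q ^ i) (π ^ k) := (show Commute q π from hqp).pow_pow i k
      have h5 := J.rel_conj (((show Commute q z from hqz).pow_left i).inv_left).eq h1
      rw [show (q ^ i)⁻¹ * (q ^ i * π ^ k * t * (q ^ i * π ^ k)⁻¹) * (q ^ i)⁻¹⁻¹ = π ^ k * t * (π ^ k)⁻¹ by group,
        show (q ^ i)⁻¹ * t * (q ^ i)⁻¹⁻¹ = (q ^ i)⁻¹ * (t * q ^ i) by group,
        ((show Commute t q from hqt).pow_right i).eq, inv_mul_cancel_left] at h5
      exact h5
    have hv := D.vec_ne (n := 260) (by norm_num) (by norm_num)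
    have hne : ∀ {a : G}, Rel z (a * t * a⁻¹) t → a = π ∨ a = π⁻¹ → False := by
      intro a ha hcase
      have hr : Rel z (π * t * π⁻¹) t := by
        rcases hcase with rfl | rfl
        · exact ha
        · have := J.rel_conj J.piz ha
          rw [show π * (π⁻¹ * t * π⁻¹⁻¹) * π⁻¹ = t by group] at this
          exact J.rel_symm this
      rcases J.fpf_rel h260 hr with w | w
      · exact hv.1 w
      · exact hv.2 (w.trans (mul_one z))
    have hk3 : π ^ k = π ^ (k % 3) := by rw [← J.orderOf_pi, pow_mod_orderOf]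
    have hlt : k % 3 < 3 := Nat.mod_lt _ (by norm_num)
    interval_cases hk' : k % 3
    · rw [hk3, pow_zero]
    · rw [hk3, pow_one] at h4; exact (hne h4 (Or.inl rfl)).elim
    · rw [hk3, pow_two, ← J.pi_inv] at h4; exact (hne h4 (Or.inr rfl)).elim
  rw [hk, mul_one] at hyt ⊢
  refine ⟨e, he, ?_, i, rfl⟩
  have hqt : Commute (q ^ i) (vec 260) := ((show Commute (vec 260) q from
    (mem_fiveO.1 (comm_of_list D Q (Or.inr (by decide)) (J.rel_refl _))).2).pow_right i).symm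
  refine mul_right_cancel (b := q ^ i) ?_
  rw [mul_assoc, ← hqt.eq, ← mul_assoc, hyt, mul_assoc]

omit hA in
/-- Elements of the second kind are conjugate to the seed inside the normalizer of `q`. -/
theorem conj_seed_five {t : G} {n : ℕ} (hn : n ∈ fixB) (hr : Rel z t (vec n)) :
    ∃ h : G, h * z = z * h ∧ h * vec 260 * h⁻¹ = t ∧ ∃ j : ℕ, h * q * h⁻¹ = q ^ j := by
  obtain ⟨-, -, -, d, hdz, hd⟩ := kindB D hn hr
  obtain ⟨hqz, -⟩ := q_comm D Q
  have htq : t * q = q * t := (mem_fiveO.1 (comm_of_list D Q (Or.inr (fixB_fix hn).1) hr)).2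
  have h2q : vec 260 * q = q * vec 260 :=
    (mem_fiveO.1 (comm_of_list D Q (Or.inr (by decide)) (J.rel_refl _))).2
  set H := Subgroup.centralizer ({vec 260} : Set G) ⊓ Subgroup.centralizer ({z} : Set G)
  have hfac : (Nat.card ↥H).factorization 5 ≤ 1 := by
    have hd := Subgroup.card_dvd_of_le (show H ≤ Subgroup.centralizer ({vec 260} : Set G) from inf_le_left)
    rw [D.card_cent D.seed_IsD] at hd
    have h := (Nat.factorization_le_iff_dvd Nat.card_pos.ne' (by norm_num)).2 hd 5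
    have h2 : (2 ^ 11 * 887040 : ℕ).factorization 5 = 1 := by
      rw [show (2 ^ 11 * 887040 : ℕ) = 5 ^ 1 * (2 ^ 11 * 177408) by norm_num,
        Nat.factorization_mul (by norm_num) (by norm_num), Finsupp.add_apply, Nat.factorization_pow,
        Nat.factorization_eq_zero_of_not_dvd (show ¬ 5 ∣ 2 ^ 11 * 177408 by norm_num)]
      simp [(show Nat.Prime 5 by norm_num).factorization_self]
    omega
  have hdz' : d⁻¹ * z = z * d⁻¹ := (show Commute d z from hdz).inv_left.eq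
  let y : ↥H := ⟨q, Subgroup.mem_inf.2 ⟨Subgroup.mem_centralizer_singleton_iff.2 h2q.symm,
    Subgroup.mem_centralizer_singleton_iff.2 hqz⟩⟩
  let x : ↥H := ⟨d⁻¹ * q * d, Subgroup.mem_inf.2 ⟨Subgroup.mem_centralizer_singleton_iff.2 (by
      calc d⁻¹ * q * d * vec 260 = d⁻¹ * (q * (d * vec 260 * d⁻¹)) * d := by group
        _ = d⁻¹ * (t * q) * d := by rw [hd, htq]
        _ = _ := by rw [← hd]; group),
    Subgroup.mem_centralizer_singleton_iff.2
      (((show Commute d⁻¹ z from hdz').mul_left hqz).mul_left hdz).eq⟩⟩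
  have hyo : orderOf y = 5 := by rw [← Subgroup.orderOf_coe]; exact Q.ord
  have hxo : orderOf x = 5 := by
    rw [← Subgroup.orderOf_coe, ← Q.ord]
    show orderOf (d⁻¹ * q * d) = orderOf q
    rw [show d⁻¹ * q * d = MulAut.conj d⁻¹ q by simp, MulEquiv.orderOf_eq]
  obtain ⟨m, j, hj, hm⟩ := five_conj hfac hxo hyo
  have hm' : (m : G) * (d⁻¹ * q * d) * (m : G)⁻¹ = q ^ j := congrArg Subtype.val hm
  obtain ⟨hm1, hm2⟩ := Subgroup.mem_inf.1 m.2
  have hm1' := Subgroup.mem_centralizer_singleton_iff.1 hm1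
  have hm2' := Subgroup.mem_centralizer_singleton_iff.1 hm2
  refine ⟨d * (m : G)⁻¹, ((show Commute d z from hdz).mul_left (show Commute (m : G) z from hm2').inv_left).eq,
    ?_, j ^ 3, ?_⟩
  · rw [show d * (m : G)⁻¹ * vec 260 * (d * (m : G)⁻¹)⁻¹ = d * ((m : G)⁻¹ * (vec 260 * m)) * d⁻¹ by group,
      ← hm1', inv_mul_cancel_left, hd]
  · have hq : (q ^ j) ^ (j ^ 3) = q := by
      rw [← pow_mul, pow_mod_five Q.ord, inv_pow_five hj, pow_one]
    have h1 : d * (m : G)⁻¹ * q ^ j * (d * (m : G)⁻¹)⁻¹ = q := by rw [← hm']; group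
    nth_rw 1 [← hq]
    rw [← conj_pow, h1]

omit hA in
/-- The centralizer of an element of the second kind. -/
theorem cent_B (FF : FiveFacts M) {t : G} {n : ℕ} (hn : n ∈ fixB) (hr : Rel z t (vec n)) {y : G}
    (hyq : y * q = q * y) (hyt : y * t = t * y) :
    y * z = z * y ∧ ∃ e ∈ fiveO E q, e * t = t * e ∧ ∃ i : ℕ, y = e * q ^ i := by
  obtain ⟨h, hhz, hht, j, hhq⟩ := conj_seed_five D Q hn hr
  obtain ⟨hqz, -⟩ := q_comm D Q
  have hhz' : h⁻¹ * z = z * h⁻¹ := (show Commute h z from hhz).inv_left.eq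
  have hyq' : h⁻¹ * y * h * q = q * (h⁻¹ * y * h) := by
    calc h⁻¹ * y * h * q = h⁻¹ * (y * (h * q * h⁻¹)) * h := by group
      _ = h⁻¹ * (q ^ j * y) * h := by rw [hhq, ((show Commute y q from hyq).pow_right j).eq]
      _ = _ := by rw [← hhq]; group
  have hyt' : h⁻¹ * y * h * vec 260 = vec 260 * (h⁻¹ * y * h) := by
    calc h⁻¹ * y * h * vec 260 = h⁻¹ * (y * (h * vec 260 * h⁻¹)) * h := by group
      _ = h⁻¹ * (t * y) * h := by rw [hht, hyt]
      _ = _ := by rw [← hht]; group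
  obtain ⟨h1, e, he, het, i, hei⟩ := cent_seed D Q FF hyq' hyt'
  refine ⟨?_, h * e * h⁻¹, mem_fiveO.2 ⟨J.conjE hhz (mem_fiveO.1 he).1, ?_⟩, ?_, j * i, ?_⟩
  · have := (((show Commute h z from hhz).mul_left h1).mul_left hhz').eq
    rwa [show h * (h⁻¹ * y * h) * h⁻¹ = y by group] at this
  · -- commuting with `q`
    have hjq : Commute (h * e * h⁻¹) (q ^ j) := by
      rw [← hhq]
      show h * e * h⁻¹ * (h * q * h⁻¹) = h * q * h⁻¹ * (h * e * h⁻¹)
      calc h * e * h⁻¹ * (h * q * h⁻¹) = h * (e * q) * h⁻¹ := by group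
        _ = _ := by rw [(mem_fiveO.1 he).2]; group
    have hj : j % 5 ≠ 0 := fun h0 => by
      rw [pow_mod_five Q.ord, h0, pow_zero, mul_inv_eq_one, mul_eq_left] at hhq
      have := Q.ord
      rw [hhq, orderOf_one] at this
      omega
    have h3 := hjq.pow_right (j ^ 3)
    rw [← pow_mul, pow_mod_five Q.ord, inv_pow_five hj, pow_one] at h3
    exact h3.eq
  · rw [← hht]
    calc h * e * h⁻¹ * (h * vec 260 * h⁻¹) = h * (e * vec 260) * h⁻¹ := by group
      _ = _ := by rw [het]; group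
  · rw [pow_mul, ← hhq, conj_pow, show h * e * h⁻¹ * (h * q ^ i * h⁻¹) = h * (e * q ^ i) * h⁻¹ by group, ← hei]
    group

omit hA in
/-- Elements outside `H0` fix no vector of the second kind. -/
theorem outer_B (FF : FiveFacts M) {y t : G} {n : ℕ} (hn : n ∈ fixB) (hr : Rel z t (vec n))
    (hyz : y * z = z * y) (hyq : y * q = q * y) (hn0 : y ∉ H0 z π E) : ¬ Rel z (y * t * y⁻¹) t := by
  have key : ∀ {y : G}, y * q = q * y → y * t = t * y → y ∈ H0 z π E := by
    intro y hyq hyt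
    obtain ⟨-, e, he, -, i, rfl⟩ := cent_B D Q FF hn hr hyq hyt
    exact mul_mem (E_le_H0 z π E (mem_fiveO.1 he).1) (pow_mem (CZ_le_H0 z π E Q.mem) i)
  rintro (h | h)
  · exact hn0 (key hyq (mul_inv_eq_iff_eq_mul.1 h))
  obtain ⟨m, hm, hmb⟩ := List.any_eq_true.1 (List.all_eq_true.1 five_perp.2.2.2.2.1 n hn)
  have hmlt := (fix5_lt hm).1
  have hnlt := (fix5_lt (fixB_fix hn).1).1
  have hmO := comm_of_list D Q (Or.inr hm) (J.rel_refl (vec m))
  obtain ⟨hmE, hmq⟩ := mem_fiveO.1 hmO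
  have htE : t ∈ E := J.rel_mem hr (vec_E D hnlt)
  have hmove : vec m * t * (vec m)⁻¹ = z * t := by
    refine (J.s.comm_cases hmE htE).resolve_left fun e => ?_
    have h' : vec m * t = t * vec m := mul_inv_eq_iff_eq_mul.1 e
    have := (D.full.comm_vec D.isV hmlt hnlt).1
      (J.comm_of_rel (J.s.z_comm hmE) (J.rel_symm hr) h'.symm).symm
    rw [hmb] at this
    exact Bool.noConfusion this
  refine hn0 ?_
  have h1 : vec m * y ∈ H0 z π E := key ((show Commute (vec m) q from hmq).mul_left hyq).eq (by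
    refine mul_inv_eq_iff_eq_mul.1 ?_
    rw [show vec m * y * t * (vec m * y)⁻¹ = vec m * (y * t * y⁻¹) * (vec m)⁻¹ by group, h,
      show vec m * (z * t) * (vec m)⁻¹ = vec m * z * (vec m)⁻¹ * (vec m * t * (vec m)⁻¹) by group,
      J.s.z_comm hmE, mul_inv_cancel_right, hmove, ← mul_assoc, J.zz, one_mul])
  have := mul_mem (inv_mem (E_le_H0 z π E hmE)) h1
  rwa [inv_mul_cancel_left] at this

omit hA in
/-- The number of elements over a list of fixed vectors. -/
theorem card_list_sub {S : Subgroup G} {L : List ℕ} (hnd : L.Nodup) (hsub : ∀ n ∈ L, n ∈ fix5)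
    (hS : ∀ u, u ∈ S ↔ ∃ n, (n = 0 ∨ n ∈ L) ∧ Rel z u (vec n)) : Nat.card S = 2 * (L.length + 1) := by
  have hset : (S : Set G) = {u : G | ∃ n ∈ L, Rel z u (vec n)} ∪ {1, z} := by
    ext u
    rw [SetLike.mem_coe, hS]
    constructor
    · rintro ⟨n, rfl | hn, hu⟩
      · exact Or.inr (by simpa using eq_one_or_z D hu)
      · exact Or.inl ⟨n, hn, hu⟩
    · rintro (⟨n, hn, hu⟩ | hu)
      · exact ⟨n, Or.inr hn, hu⟩
      · refine ⟨0, Or.inl rfl, J.rel_trans ?_ (J.rel_symm (D.full.Mo.coords.rel_zero J))⟩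
        rcases hu with rfl | hu
        · exact J.rel_refl _
        · exact Or.inr (by rw [show u = z from hu, mul_one])
  have hdis : Disjoint {u : G | ∃ n ∈ L, Rel z u (vec n)} ({1, z} : Set G) := by
    rw [Set.disjoint_left]
    rintro u ⟨n, hn, hu⟩ hu'
    obtain ⟨hlt, h0, -⟩ := fix5_lt (hsub n hn)
    refine h0 (D.full.Mo.coords.inj n hlt (J.rel_trans (J.rel_symm hu) ?_))
    rcases hu' with rfl | hu'
    · exact J.rel_refl _
    · exact Or.inr (by rw [show u = z from hu', mul_one])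
  rw [← SetLike.coe_sort_coe, Nat.card_coe_set_eq, hset, Set.ncard_union_eq hdis (Set.toFinite _) (Set.toFinite _),
    D.ncard_list hnd (fun n hn => ⟨(fix5_lt (hsub n hn)).1, (fix5_lt (hsub n hn)).2.1⟩),
    Set.ncard_pair J.z_ne.symm]
  ring

omit hA in
theorem card_O : Nat.card (fiveO E q) = 32 :=
  (card_list_sub D Q five_fix.2.2 (fun _ h => h) fun u =>
    ⟨fun hu => (fixed_cases D Q hu).imp fun _ h => ⟨h.1, h.2.2⟩,
      fun ⟨_, hn, hu⟩ => comm_of_list D Q hn hu⟩).trans rfl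

omit hA in
/-- The centralizer of a member in the part in `E`. -/
theorem card_O_cent {x : G} {m : ℕ} (hm : m ∈ fix5) (hx : Rel z x (vec m))
    (hlen : (fix5.filter fun n => bb n m == false).length = 7) :
    Nat.card ↥(fiveO E q ⊓ Subgroup.centralizer ({x} : Set G)) = 16 := by
  have hmlt := (fix5_lt hm).1
  have hxE := J.rel_mem hx (vec_E D hmlt)
  have key : ∀ {u : G} {n : ℕ}, n < 4096 → Rel z u (vec n) → (u * x = x * u ↔ bb n m = false) := by
    intro u n hn hu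
    rw [← D.full.comm_vec D.isV hn hmlt]
    constructor
    · intro h
      have h1 : vec m * u = u * vec m :=
        J.comm_of_rel (J.s.z_comm (J.rel_mem hu (vec_E D hn))) (J.rel_symm hx) h.symm
      exact J.comm_of_rel (J.s.z_comm (vec_E D hmlt)) (J.rel_symm hu) h1.symm
    · intro h
      have h1 : u * vec m = vec m * u := J.comm_of_rel (J.s.z_comm (vec_E D hmlt)) hu h
      exact (J.comm_of_rel (J.s.z_comm (J.rel_mem hu (vec_E D hn))) hx h1.symm).symm
  rw [card_list_sub D Q (L := fix5.filter fun n => bb n m == false) (five_fix.2.2.filter _)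
    (fun n h => (List.mem_filter.1 h).1) fun u => ⟨fun hu => ?_, fun ⟨n, hn, hu⟩ => ?_⟩, hlen]
  · obtain ⟨n, hn, hlt, hr⟩ := fixed_cases D Q (Subgroup.mem_inf.1 hu).1
    refine ⟨n, hn.imp_right fun h => List.mem_filter.2 ⟨h, ?_⟩, hr⟩
    rw [beq_iff_eq]
    exact (key hlt hr).1 (Subgroup.mem_centralizer_singleton_iff.1 (Subgroup.mem_inf.1 hu).2)
  · refine Subgroup.mem_inf.2 ⟨comm_of_list D Q (hn.imp_right fun h => (List.mem_filter.1 h).1) hu, ?_⟩
    rw [Subgroup.mem_centralizer_singleton_iff]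
    rcases hn with rfl | hn
    · rcases eq_one_or_z D hu with w | w <;> rw [w]
      · rw [one_mul, mul_one]
      · exact (J.s.z_comm hxE).symm
    · obtain ⟨h5, hb⟩ := List.mem_filter.1 hn
      exact (key (fix5_lt h5).1 hu).2 (beq_iff_eq.1 hb)

theorem card_A : Nat.card A = 8 :=
  (card_list_sub D Q (L := fixA) (by decide) (fun _ h => (fixA_fix h).1) hA).trans rfl

end Std

end CfsgLib.JFourLocal
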