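import Mathlib.GroupTheory.Perm.Cycle.Type
import Cfsg.Agent.Lib.JFourLocal.FiveE

/-!
# The movers of `z` in the centralizer of an element of order five

They normalize the elementary subgroup of order eight and fuse the involutions outside it with the
second kind.
-/

set_option autoImplicit false
set_option maxRecDepth 100000
set_option linter.style.haveILetI false
set_option linter.unusedSectionVars false

open Cfsg
open scoped Classical

namespace CfsgLib.JFourLocal

open CfsgLib.JFour CfsgLib.JFour.Ctx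

variable {G : Type*} [Group G] [Finite G] {M : Type*} [Group M] [Finite M] {z π : G} {E : Subgroup G}

/-- Conjugates of commuting elements commute. -/
theorem conj_comm_conj {c y a : G} (h : y * a = a * y) : c * y * c⁻¹ * (c * a * c⁻¹) = c * a * c⁻¹ * (c * y * c⁻¹) := by
  calc c * y * c⁻¹ * (c * a * c⁻¹) = c * (y * a) * c⁻¹ := by group
    _ = _ := by rw [h]; group

/-- The centralizers of the vectors of the second kind in the fixed space. -/
theorem five_perpB : (fixB.all fun t => (fix5.filter fun n => bb n t == false).length == 7) = true := by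
  decide +kernel

/-- An element of order five of `C(z)` is conjugate to `q` there. -/
theorem exists_conj_five (J : Ctx M z π E) (FF : FiveFacts M) {vec : ℕ → G} {q : G} (Q : FiveEl z π vec q)
    {f : G} (hfC : f ∈ CZ z π) (hf : f * q * f⁻¹ = q ^ 2) {x : G} (hx : orderOf x = 5)
    (hxz : x * z = z * x) : ∃ w : G, w * z = z * w ∧ w * q * w⁻¹ = x := by
  haveI := Fact.mk (show Nat.Prime 5 by norm_num)
  have hx5 : x ^ 5 = 1 := hx ▸ pow_orderOf_eq_one x
  have hq5 : q ^ 5 = 1 := Q.ord ▸ pow_orderOf_eq_one q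
  have hxH : x ∈ H0 z π E := by
    by_contra hn
    apply hn
    have := (H0 z π E).pow_mem (J.mul_mem_H0 hxz hxz hn hn) 3
    rwa [← pow_two, ← pow_mul, show 2 * 3 = 5 + 1 from rfl, pow_succ, hx5, one_mul] at this
  obtain ⟨e0, he0, c, hc, hxc⟩ := J.mem_H0.1 hxH
  obtain ⟨hcz, -⟩ := mem_CZ.1 hc
  have hpow : ∀ n : ℕ, x ^ n * (c ^ n)⁻¹ ∈ E := by
    intro n
    induction n with
    | zero => simp
    | succ n ih =>
      have e : x ^ (n + 1) * (c ^ (n + 1))⁻¹ = e0 * (c * (x ^ n * (c ^ n)⁻¹) * c⁻¹) := by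
        rw [pow_succ' x, pow_succ' c, hxc]; group
      rw [e]
      exact E.mul_mem he0 (J.conjE hcz ih)
  have hc5E : c ^ 5 ∈ E := by
    have := hpow 5
    rw [hx5, one_mul] at this
    exact E.inv_mem_iff.1 this
  have hc10 : c ^ 10 = 1 := by
    rw [show 10 = 5 * 2 from rfl, pow_mul]
    rcases J.eq_center_of_mem_E (pow_mem hc 5) hc5E with k | k <;> rw [k]
    · exact one_pow 2
    · rw [pow_two, J.zz]
  set y : ↥(CZ z π) := ⟨c ^ 6, pow_mem hc 6⟩
  have hy5 : (y : G) ^ 5 = 1 := by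
    show (c ^ 6) ^ 5 = 1
    rw [← pow_mul, show 6 * 5 = 10 * 3 from rfl, pow_mul, hc10, one_pow]
  have hxy : x * (y : G)⁻¹ ∈ E := by
    have e : x * (c ^ 6)⁻¹ = e0 * (c ^ 5)⁻¹ := by
      rw [show c ^ 6 = c ^ 5 * c from pow_succ c 5, hxc]; group
    show x * (c ^ 6)⁻¹ ∈ E
    rw [e]
    exact E.mul_mem he0 (E.inv_mem hc5E)
  have hy1 : (y : G) ≠ 1 := fun h => by
    rw [h, inv_one, mul_one] at hxy
    have := Subgroup.orderOf_dvd_natCard _ hxy
    rw [hx, J.cardE] at this
    norm_num at this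
  obtain ⟨hyz, -⟩ := mem_CZ.1 y.2
  -- a fixed point of `e ↦ x * e * y⁻¹`
  letI := Fintype.ofFinite ↥E
  have hmem : ∀ {a b : G}, a * b⁻¹ ∈ E → b * z = z * b → ∀ e ∈ E, a * e * b⁻¹ ∈ E := fun {a b} h hb e he => by
    rw [show a * e * b⁻¹ = a * b⁻¹ * (b * e * b⁻¹) by group]
    exact E.mul_mem h (J.conjE hb he)
  have hinv : x⁻¹ * (y : G) ∈ E := by
    have h := J.conjE' hyz (E.inv_mem hxy)
    rwa [show (y : G)⁻¹ * (x * (y : G)⁻¹)⁻¹ * y = x⁻¹ * y by group] at h
  let σ : Equiv.Perm ↥E :=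
    { toFun := fun e => ⟨x * e * (y : G)⁻¹, hmem hxy hyz e e.2⟩
      invFun := fun e => ⟨x⁻¹ * e * y, by
        have := hmem (a := x⁻¹) (b := (y : G)⁻¹) (by rw [inv_inv]; exact hinv)
          ((show Commute (y : G) z from hyz).inv_left).eq e e.2
        rwa [inv_inv] at this⟩
      left_inv := fun e => Subtype.ext (by
        show x⁻¹ * (x * e * (y : G)⁻¹) * y = e
        group)
      right_inv := fun e => Subtype.ext (by
        show x * (x⁻¹ * e * y) * (y : G)⁻¹ = e
        group) }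
  have hσ : ∀ (n : ℕ) (e : ↥E), ((σ ^ n) e : G) = x ^ n * e * ((y : G) ^ n)⁻¹ := by
    intro n
    induction n with
    | zero => intro e; simp
    | succ n ih =>
      intro e
      rw [pow_succ', Equiv.Perm.mul_apply]
      show x * ((σ ^ n) e : G) * (y : G)⁻¹ = _
      rw [ih e, pow_succ' x, pow_succ' (y : G)]
      group
  obtain ⟨e, he⟩ := Equiv.Perm.exists_fixed_point_of_prime (p := 5) (n := 1) (α := ↥E)
    (by rw [← Nat.card_eq_fintype_card, J.cardE]; norm_num) (σ := σ)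
    (Equiv.ext fun e => Subtype.ext (by rw [pow_one, hσ, hx5, hy5]; simp))
  have he' : x * e * (y : G)⁻¹ = e := congrArg Subtype.val he
  have hey : (e : G) * y * (e : G)⁻¹ = x := by
    calc (e : G) * y * (e : G)⁻¹ = x * e * (y : G)⁻¹ * y * (e : G)⁻¹ := by rw [he']
      _ = x := by group
  -- inside `C(z, π)`
  have hyo : orderOf (J.proj y) = 5 := by
    refine orderOf_eq_prime (by rw [← map_pow, show y ^ 5 = 1 from Subtype.ext (by
      rw [Subgroup.coe_pow]; exact hy5), map_one]) fun k => ?_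
    exact hy1 (congrArg Subtype.val (eq_of_proj_five J (a := y) (b := 1) hy5 (by simp) (by rw [k, map_one])))
  obtain ⟨m, j, hj, hm⟩ := five_conj (by rw [FF.card, five_fac]) hyo (proj_order_five J Q)
  obtain ⟨d, rfl⟩ := J.proj_surj m
  have hd : d * y * d⁻¹ = (⟨q, Q.mem⟩ : ↥(CZ z π)) ^ j := eq_of_proj_five J
    (by
      simp only [Subgroup.coe_mul, InvMemClass.coe_inv, conj_pow, hy5]
      group)
    (by rw [Subgroup.coe_pow, ← pow_mul, mul_comm, pow_mul, hq5, one_pow])
    (by rw [map_mul, map_mul, map_inv, map_pow]; exact hm)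
  have hd' : (d : G) * y * (d : G)⁻¹ = q ^ j := by simpa using congrArg Subtype.val hd
  obtain ⟨i, hi⟩ := exists_power J Q.ord hf hj
  refine ⟨(e : G) * ((d : G)⁻¹ * f ^ i), ?_, ?_⟩
  · exact ((show Commute (e : G) z from J.s.z_comm e.2).mul_left
      (((show Commute (d : G) z from (mem_CZ.1 d.2).1).inv_left).mul_left
        ((show Commute f z from (mem_CZ.1 hfC).1).pow_left i))).eq
  · rw [show (e : G) * ((d : G)⁻¹ * f ^ i) * q * ((e : G) * ((d : G)⁻¹ * f ^ i))⁻¹ =
      e * ((d : G)⁻¹ * (f ^ i * q * (f ^ i)⁻¹) * d) * (e : G)⁻¹ by group, hi, ← hd',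
      show (d : G)⁻¹ * ((d : G) * y * (d : G)⁻¹) * d = y by group, hey]

section Std

variable {J : Ctx M z π E} {g : ℕ → M} {vec : ℕ → G} {V : Subgroup G} (D : J.Std g vec V) {q : G}
  (Q : FiveEl z π vec q) {A : Subgroup G} (hA : IsFiveA z vec A) (FF : FiveFacts M)
include D Q hA FF

omit FF in
/-- An element outside `H0` moves `A` modulo `z`. -/
theorem outer_moves {y : G} (hyz : y * z = z * y) (hn : y ∉ H0 z π E) :
    ∃ b ∈ A, ¬ Rel z (y * b * y⁻¹) b := by
  by_contra hne
  push Not at hne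
  have h1092 : vec 1092 ∈ A := (hA _).2 ⟨1092, Or.inr (by decide), J.rel_refl _⟩
  obtain ⟨h1092E, h1092q⟩ := mem_fiveO.1 (A_le D Q hA h1092)
  have hv := D.vec_ne (n := 1092) (by norm_num) (by norm_num)
  have hpq : Commute π q := (q_comm D Q).2.symm
  refine no_both D Q hyz hn h1092E hv.1 hv.2 (hne _ h1092) (hne _ ?_)
  refine mem_A_of_conj D Q hA (mem_fiveO.2 ⟨J.conjE J.piz h1092E, ?_⟩)
    ((A_conj D Q hA h1092 hv.1).trans (isConj_iff.2 ⟨π, rfl⟩))
  exact ((hpq.mul_left (show Commute (vec 1092) q from h1092q)).mul_left hpq.inv_left).eq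

/-- A conjugate of `z` in `A` is reached inside the centralizer of `q` by a normalizer of `A`. -/
theorem exists_move_five {a : G} (ha : a ∈ A) (h1 : a ≠ 1) :
    ∃ c : G, c * q = q * c ∧ c * z * c⁻¹ = a ∧ ∀ b ∈ A, c * b * c⁻¹ ∈ A := by
  by_cases hz : a = z
  · exact ⟨1, by rw [one_mul, mul_one], by rw [hz]; group, fun b hb => by simpa using hb⟩
  obtain ⟨hqz, -⟩ := q_comm D Q
  obtain ⟨f, hfC, -, hf⟩ := exists_four_el J D.small D.full.Mo Q
  obtain ⟨haE, haq⟩ := mem_fiveO.1 (A_le D Q hA ha)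
  obtain ⟨k, hk⟩ := isConj_iff.1 (A_conj D Q hA ha h1)
  obtain ⟨w, hwz, hw⟩ := exists_conj_five J FF Q hfC hf (x := k⁻¹ * q * k)
    (by rw [show k⁻¹ * q * k = MulAut.conj k⁻¹ q by simp, MulEquiv.orderOf_eq]; exact Q.ord)
    (by
      calc k⁻¹ * q * k * z = k⁻¹ * (q * (k * z * k⁻¹)) * k := by group
        _ = k⁻¹ * (a * q) * k := by rw [hk, haq]
        _ = _ := by rw [← hk]; group)
  set c := k * w with hc
  have hcq : c * q = q * c := by
    calc c * q = k * (w * q * w⁻¹) * w := by rw [hc]; group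
      _ = _ := by rw [hw, hc]; group
  have hca : c * z * c⁻¹ = a := by
    calc c * z * c⁻¹ = k * (w * z * w⁻¹) * k⁻¹ := by rw [hc]; group
      _ = _ := by rw [hwz, mul_inv_cancel_right, hk]
  refine ⟨c, hcq, hca, ?_⟩
  have hciq : c⁻¹ * q = q * c⁻¹ := (show Commute c q from hcq).inv_left.eq
  have haz : c⁻¹ * a * c = z := by rw [← hca]; group
  set z' := c⁻¹ * z * c with hz'
  have hz'z : z' * z = z * z' := by
    calc z' * z = c⁻¹ * (z * a) * c := by rw [hz', ← haz]; group
      _ = c⁻¹ * (a * z) * c := by rw [J.s.z_comm haE]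
      _ = _ := by rw [hz', ← haz]; group
  have hz'q : z' * q = q * z' :=
    (((show Commute c⁻¹ q from hciq).mul_left (show Commute z q from hqz.symm)).mul_left hcq).eq
  have hz'c : IsConj z z' := isConj_iff.2 ⟨c⁻¹, by rw [hz']; group⟩
  have hz'2 : z' * z' = 1 := by
    rw [hz', show c⁻¹ * z * c * (c⁻¹ * z * c) = c⁻¹ * (z * z) * c by group, J.zz]; group
  have hz'ne : z' ≠ z := fun e => hz (by
    rw [← hca]
    calc c * z * c⁻¹ = c * z' * c⁻¹ := by rw [e]
      _ = z := by rw [hz']; group)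
  -- the conjugate of the centralizer of `a`
  obtain ⟨m, hm, hma⟩ : ∃ m ∈ fixA, Rel z a (vec m) := by
    obtain ⟨m, hm | hm, hr⟩ := (hA a).1 ha
    · subst hm
      rcases eq_one_or_z D hr with w | w
      exacts [absurd w h1, absurd w hz]
    · exact ⟨m, hm, hr⟩
  set DD := fiveO E q ⊓ Subgroup.centralizer ({a} : Set G)
  have hDD : Nat.card DD = 16 := card_O_cent D Q (fixA_fix hm).1 hma
    (beq_iff_eq.1 (List.all_eq_true.1 five_perp.2.1 m hm))
  set P := DD.comap (MulAut.conj c).toMonoidHom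
  have hP : ∀ {y : G}, y ∈ P ↔ c * y * c⁻¹ ∈ DD := fun {y} => Iff.rfl
  have hPc : Nat.card P = 16 := by
    rw [← hDD]
    exact Nat.card_congr
      { toFun := fun y => ⟨c * y * c⁻¹, hP.1 y.2⟩
        invFun := fun d => ⟨c⁻¹ * d * c, hP.2 (by
          rw [show c * (c⁻¹ * (d : G) * c) * c⁻¹ = d by group]; exact d.2)⟩
        left_inv := fun y => Subtype.ext (by
          show c⁻¹ * (c * y * c⁻¹) * c = y
          group)
        right_inv := fun d => Subtype.ext (by
          show c * (c⁻¹ * d * c) * c⁻¹ = d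
          group) }
  have hPfacts : ∀ {y : G}, y ∈ P →
      y * z = z * y ∧ y * q = q * y ∧ y * z' = z' * y ∧ (y * y = 1 ∨ y * y = z') ∧ y ^ 4 = 1 := by
    intro y hy
    obtain ⟨h3, h4⟩ := Subgroup.mem_inf.1 (hP.1 hy)
    obtain ⟨hE, hq⟩ := mem_fiveO.1 h3
    have hy' : y = c⁻¹ * (c * y * c⁻¹) * c⁻¹⁻¹ := by group
    have e1 : c⁻¹ * z * c⁻¹⁻¹ = z' := by rw [hz', inv_inv]
    have e2 : c⁻¹ * a * c⁻¹⁻¹ = z := by rw [inv_inv, haz]
    have h5 : y * y = 1 ∨ y * y = z' := by
      rcases J.s.sq_cases hE with w | w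
      · refine Or.inl ?_
        calc y * y = c⁻¹ * ((c * y * c⁻¹) * (c * y * c⁻¹)) * c := by group
          _ = 1 := by rw [w]; group
      · refine Or.inr ?_
        calc y * y = c⁻¹ * ((c * y * c⁻¹) * (c * y * c⁻¹)) * c := by group
          _ = z' := by rw [w]
    refine ⟨?_, ?_, ?_, h5, ?_⟩
    · have := conj_comm_conj (c := c⁻¹) (Subgroup.mem_centralizer_singleton_iff.1 h4)
      rwa [← hy', e2] at this
    · rw [hy', inv_inv]
      exact (((show Commute c⁻¹ q from hciq).mul_left (show Commute _ q from hq)).mul_left hcq).eq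
    · have := conj_comm_conj (c := c⁻¹) (J.s.z_comm hE)
      rwa [← hy', e1] at this
    · rw [show 4 = 2 * 2 from rfl, pow_mul, pow_two, pow_two]
      rcases h5 with w | w <;> rw [w]
      · exact one_mul 1
      · exact hz'2
  -- the part in `H0`
  set X := P ⊓ H0 z π E
  have hX8 : 8 ≤ Nat.card X := by
    by_cases hall : ∀ y ∈ P, y ∈ H0 z π E
    · rw [show X = P from inf_eq_left.2 hall, hPc]; norm_num
    push Not at hall
    obtain ⟨x0, hx0, hx0n⟩ := hall
    have hsub : (P : Set G) ⊆ (X : Set G) ∪ (fun y => y * x0⁻¹) '' (X : Set G) := by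
      intro y hy
      by_cases hyH : y ∈ H0 z π E
      · exact Or.inl ⟨hy, hyH⟩
      · exact Or.inr ⟨y * x0, ⟨P.mul_mem hy hx0, J.mul_mem_H0 (hPfacts hy).1 (hPfacts hx0).1 hyH hx0n⟩,
          mul_inv_cancel_right y x0⟩
    have h := (Set.ncard_le_ncard hsub).trans (Set.ncard_union_le _ _)
    have h' := Set.ncard_image_le (f := fun y => y * x0⁻¹) (s := (X : Set G))
    rw [← Nat.card_coe_set_eq, SetLike.coe_sort_coe, hPc] at h
    rw [← Nat.card_coe_set_eq (X : Set G), SetLike.coe_sort_coe] at h h'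
    omega
  have hXO : ∀ {y : G}, y ∈ X → y ∈ fiveO E q ∧ y * y = 1 := by
    intro y hy
    obtain ⟨hy1, hy2⟩ := Subgroup.mem_inf.1 hy
    obtain ⟨-, hyq, -, hsq, h4⟩ := hPfacts hy1
    have hO := mem_E_of_four D Q FF hy2 hyq h4
    refine ⟨hO, hsq.resolve_right fun e => ?_⟩
    rcases J.s.sq_cases (mem_fiveO.1 hO).1 with w | w
    · exact conj_ne_one J.z_ne hz'c (e.symm.trans w)
    · exact hz'ne (e.symm.trans w)
  have hXA : ∀ (_ : ∀ y ∈ X, y ∈ A), X = A := fun h => Subgroup.eq_of_le_of_card_ge h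
    (by rw [card_A D Q hA]; exact hX8)
  -- the conjugate of `z` lies in `A`
  have hz'A : z' ∈ A := by
    refine mem_A_of_conj D Q hA ?_ hz'c
    by_cases hin : z' ∈ H0 z π E
    · exact mem_E_of_four D Q FF hin hz'q (by rw [show 4 = 2 * 2 from rfl, pow_mul, show z' ^ 2 = 1 by rw [pow_two, hz'2], one_pow])
    exfalso
    have hXsub : ∀ y ∈ X, y ∈ A := fun y hy => by
      obtain ⟨hO, h2⟩ := hXO hy
      rcases invol_O D Q hA hO h2 with w | ⟨n, hn, hr⟩
      · exact w
      · exact absurd (Or.inl (by rw [← (hPfacts (Subgroup.mem_inf.1 hy).1).2.2.1, mul_inv_cancel_right]))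
          (outer_B D Q FF hn hr hz'z hz'q hin)
    have hfixA : ∀ b ∈ A, Rel z (z' * b * z'⁻¹) b := fun b hb => by
      rw [← hXA hXsub] at hb
      exact Or.inl (by rw [← (hPfacts (Subgroup.mem_inf.1 hb).1).2.2.1, mul_inv_cancel_right])
    obtain ⟨b, hb, hnb⟩ := outer_moves D Q hA hz'z hin
    exact hnb (hfixA b hb)
  -- no element of the second kind
  have hXsub : ∀ y ∈ X, y ∈ A := by
    intro t ht
    obtain ⟨hO, h2⟩ := hXO ht
    rcases invol_O D Q hA hO h2 with w | ⟨n, hn, hr⟩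
    · exact w
    exfalso
    set d := c * t * c⁻¹ with hd
    have hdO : d ∈ fiveO E q := (Subgroup.mem_inf.1 (hP.1 (Subgroup.mem_inf.1 ht).1)).1
    have hd2 : d * d = 1 := by
      calc d * d = c * (t * t) * c⁻¹ := by rw [hd]; group
        _ = 1 := by rw [h2]; group
    have htd : IsConj t d := isConj_iff.2 ⟨c, rfl⟩
    rcases invol_O D Q hA hdO hd2 with w | ⟨n', hn', hr'⟩
    · have ht1 : t ≠ 1 := fun e => by
        have h0 := fix5_lt (fixB_fix hn).1
        refine h0.2.1 (D.full.Mo.coords.inj n h0.1 ?_)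
        exact J.rel_trans (J.rel_symm hr) (Or.inl e)
      have hd1 : d ≠ 1 := fun e => ht1 (isConj_one_right.1 (e ▸ htd.symm))
      exact (kindB D hn hr).1 ((A_conj D Q hA w hd1).trans htd.symm)
    -- a member of the centralizer of `t` moving `z'`
    obtain ⟨m', hm', hz'r⟩ : ∃ m' ∈ fixA, Rel z z' (vec m') := by
      obtain ⟨m', hm' | hm', hr''⟩ := (hA z').1 hz'A
      · subst hm'
        rcases eq_one_or_z D hr'' with w | w
        exacts [absurd w (conj_ne_one J.z_ne hz'c), absurd w hz'ne]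
      · exact ⟨m', hm', hr''⟩
    obtain ⟨l, hl, hlb⟩ := List.any_eq_true.1
      (List.all_eq_true.1 (List.all_eq_true.1 five_perp.2.2.2.1 n hn) m' hm')
    rw [Bool.and_eq_true, beq_iff_eq] at hlb
    have hllt := (fix5_lt hl).1
    have hnlt := (fix5_lt (fixB_fix hn).1).1
    have hmlt := (fix5_lt (fixA_fix hm').1).1
    obtain ⟨hlE, hlq⟩ := mem_fiveO.1 (comm_of_list D Q (Or.inr hl) (J.rel_refl (vec l)))
    have hlt' : t * vec l = vec l * t := J.comm_of_rel (J.s.z_comm hlE) hr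
      ((D.full.comm_vec D.isV hllt hnlt).2 hlb.1).symm
    have hy := cent_B D Q FF hn' hr' (y := c * vec l * c⁻¹)
      (((show Commute c q from hcq).mul_left (show Commute (vec l) q from hlq)).mul_left
        (show Commute c q from hcq).inv_left).eq
      (conj_comm_conj hlt'.symm)
    have hlz' : z' * vec l = vec l * z' := by
      have := conj_comm_conj (c := c⁻¹) hy.1
      rw [show c⁻¹ * (c * vec l * c⁻¹) * c⁻¹⁻¹ = vec l by group,
        show c⁻¹ * z * c⁻¹⁻¹ = z' by rw [hz', inv_inv]] at this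
      exact this.symm
    have h6 : vec m' * vec l = vec l * vec m' := J.comm_of_rel (J.s.z_comm hlE) (J.rel_symm hz'r) hlz'
    have := (D.full.comm_vec D.isV hllt hmlt).1 h6.symm
    rw [hlb.2] at this
    exact Bool.noConfusion this
  intro b hb
  rw [← hXA hXsub] at hb
  have hbO := (Subgroup.mem_inf.1 (hP.1 (Subgroup.mem_inf.1 hb).1)).1
  by_cases hb1 : b = 1
  · rw [hb1, mul_one, mul_inv_cancel]; exact A.one_mem
  · exact mem_A_of_conj D Q hA hbO ((A_conj D Q hA (hXsub b hb) hb1).trans (isConj_iff.2 ⟨c, rfl⟩))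

/-- An involution outside `H0` commuting with `q` is conjugate to one of the second kind. -/
theorem outer_conj_five {y : G} (hyz : y * z = z * y) (hyq : y * q = q * y) (hy2 : y * y = 1)
    (hn : y ∉ H0 z π E) :
    ∃ c : G, c * q = q * c ∧ ∃ n ∈ fixB, Rel z (c⁻¹ * y * c) (vec n) := by
  have hyi : y⁻¹ = y := inv_eq_of_mul_eq_one_right hy2
  have hconjA : ∀ {a : G}, a ∈ A → y * a * y⁻¹ ∈ A := fun {a} ha => by
    by_cases ha1 : a = 1
    · rw [ha1, mul_one, mul_inv_cancel]; exact A.one_mem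
    · obtain ⟨haE, haq⟩ := mem_fiveO.1 (A_le D Q hA ha)
      exact mem_A_of_conj D Q hA (mem_fiveO.2 ⟨J.conjE hyz haE,
        (((show Commute y q from hyq).mul_left (show Commute a q from haq)).mul_left
          (show Commute y q from hyq).inv_left).eq⟩) ((A_conj D Q hA ha ha1).trans (isConj_iff.2 ⟨y, rfl⟩))
  have hAc : ∀ {a b : G}, a ∈ A → b ∈ A → a * b = b * a := fun {a b} ha hb => by
    have hi : ∀ {u : G}, u ∈ A → u⁻¹ = u := fun hu => inv_eq_of_mul_eq_one_right (A_sq D Q hA hu)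
    calc a * b = (a * b)⁻¹ := (hi (A.mul_mem ha hb)).symm
      _ = b * a := by rw [mul_inv_rev, hi ha, hi hb]
  -- an element moved modulo `z`
  obtain ⟨b, hbA, hb⟩ := outer_moves D Q hA hyz hn
  set φ : ↥A →* ↥A := MonoidHom.mk' (fun a => ⟨a * (y * a * y⁻¹), A.mul_mem a.2 (hconjA a.2)⟩)
    (fun a a' => Subtype.ext (by
      show (a : G) * a' * (y * (a * a') * y⁻¹) = a * (y * a * y⁻¹) * (a' * (y * a' * y⁻¹))
      rw [show y * ((a : G) * a') * y⁻¹ = y * a * y⁻¹ * (y * a' * y⁻¹) by group, mul_assoc (a : G),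
        ← mul_assoc (a' : G), hAc a'.2 (hconjA a.2)]
      group)) with hφ
  have hφv : ∀ a : ↥A, (φ a : G) = a * (y * a * y⁻¹) := fun a => rfl
  set v : ↥A := φ ⟨b, hbA⟩
  have hfix : ∀ a : ↥A, φ (φ a) = 1 := fun a => Subtype.ext (by
    rw [hφv, hφv, Subgroup.coe_one]
    have e : y * ((a : G) * (y * a * y⁻¹)) * y⁻¹ = y * a * y⁻¹ * ((y * y) * a * (y * y)⁻¹) := by group
    rw [e, hy2, one_mul, inv_one, mul_one, mul_assoc (a : G),
      ← mul_assoc (y * (a : G) * y⁻¹) (y * (a : G) * y⁻¹), A_sq D Q hA (hconjA a.2), one_mul,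
      A_sq D Q hA a.2])
  have hv1 : (v : G) ≠ 1 := fun e => hb (Or.inl (by
    have e' : b * (y * b * y⁻¹) = 1 := e
    exact (mul_left_cancel ((A_sq D Q hA hbA).trans e'.symm)).symm))
  have hvz : (v : G) ≠ z := fun e => hb (Or.inr (by
    have e' : b * (y * b * y⁻¹) = z := e
    have hbE := (mem_fiveO.1 (A_le D Q hA hbA)).1
    calc y * b * y⁻¹ = b * b * (y * b * y⁻¹) := by rw [A_sq D Q hA hbA, one_mul]
      _ = b * z := by rw [mul_assoc, e']
      _ = z * b := J.s.z_comm hbE))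
  have hyv : y * v = v * y := by
    have h := congrArg Subtype.val (hfix ⟨b, hbA⟩)
    rw [hφv, Subgroup.coe_one] at h
    have h' : y * (v : G) * y⁻¹ = v := mul_left_cancel (h.trans (A_sq D Q hA v.2).symm)
    exact mul_inv_eq_iff_eq_mul.1 h'
  -- the commutators
  have hrange : ∀ a : ↥A, φ a = 1 ∨ φ a = v := by
    have hle : φ.range ≤ φ.ker := by
      rintro _ ⟨a, rfl⟩
      exact hfix a
    set Z : ↥A := ⟨z, z_mem_A D Q hA⟩
    have hZ : Z ∈ φ.ker := Subtype.ext (by
      rw [hφv]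
      show z * (y * z * y⁻¹) = 1
      rw [hyz, mul_inv_cancel_right, J.zz])
    have h3 : ({1, Z, v} : Set ↥A) ⊆ φ.ker := by
      rintro u (rfl | rfl | rfl)
      exacts [one_mem _, hZ, hle ⟨_, rfl⟩]
    have hk3 : 3 ≤ Nat.card φ.ker := by
      have h := Set.ncard_le_ncard h3
      rw [← Nat.card_coe_set_eq (φ.ker : Set ↥A), SetLike.coe_sort_coe] at h
      refine le_trans (le_of_eq ?_) h
      rw [Set.ncard_insert_of_notMem, Set.ncard_pair]
      · exact fun e => hvz (congrArg Subtype.val e).symm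
      · simp only [Set.mem_insert_iff, Set.mem_singleton_iff, not_or]
        exact ⟨fun e => J.z_ne (congrArg Subtype.val e).symm, fun e => hv1 (congrArg Subtype.val e).symm⟩
    have hmul := φ.ker.card_mul_index
    rw [Subgroup.index_ker, card_A D Q hA] at hmul
    have hdvd : Nat.card φ.ker ∣ 8 := Dvd.intro _ hmul
    have hne1 : Nat.card φ.range ≠ 1 := fun e => by
      have hbot := Subgroup.eq_bot_of_card_eq φ.range e
      have : v ∈ φ.range := ⟨_, rfl⟩
      rw [hbot, Subgroup.mem_bot] at this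
      exact hv1 (congrArg Subtype.val this)
    have h2 : Nat.card φ.range = 2 := by
      have hle8 := Nat.le_of_dvd (by norm_num) hdvd
      interval_cases h : Nat.card φ.ker <;> omega
    have hsub : ({1, v} : Set ↥A) ⊆ φ.range := by
      rintro u (rfl | rfl)
      exacts [one_mem _, ⟨_, rfl⟩]
    have heq := Set.eq_of_subset_of_ncard_le hsub (by
      rw [← Nat.card_coe_set_eq (φ.range : Set ↥A), SetLike.coe_sort_coe, h2, Set.ncard_pair]
      exact fun e => hv1 (congrArg Subtype.val e).symm)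
    intro a
    have : φ a ∈ ({1, v} : Set ↥A) := heq ▸ ⟨a, rfl⟩
    simpa using this
  obtain ⟨c, hcq, hcz, hcA⟩ := exists_move_five D Q hA FF v.2 hv1
  have hciq : c⁻¹ * q = q * c⁻¹ := (show Commute c q from hcq).inv_left.eq
  set y' := c⁻¹ * y * c with hy'
  have hy'z : y' * z = z * y' := by
    calc y' * z = c⁻¹ * (y * (c * z * c⁻¹)) * c := by rw [hy']; group
      _ = c⁻¹ * ((v : G) * y) * c := by rw [hcz, hyv]
      _ = _ := by rw [hy', ← hcz]; group
  have hy'q : y' * q = q * y' :=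
    (((show Commute c⁻¹ q from hciq).mul_left (show Commute y q from hyq)).mul_left hcq).eq
  have hy'2 : y' * y' = 1 := by
    rw [hy', show c⁻¹ * y * c * (c⁻¹ * y * c) = c⁻¹ * (y * y) * c by group, hy2]; group
  have hfix' : ∀ a ∈ A, Rel z (y' * a * y'⁻¹) a := by
    intro a ha
    have e0 : c * (a * (y' * a * y'⁻¹)) * c⁻¹ = (φ ⟨c * a * c⁻¹, hcA a ha⟩ : G) := by
      rw [hφv, hy']; group
    have e1 : a * (y' * a * y'⁻¹) = 1 ∨ a * (y' * a * y'⁻¹) = z := by
      rcases hrange ⟨c * a * c⁻¹, hcA a ha⟩ with w | w <;> rw [w] at e0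
      · exact Or.inl (by
          rw [Subgroup.coe_one, mul_inv_eq_one, mul_eq_left] at e0; exact e0)
      · exact Or.inr (by
          rw [← hcz] at e0; exact mul_left_cancel (mul_right_cancel e0))
    rcases e1 with w | w
    · exact Or.inl (mul_left_cancel (w.trans (A_sq D Q hA ha).symm))
    · refine Or.inr ?_
      calc y' * a * y'⁻¹ = a * a * (y' * a * y'⁻¹) := by rw [A_sq D Q hA ha, one_mul]
        _ = a * z := by rw [mul_assoc, w]
        _ = z * a := J.s.z_comm (mem_fiveO.1 (A_le D Q hA ha)).1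
  have hy'H : y' ∈ H0 z π E := by
    by_contra hn'
    obtain ⟨b', hb', hnb⟩ := outer_moves D Q hA hy'z hn'
    exact hnb (hfix' b' hb')
  have hy'O := mem_E_of_four D Q FF hy'H hy'q (by rw [show 4 = 2 * 2 from rfl, pow_mul, show y' ^ 2 = 1 by rw [pow_two, hy'2], one_pow])
  refine ⟨c, hcq, (invol_O D Q hA hy'O hy'2).resolve_left fun w => hn ?_⟩
  have := hcA y' w
  rw [show c * y' * c⁻¹ = y by rw [hy']; group] at this
  exact E_le_H0 z π E (mem_fiveO.1 (A_le D Q hA this)).1

end Std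

end CfsgLib.JFourLocal
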