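import Cfsg.Agent.Lib.Classical.Card

/-!
# Automorphisms of an elementary abelian group of order eight
-/

set_option autoImplicit false
set_option linter.style.haveILetI false

namespace CfsgLib.JFourLocal

theorem card_SL_three_two : Nat.card (Matrix.SpecialLinearGroup (Fin 3) (ZMod 2)) = 168 := by
  have h := CfsgLib.Classical.sub_one_mul_card_SL (F := ZMod 2) (n := 3) (by norm_num)
  simp [-Nat.card_eq_fintype_card, Fin.prod_univ_three] at h
  omega

theorem exists_SL_hom {A : Type*} [Group A] [Finite A] (h2 : ∀ a : A, a * a = 1) (h8 : Nat.card A = 8) :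
    ∃ θ : MulAut A →* Matrix.SpecialLinearGroup (Fin 3) (ZMod 2), Function.Injective θ := by
  letI : CommGroup A := CommGroup.mk fun a b => by
    have hi : ∀ u : A, u⁻¹ = u := fun u => inv_eq_of_mul_eq_one_right (h2 u)
    calc a * b = (a * b)⁻¹ := (hi _).symm
      _ = b * a := by rw [mul_inv_rev, hi, hi]
  letI : Module (ZMod 2) (Additive A) := AddCommGroup.zmodModule (n := 2) fun x => by
    rw [two_nsmul]
    exact congrArg Additive.ofMul (h2 x.toMul)
  haveI : Module.Finite (ZMod 2) (Additive A) := Module.Finite.of_finite
  have hfr : Module.finrank (ZMod 2) (Additive A) = 3 := by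
    have h := Module.natCard_eq_pow_finrank (K := ZMod 2) (V := Additive A)
    rw [show Nat.card (Additive A) = 8 from (Nat.card_congr Additive.toMul).trans h8, Nat.card_zmod] at h
    exact (Nat.pow_right_injective (le_refl 2) (show 2 ^ 3 = 2 ^ _ from h)).symm
  let b := Module.finBasisOfFinrankEq (ZMod 2) (Additive A) hfr
  let m : MulAut A →* Matrix (Fin 3) (Fin 3) (ZMod 2) :=
    { toFun := fun f => LinearMap.toMatrixAlgEquiv b (f.toMonoidHom.toAdditive.toZModLinearMap 2)
      map_one' := by
        rw [show ((1 : MulAut A).toMonoidHom.toAdditive.toZModLinearMap 2) = 1 from LinearMap.ext fun _ => rfl,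
          map_one]
      map_mul' := fun f g => by
        rw [← map_mul]
        exact congrArg _ (LinearMap.ext fun _ => rfl) }
  have hdet : ∀ f : MulAut A, (m f).det = 1 := fun f => by
    have hu : IsUnit (m f).det := by
      refine (Matrix.isUnit_iff_isUnit_det _).1 ?_
      exact IsUnit.map m (Group.isUnit f)
    have key : ∀ a : ZMod 2, a ≠ 0 → a = 1 := by decide
    exact key _ hu.ne_zero
  refine ⟨{ toFun := fun f => ⟨m f, hdet f⟩, map_one' := Subtype.ext (map_one m),
            map_mul' := fun f g => Subtype.ext (map_mul m f g) }, fun f g h => ?_⟩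
  have h' := (LinearMap.toMatrixAlgEquiv b).injective (congrArg Subtype.val h)
  exact MulEquiv.ext fun a => congrArg Additive.toMul (LinearMap.congr_fun h' (Additive.ofMul a))

end CfsgLib.JFourLocal
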