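import Mathlib.GroupTheory.SchurZassenhaus
import Mathlib.GroupTheory.Sylow
import Mathlib.GroupTheory.PGroup
import Cfsg.Prelude.Def_TwoFusion
import Cfsg.Prelude.Def_Transfer
import Cfsg.Agent.Lib.JFourLocal.FiveAut

/-!
# The centralizer and the normalizer of a subgroup of order five

From the order of the centralizer, an invariant elementary subgroup of order eight and a bound on
centralizers of involutions outside it.
-/

set_option autoImplicit false
set_option linter.unusedSectionVars false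
set_option linter.style.haveILetI false

open scoped Classical

namespace CfsgLib.JFourLocal

variable {G : Type*} [Group G] [Finite G]

/-- The data of an element of order five. -/
structure FiveLoc (q f : G) (A : Subgroup G) : Prop where
  q5 : orderOf q = 5
  f4 : f ^ 4 = 1
  fq : f * q * f⁻¹ = q ^ 2
  card : Nat.card ↥(Subgroup.centralizer ({q} : Set G)) = 6720
  A8 : Nat.card A = 8
  Asq : ∀ a ∈ A, a * a = 1
  Ac : ∀ a ∈ A, a * q = q * a
  Anorm : ∀ g : G, g * q = q * g → ∀ a ∈ A, g * a * g⁻¹ ∈ A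
  Acent : ∀ g : G, g * q = q * g → (∀ a ∈ A, g * a = a * g) → ∃ a ∈ A, ∃ i : ℕ, g = a * q ^ i
  small : ∀ k : G, k * q = q * k → k * k = 1 → k ∉ A → ∀ v ∈ A, v ≠ 1 → k * v = v * k →
    Nat.card ↥(Subgroup.centralizer ({q} : Set G) ⊓ Subgroup.centralizer ({k} : Set G)) ≤ 80

namespace FiveLoc

variable {q f : G} {A : Subgroup G} (S : FiveLoc q f A)
include S

/-- The data are preserved by automorphisms. -/
theorem map (φ : G ≃* G) : FiveLoc (φ q) (φ f) (A.map φ.toMonoidHom) := by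
  have hmem : ∀ {a : G}, a ∈ A.map φ.toMonoidHom ↔ φ.symm a ∈ A := fun {a} => Subgroup.mem_map_equiv
  have hc : ∀ {g h : G}, g * φ h = φ h * g → φ.symm g * h = h * φ.symm g := fun e => φ.injective (by simpa using e)
  have hcard : ∀ s : Set G, Nat.card ↥(Subgroup.centralizer (φ '' s)) = Nat.card ↥(Subgroup.centralizer s) := by
    intro s
    refine Nat.card_congr
      { toFun := fun g => ⟨φ.symm g, fun h hh => φ.injective (by
          simpa using g.2 (φ h) ⟨h, hh, rfl⟩)⟩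
        invFun := fun g => ⟨φ g, by
          rintro _ ⟨h, hh, rfl⟩
          rw [← map_mul, ← map_mul, g.2 h hh]⟩
        left_inv := fun g => Subtype.ext (φ.apply_symm_apply _)
        right_inv := fun g => Subtype.ext (φ.symm_apply_apply _) }
  constructor
  · rw [φ.orderOf_eq]; exact S.q5
  · rw [← map_pow, S.f4, map_one]
  · rw [← map_inv, ← map_mul, ← map_mul, ← map_pow, S.fq]
  · rw [← S.card, ← hcard {q}, Set.image_singleton]
  · rw [Subgroup.card_map_of_injective φ.injective, S.A8]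
  · intro a ha
    exact φ.symm.injective (by simpa using S.Asq _ (hmem.1 ha))
  · intro a ha
    exact φ.symm.injective (by simpa using S.Ac _ (hmem.1 ha))
  · intro g hg a ha
    exact hmem.2 (by simpa using S.Anorm _ (hc hg) _ (hmem.1 ha))
  · intro g hg hga
    obtain ⟨a, ha, i, he⟩ := S.Acent _ (hc hg) fun a ha => hc (hga (φ a) ⟨a, ha, rfl⟩)
    exact ⟨φ a, ⟨a, ha, rfl⟩, i, by rw [← φ.apply_symm_apply g, he, map_mul, map_pow]⟩
  · intro k hk hk2 hkA v hv hv1 hkv
    have h := S.small _ (hc hk) (by rw [← map_mul, hk2, map_one]) (fun e => hkA (hmem.2 e)) _ (hmem.1 hv)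
      (fun e => hv1 (φ.symm.injective (by rw [e, map_one]))) (by rw [← map_mul, hkv, map_mul])
    refine le_trans (le_of_eq ?_) h
    refine Nat.card_congr
      { toFun := fun g => ⟨φ.symm g, Subgroup.mem_inf.2
          ⟨Subgroup.mem_centralizer_singleton_iff.2 (hc (Subgroup.mem_centralizer_singleton_iff.1 (Subgroup.mem_inf.1 g.2).1)),
            Subgroup.mem_centralizer_singleton_iff.2 (by
              rw [← map_mul, Subgroup.mem_centralizer_singleton_iff.1 (Subgroup.mem_inf.1 g.2).2, map_mul])⟩⟩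
        invFun := fun g => ⟨φ g, Subgroup.mem_inf.2
          ⟨Subgroup.mem_centralizer_singleton_iff.2 (by
              rw [← map_mul, Subgroup.mem_centralizer_singleton_iff.1 (Subgroup.mem_inf.1 g.2).1, map_mul]),
            Subgroup.mem_centralizer_singleton_iff.2 (φ.symm.injective (by
              simpa using Subgroup.mem_centralizer_singleton_iff.1 (Subgroup.mem_inf.1 g.2).2))⟩⟩
        left_inv := fun g => Subtype.ext (φ.apply_symm_apply _)
        right_inv := fun g => Subtype.ext (φ.symm_apply_apply _) }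

theorem q_pow : q ^ 5 = 1 := S.q5 ▸ pow_orderOf_eq_one q

/-- The Sylow subgroups of order five. -/
theorem not_dvd : ¬ 25 ∣ Nat.card G := by
  intro h
  haveI := Fact.mk (show Nat.Prime 5 by norm_num)
  obtain ⟨K, hK, hle⟩ := Sylow.exists_subgroup_card_pow_succ (p := 5) (n := 1) (by simpa using h)
    (show Nat.card ↥(Subgroup.zpowers q) = 5 ^ 1 by rw [Nat.card_zpowers, S.q5, pow_one])
  have hcomm := IsPGroup.isMulCommutative_of_card_eq_prime_sq (p := 5) hK
  have hKC : K ≤ Subgroup.centralizer ({q} : Set G) := fun k hk => Subgroup.mem_centralizer_singleton_iff.2 <|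
    congrArg Subtype.val (hcomm.is_comm.comm ⟨k, hk⟩ ⟨q, hle (Subgroup.mem_zpowers q)⟩)
  have := Subgroup.card_dvd_of_le hKC
  rw [hK, S.card] at this
  norm_num at this

/-- The complement in the centralizer. -/
theorem exists_complement :
    ∃ J : Subgroup G, Cfsg.IsInternalDirectProduct (Subgroup.zpowers q) J (Subgroup.centralizer ({q} : Set G)) ∧
      A ≤ J ∧ Nat.card J = 1344 := by
  set C := Subgroup.centralizer ({q} : Set G) with hC
  have hCq : ∀ c : ↥C, (c : G) * q = q * c := fun c => Subgroup.mem_centralizer_singleton_iff.1 c.2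
  set qC : ↥C := ⟨q, Subgroup.mem_centralizer_singleton_iff.2 rfl⟩
  set N0 := Subgroup.zpowers qC
  have hcentral : ∀ (a : ↥C) (c : ↥C), a ∈ N0 → Commute a c := by
    rintro a c ⟨n, rfl⟩
    exact (show Commute qC c from Subtype.ext (hCq c).symm).zpow_left n
  haveI : N0.Normal := ⟨fun a ha g => by
    rw [((hcentral a g ha).symm).eq, mul_inv_cancel_right]; exact ha⟩
  have hN0 : Nat.card N0 = 5 := by
    rw [Nat.card_zpowers, ← Subgroup.orderOf_coe]; exact S.q5
  have hidx : N0.index = 1344 := by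
    have := N0.card_mul_index
    rw [hN0, S.card] at this
    omega
  obtain ⟨K, hK⟩ := Subgroup.exists_right_complement'_of_coprime (N := N0)
    (by rw [hN0, hidx]; norm_num)
  have hKc : Nat.card K = 1344 := by
    have := hK.card_mul
    rw [hN0, S.card] at this
    omega
  have hsplit : ∀ g : ↥C, ∃ a ∈ N0, ∃ k ∈ K, g = a * k := fun g => by
    obtain ⟨⟨a, k⟩, h⟩ := hK.2 g
    exact ⟨a, a.2, k, k.2, h.symm⟩
  refine ⟨K.map C.subtype, ⟨?_, Subgroup.map_subtype_le K, ?_, ?_, ?_⟩, fun a ha => ?_, ?_⟩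
  · exact Subgroup.zpowers_le.2 qC.2
  · intro a ha b hb
    obtain ⟨n, rfl⟩ := Subgroup.mem_zpowers_iff.1 ha
    obtain ⟨y, -, rfl⟩ := hb
    exact ((show Commute q (y : G) from (hCq y).symm).zpow_left n).eq
  · rw [eq_bot_iff]
    rintro g ⟨h1, ⟨y, hy, rfl⟩⟩
    obtain ⟨n, hn⟩ := Subgroup.mem_zpowers_iff.1 h1
    have : y ∈ N0 ⊓ K := ⟨⟨n, Subtype.ext (by simpa using hn)⟩, hy⟩
    rw [hK.disjoint.eq_bot, Subgroup.mem_bot] at this
    rw [this, map_one]
    exact one_mem _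
  · refine le_antisymm (sup_le (Subgroup.zpowers_le.2 qC.2) (Subgroup.map_subtype_le K)) fun g hg => ?_
    obtain ⟨a, ha, y, hy, he⟩ := hsplit ⟨g, hg⟩
    obtain ⟨n, rfl⟩ := Subgroup.mem_zpowers_iff.1 ha
    have := congrArg Subtype.val he
    simp only [Subgroup.coe_mul, SubgroupClass.coe_zpow] at this
    rw [this]
    exact Subgroup.mul_mem_sup (Subgroup.zpow_mem _ (Subgroup.mem_zpowers q) n) ⟨y, hy, rfl⟩
  · -- involutions lie in the complement
    set g : ↥C := ⟨a, Subgroup.mem_centralizer_singleton_iff.2 (S.Ac a ha)⟩ with hg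
    obtain ⟨b, hb, k, hk, he⟩ := hsplit g
    have h2 : g ^ 2 = 1 := Subtype.ext (by rw [Subgroup.coe_pow, pow_two]; exact S.Asq a ha)
    rw [he, (hcentral b k hb).mul_pow] at h2
    have hb2 : b ^ 2 = 1 := by
      have : b ^ 2 ∈ N0 ⊓ K := ⟨N0.pow_mem hb 2, by
        rw [eq_inv_of_mul_eq_one_left h2]; exact K.inv_mem (K.pow_mem hk 2)⟩
      rwa [hK.disjoint.eq_bot, Subgroup.mem_bot] at this
    have hb5 : b ^ 5 = 1 := by
      have h := orderOf_dvd_natCard (⟨b, hb⟩ : ↥N0)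
      rw [hN0, Subgroup.orderOf_mk] at h
      exact orderOf_dvd_iff_pow_eq_one.1 h
    have hb1 : b = 1 := by simpa using (pow_gcd_eq_one (m := 2) (n := 5) (a := b)).2 ⟨hb2, hb5⟩
    rw [hb1, one_mul] at he
    exact ⟨g, by rw [he]; exact hk, rfl⟩
  · rw [Subgroup.card_map_of_injective C.subtype_injective, hKc]

/-- Involutions normalizing `A` centralize a four group of it. -/
theorem four_le_fixed {k : G} (hk : k * q = q * k) (hk2 : k * k = 1) :
    4 ≤ Nat.card ↥(A ⊓ Subgroup.centralizer ({k} : Set G)) := by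
  have hki : k⁻¹ = k := inv_eq_of_mul_eq_one_right hk2
  have hi : ∀ {u : G}, u ∈ A → u⁻¹ = u := fun hu => inv_eq_of_mul_eq_one_right (S.Asq _ hu)
  have hAc : ∀ {a b : G}, a ∈ A → b ∈ A → a * b = b * a := fun {a b} ha hb => by
    calc a * b = (a * b)⁻¹ := (hi (A.mul_mem ha hb)).symm
      _ = b * a := by rw [mul_inv_rev, hi ha, hi hb]
  have hcA : ∀ {a : G}, a ∈ A → k * a * k⁻¹ ∈ A := fun {a} ha => S.Anorm k hk a ha
  set φ : ↥A →* ↥A := MonoidHom.mk' (fun a => ⟨a * (k * a * k⁻¹), A.mul_mem a.2 (hcA a.2)⟩)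
    (fun a a' => Subtype.ext (by
      show (a : G) * a' * (k * (a * a') * k⁻¹) = a * (k * a * k⁻¹) * (a' * (k * a' * k⁻¹))
      rw [show k * ((a : G) * a') * k⁻¹ = k * a * k⁻¹ * (k * a' * k⁻¹) by group, mul_assoc (a : G),
        ← mul_assoc (a' : G), hAc a'.2 (hcA a.2)]
      group))
  have hker : ∀ a : ↥A, a ∈ φ.ker ↔ (a : G) * k = k * a := fun a => by
    rw [MonoidHom.mem_ker, Subtype.ext_iff]
    show (a : G) * (k * a * k⁻¹) = 1 ↔ _
    rw [← S.Asq _ a.2, mul_right_inj, mul_inv_eq_iff_eq_mul]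
    exact eq_comm
  have hle : φ.range ≤ φ.ker := by
    rintro _ ⟨a, rfl⟩
    rw [hker]
    show (a : G) * (k * a * k⁻¹) * k = k * (a * (k * a * k⁻¹))
    rw [hAc a.2 (hcA a.2)]
    calc k * (a : G) * k⁻¹ * a * k = k * ((a : G) * (k⁻¹ * a * k⁻¹⁻¹)) := by group
      _ = _ := by
        rw [inv_inv, show k⁻¹ * (a : G) * k = k * a * k⁻¹ by rw [hki], hAc a.2 (hcA a.2)]
  have hcard : Nat.card φ.ker = Nat.card ↥(A ⊓ Subgroup.centralizer ({k} : Set G)) := Nat.card_congr
    { toFun := fun a => ⟨a.1.1, a.1.2, Subgroup.mem_centralizer_singleton_iff.2 ((hker _).1 a.2)⟩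
      invFun := fun a => ⟨⟨a.1, a.2.1⟩, (hker _).2 (Subgroup.mem_centralizer_singleton_iff.1 a.2.2)⟩
      left_inv := fun _ => rfl
      right_inv := fun _ => rfl }
  rw [← hcard]
  have h1 := φ.ker.card_mul_index
  rw [Subgroup.index_ker, S.A8] at h1
  have h2 := Subgroup.card_le_of_le hle
  have h3 : Nat.card φ.ker ∣ 8 := Dvd.intro _ h1
  have h4 := Nat.le_of_dvd (by norm_num) h3
  interval_cases h : Nat.card φ.ker <;> omega

/-- The extension over `A` does not split. -/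
theorem not_split {J : Subgroup G}
    (hJ : Cfsg.IsInternalDirectProduct (Subgroup.zpowers q) J (Subgroup.centralizer ({q} : Set G))) (hAJ : A ≤ J)
    (hJc : Nat.card J = 1344) : ∀ K : Subgroup ↥J, ¬ (A.subgroupOf J).IsComplement' K := by
  obtain ⟨hqC, hJC, hcomm, hbot, -⟩ := id hJ
  have hJq : ∀ x : ↥J, (x : G) * q = q * x := fun x => Subgroup.mem_centralizer_singleton_iff.1 (hJC x.2)
  set E := A.subgroupOf J with hE
  have hE8 : Nat.card ↥E = 8 := by rw [Nat.card_congr (Subgroup.subgroupOfEquivOfLe hAJ).toEquiv, S.A8]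
  intro K hK
  haveI := Fact.mk Nat.prime_two
  have hKc : Nat.card ↥K = 168 := by
    have h := hK.card_mul
    rw [hE8, hJc] at h
    omega
  obtain ⟨P, hP⟩ := Sylow.exists_subgroup_card_pow_prime (G := ↥K) 2 (n := 3) (by rw [hKc]; norm_num)
  have hPg : IsPGroup 2 ↥P := IsPGroup.of_card hP
  haveI : Nontrivial ↥P := Finite.one_lt_card_iff_nontrivial.1 (by rw [hP]; norm_num)
  haveI := hPg.center_nontrivial
  obtain ⟨n, hn0, hnc⟩ := (hPg.to_subgroup (Subgroup.center ↥P)).nontrivial_iff_card.1 inferInstance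
  obtain ⟨k, hk⟩ := exists_prime_orderOf_dvd_card' (G := ↥(Subgroup.center ↥P)) 2
    (by rw [hnc]; exact dvd_pow_self 2 (by omega))
  set kJ : ↥J := ((k : ↥P) : ↥K).1 with hkJ
  have hkJo : orderOf (kJ : G) = 2 := by
    rw [Subgroup.orderOf_coe, hkJ, Subgroup.orderOf_coe, Subgroup.orderOf_coe, Subgroup.orderOf_coe, hk]
  have hk2 : (kJ : G) * kJ = 1 := by rw [← pow_two, ← hkJo, pow_orderOf_eq_one]
  have hkA : (kJ : G) ∉ A := fun h => by
    have h' : kJ ∈ E ⊓ K := ⟨Subgroup.mem_subgroupOf.2 h, ((k : ↥P) : ↥K).2⟩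
    rw [hK.disjoint.eq_bot, Subgroup.mem_bot] at h'
    rw [h', Subgroup.coe_one, orderOf_one] at hkJo
    omega
  have h4 := S.four_le_fixed (hJq kJ) hk2
  set T := A ⊓ Subgroup.centralizer ({(kJ : G)} : Set G)
  obtain ⟨v, hv, hv1⟩ : ∃ v ∈ T, v ≠ 1 := by
    by_contra hne
    push Not at hne
    rw [(Subgroup.eq_bot_iff_forall T).2 hne, Subgroup.card_bot] at h4
    omega
  have hsmall := S.small _ (hJq kJ) hk2 hkA v (Subgroup.mem_inf.1 hv).1 hv1
    (Subgroup.mem_centralizer_singleton_iff.1 (Subgroup.mem_inf.1 hv).2).symm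
  let pJ : ↥P → ↥J := fun p => ((p : ↥K) : ↥J)
  have hpk : ∀ p : ↥P, (pJ p : G) * kJ = kJ * pJ p := fun p =>
    congrArg (fun u : ↥P => ((u : ↥K) : ↥J).1) (Subgroup.mem_center_iff.1 k.2 p)
  let F : ↥(Subgroup.zpowers q) × ↥T × ↥P →
      ↥(Subgroup.centralizer ({q} : Set G) ⊓ Subgroup.centralizer ({(kJ : G)} : Set G)) :=
    fun u => ⟨u.1 * (u.2.1 * pJ u.2.2), by
      have hu1 : (u.1 : G) ∈ Subgroup.centralizer ({q} : Set G) := hqC u.1.2
      refine Subgroup.mem_inf.2 ⟨mul_mem hu1 (mul_mem (hJC (hAJ (Subgroup.mem_inf.1 u.2.1.2).1))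
        (hJC (pJ u.2.2).2)), mul_mem ?_ (mul_mem (Subgroup.mem_inf.1 u.2.1.2).2
          (Subgroup.mem_centralizer_singleton_iff.2 (hpk _)))⟩
      exact Subgroup.mem_centralizer_singleton_iff.2 (hcomm _ u.1.2 _ kJ.2)⟩
  have hF : Function.Injective F := by
    rintro ⟨a, b, c⟩ ⟨a', b', c'⟩ h
    have h' : (a : G) * (b * pJ c) = a' * (b' * pJ c') := congrArg Subtype.val h
    have hb : (b : G) ∈ J := hAJ (Subgroup.mem_inf.1 b.2).1
    have hb' : (b' : G) ∈ J := hAJ (Subgroup.mem_inf.1 b'.2).1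
    have ha : (a' : G)⁻¹ * (a : G) ∈ Subgroup.zpowers q ⊓ J := ⟨(Subgroup.zpowers q).mul_mem ((Subgroup.zpowers q).inv_mem a'.2) a.2, by
      rw [show (a' : G)⁻¹ * (a : G) = (a' : G)⁻¹ * ((a : G) * (b * pJ c)) * ((b : G) * pJ c)⁻¹ by group, h',
        inv_mul_cancel_left]
      exact J.mul_mem (J.mul_mem hb' (pJ c').2) (J.inv_mem (J.mul_mem hb (pJ c).2))⟩
    rw [hbot, Subgroup.mem_bot, inv_mul_eq_one] at ha
    rw [ha] at h'
    have h2 : (b : G) * pJ c = b' * pJ c' := mul_left_cancel h'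
    have h3 : (⟨(b' : G)⁻¹ * b, J.mul_mem (J.inv_mem hb') hb⟩ : ↥J) ∈ E ⊓ K := ⟨Subgroup.mem_subgroupOf.2
        (A.mul_mem (A.inv_mem (Subgroup.mem_inf.1 b'.2).1) (Subgroup.mem_inf.1 b.2).1), by
      rw [show (⟨(b' : G)⁻¹ * b, J.mul_mem (J.inv_mem hb') hb⟩ : ↥J) = pJ c' * (pJ c)⁻¹ from Subtype.ext (by
        simp only [Subgroup.coe_mul, InvMemClass.coe_inv]
        rw [eq_mul_inv_iff_mul_eq, mul_assoc, h2, inv_mul_cancel_left])]
      exact K.mul_mem (c' : ↥K).2 (K.inv_mem (c : ↥K).2)⟩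
    rw [hK.disjoint.eq_bot, Subgroup.mem_bot] at h3
    have hbb : (b' : G) = b := inv_mul_eq_one.1 (congrArg Subtype.val h3)
    rw [hbb] at h2
    exact Prod.ext (Subtype.ext ha.symm) (Prod.ext (Subtype.ext hbb.symm)
      (Subtype.ext (Subtype.ext (Subtype.ext (mul_left_cancel h2)))))
  have h5 := (Nat.card_le_card_of_injective F hF).trans hsmall
  rw [Nat.card_prod, Nat.card_prod, Nat.card_zpowers, S.q5, hP] at h5
  omega

/-- **The centralizer.** -/
theorem exists_J :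
    ∃ J : Subgroup G, Cfsg.IsInternalDirectProduct (Subgroup.zpowers q) J (Subgroup.centralizer ({q} : Set G)) ∧
      ∃ (E : Subgroup ↥J) (_ : E.Normal), Cfsg.IsElementaryAbelian 2 E ∧ Nat.card ↥E = 8 ∧
        Nonempty (↥J ⧸ E ≃* Matrix.SpecialLinearGroup (Fin 3) (ZMod 2)) ∧
        ∀ K : Subgroup ↥J, ¬ E.IsComplement' K := by
  obtain ⟨J, hJ, hAJ, hJc⟩ := S.exists_complement
  obtain ⟨hqC, hJC, hcomm, hbot, -⟩ := id hJ
  have hJq : ∀ x : ↥J, (x : G) * q = q * x := fun x => Subgroup.mem_centralizer_singleton_iff.1 (hJC x.2)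
  set E := A.subgroupOf J with hE
  haveI hn : E.Normal := ⟨fun a ha x => Subgroup.mem_subgroupOf.2 (by
    simpa using S.Anorm _ (hJq x) _ (Subgroup.mem_subgroupOf.1 ha))⟩
  have hsq : ∀ a ∈ E, a * a = 1 := fun a ha => Subtype.ext (S.Asq _ (Subgroup.mem_subgroupOf.1 ha))
  have hE8 : Nat.card ↥E = 8 := by rw [Nat.card_congr (Subgroup.subgroupOfEquivOfLe hAJ).toEquiv, S.A8]
  have hel : Cfsg.IsElementaryAbelian 2 E := by
    refine ⟨⟨⟨fun a b => ?_⟩⟩, fun a ha => by rw [pow_two]; exact hsq a ha⟩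
    have hi : ∀ u : ↥E, u⁻¹ = u := fun u => inv_eq_of_mul_eq_one_right (Subtype.ext (hsq _ u.2))
    calc a * b = (a * b)⁻¹ := (hi _).symm
      _ = b * a := by rw [mul_inv_rev, hi, hi]
  refine ⟨J, hJ, E, hn, hel, hE8, ?_, ?_⟩
  · obtain ⟨θ, hθ⟩ := exists_SL_hom (fun a : ↥E => Subtype.ext (hsq _ a.2)) hE8
    set ψ : ↥J →* Matrix.SpecialLinearGroup (Fin 3) (ZMod 2) := θ.comp MulAut.conjNormal with hψ
    have hker : ψ.ker = E := by
      ext x
      rw [MonoidHom.mem_ker, hψ, MonoidHom.comp_apply, ← map_one θ, hθ.eq_iff]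
      constructor
      · intro h
        have hfix : ∀ a ∈ A, (x : G) * a = a * x := fun a ha => by
          have h1 := congrArg (fun σ : MulAut ↥E => ((σ ⟨⟨a, hAJ ha⟩, Subgroup.mem_subgroupOf.2 ha⟩ : ↥J) : G)) h
          simp only [MulAut.conjNormal_apply, Subgroup.coe_mul, InvMemClass.coe_inv, MulAut.one_apply] at h1
          exact mul_inv_eq_iff_eq_mul.1 h1
        obtain ⟨a, ha, i, he⟩ := S.Acent _ (hJq x) hfix
        have hmem : q ^ i ∈ Subgroup.zpowers q ⊓ J := ⟨Subgroup.pow_mem _ (Subgroup.mem_zpowers q) i, by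
          rw [show q ^ i = a⁻¹ * x by rw [he, inv_mul_cancel_left]]
          exact J.mul_mem (J.inv_mem (hAJ ha)) x.2⟩
        rw [hbot, Subgroup.mem_bot] at hmem
        rw [hmem, mul_one] at he
        exact Subgroup.mem_subgroupOf.2 (he ▸ ha)
      · intro hx
        refine MulEquiv.ext fun a => Subtype.ext ?_
        rw [MulAut.one_apply, MulAut.conjNormal_apply]
        have := congrArg Subtype.val (hel.1.is_comm.comm ⟨x, hx⟩ a)
        simp only [Subgroup.coe_mul] at this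
        rw [this, mul_inv_cancel_right]
    have hsurj : Function.Surjective ψ := by
      rw [← MonoidHom.range_eq_top]
      refine Subgroup.eq_top_of_card_eq _ ?_
      have h1 := ψ.ker.card_mul_index
      rw [Subgroup.index_ker, hker, hE8, hJc] at h1
      rw [card_SL_three_two]
      omega
    exact ⟨(QuotientGroup.quotientMulEquivOfEq hker.symm).trans (QuotientGroup.quotientKerEquivOfSurjective ψ hsurj)⟩
  · exact S.not_split hJ hAJ hJc

/-- The powers of the squaring element. -/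
theorem conj_pow_f (i : ℕ) : f ^ i * q * (f ^ i)⁻¹ = q ^ (2 ^ i) := by
  induction i with
  | zero => simp
  | succ i ih =>
    rw [pow_succ', show f * f ^ i * q * (f * f ^ i)⁻¹ = f * (f ^ i * q * (f ^ i)⁻¹) * f⁻¹ by group, ih,
      ← conj_pow, S.fq, ← pow_mul, pow_succ' 2 i]

theorem exp_inj {i j : Fin 4} (h : q ^ (2 ^ (i : ℕ)) = q ^ (2 ^ (j : ℕ))) : i = j := by
  rw [pow_eq_pow_iff_modEq, S.q5] at h
  fin_cases i <;> fin_cases j <;> simp [Nat.ModEq] at h ⊢

theorem mem_normalizer {g : G} {j : ℕ} (hg : g * q * g⁻¹ = q ^ j) :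
    g ∈ Subgroup.normalizer (Subgroup.zpowers q : Set G) := by
  have hle : (Subgroup.zpowers q).map (MulAut.conj g).toMonoidHom ≤ Subgroup.zpowers q := by
    rw [MonoidHom.map_zpowers, Subgroup.zpowers_le]
    show g * q * g⁻¹ ∈ _
    rw [hg]
    exact Subgroup.pow_mem _ (Subgroup.mem_zpowers q) j
  have heq := Subgroup.eq_of_le_of_card_ge hle
    (by rw [Subgroup.card_map_of_injective (MulAut.conj g).injective])
  refine Subgroup.mem_normalizer_iff.2 fun y => ?_
  conv_rhs => rw [← heq, Subgroup.mem_map_equiv, MulAut.conj_symm_apply]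
  rw [show g⁻¹ * (g * y * g⁻¹) * g = y by group]

/-- **The order of the normalizer.** -/
theorem card_normalizer : Nat.card ↥(Subgroup.normalizer (Subgroup.zpowers q : Set G)) = 26880 := by
  set C := Subgroup.centralizer ({q} : Set G) with hC
  set N := Subgroup.normalizer (Subgroup.zpowers q : Set G)
  let F : Fin 4 × ↥C → ↥N := fun p => ⟨f ^ (p.1 : ℕ) * p.2, N.mul_mem (S.mem_normalizer (S.conj_pow_f _))
    (S.mem_normalizer (j := 1)
      (by rw [Subgroup.mem_centralizer_singleton_iff.1 p.2.2, mul_inv_cancel_right, pow_one]))⟩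
  have hF : Function.Bijective F := by
    constructor
    · rintro ⟨i, c⟩ ⟨j, d⟩ h
      have h' : f ^ (i : ℕ) * (c : G) = f ^ (j : ℕ) * d := congrArg Subtype.val h
      have key : ∀ (i : ℕ) (c : ↥C), f ^ i * c * q * (f ^ i * c)⁻¹ = q ^ (2 ^ i) := fun i c => by
        rw [mul_assoc (f ^ i), Subgroup.mem_centralizer_singleton_iff.1 c.2, ← S.conj_pow_f i]; group
      have he := key i c
      rw [h', key j d] at he
      obtain rfl := S.exp_inj he.symm
      exact Prod.ext rfl (Subtype.ext (mul_left_cancel h'))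
    · rintro ⟨g, hg⟩
      obtain ⟨j, hj⟩ := (isOfFinOrder_of_finite q).mem_powers_iff_mem_zpowers.2
        ((Subgroup.mem_normalizer_iff.1 hg q).1 (Subgroup.mem_zpowers q))
      have hj' : q ^ (j % 5) = g * q * g⁻¹ := by rw [← S.q5, pow_mod_orderOf]; exact hj
      obtain ⟨i, hi⟩ : ∃ i : Fin 4, q ^ (2 ^ (i : ℕ)) = q ^ (j % 5) := by
        have : j % 5 < 5 := Nat.mod_lt _ (by norm_num)
        interval_cases h : j % 5
        · exfalso
          rw [pow_zero, eq_comm, mul_inv_eq_one, mul_eq_left] at hj'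
          have := S.q5
          rw [hj', orderOf_one] at this
          omega
        · exact ⟨0, rfl⟩
        · exact ⟨1, rfl⟩
        · exact ⟨3, pow_eq_pow_iff_modEq.2 (by rw [S.q5]; decide)⟩
        · exact ⟨2, rfl⟩
      refine ⟨⟨i, (f ^ (i : ℕ))⁻¹ * g, Subgroup.mem_centralizer_singleton_iff.2 ?_⟩,
        Subtype.ext (mul_inv_cancel_left _ _)⟩
      calc (f ^ (i : ℕ))⁻¹ * g * q = (f ^ (i : ℕ))⁻¹ * (g * q * g⁻¹) * g := by group
        _ = (f ^ (i : ℕ))⁻¹ * (f ^ (i : ℕ) * q * (f ^ (i : ℕ))⁻¹) * g := by rw [← hj', ← hi, S.conj_pow_f]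
        _ = _ := by group
  rw [← Nat.card_congr (Equiv.ofBijective F hF), Nat.card_prod, Nat.card_fin, S.card]

/-- **A Frobenius group of order twenty.** -/
theorem exists_R :
    ∃ R : Subgroup G, Subgroup.zpowers q ≤ R ∧ R ≤ Subgroup.normalizer (Subgroup.zpowers q : Set G) ∧
      Nat.card ↥R = 20 ∧ R ⊓ Subgroup.centralizer ({q} : Set G) = Subgroup.zpowers q := by
  set Z := Subgroup.zpowers q with hZ
  have hfN : Subgroup.zpowers f ≤ Subgroup.normalizer (Z : Set G) :=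
    Subgroup.zpowers_le.2 (S.mem_normalizer S.fq)
  have hco := Subgroup.coe_mul_of_right_le_normalizer_left Z (Subgroup.zpowers f) hfN
  have hf4 : orderOf f ∣ 4 := orderOf_dvd_of_pow_eq_one S.f4
  have hexp : ∀ {j : ℕ}, f ^ j * q = q * f ^ j → 4 ∣ j := fun {j} h => by
    have h1 : q ^ (2 ^ j) = q := by rw [← S.conj_pow_f, h, mul_inv_cancel_right]
    have hj : f ^ j = f ^ (j % 4) := by
      conv_lhs => rw [← Nat.mod_add_div j 4, pow_add, pow_mul, S.f4, one_pow, mul_one]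
    have h2 : q ^ (2 ^ (((⟨j % 4, Nat.mod_lt _ (by norm_num)⟩ : Fin 4) : ℕ))) = q ^ (2 ^ ((0 : Fin 4) : ℕ)) := by
      show q ^ (2 ^ (j % 4)) = q ^ (2 ^ 0)
      rw [← S.conj_pow_f, ← hj, S.conj_pow_f, h1, pow_zero, pow_one]
    exact Nat.dvd_of_mod_eq_zero (congrArg Fin.val (S.exp_inj h2))
  have hq_mem : ∀ {u : G}, u ∈ Z → u * q = q * u := fun {u} hu => by
    obtain ⟨n, rfl⟩ := Subgroup.mem_zpowers_iff.1 hu
    exact ((Commute.refl q).zpow_left n).eq
  refine ⟨Z ⊔ Subgroup.zpowers f, le_sup_left, sup_le Subgroup.le_normalizer hfN, ?_, ?_⟩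
  · have hmem : ∀ {u : G}, u ∈ Z ⊔ Subgroup.zpowers f ↔ ∃ i : Fin 5, ∃ j : Fin 4, u = q ^ (i : ℕ) * f ^ (j : ℕ) := by
      intro u
      constructor
      · intro hu
        rw [← SetLike.mem_coe, hco] at hu
        obtain ⟨a, ha, b, hb, rfl⟩ := hu
        obtain ⟨i, rfl⟩ := (isOfFinOrder_of_finite q).mem_powers_iff_mem_zpowers.2 ha
        obtain ⟨j, rfl⟩ := (isOfFinOrder_of_finite f).mem_powers_iff_mem_zpowers.2 hb
        refine ⟨⟨i % 5, Nat.mod_lt _ (by norm_num)⟩, ⟨j % 4, Nat.mod_lt _ (by norm_num)⟩, ?_⟩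
        show q ^ i * f ^ j = q ^ (i % 5) * f ^ (j % 4)
        rw [← S.q5, pow_mod_orderOf]
        congr 1
        conv_lhs => rw [← Nat.mod_add_div j 4, pow_add, pow_mul, S.f4, one_pow, mul_one]
      · rintro ⟨i, j, rfl⟩
        exact Subgroup.mul_mem_sup (Subgroup.pow_mem _ (Subgroup.mem_zpowers q) _)
          (Subgroup.pow_mem _ (Subgroup.mem_zpowers f) _)
    let F : Fin 5 × Fin 4 → ↥(Z ⊔ Subgroup.zpowers f) := fun p =>
      ⟨q ^ (p.1 : ℕ) * f ^ (p.2 : ℕ), hmem.2 ⟨p.1, p.2, rfl⟩⟩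
    have hF : Function.Bijective F := by
      refine ⟨?_, fun u => ?_⟩
      · rintro ⟨i, j⟩ ⟨i', j'⟩ h
        have h' : q ^ (i : ℕ) * f ^ (j : ℕ) = q ^ (i' : ℕ) * f ^ (j' : ℕ) := congrArg Subtype.val h
        have key : ∀ (i j : ℕ), q ^ i * f ^ j * q * (q ^ i * f ^ j)⁻¹ = q ^ (2 ^ j) := fun i j => by
          rw [show q ^ i * f ^ j * q * (q ^ i * f ^ j)⁻¹ = q ^ i * (f ^ j * q * (f ^ j)⁻¹) * (q ^ i)⁻¹ by group,
            S.conj_pow_f, ((Commute.refl q).pow_pow i _).eq, mul_inv_cancel_right]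
        have he := key i j
        rw [h', key] at he
        obtain rfl := S.exp_inj he
        have hii := mul_right_cancel h'
        rw [pow_eq_pow_iff_modEq, S.q5] at hii
        exact Prod.ext (Fin.ext (hii.eq_of_lt_of_lt i.2 i'.2)) rfl
      · obtain ⟨i, j, he⟩ := hmem.1 u.2
        exact ⟨(i, j), Subtype.ext he.symm⟩
    rw [← Nat.card_congr (Equiv.ofBijective F hF), Nat.card_prod, Nat.card_fin, Nat.card_fin]
  · refine le_antisymm (fun u hu => ?_) (le_inf le_sup_left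
      (Subgroup.zpowers_le.2 (Subgroup.mem_centralizer_singleton_iff.2 rfl)))
    obtain ⟨h1, h2⟩ := Subgroup.mem_inf.1 hu
    rw [← SetLike.mem_coe, hco] at h1
    obtain ⟨a, ha, b, hb, rfl⟩ := h1
    obtain ⟨j, rfl⟩ := (isOfFinOrder_of_finite f).mem_powers_iff_mem_zpowers.2 hb
    have h3 : f ^ j * q = q * f ^ j := by
      have h4 := Subgroup.mem_centralizer_singleton_iff.1 h2
      calc f ^ j * q = a⁻¹ * (a * f ^ j * q) := by group
        _ = a⁻¹ * (q * (a * f ^ j)) := by rw [h4]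
        _ = a⁻¹ * (a * q * f ^ j) := by rw [hq_mem ha, mul_assoc]
        _ = _ := by group
    obtain ⟨l, rfl⟩ := hexp h3
    show a * f ^ (4 * l) ∈ Z
    rw [pow_mul, S.f4, one_pow, mul_one]
    exact ha

end FiveLoc

end CfsgLib.JFourLocal
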