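import Mathlib.GroupTheory.OrderOfElement
import Mathlib.GroupTheory.Subgroup.Centralizer
import Mathlib.Tactic.Group
import Mathlib.Tactic.IntervalCases
import Mathlib.Tactic.NormNum.Prime
import Cfsg.Agent.Lib.J2Order.Formula

/-!
# The involutions centralizing an element of order seven

The pattern of the centralizer of an element `s` of order seven: the centralizers in it of two
involutions `z` and `z * u` are given.  All involutions there are conjugate to one of the two.
-/

set_option autoImplicit false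
set_option linter.unusedSectionVars false

namespace CfsgLib.JFourLocal

variable {G : Type*} [Group G] [Finite G]

/-- The two centralizers inside the centralizer of `s`. -/
structure Seven (z π s u x : G) : Prop where
  zz : z * z = 1
  z1 : z ≠ 1
  s7 : orderOf s = 7
  p3 : π ^ 3 = 1
  p1 : π ≠ 1
  uu : u * u = 1
  xx : x * x = 1
  zs : z * s = s * z
  ps : π * s = s * π
  us : u * s = s * u
  xs : x * s = s * x
  uz : u * z = z * u
  pz : π * z = z * π
  up : u * π * u = π⁻¹
  xt : x * (z * u) = z * u * x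
  zx : z * x * z = x * (z * u)
  nt : ¬ IsConj z (z * u)
  nx : ¬ IsConj z x
  cz : ∀ y : G, y * z = z * y → y * s = s * y → ∃ i j k l : ℕ, y = s ^ i * z ^ j * π ^ k * u ^ l
  ct : ∀ y : G, y * (z * u) = z * u * y → y * s = s * y →
    ∃ i a b c : ℕ, y = s ^ i * (z * u) ^ a * x ^ b * z ^ c
  cx : ∀ y : G, y * x = x * y → y * s = s * y →
    y * (z * u) * y⁻¹ = z * u ∨ y * (z * u) * y⁻¹ = x * (z * u)
  cp : ∀ y : G, y * π = π * y → y * z = z * y

theorem pow_two_cases {a : G} (h : a * a = 1) (n : ℕ) : a ^ n = 1 ∨ a ^ n = a := by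
  induction n with
  | zero => exact Or.inl (pow_zero a)
  | succ n ih =>
    rcases ih with e | e <;> rw [pow_succ, e]
    · exact Or.inr (one_mul a)
    · exact Or.inl h

theorem conj_comm {c y s : G} (hc : c * s = s * c) (hy : y * s = s * y) :
    c * y * c⁻¹ * s = s * (c * y * c⁻¹) :=
  ((show Commute c s from hc).mul_left (show Commute y s from hy) |>.mul_left
    (show Commute c s from hc).inv_left).eq

theorem mem_cent_of_zpowers' {x y i : G} (hx : x * x = 1) (hy : y * y = 1) (hi : i * i = 1)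
    (h : i ∈ Subgroup.zpowers (x * y)) : x * i = i * x ∧ y * i = i * y := by
  obtain ⟨k, rfl⟩ := Subgroup.mem_zpowers_iff.1 h
  have hx' : x⁻¹ = x := inv_eq_of_mul_eq_one_right hx
  have hy' : y⁻¹ = y := inv_eq_of_mul_eq_one_right hy
  have hinv : ((x * y) ^ k)⁻¹ = (x * y) ^ k := inv_eq_of_mul_eq_one_right hi
  constructor
  · have : x * (x * y) ^ k * x⁻¹ = (x * y) ^ k := by
      rw [← conj_zpow, show x * (x * y) * x⁻¹ = (x * y)⁻¹ by
        rw [mul_inv_rev, hx', hy', ← mul_assoc x x, hx, one_mul], inv_zpow, hinv]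
    exact mul_inv_eq_iff_eq_mul.1 this
  · have : y * (x * y) ^ k * y⁻¹ = (x * y) ^ k := by
      rw [← conj_zpow, show y * (x * y) * y⁻¹ = (x * y)⁻¹ by
        rw [mul_inv_rev, hx', hy', mul_assoc, mul_assoc, hy, mul_one], inv_zpow, hinv]
    exact mul_inv_eq_iff_eq_mul.1 this

namespace Seven

variable {z π s u x : G} (S : Seven z π s u x)
include S

theorem tt : z * u * (z * u) = 1 := by
  rw [show z * u * (z * u) = z * (u * z) * u by group, S.uz, ← mul_assoc z, S.zz, one_mul, S.uu]

theorem tz : z * u * z = u := by rw [mul_assoc, S.uz, ← mul_assoc, S.zz, one_mul]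

theorem zt : z * (z * u) = z * u * z := by rw [S.tz, ← mul_assoc, S.zz, one_mul]

theorem u_inv : u⁻¹ = u := inv_eq_of_mul_eq_one_right S.uu

theorem x_inv : x⁻¹ = x := inv_eq_of_mul_eq_one_right S.xx

theorem z_inv : z⁻¹ = z := inv_eq_of_mul_eq_one_right S.zz

theorem ts : z * u * s = s * (z * u) :=
  ((show Commute z s from S.zs).mul_left (show Commute u s from S.us)).eq

theorem xzx : x * z * x⁻¹ = u := by
  rw [S.x_inv, show x * z * x = x * (z * x * z) * z⁻¹ by group, S.zx, S.z_inv, ← mul_assoc x x,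
    S.xx, one_mul, S.tz]

theorem t1 : z * u ≠ 1 := fun h => by
  have e : u = z := by rw [← one_mul u, ← S.zz, mul_assoc, h, mul_one]
  have h1 : π = π⁻¹ := by
    have := S.up
    rwa [e, ← S.pz, mul_assoc, S.zz, mul_one] at this
  have h2 : π * π = 1 := by nth_rw 2 [h1]; exact mul_inv_cancel π
  exact S.p1 (by rw [← S.p3, pow_succ, pow_two, h2, one_mul])

theorem xnz : x * z ≠ z * x := fun h => S.t1 <| by
  have := S.zx
  rw [← h, mul_assoc, S.zz, mul_one] at this
  exact mul_eq_left.1 this.symm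

theorem x1 : x ≠ 1 := fun h => S.xnz (by rw [h, one_mul, mul_one])

theorem xtnz : z * u * x * z ≠ z * (z * u * x) := fun h => S.xnz <| mul_left_cancel (a := z * u) <| by
  rw [← mul_assoc, h, ← mul_assoc, S.zt, mul_assoc]

theorem up' (n : ℕ) : u * π ^ n = (π ^ n)⁻¹ * u := by
  have h : u * π ^ n * u⁻¹ = (π ^ n)⁻¹ := by
    rw [← conj_pow, ← inv_pow, show u * π * u⁻¹ = π⁻¹ by rw [S.u_inv]; exact S.up]
  rw [← h, inv_mul_cancel_right]

theorem pi_u (n : ℕ) : π ^ n * u = π ^ (2 * n) * u * (π ^ (2 * n))⁻¹ := by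
  have hinv : (π ^ (2 * n))⁻¹ = π ^ n :=
    inv_eq_of_mul_eq_one_right (by
      rw [← pow_add, show 2 * n + n = 3 * n by ring, pow_mul, S.p3, one_pow])
  rw [hinv, mul_assoc (π ^ (2 * n)), S.up', ← mul_assoc]
  congr 1
  rw [two_mul, pow_add, mul_inv_cancel_right]

theorem pi_s (n : ℕ) : π ^ n * s = s * π ^ n := ((show Commute π s from S.ps).pow_left n).eq

theorem pi_z (n : ℕ) : π ^ n * z = z * π ^ n := ((show Commute π z from S.pz).pow_left n).eq

/-- The part of order seven of an element is trivial. -/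
theorem s_pow_eq_one {i n : ℕ} {w : G} (hn : ¬ 7 ∣ n) (hw : w ^ n = 1) (hc : w * s = s * w)
    (h : (s ^ i * w) ^ n = 1) : s ^ i = 1 := by
  rw [((show Commute s w from hc.symm).pow_left i).mul_pow, hw, mul_one, ← pow_mul] at h
  have h7 := orderOf_dvd_of_pow_eq_one h
  rw [S.s7] at h7
  rcases (show Nat.Prime 7 by norm_num).dvd_mul.1 h7 with e | e
  · exact orderOf_dvd_iff_pow_eq_one.1 (by rw [S.s7]; exact e)
  · exact absurd e hn

/-- The involutions commuting with `z` and `s`. -/
theorem invol_z {y : G} (hy : y * y = 1) (hy1 : y ≠ 1) (hyz : y * z = z * y) (hys : y * s = s * y) :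
    y = z ∨ (∃ m, y = π ^ m * u * (π ^ m)⁻¹) ∨ ∃ m, y = π ^ m * (z * u) * (π ^ m)⁻¹ := by
  obtain ⟨i, j, k, l, rfl⟩ := S.cz y hyz hys
  have hzp : Commute z (π ^ k) := (show Commute π z from S.pz).pow_left k |>.symm
  have hjc : Commute (z ^ j) (π ^ k) := hzp.pow_left j
  have hws : z ^ j * π ^ k * u ^ l * s = s * (z ^ j * π ^ k * u ^ l) :=
    (((show Commute z s from S.zs).pow_left j).mul_left ((show Commute π s from S.ps).pow_left k)
      |>.mul_left ((show Commute u s from S.us).pow_left l)).eq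
  have hpu : ∀ n, π ^ n * u * (π ^ n * u) = 1 := fun n => by
    rw [show π ^ n * u * (π ^ n * u) = π ^ n * (u * π ^ n) * u by group, S.up', ← mul_assoc (π ^ n),
      mul_inv_cancel, one_mul, S.uu]
  have hw6 : (z ^ j * π ^ k * u ^ l) ^ 6 = 1 := by
    rcases pow_two_cases S.uu l with e | e <;> rw [e]
    · rw [mul_one, hjc.mul_pow, ← pow_mul, mul_comm, pow_mul, show z ^ 6 = 1 by
        rw [show 6 = 2 * 3 from rfl, pow_mul, pow_two, S.zz, one_pow], one_pow, one_mul, ← pow_mul,
        show k * 6 = 3 * (2 * k) by ring, pow_mul, S.p3, one_pow]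
    · rw [mul_assoc, (show Commute (z ^ j) (π ^ k * u) from
          hjc.mul_right ((show Commute z u from S.uz.symm).pow_left j)).mul_pow,
        pow_mul (π ^ k * u) 2 3, pow_two (π ^ k * u), hpu, one_pow, mul_one,
        ← pow_mul, show j * (2 * 3) = 2 * (3 * j) by ring, pow_mul, pow_two, S.zz, one_pow]
  have hi : s ^ i = 1 := S.s_pow_eq_one (n := 6) (by norm_num) hw6 hws (by
    rw [← mul_assoc, ← mul_assoc, show 6 = 2 * 3 from rfl, pow_mul, pow_two, hy, one_pow])
  rw [hi, one_mul] at hy hy1 ⊢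
  rcases pow_two_cases S.uu l with e | e <;> rw [e] at hy hy1 ⊢
  · rw [mul_one] at hy hy1 ⊢
    have hk : π ^ k = 1 := by
      rw [← pow_two, hjc.mul_pow, ← pow_mul, mul_comm, pow_mul, pow_two z, S.zz, one_pow, one_mul] at hy
      calc π ^ k = (π ^ k) ^ 2 * π ^ k := by rw [hy, one_mul]
        _ = 1 := by rw [← pow_succ, ← pow_mul, mul_comm, pow_mul, S.p3, one_pow]
    rw [hk, mul_one] at hy1 ⊢
    rcases pow_two_cases S.zz j with e | e <;> rw [e] at hy1 ⊢
    · exact absurd rfl hy1
    · exact Or.inl rfl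
  · rcases pow_two_cases S.zz j with e' | e' <;> rw [e']
    · exact Or.inr (Or.inl ⟨2 * k, by rw [one_mul]; exact S.pi_u k⟩)
    · refine Or.inr (Or.inr ⟨2 * k, ?_⟩)
      rw [mul_assoc, S.pi_u k, ← mul_assoc (π ^ (2 * k)) z, S.pi_z]
      group

/-- The involutions commuting with `z * u` and `s`. -/
theorem invol_t {y : G} (hy : y * y = 1) (hy1 : y ≠ 1) (hyt : y * (z * u) = z * u * y)
    (hys : y * s = s * y) : y = z * u ∨ y = x ∨ y = z * u * x ∨ y = z ∨ y = u := by
  obtain ⟨i, a, b, c, rfl⟩ := S.ct y hyt hys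
  have ct : Commute (z * u) s := S.ts
  have htx : Commute (z * u) x := S.xt.symm
  have htz : Commute (z * u) z := S.zt.symm
  have hxz2 : x * z * (x * z) = z * u := by
    rw [show x * z * (x * z) = x * (z * x * z) by group, S.zx, ← mul_assoc, S.xx, one_mul]
  have htxz2 : z * u * x * z * (z * u * x * z) = z * u := by
    rw [show z * u * x * z * (z * u * x * z) = (z * u) * ((x * z) * (z * u)) * (x * z) by group,
      ((show Commute (z * u) x from htx).mul_right htz).symm.eq, ← mul_assoc (z * u), S.tt, one_mul, hxz2]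
  have hws : (z * u) ^ a * x ^ b * z ^ c * s = s * ((z * u) ^ a * x ^ b * z ^ c) :=
    ((ct.pow_left a).mul_left ((show Commute x s from S.xs).pow_left b)
      |>.mul_left ((show Commute z s from S.zs).pow_left c)).eq
  have hsq : ∀ {w : G}, w * w = 1 → w ^ 4 = 1 := fun {w} hw => by
    rw [show 4 = 2 * 2 from rfl, pow_mul, pow_two w, hw, one_pow]
  have h4 : ∀ {w : G}, w * w = z * u → w ^ 4 = 1 := fun {w} hw => by
    rw [show 4 = 2 * 2 from rfl, pow_mul, pow_two w, hw, pow_two, S.tt]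
  have htx2 : z * u * x * (z * u * x) = 1 := by
    rw [← pow_two, htx.mul_pow, pow_two, pow_two, S.tt, S.xx, one_mul]
  have htz2 : z * u * z * (z * u * z) = 1 := by rw [S.tz, S.uu]
  have hi : s ^ i = 1 := by
    refine S.s_pow_eq_one (n := 4) (by norm_num) ?_ hws (by
      rw [← mul_assoc, ← mul_assoc]; exact hsq hy)
    rcases pow_two_cases S.tt a with e | e <;> rw [e] <;>
      rcases pow_two_cases S.xx b with e' | e' <;> rw [e'] <;>
      rcases pow_two_cases S.zz c with e'' | e'' <;> rw [e''] <;>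
      (try simp only [one_mul, mul_one])
    exacts [one_pow 4, hsq S.zz, hsq S.xx, h4 hxz2, hsq S.tt, hsq htz2, hsq htx2, h4 htxz2]
  rw [hi, one_mul] at hy hy1 ⊢
  rcases pow_two_cases S.tt a with e | e <;> rw [e] at hy hy1 ⊢ <;>
    rcases pow_two_cases S.xx b with e' | e' <;> rw [e'] at hy hy1 ⊢ <;>
    rcases pow_two_cases S.zz c with e'' | e'' <;> rw [e''] at hy hy1 ⊢ <;>
    simp only [one_mul, mul_one, ne_eq] at hy hy1 ⊢
  · exact absurd trivial hy1
  · simp
  · simp
  · rw [hxz2] at hy; exact absurd hy S.t1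
  · simp
  · exact Or.inr (Or.inr (Or.inr (Or.inr S.tz)))
  · simp
  · rw [htxz2] at hy; exact absurd hy S.t1

/-- The conjugate of `z * u` by `π` does not commute with it. -/
theorem tp_ne : z * u * (π * (z * u) * π⁻¹) ≠ π * (z * u) * π⁻¹ * (z * u) := by
  intro h
  have e : π * (z * u) * π⁻¹ = z * (π * u * π⁻¹) := by rw [← mul_assoc π, S.pz]; group
  have hu' : π * u * π⁻¹ = π * π * u := by
    rw [mul_assoc, mul_assoc π π]
    congr 1
    have := S.up' 1
    rw [pow_one] at this
    calc u * π⁻¹ = π * (π⁻¹ * u) * π⁻¹ := by group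
      _ = π * (u * π) * π⁻¹ := by rw [this]
      _ = _ := by group
  rw [e, hu'] at h
  have hzpu : Commute z (π * π * u) :=
    (((show Commute π z from S.pz).symm).mul_right (show Commute π z from S.pz).symm).mul_right
      (show Commute z u from S.uz.symm)
  have huu2 : u * (π * π * u) = π * π * u * u := by
    have l1 : z * u * (z * (π * π * u)) = u * (π * π * u) := by
      rw [← mul_assoc (z * u), S.tz]
    have l2 : z * (π * π * u) * (z * u) = π * π * u * u := by
      rw [hzpu.eq, mul_assoc (π * π * u), ← mul_assoc z z, S.zz, one_mul]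
    rw [← l1, ← l2]; exact h
  rw [mul_assoc (π * π), S.uu, mul_one, ← pow_two, ← mul_assoc, S.up', mul_assoc, S.uu, mul_one] at huu2
  have h4 : π ^ 4 = 1 := by
    rw [show 4 = 2 + 2 from rfl, pow_add]
    nth_rw 1 [← huu2]
    exact inv_mul_cancel _
  exact S.p1 (by rw [pow_succ, S.p3, one_mul] at h4; exact h4)

/-- `x` is conjugate to `z * u` in the centralizer of `s`. -/
theorem x_conj : ∃ c : G, c * s = s * c ∧ c * (z * u) * c⁻¹ = x := by
  classical
  by_contra hno
  have hps : Commute π s := S.ps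
  set C := Subgroup.centralizer ({s} : Set G)
  letI := Fintype.ofFinite ↥C
  have hmem : ∀ {g : G}, g * s = s * g → g ∈ C := fun h => Subgroup.mem_centralizer_singleton_iff.2 h
  set t' := π * (z * u) * π⁻¹ with ht'
  have ht's : t' * s = s * t' := conj_comm S.ps S.ts
  have ht'2 : t' * t' = 1 := by
    rw [ht', show π * (z * u) * π⁻¹ * (π * (z * u) * π⁻¹) = π * (z * u * (z * u)) * π⁻¹ by group, S.tt]
    group
  obtain ⟨v, hv1, hv2, hvm⟩ := J2Order.exists_invol_zpowers (x := (⟨x, hmem S.xs⟩ : ↥C))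
    (y := ⟨t', hmem ht's⟩) (Subtype.ext S.xx) (Subtype.ext ht'2) fun h => hno <| by
      obtain ⟨c, hc⟩ := isConj_iff.1 h.symm
      have hcs : (c : G) * π * s = s * ((c : G) * π) :=
        ((show Commute (c : G) s from Subgroup.mem_centralizer_singleton_iff.1 c.2).mul_left hps).eq
      refine ⟨(c : G) * π, hcs, ?_⟩
      have hc' : (c : G) * t' * (c : G)⁻¹ = x := congrArg Subtype.val hc
      rw [← hc', ht']
      group
  obtain ⟨hvx, hvt⟩ := mem_cent_of_zpowers' (Subtype.ext S.xx) (Subtype.ext ht'2) hv2 hvm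
  have hvx' : (v : G) * x = x * v := (congrArg Subtype.val hvx).symm
  have hvt' : (v : G) * t' = t' * v := (congrArg Subtype.val hvt).symm
  have hvs : (v : G) * s = s * v := Subgroup.mem_centralizer_singleton_iff.1 v.2
  have hv1' : (v : G) ≠ 1 := fun e => hv1 (Subtype.ext e)
  have hv2' : (v : G) * v = 1 := congrArg Subtype.val hv2
  obtain hvzu | hvzu := S.cx v hvx' hvs
  swap
  · refine hno ⟨z * v, ((show Commute z s from S.zs).mul_left hvs).eq, ?_⟩
    rw [show z * (v : G) * (z * u) * (z * v)⁻¹ = z * ((v : G) * (z * u) * (v : G)⁻¹) * z⁻¹ by group,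
      hvzu, S.z_inv, ← mul_assoc z, mul_assoc (z * x), S.zt.symm, ← mul_assoc (z * x), S.zx, mul_assoc x,
      S.tt, mul_one]
  have hvt0 : (v : G) * (z * u) = z * u * v := mul_inv_eq_iff_eq_mul.1 hvzu
  -- the conjugate of `v` by `π`
  have hws : π⁻¹ * (v : G) * π * s = s * (π⁻¹ * (v : G) * π) := by
    have := conj_comm (show Commute π⁻¹ s from hps.inv_left).eq hvs
    rwa [inv_inv] at this
  have hwt : π⁻¹ * (v : G) * π * (z * u) = z * u * (π⁻¹ * (v : G) * π) := by
    calc π⁻¹ * (v : G) * π * (z * u) = π⁻¹ * ((v : G) * t') * π := by rw [ht']; group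
      _ = π⁻¹ * (t' * v) * π := by rw [hvt']
      _ = _ := by rw [ht']; group
  have hw2 : π⁻¹ * (v : G) * π * (π⁻¹ * (v : G) * π) = 1 := by
    rw [show π⁻¹ * (v : G) * π * (π⁻¹ * (v : G) * π) = π⁻¹ * ((v : G) * v) * π by group, hv2']
    group
  have hw1 : π⁻¹ * (v : G) * π ≠ 1 := fun e => hv1' <| by
    rw [show (v : G) = π * (π⁻¹ * (v : G) * π) * π⁻¹ by group, e]; group
  have hcase := S.invol_t hw2 hw1 hwt hws
  have hz' : ∀ {y : G}, y * z = z * y → y * x = x * y → y ≠ z ∧ y ≠ u := fun {y} _ h2 =>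
    ⟨fun e => by rw [e] at h2; exact S.xnz h2.symm, fun e => by
      subst e
      refine S.t1 ((mul_eq_left (a := x)).1 ?_)
      calc x * (z * y) = z * y * x := S.xt
        _ = z * (x * y) := by rw [mul_assoc, h2]
        _ = z * x * z * (z * y) := by rw [← mul_assoc (z * x * z), mul_assoc (z * x), S.zz, mul_one, mul_assoc]
        _ = x * (z * y) * (z * y) := by rw [S.zx]
        _ = x := by rw [mul_assoc, S.tt, mul_one]⟩
  have hzπ : ∀ {y : G}, y * z ≠ z * y → π * z * y ≠ y * (π * z) := fun {y} hy h => by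
    have h4 : Commute ((π * z) ^ 4) y := (show Commute (π * z) y from h).pow_left 4
    rw [(show Commute π z from S.pz).mul_pow, show z ^ 4 = 1 by
        rw [show 4 = 2 * 2 from rfl, pow_mul, pow_two z, S.zz, one_pow],
      mul_one, pow_succ, S.p3, one_mul] at h4
    exact hy (S.cp y h4.eq.symm)
  have hzxz : z * x * z⁻¹ = z * u * x := by rw [S.z_inv, S.zx, S.xt]
  have hxu : x * u ≠ u * x := fun h => (hz' S.uz h.symm).2 rfl
  have hvc : (v : G) = π * (π⁻¹ * (v : G) * π) * π⁻¹ := by group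
  rcases S.invol_t hv2' hv1' hvt0 hvs with e | e | e | e | e
  · rw [e] at hvt'; exact S.tp_ne hvt'
  rotate_left 2
  · rw [e] at hvx'; exact S.xnz hvx'.symm
  · rw [e] at hvx'; exact hxu hvx'.symm
  all_goals
    have hvz : (v : G) * z ≠ z * v := by rw [e]; first | exact S.xnz | exact S.xtnz
    have hwz : π⁻¹ * (v : G) * π * z ≠ z * (π⁻¹ * (v : G) * π) := fun h => hvz <| by
      have h1 := conj_comm (c := π) S.pz h
      rwa [← hvc] at h1
    rcases hcase with k | k | k | k | k
  · exact hwz (by rw [k]; exact S.zt.symm)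
  · rw [k, e] at hvc
    exact S.xnz (S.cp x (eq_mul_inv_iff_mul_eq.1 hvc))
  · rw [k, e, ← hzxz] at hvc
    refine hzπ S.xnz (Eq.symm (eq_mul_inv_iff_mul_eq.1 (hvc.trans ?_)))
    group
  · exact hwz (by rw [k])
  · exact hwz (by rw [k]; exact S.uz)
  · exact hwz (by rw [k]; exact S.zt.symm)
  · rw [k, e, ← hzxz] at hvc
    refine hzπ S.xnz ?_
    have h1 : x = z * π * x * (z * π)⁻¹ := by
      calc x = z * (z * x * z⁻¹) * z⁻¹ := by
            rw [S.z_inv, show z * (z * x * z) * z = z * z * x * (z * z) by group, S.zz, one_mul, mul_one]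
        _ = z * (π * x * π⁻¹) * z⁻¹ := by rw [← hvc]
        _ = _ := by group
    rw [S.pz]
    exact (eq_mul_inv_iff_mul_eq.1 h1).symm
  · rw [k, e] at hvc
    exact S.xtnz (S.cp _ (eq_mul_inv_iff_mul_eq.1 hvc))
  · exact hwz (by rw [k])
  · exact hwz (by rw [k]; exact S.uz)

/-- **All involutions centralizing `s` are conjugate to `z` or to `z * u`.** -/
theorem invol_class {y : G} (hy : y * y = 1) (hy1 : y ≠ 1) (hys : y * s = s * y) :
    (∃ c : G, c * s = s * c ∧ c * z * c⁻¹ = y) ∨ ∃ c : G, c * s = s * c ∧ c * (z * u) * c⁻¹ = y := by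
  classical
  -- an involution commuting with `z`
  have keyz : ∀ {w : G}, w * w = 1 → w ≠ 1 → w * z = z * w → w * s = s * w →
      (∃ c : G, c * s = s * c ∧ c * z * c⁻¹ = w) ∨ ∃ c : G, c * s = s * c ∧ c * (z * u) * c⁻¹ = w := by
    intro w h1 h2 h3 h4
    rcases S.invol_z h1 h2 h3 h4 with e | ⟨m, e⟩ | ⟨m, e⟩
    · exact Or.inl ⟨1, by rw [one_mul, mul_one], by rw [e]; group⟩
    · exact Or.inl ⟨π ^ m * x, ((show Commute π s from S.ps).pow_left m).mul_left S.xs, by
        rw [e, ← S.xzx]; group⟩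
    · exact Or.inr ⟨π ^ m, S.pi_s m, e.symm⟩
  have keyt : ∀ {w : G}, w * w = 1 → w ≠ 1 → w * (z * u) = z * u * w → w * s = s * w →
      (∃ c : G, c * s = s * c ∧ c * z * c⁻¹ = w) ∨ ∃ c : G, c * s = s * c ∧ c * (z * u) * c⁻¹ = w := by
    intro w h1 h2 h3 h4
    obtain ⟨c, hc, hcx⟩ := S.x_conj
    rcases S.invol_t h1 h2 h3 h4 with e | e | e | e | e <;> rw [e]
    · exact Or.inr ⟨1, by rw [one_mul, mul_one], by group⟩
    · exact Or.inr ⟨c, hc, hcx⟩
    · refine Or.inr ⟨z * c, ((show Commute z s from S.zs).mul_left hc).eq, ?_⟩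
      calc z * c * (z * u) * (z * c)⁻¹ = z * (c * (z * u) * c⁻¹) * z⁻¹ := by group
        _ = z * u * x := by rw [hcx, S.z_inv, S.zx, S.xt]
    · exact Or.inl ⟨1, by rw [one_mul, mul_one], by group⟩
    · exact Or.inl ⟨x, S.xs, S.xzx⟩
  by_contra hno
  push Not at hno
  set C := Subgroup.centralizer ({s} : Set G)
  letI := Fintype.ofFinite ↥C
  have hmem : ∀ {g : G}, g * s = s * g → g ∈ C := fun h => Subgroup.mem_centralizer_singleton_iff.2 h
  obtain ⟨v, hv1, hv2, hvm⟩ := J2Order.exists_invol_zpowers (x := (⟨y, hmem hys⟩ : ↥C))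
    (y := ⟨z, hmem S.zs⟩) (Subtype.ext hy) (Subtype.ext S.zz) fun h => by
      obtain ⟨c, hc⟩ := isConj_iff.1 h.symm
      exact hno.1 c (Subgroup.mem_centralizer_singleton_iff.1 c.2) (congrArg Subtype.val hc)
  obtain ⟨hvy, hvz⟩ := mem_cent_of_zpowers' (Subtype.ext hy) (Subtype.ext S.zz) hv2 hvm
  have hvy' : y * (v : G) = v * y := congrArg Subtype.val hvy
  have hvz' : (v : G) * z = z * v := (congrArg Subtype.val hvz).symm
  have hvs : (v : G) * s = s * v := Subgroup.mem_centralizer_singleton_iff.1 v.2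
  -- transport to the commuting case
  have back : ∀ {d w : G}, d * s = s * d → d * w * d⁻¹ = v →
      (∀ {y' : G}, y' * y' = 1 → y' ≠ 1 → y' * w = w * y' → y' * s = s * y' →
        (∃ c : G, c * s = s * c ∧ c * z * c⁻¹ = y') ∨ ∃ c : G, c * s = s * c ∧ c * (z * u) * c⁻¹ = y') →
      False := by
    intro d w hd hdw key
    have hy' : d⁻¹ * y * d * s = s * (d⁻¹ * y * d) := by
      have := conj_comm (show Commute d⁻¹ s from (show Commute d s from hd).inv_left).eq hys
      rwa [inv_inv] at this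
    rcases key (y' := d⁻¹ * y * d) (by
        rw [show d⁻¹ * y * d * (d⁻¹ * y * d) = d⁻¹ * (y * y) * d by group, hy]; group)
      (fun e => hy1 (by rw [show y = d * (d⁻¹ * y * d) * d⁻¹ by group, e]; group))
      (by
        rw [show w = d⁻¹ * (v : G) * d by rw [← hdw]; group]
        calc d⁻¹ * y * d * (d⁻¹ * (v : G) * d) = d⁻¹ * (y * v) * d := by group
          _ = _ := by rw [hvy']; group) hy' with ⟨c, hc, hce⟩ | ⟨c, hc, hce⟩
    · exact hno.1 (d * c) ((show Commute d s from hd).mul_left hc).eq (by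
        rw [show d * c * z * (d * c)⁻¹ = d * (c * z * c⁻¹) * d⁻¹ by group, hce]; group)
    · exact hno.2 (d * c) ((show Commute d s from hd).mul_left hc).eq (by
        rw [show d * c * (z * u) * (d * c)⁻¹ = d * (c * (z * u) * c⁻¹) * d⁻¹ by group, hce]; group)
  rcases S.invol_z (congrArg Subtype.val hv2) (fun e => hv1 (Subtype.ext e)) hvz' hvs with e | ⟨m, e⟩ | ⟨m, e⟩
  · exact back (d := 1) (by rw [one_mul, mul_one]) (by rw [e]; group) keyz
  · exact back (d := π ^ m * x) (((show Commute π s from S.ps).pow_left m).mul_left S.xs).eq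
      (by rw [e, ← S.xzx]; group) keyz
  · exact back (d := π ^ m) (S.pi_s m) e.symm keyt

end Seven

end CfsgLib.JFourLocal
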