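import Cfsg.Agent.Lib.J2Order.Formula
import Cfsg.Agent.Lib.JFour.VCentT
import Cfsg.Agent.Lib.JFourLocal.SevenInv
import Cfsg.Agent.Lib.JFourLocal.FiveConj
import Cfsg.Agent.Lib.JFourLocal.FiveLoc

/-!
# The data of the element of order five

The conjugates of `z` in its centralizer are the seven members of the elementary subgroup, the
centralizer of `z` there has order 960.
-/

set_option autoImplicit false
set_option maxRecDepth 100000
set_option linter.style.haveILetI false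
set_option linter.unusedSectionVars false

open Cfsg
open scoped Classical

namespace CfsgLib.JFourLocal

open CfsgLib.JFour CfsgLib.JFour.Ctx

variable {G : Type*} [Group G] [Finite G] {M : Type*} [Group M] [Finite M] {z π : G} {E : Subgroup G}

section Std

variable {J : Ctx M z π E} {g : ℕ → M} {vec : ℕ → G} {V : Subgroup G} (D : J.Std g vec V) {q : G}
  (Q : FiveEl z π vec q) {A : Subgroup G} (hA : IsFiveA z vec A) (FF : FiveFacts M)
include D Q hA FF

/-- A conjugate of `z` in the centralizer of `z` and `q` lies in `A`. -/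
theorem mem_A_of_comm {v : G} (hvz : v * z = z * v) (hvq : v * q = q * v) (hv : IsConj z v) : v ∈ A := by
  have h2 : v * v = 1 := by
    obtain ⟨c, rfl⟩ := isConj_iff.1 hv
    rw [show c * z * c⁻¹ * (c * z * c⁻¹) = c * (z * z) * c⁻¹ by group, J.zz]; group
  by_cases hH : v ∈ H0 z π E
  · exact mem_A_of_conj D Q hA (mem_E_of_four D Q FF hH hvq
      (by rw [show 4 = 2 * 2 from rfl, pow_mul, show v ^ 2 = 1 by rw [pow_two, h2], one_pow])) hv
  · obtain ⟨c, -, n, hn, hr⟩ := outer_conj_five D Q hA FF hvz hvq h2 hH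
    exact absurd (hv.trans (isConj_iff.2 ⟨c⁻¹, by group⟩)) (kindB D hn hr).1

/-- The class of `z` in the centralizer of `q` lies in `A`. -/
theorem class_mem_A {x : G} (hx : x * q = q * x) : x * z * x⁻¹ ∈ A := by
  obtain ⟨hqz, -⟩ := q_comm D Q
  set z' := x * z * x⁻¹ with hz'
  have hz'q : z' * q = q * z' :=
    (((show Commute x q from hx).mul_left (show Commute z q from hqz.symm)).mul_left
      (show Commute x q from hx).inv_left).eq
  have hz'c : IsConj z z' := isConj_iff.2 ⟨x, rfl⟩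
  have hz'2 : z' * z' = 1 := by
    rw [hz', show x * z * x⁻¹ * (x * z * x⁻¹) = x * (z * z) * x⁻¹ by group, J.zz]; group
  have h260 := comm_of_list D Q (n := 260) (Or.inr (by decide)) (J.rel_refl _)
  obtain ⟨h260E, h260q⟩ := mem_fiveO.1 h260
  obtain ⟨hnB, -, h2602, -⟩ := kindB D (n := 260) (by decide) (J.rel_refl (vec 260))
  set CC := Subgroup.centralizer ({q} : Set G)
  letI : Fintype ↥CC := Fintype.ofFinite _
  let t0 : ↥CC := ⟨vec 260, Subgroup.mem_centralizer_singleton_iff.2 h260q⟩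
  let w : ↥CC := ⟨z', Subgroup.mem_centralizer_singleton_iff.2 hz'q⟩
  obtain ⟨v, hv1, hv2, hvp⟩ := CfsgLib.J2Order.exists_invol_zpowers (x := t0) (y := w) (Subtype.ext h2602)
    (Subtype.ext hz'2) fun h => hnB (hz'c.trans (by
      obtain ⟨c, hc⟩ := isConj_iff.1 h.symm
      exact isConj_iff.2 ⟨(c : G), congrArg Subtype.val hc⟩))
  obtain ⟨hvt, hvw⟩ := mem_cent_of_zpowers' (x := t0) (y := w) (Subtype.ext h2602) (Subtype.ext hz'2) hv2 hvp
  have hvq : (v : G) * q = q * v := Subgroup.mem_centralizer_singleton_iff.1 v.2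
  have hvt' : (v : G) * vec 260 = vec 260 * v := (congrArg Subtype.val hvt).symm
  have hvw' : z' * (v : G) = v * z' := congrArg Subtype.val hvw
  have hv2' : (v : G) * v = 1 := congrArg Subtype.val hv2
  obtain ⟨-, e, he, -, i, hei⟩ := cent_seed D Q FF hvq hvt'
  have hq5 := q_pow D Q
  have hvO : (v : G) ∈ fiveO E q := by
    obtain ⟨heE, heq⟩ := mem_fiveO.1 he
    have h4 : e ^ 4 = 1 := by
      rw [show 4 = 2 * 2 from rfl, pow_mul, pow_two, pow_two]
      rcases J.s.sq_cases heE with k | k <;> rw [k]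
      exacts [one_mul 1, J.zz]
    have h : (q ^ i) ^ 4 = 1 := by
      have := congrArg (· ^ 4) hei
      simp only [((show Commute e q from heq).pow_right i).mul_pow, h4, one_mul] at this
      rw [← this, show 4 = 2 * 2 from rfl, pow_mul, show (v : G) ^ 2 = 1 by rw [pow_two, hv2'], one_pow]
    have h5 : (q ^ i) ^ 5 = 1 := by rw [← pow_mul, mul_comm, pow_mul, hq5, one_pow]
    have hq1 : q ^ i = 1 := by simpa using pow_gcd_eq_one.2 ⟨h, h5⟩
    rw [hei, hq1, mul_one]
    exact he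
  rcases invol_O D Q hA hvO hv2' with hvA | ⟨n, hn, hr⟩
  · obtain ⟨c, hcq, hcz, hcA⟩ := exists_move_five D Q hA FF hvA (fun k => hv1 (Subtype.ext k))
    have hciq : Commute c⁻¹ q := (show Commute c q from hcq).inv_left
    have h1 : c⁻¹ * z' * c ∈ A := mem_A_of_comm D Q hA FF (by
      calc c⁻¹ * z' * c * z = c⁻¹ * (z' * (c * z * c⁻¹)) * c := by group
        _ = c⁻¹ * ((c * z * c⁻¹) * z') * c := by rw [hcz, hvw']
        _ = _ := by group)
      ((hciq.mul_left hz'q).mul_left hcq).eq (hz'c.trans (isConj_iff.2 ⟨c⁻¹, by group⟩))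
    have := hcA _ h1
    rwa [show c * (c⁻¹ * z' * c) * c⁻¹ = z' by group] at this
  · exact mem_A_of_comm D Q hA FF (cent_B D Q FF hn hr hz'q hvw').1 hz'q hz'c

theorem conj_A {x a : G} (hx : x * q = q * x) (ha : a ∈ A) : x * a * x⁻¹ ∈ A := by
  by_cases h1 : a = 1
  · rw [h1, mul_one, mul_inv_cancel]; exact A.one_mem
  obtain ⟨c, hcq, hcz, -⟩ := exists_move_five D Q hA FF ha h1
  rw [← hcz, show x * (c * z * c⁻¹) * x⁻¹ = x * c * z * (x * c)⁻¹ by group]
  exact class_mem_A D Q hA FF ((show Commute x q from hx).mul_left hcq).eq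

omit hA in
/-- The part in `H0`. -/
theorem card_cent_H0 : Nat.card ↥(Subgroup.centralizer ({q} : Set G) ⊓ H0 z π E) = 480 := by
  obtain ⟨hqz, hqp⟩ := q_comm D Q
  have hq5 := q_pow D Q
  let F : Fin 5 × Fin 3 × ↥(fiveO E q) → ↥(Subgroup.centralizer ({q} : Set G) ⊓ H0 z π E) := fun u =>
    ⟨u.2.2 * q ^ (u.1 : ℕ) * π ^ (u.2.1 : ℕ), Subgroup.mem_inf.2 ⟨Subgroup.mem_centralizer_singleton_iff.2
      (((show Commute (u.2.2 : G) q from (mem_fiveO.1 u.2.2.2).2).mul_left ((Commute.refl q).pow_left _)).mul_left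
        ((show Commute π q from hqp.symm).pow_left _)).eq,
      mul_mem (mul_mem (E_le_H0 z π E (mem_fiveO.1 u.2.2.2).1) (pow_mem (CZ_le_H0 z π E Q.mem) _))
        (pow_mem (CZ_le_H0 z π E J.pi_mem_CZ) _)⟩⟩
  have hF : Function.Bijective F := by
    constructor
    · rintro ⟨i, k, e⟩ ⟨i', k', e'⟩ h
      have h' : (e : G) * q ^ (i : ℕ) * π ^ (k : ℕ) = e' * q ^ (i' : ℕ) * π ^ (k' : ℕ) := congrArg Subtype.val h
      set c := q ^ (i : ℕ) * π ^ (k : ℕ) * (q ^ (i' : ℕ) * π ^ (k' : ℕ))⁻¹ with hc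
      have hce : c = (e : G)⁻¹ * e' := by
        calc c = (e : G)⁻¹ * ((e : G) * q ^ (i : ℕ) * π ^ (k : ℕ)) * (q ^ (i' : ℕ) * π ^ (k' : ℕ))⁻¹ := by rw [hc]; group
          _ = _ := by rw [h']; group
      have hcE : c ∈ E := hce ▸ E.mul_mem (E.inv_mem (mem_fiveO.1 e.2).1) (mem_fiveO.1 e'.2).1
      have hcC : c ∈ CZ z π := mul_mem (mul_mem (pow_mem Q.mem _) (pow_mem J.pi_mem_CZ _))
        (inv_mem (mul_mem (pow_mem Q.mem _) (pow_mem J.pi_mem_CZ _)))
      have hqp' : ∀ a b : ℕ, (q ^ a * π ^ b) ^ 15 = 1 := fun a b => by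
        rw [((show Commute q π from hqp).pow_pow a b).mul_pow, ← pow_mul, ← pow_mul,
          show a * 15 = 5 * (3 * a) by ring, show b * 15 = 3 * (5 * b) by ring, pow_mul, pow_mul π, hq5,
          J.pi_pow_three, one_pow, one_pow, mul_one]
      have hcomm : Commute (q ^ (i : ℕ) * π ^ (k : ℕ)) (q ^ (i' : ℕ) * π ^ (k' : ℕ)) :=
        (((Commute.refl q).pow_pow _ _).mul_right ((show Commute q π from hqp).pow_pow _ _)).mul_left
          ((((show Commute π q from hqp.symm)).pow_pow _ _).mul_right ((Commute.refl π).pow_pow _ _))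
      have hc15 : c ^ 15 = 1 := by
        rw [hc, hcomm.inv_right.mul_pow, inv_pow, hqp', hqp', inv_one, mul_one]
      have hc1 : c = 1 := by
        refine (J.eq_center_of_mem_E hcC hcE).resolve_right fun w => ?_
        rw [w, show 15 = 2 * 7 + 1 from rfl, pow_succ, pow_mul, pow_two, J.zz, one_pow, one_mul] at hc15
        exact J.z_ne hc15
      rw [hc1, eq_comm, inv_mul_eq_one] at hce
      rw [hc, mul_inv_eq_one] at hc1
      -- separate the powers
      set x := (q ^ (i' : ℕ))⁻¹ * q ^ (i : ℕ) with hx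
      have hxp : x = π ^ (k' : ℕ) * (π ^ (k : ℕ))⁻¹ := by
        rw [hx, eq_mul_inv_iff_mul_eq, mul_assoc, hc1, inv_mul_cancel_left]
      have hx5 : x ^ 5 = 1 := by
        rw [hx, (((Commute.refl q).pow_pow _ _).inv_left).mul_pow, inv_pow, ← pow_mul, ← pow_mul, mul_comm (i' : ℕ),
          mul_comm (i : ℕ), pow_mul, pow_mul, hq5, one_pow, one_pow, inv_one, mul_one]
      have hx3 : x ^ 3 = 1 := by
        rw [hxp, (((Commute.refl π).pow_pow _ _).inv_right).mul_pow, inv_pow, ← pow_mul, ← pow_mul,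
          mul_comm (k' : ℕ), mul_comm (k : ℕ), pow_mul, pow_mul, J.pi_pow_three, one_pow, one_pow, inv_one, mul_one]
      have hx1 : x = 1 := by simpa using pow_gcd_eq_one.2 ⟨hx5, hx3⟩
      have hi : i = i' := by
        rw [hx, inv_mul_eq_one, pow_eq_pow_iff_modEq, Q.ord] at hx1
        exact Fin.ext (hx1.eq_of_lt_of_lt i'.2 i.2).symm
      have hk : k = k' := by
        rw [hx1, eq_comm, mul_inv_eq_one, pow_eq_pow_iff_modEq, J.orderOf_pi] at hxp
        exact Fin.ext (hxp.eq_of_lt_of_lt k'.2 k.2).symm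
      exact Prod.ext hi (Prod.ext hk (Subtype.ext hce))
    · rintro ⟨y, hy⟩
      obtain ⟨hyq, hyH⟩ := Subgroup.mem_inf.1 hy
      obtain ⟨e, he, i, k, rfl⟩ := cent_H0 D Q FF hyH (Subgroup.mem_centralizer_singleton_iff.1 hyq)
      refine ⟨(⟨i % 5, Nat.mod_lt _ (by norm_num)⟩, ⟨k % 3, Nat.mod_lt _ (by norm_num)⟩, ⟨e, he⟩),
        Subtype.ext ?_⟩
      show e * q ^ (i % 5) * π ^ (k % 3) = e * q ^ i * π ^ k
      rw [← pow_mod_five Q.ord, ← J.orderOf_pi, pow_mod_orderOf]
  rw [← Nat.card_congr (Equiv.ofBijective F hF), Nat.card_prod, Nat.card_prod, card_O D Q, Nat.card_fin,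
    Nat.card_fin]

omit hA in
theorem card_cent_z :
    Nat.card ↥(Subgroup.centralizer ({q} : Set G) ⊓ Subgroup.centralizer ({z} : Set G)) = 960 := by
  obtain ⟨f, hfC, -, hf⟩ := exists_four_el J D.small D.full.Mo Q
  obtain ⟨y, hyz, hyq, hy⟩ := exists_outer_five J FF Q hfC hf
  set K := Subgroup.centralizer ({q} : Set G) ⊓ Subgroup.centralizer ({z} : Set G)
  set K0 := Subgroup.centralizer ({q} : Set G) ⊓ H0 z π E
  have hle : K0 ≤ K := inf_le_inf le_rfl J.H0_le
  have hyK : y ∈ K := Subgroup.mem_inf.2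
    ⟨Subgroup.mem_centralizer_singleton_iff.2 hyq, Subgroup.mem_centralizer_singleton_iff.2 hyz⟩
  let F : Bool × ↥K0 → ↥K := fun u =>
    if u.1 then ⟨u.2 * y, K.mul_mem (hle u.2.2) hyK⟩ else ⟨u.2, hle u.2.2⟩
  have hF : Function.Bijective F := by
    constructor
    · rintro ⟨b, k⟩ ⟨b', k'⟩ h
      have hk : (k : G) ∈ H0 z π E := (Subgroup.mem_inf.1 k.2).2
      have hk' : (k' : G) ∈ H0 z π E := (Subgroup.mem_inf.1 k'.2).2
      cases b <;> cases b' <;> simp only [F, Bool.false_eq_true, ↓reduceIte, Subtype.mk.injEq] at h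
      · exact Prod.ext rfl (Subtype.ext h)
      · refine absurd ?_ hy
        rw [show y = (k' : G)⁻¹ * k by rw [h, inv_mul_cancel_left]]
        exact (H0 z π E).mul_mem ((H0 z π E).inv_mem hk') hk
      · refine absurd ?_ hy
        rw [show y = (k : G)⁻¹ * k' by rw [← h, inv_mul_cancel_left]]
        exact (H0 z π E).mul_mem ((H0 z π E).inv_mem hk) hk'
      · exact Prod.ext rfl (Subtype.ext (mul_right_cancel h))
    · rintro ⟨x, hx⟩
      obtain ⟨hxq, hxz⟩ := Subgroup.mem_inf.1 hx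
      by_cases hxH : x ∈ H0 z π E
      · exact ⟨(false, ⟨x, Subgroup.mem_inf.2 ⟨hxq, hxH⟩⟩), rfl⟩
      · have hy' : y⁻¹ ∉ H0 z π E := fun h => hy (inv_mem_iff.1 h)
        have hm := J.mul_mem_H0 (Subgroup.mem_centralizer_singleton_iff.1 hxz)
          ((show Commute y z from hyz).inv_left).eq hxH hy'
        exact ⟨(true, ⟨x * y⁻¹, Subgroup.mem_inf.2 ⟨mul_mem hxq (inv_mem (Subgroup.mem_inf.1 hyK).1), hm⟩⟩),
          Subtype.ext (inv_mul_cancel_right x y)⟩
  rw [← Nat.card_congr (Equiv.ofBijective F hF), Nat.card_prod, card_cent_H0 D Q FF, Nat.card_eq_fintype_card,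
    Fintype.card_bool]

theorem card_cent : Nat.card ↥(Subgroup.centralizer ({q} : Set G)) = 6720 := by
  have h := card_orbit_mul (Subgroup.centralizer ({q} : Set G)) z
  rw [card_cent_z D Q FF] at h
  have hset : {v : G | ∃ x ∈ Subgroup.centralizer ({q} : Set G), x * z * x⁻¹ = v} = (A : Set G) \ {1} := by
    ext v
    constructor
    · rintro ⟨x, hx, rfl⟩
      exact ⟨class_mem_A D Q hA FF (Subgroup.mem_centralizer_singleton_iff.1 hx),
        fun e => conj_ne_one J.z_ne (isConj_iff.2 ⟨x, rfl⟩) e⟩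
    · rintro ⟨hv, hv1⟩
      obtain ⟨c, hcq, hcz, -⟩ := exists_move_five D Q hA FF hv hv1
      exact ⟨c, Subgroup.mem_centralizer_singleton_iff.2 hcq, hcz⟩
  rw [hset, Set.ncard_diff_singleton_of_mem A.one_mem, ← Nat.card_coe_set_eq, SetLike.coe_sort_coe,
    card_A D Q hA] at h
  omega

theorem cent_A_all {x : G} (hx : x * q = q * x) (hA' : ∀ a ∈ A, x * a = a * x) :
    ∃ a ∈ A, ∃ i : ℕ, x = a * q ^ i := by
  have hxz : x * z = z * x := hA' z (z_mem_A D Q hA)
  have hH : x ∈ H0 z π E := by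
    by_contra hn
    obtain ⟨b, hb, hnb⟩ := outer_moves D Q hA hxz hn
    exact hnb (Or.inl (by rw [hA' b hb, mul_inv_cancel_right]))
  obtain ⟨e, he, i, k, rfl⟩ := cent_H0 D Q FF hH hx
  obtain ⟨hqz, hqp⟩ := q_comm D Q
  obtain ⟨heE, heq⟩ := mem_fiveO.1 he
  have hk : π ^ k = 1 := by
    have h1092 : vec 1092 ∈ A := (hA _).2 ⟨1092, Or.inr (by decide), J.rel_refl _⟩
    obtain ⟨hbE, hbq⟩ := mem_fiveO.1 (A_le D Q hA h1092)
    have hv := D.vec_ne (n := 1092) (by norm_num) (by norm_num)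
    set b := vec 1092
    have h4 : Rel z (π ^ k * b * (π ^ k)⁻¹) b := by
      have hmove : Rel z (π ^ k * b * (π ^ k)⁻¹) (e⁻¹ * b * e) := Or.inl (by
        calc π ^ k * b * (π ^ k)⁻¹ = (q ^ i)⁻¹ * e⁻¹ * (e * q ^ i * π ^ k * b * (e * q ^ i * π ^ k)⁻¹) * e * q ^ i := by group
          _ = (q ^ i)⁻¹ * (e⁻¹ * b * e) * q ^ i := by rw [hA' b h1092, mul_inv_cancel_right]; group
          _ = _ := by
            rw [mul_assoc, ((((show Commute e q from heq).inv_left).mul_left (show Commute b q from hbq)).mul_left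
              (show Commute e q from heq)).pow_right i |>.eq, inv_mul_cancel_left])
      have h2 := J.rel_conj_E (E.inv_mem heE) hbE
      rw [inv_inv] at h2
      exact J.rel_trans hmove h2
    have hne : ∀ {a : G}, Rel z (a * b * a⁻¹) b → a = π ∨ a = π⁻¹ → False := by
      intro a ha hcase
      have hr : Rel z (π * b * π⁻¹) b := by
        rcases hcase with rfl | rfl
        · exact ha
        · have := J.rel_conj J.piz ha
          rw [show π * (π⁻¹ * b * π⁻¹⁻¹) * π⁻¹ = b by group] at this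
          exact J.rel_symm this
      rcases J.fpf_rel hbE hr with w | w
      · exact hv.1 w
      · exact hv.2 (w.trans (mul_one z))
    have hk3 : π ^ k = π ^ (k % 3) := by rw [← J.orderOf_pi, pow_mod_orderOf]
    have hlt : k % 3 < 3 := Nat.mod_lt _ (by norm_num)
    interval_cases hk' : k % 3
    · rw [hk3, pow_zero]
    · rw [hk3, pow_one] at h4; exact (hne h4 (Or.inl rfl)).elim
    · rw [hk3, pow_two, ← J.pi_inv] at h4; exact (hne h4 (Or.inr rfl)).elim
  rw [hk, mul_one] at hA' ⊢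
  refine ⟨e, cent_A D Q hA he fun a ha => ?_, i, rfl⟩
  have hqa : Commute (q ^ i) a := (show Commute q a from (mem_fiveO.1 (A_le D Q hA ha)).2.symm).pow_left i
  refine mul_right_cancel (b := q ^ i) ?_
  calc a * e * q ^ i = e * q ^ i * a := by rw [mul_assoc, hA' a ha]
    _ = e * a * q ^ i := by rw [mul_assoc, hqa.eq, mul_assoc]

/-- The centralizers of the involutions outside `A`. -/
theorem invol_small {k : G} (hkq : k * q = q * k) (hk2 : k * k = 1) (hkA : k ∉ A) {v : G} (hv : v ∈ A)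
    (hv1 : v ≠ 1) (hkv : k * v = v * k) :
    Nat.card ↥(Subgroup.centralizer ({q} : Set G) ⊓ Subgroup.centralizer ({k} : Set G)) ≤ 80 := by
  obtain ⟨c1, hc1q, hc1z, -⟩ := exists_move_five D Q hA FF hv hv1
  set k1 := c1⁻¹ * k * c1 with hk1
  have hk1z : k1 * z = z * k1 := by
    calc k1 * z = c1⁻¹ * (k * (c1 * z * c1⁻¹)) * c1 := by rw [hk1]; group
      _ = c1⁻¹ * ((c1 * z * c1⁻¹) * k) * c1 := by rw [hc1z, hkv]
      _ = _ := by rw [hk1]; group
  have hk1q : k1 * q = q * k1 :=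
    ((((show Commute c1 q from hc1q).inv_left).mul_left hkq).mul_left hc1q).eq
  have hk12 : k1 * k1 = 1 := by
    rw [hk1, show c1⁻¹ * k * c1 * (c1⁻¹ * k * c1) = c1⁻¹ * (k * k) * c1 by group, hk2]; group
  obtain ⟨c, hcq, n, hn, hr⟩ : ∃ c : G, c * q = q * c ∧ ∃ n ∈ fixB, Rel z (c⁻¹ * k * c) (vec n) := by
    by_cases hH : k1 ∈ H0 z π E
    · have hO := mem_E_of_four D Q FF hH hk1q
        (by rw [show 4 = 2 * 2 from rfl, pow_mul, show k1 ^ 2 = 1 by rw [pow_two, hk12], one_pow])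
      refine ⟨c1, hc1q, (invol_O D Q hA hO hk12).resolve_left fun w => hkA ?_⟩
      have := conj_A D Q hA FF hc1q w
      rwa [show c1 * k1 * c1⁻¹ = k by rw [hk1]; group] at this
    · obtain ⟨c2, hc2q, n, hn, hr⟩ := outer_conj_five D Q hA FF hk1z hk1q hk12 hH
      refine ⟨c1 * c2, ((show Commute c1 q from hc1q).mul_left hc2q).eq, n, hn, ?_⟩
      rwa [show (c1 * c2)⁻¹ * k * (c1 * c2) = c2⁻¹ * k1 * c2 by rw [hk1]; group]
  set t := c⁻¹ * k * c with ht
  have h16 : Nat.card ↥(fiveO E q ⊓ Subgroup.centralizer ({t} : Set G)) = 16 :=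
    card_O_cent D Q (fixB_fix hn).1 hr (beq_iff_eq.1 (List.all_eq_true.1 five_perpB n hn))
  let F : ↥(Subgroup.centralizer ({q} : Set G) ⊓ Subgroup.centralizer ({k} : Set G)) →
      ↥(fiveO E q ⊓ Subgroup.centralizer ({t} : Set G)) × Fin 5 := fun y => by
    have hyq := Subgroup.mem_centralizer_singleton_iff.1 (Subgroup.mem_inf.1 y.2).1
    have hyk := Subgroup.mem_centralizer_singleton_iff.1 (Subgroup.mem_inf.1 y.2).2
    have h : ∃ e : ↥(fiveO E q ⊓ Subgroup.centralizer ({t} : Set G)), ∃ i : Fin 5,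
        c⁻¹ * (y : G) * c = e * q ^ (i : ℕ) := by
      obtain ⟨-, e, he, het, i, hei⟩ := cent_B D Q FF hn hr (y := c⁻¹ * (y : G) * c)
        ((((show Commute c q from hcq).inv_left).mul_left hyq).mul_left hcq).eq
        (by
          calc c⁻¹ * (y : G) * c * t = c⁻¹ * ((y : G) * k) * c := by rw [ht]; group
            _ = _ := by rw [hyk, ht]; group)
      exact ⟨⟨e, Subgroup.mem_inf.2 ⟨he, Subgroup.mem_centralizer_singleton_iff.2 het⟩⟩,
        ⟨i % 5, Nat.mod_lt _ (by norm_num)⟩, hei.trans (by rw [pow_mod_five Q.ord i])⟩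
    exact (h.choose, h.choose_spec.choose)
  have hFs : ∀ y : ↥(Subgroup.centralizer ({q} : Set G) ⊓ Subgroup.centralizer ({k} : Set G)), c⁻¹ * (y : G) * c = ((F y).1 : G) * q ^ ((F y).2 : ℕ) := fun y => by
    simp only [F]
    generalize_proofs p1 p2 p3
    exact p1.choose_spec.choose_spec
  refine (Nat.card_le_card_of_injective F fun y y' e => Subtype.ext ?_).trans (le_of_eq ?_)
  · exact mul_left_cancel (mul_right_cancel ((hFs y).trans (by rw [e]; exact (hFs y').symm)))
  · rw [Nat.card_prod, h16, Nat.card_fin]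

omit hA in
/-- **The data.** -/
theorem exists_fiveLoc : ∃ (f : G) (A : Subgroup G), FiveLoc q f A := by
  obtain ⟨A, hA⟩ := exists_fiveA D Q
  obtain ⟨f, -, hf4, hf⟩ := exists_four_el J D.small D.full.Mo Q
  exact ⟨f, A,
    { q5 := Q.ord
      f4 := hf4
      fq := hf
      card := card_cent D Q hA FF
      A8 := card_A D Q hA
      Asq := fun a ha => A_sq D Q hA ha
      Ac := fun a ha => (mem_fiveO.1 (A_le D Q hA ha)).2
      Anorm := fun x hx a ha => conj_A D Q hA FF hx ha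
      Acent := fun x hx h => cent_A_all D Q hA FF hx h
      small := fun k h1 h2 h3 v h4 h5 h6 => invol_small D Q hA FF h1 h2 h3 h4 h5 h6 }⟩

end Std

end CfsgLib.JFourLocal
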