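import Cfsg.Agent.Lib.M22Order.Counts
import Cfsg.Agent.Lib.JFourLocal.FiveCount
import Cfsg.Agent.Lib.JFourLocal.SevenSetup

/-!
# A subgroup of order five of `C(z)` with its data
-/

set_option autoImplicit false
set_option maxRecDepth 100000
set_option linter.style.haveILetI false
set_option linter.unusedSectionVars false

open Cfsg

namespace CfsgLib.JFourLocal

open CfsgLib.JFour CfsgLib.JFour.Ctx

variable {G : Type*} [Group G] [Finite G] [IsSimpleGroup G]

theorem exists_fiveLoc_at (hG : ¬ IsMulCommutative G) {z : G} (hJ : IsOfJankoFourTypeAt z) {x : G}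
    (hx : orderOf x = 5) (hxz : x * z = z * x) : ∃ (f : G) (A : Subgroup G), FiveLoc x f A := by
  classical
  haveI := Fact.mk Nat.prime_two
  obtain ⟨P, hP⟩ := hJ
  obtain ⟨π, -, J, g, vec, S⟩ := exists_full hG hP
  set E := twoCoreOfCentralizer z with hE
  have hU := unique11_of_type (G := G) ⟨z, P, hP⟩
  obtain ⟨V, hV⟩ := S.exists_isV
  have D : J.Std g vec V := ⟨S, hV, hU⟩
  haveI := CfsgLib.M22Order.Counts.isSimple_M22
  have FF : FiveFacts ↥Cfsg.Spor.M22 :=
    five_facts (CfsgLib.M22Order.facts_of_card CfsgLib.M22Order.Counts.natCard_M22)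
  obtain ⟨q, Q⟩ := exists_five_el J FF.card D.full.Mo
  obtain ⟨f, hfC, -, hf⟩ := exists_four_el J D.small D.full.Mo Q
  obtain ⟨w, -, hw⟩ := exists_conj_five J FF Q hfC hf hx hxz
  obtain ⟨f', A, L⟩ := exists_fiveLoc D Q FF
  exact ⟨MulAut.conj w f', A.map (MulAut.conj w).toMonoidHom, hw ▸ L.map (MulAut.conj w)⟩

end CfsgLib.JFourLocal
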