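import Cfsg.Agent.Lib.JFour.Cent
import Cfsg.Agent.Lib.JFour.Core

/-!
# The four conjugates of `z` over a pair of commuting subgroups of order three

Every subgroup of order three of `⟨π, a'⟩` (`a' = h π h⁻¹`) has its own conjugate of `z`, the
unique central involution of its centralizer.  The three elements moved cyclically by a lift of a
three-element of `M` have product `z`, since otherwise a second such lift, fixing another of the
four, would carry this relation to a false one.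
-/

set_option autoImplicit false
set_option linter.style.haveILetI false
set_option linter.unusedSectionVars false

open Cfsg

namespace CfsgLib.JFourLocal

open CfsgLib.JFour

variable {G : Type*} [Group G] [Finite G] {M : Type*} [Group M] [Finite M] {z π : G} {E : Subgroup G}

/-- The conjugate of `z` attached to a conjugate of `π` does not depend on the conjugating element. -/
theorem conj_z_eq (J : Ctx M z π E) (F : JFour.Small M) (hC : Subgroup.centralizer ({π} : Set G) = CZ z π)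
    {k l : G} (h : k * π * k⁻¹ = l * π * l⁻¹ ∨ k * π * k⁻¹ = (l * π * l⁻¹)⁻¹) :
    k * z * k⁻¹ = l * z * l⁻¹ := by
  have hk : l⁻¹ * k * z = z * (l⁻¹ * k) := by
    refine J.normalizer_le F hC ?_
    rcases h with h | h
    · refine Or.inl ?_
      calc l⁻¹ * k * π * (l⁻¹ * k)⁻¹ = l⁻¹ * (k * π * k⁻¹) * l := by group
        _ = π := by rw [h]; group
    · refine Or.inr ?_
      calc l⁻¹ * k * π * (l⁻¹ * k)⁻¹ = l⁻¹ * (k * π * k⁻¹) * l := by group
        _ = π⁻¹ := by rw [h]; group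
  calc k * z * k⁻¹ = l * (l⁻¹ * k * z) * k⁻¹ := by group
    _ = l * z * l⁻¹ := by rw [hk]; group

/-- The configuration of the four points. -/
structure FourPts (z π a' w w1 w2 : G) : Prop where
  a_mem : a' ∈ CZ z π
  a_cube : a' * a' * a' = 1
  aw : a' * w = w * a'
  w1_mem : w1 ∈ CZ z π
  w2_mem : w2 ∈ CZ z π
  w1_sq : w1 * w1 = 1
  comm : w * w1 = w1 * w
  a1 : a' * w1 = w1 * a'
  prod : w * w1 * w2 = z
  z_plus : ∀ k : G, k * π * k⁻¹ = π⁻¹ * a' ∨ k * π * k⁻¹ = (π⁻¹ * a')⁻¹ → k * z * k⁻¹ = w1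
  z_minus : ∀ k : G, k * π * k⁻¹ = π * a' ∨ k * π * k⁻¹ = (π * a')⁻¹ → k * z * k⁻¹ = w2
  plus : ∃ k : G, k * π * k⁻¹ = π⁻¹ * a'
  minus : ∃ k : G, k * π * k⁻¹ = π * a'

/-- The four points exist and the images of the three moved ones are distinct. -/
theorem four_points (J : Ctx M z π E) (F : JFour.Small M)
    (hC : Subgroup.centralizer ({π} : Set G) = CZ z π) {a b : ↥(CZ z π)} (P : J.IsPair a b)
    {w h : G} (hw : w ∈ CZ z π) (hwne : w ≠ z) (hh : h * z * h⁻¹ = w) (hha : h * (a : G) * h⁻¹ = π) :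
    ∃ w1 w2 : G, FourPts z π (h * π * h⁻¹) w w1 w2 ∧
      (∀ (hmem : w1 ∈ CZ z π), J.proj ⟨w1, hmem⟩ ≠ J.proj ⟨w, hw⟩) ∧
      (∀ (hmem : w2 ∈ CZ z π), J.proj ⟨w2, hmem⟩ ≠ J.proj ⟨w, hw⟩) ∧
      ∀ (hmem : h * π * h⁻¹ ∈ CZ z π), J.proj ⟨h * π * h⁻¹, hmem⟩ ≠ 1 := by
  obtain ⟨haz, hap⟩ := mem_CZ.1 a.2
  obtain ⟨hbz, hbp⟩ := mem_CZ.1 b.2
  obtain ⟨hwz, hwp⟩ := mem_CZ.1 hw
  have hmemC : ∀ {t : G}, t * π = π * t → t ∈ CZ z π := fun ht =>
    hC.le (Subgroup.mem_centralizer_singleton_iff.2 ht)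
  have hw2 : w * w = 1 := by
    rw [← hh, show h * z * h⁻¹ * (h * z * h⁻¹) = h * (z * z) * h⁻¹ by group, J.zz]; group
  have hw1 : w ≠ 1 := fun e => by
    rw [e, mul_inv_eq_one] at hh
    exact J.z_ne (mul_eq_left.1 hh)
  obtain ⟨p, hp⟩ : ∃ p, p = h * π * h⁻¹ := ⟨_, rfl⟩
  simp only [← hp]
  have hp3 : p * p * p = 1 := by
    rw [hp, show h * π * h⁻¹ * (h * π * h⁻¹) * (h * π * h⁻¹) = h * (π * π * π) * h⁻¹ by group, J.pi3]
    group
  have hpπ : p * π = π * p := by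
    have e : h * π * h⁻¹ * (h * a * h⁻¹) = (h * a * h⁻¹) * (h * π * h⁻¹) := by
      calc h * π * h⁻¹ * (h * a * h⁻¹) = h * (π * a) * h⁻¹ := by group
        _ = h * ((a : G) * π) * h⁻¹ := by rw [hap]
        _ = _ := by group
    rwa [hha, ← hp] at e
  have hpC : p ∈ CZ z π := hmemC hpπ
  have hpz := (mem_CZ.1 hpC).1
  have hcentP : ∀ {t : G}, t * p = p * t → t * w = w * t := by
    intro t ht
    have h1 : h⁻¹ * t * h * π = π * (h⁻¹ * t * h) := by
      calc h⁻¹ * t * h * π = h⁻¹ * (t * p) * h := by rw [hp]; group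
        _ = h⁻¹ * (p * t) * h := by rw [ht]
        _ = _ := by rw [hp]; group
    have h2 := (mem_CZ.1 (hmemC h1)).1
    rw [← hh]
    calc t * (h * z * h⁻¹) = h * (h⁻¹ * t * h * z) * h⁻¹ := by group
      _ = h * (z * (h⁻¹ * t * h)) * h⁻¹ := by rw [h2]
      _ = _ := by group
  have hpw : p * w = w * p := hcentP rfl
  -- the image of `p`
  have hp1 : J.proj ⟨p, hpC⟩ ≠ 1 := by
    intro e
    obtain ⟨u, -, hu, k, hk, he⟩ := J.exists_pow' e
    have hu1 : u = 1 := by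
      refine hu.resolve_right fun hz' => ?_
      have h3 : (z * π ^ k) ^ 3 = 1 := by
        rw [← hz', ← show p = u * π ^ k from he, pow_succ, pow_two, hp3]
      have hcomm : Commute z (π ^ k) := ((show Commute π z from J.piz).pow_left k).symm
      rw [hcomm.mul_pow, ← pow_mul, mul_comm k, pow_mul, J.pi_pow_three, one_pow, mul_one, pow_succ,
        pow_two, J.zz, one_mul] at h3
      exact J.z_ne h3
    rw [hu1, one_mul] at he
    have he' : h * π * h⁻¹ = π ^ k := hp ▸ he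
    interval_cases k
    · rw [pow_zero, mul_inv_eq_one, mul_eq_left] at he'
      exact J.pi1 he'
    · exact hwne (hh.symm.trans (mul_inv_eq_iff_eq_mul.2 (J.normalizer_le F hC (Or.inl (by simpa using he')))))
    · rw [pow_two, ← J.pi_inv] at he'
      exact hwne (hh.symm.trans (mul_inv_eq_iff_eq_mul.2 (J.normalizer_le F hC (Or.inr he'))))
  -- a lift moving `p`
  have ha3 : (a : G) * a * a = 1 := congrArg Subtype.val P.cube
  have hpo : orderOf (J.proj ⟨p, hpC⟩) = 3 := by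
    refine orderOf_eq_prime ?_ hp1
    rw [pow_succ, pow_two, ← map_mul, ← map_mul,
      show (⟨p, hpC⟩ : ↥(CZ z π)) * ⟨p, hpC⟩ * ⟨p, hpC⟩ = 1 from Subtype.ext hp3, map_one]
  have hao : orderOf (J.proj a) = 3 := by
    refine orderOf_eq_prime ?_ P.a_ne
    rw [pow_succ, pow_two, ← map_mul, ← map_mul, P.cube, map_one]
  obtain ⟨m, hm⟩ := isConj_iff.1 (F.three_conj _ _ hao hpo)
  obtain ⟨d, rfl⟩ := J.proj_surj m
  rw [← map_inv, ← map_mul, ← map_mul] at hm
  obtain ⟨u, -, hu, k, -, hk⟩ := J.exists_pow' (c := ⟨p, hpC⟩ * (d * a * d⁻¹)⁻¹)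
    (by rw [map_mul, map_inv, hm, mul_inv_cancel])
  simp only [Subgroup.coe_mul, InvMemClass.coe_inv] at hk
  obtain ⟨b1, hb1⟩ : ∃ b1 : ↥(CZ z π), b1 = d * b * d⁻¹ := ⟨_, rfl⟩
  obtain ⟨hb1z, hb1π⟩ := mem_CZ.1 b1.2
  have hbab : (b : G) * a * (b : G)⁻¹ = π⁻¹ * a := by
    calc (b : G) * a * (b : G)⁻¹ = ((a : G) * b * (a : G)⁻¹ * (b : G)⁻¹)⁻¹ * a := by group
      _ = _ := by rw [P.comm]
  obtain ⟨hdz, hdπ⟩ := mem_CZ.1 d.2
  have hb1p : (b1 : G) * p * (b1 : G)⁻¹ = π⁻¹ * p := by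
    have hpd : p = u * π ^ k * ((d : G) * a * (d : G)⁻¹) := by rw [← hk]; group
    have hcu : Commute (b1 : G) (u * π ^ k) := by
      refine Commute.mul_right ?_ ((show Commute (b1 : G) π from hb1π).pow_right k)
      rcases hu with e | e <;> rw [e]
      exacts [Commute.one_right _, hb1z]
    have hci : Commute (π⁻¹) (u * π ^ k) := by
      refine Commute.mul_right ?_ ((Commute.refl π).inv_left.pow_right k)
      rcases hu with e | e <;> rw [e]
      exacts [Commute.one_right _, (show Commute π z from J.piz).inv_left]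
    have hdi : Commute (d : G) π⁻¹ := (show Commute (d : G) π from hdπ).inv_right
    rw [hpd]
    calc (b1 : G) * (u * π ^ k * ((d : G) * a * (d : G)⁻¹)) * (b1 : G)⁻¹
        = (b1 : G) * (u * π ^ k) * (b1 : G)⁻¹ *
            ((d : G) * ((b : G) * a * (b : G)⁻¹) * (d : G)⁻¹) := by
          rw [hb1]; simp only [Subgroup.coe_mul, InvMemClass.coe_inv]; group
      _ = u * π ^ k * ((d : G) * (π⁻¹ * a) * (d : G)⁻¹) := by rw [hcu.eq, mul_inv_cancel_right, hbab]
      _ = u * π ^ k * (π⁻¹ * ((d : G) * a * (d : G)⁻¹)) := by rw [← mul_assoc (d : G), hdi.eq]; group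
      _ = _ := by rw [← mul_assoc, ← hci.eq, mul_assoc]
  have hb11p : (b1 : G) * (π⁻¹ * p) * (b1 : G)⁻¹ = π * p := by
    calc (b1 : G) * (π⁻¹ * p) * (b1 : G)⁻¹
        = (b1 : G) * π⁻¹ * (b1 : G)⁻¹ * ((b1 : G) * p * (b1 : G)⁻¹) := by group
      _ = π⁻¹ * (π⁻¹ * p) := by
          rw [(show Commute (b1 : G) π from hb1π).inv_right.eq, mul_inv_cancel_right, hb1p]
      _ = _ := by rw [← mul_assoc, ← mul_inv_rev, ← J.pi_inv, inv_inv]
  -- the two further points
  obtain ⟨w1, hw1d⟩ : ∃ w1, w1 = (b1 : G) * w * (b1 : G)⁻¹ := ⟨_, rfl⟩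
  obtain ⟨w2, hw2d⟩ : ∃ w2, w2 = (b1 : G) * w1 * (b1 : G)⁻¹ := ⟨_, rfl⟩
  have hw1C : w1 ∈ CZ z π := hw1d ▸ mul_mem (mul_mem b1.2 hw) (inv_mem b1.2)
  have hw2C : w2 ∈ CZ z π := hw2d ▸ mul_mem (mul_mem b1.2 hw1C) (inv_mem b1.2)
  have hconj : ∀ {s t : G}, s * t = t * s → ((b1 : G) * s * (b1 : G)⁻¹) * ((b1 : G) * t * (b1 : G)⁻¹) =
      ((b1 : G) * t * (b1 : G)⁻¹) * ((b1 : G) * s * (b1 : G)⁻¹) := fun {s t} e => by
    calc (b1 : G) * s * (b1 : G)⁻¹ * ((b1 : G) * t * (b1 : G)⁻¹) = (b1 : G) * (s * t) * (b1 : G)⁻¹ := by group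
      _ = (b1 : G) * (t * s) * (b1 : G)⁻¹ := by rw [e]
      _ = _ := by group
  have hpw1 : p * w1 = w1 * p := by
    have h1 : Commute w1 (π⁻¹ * p) := by
      have e := hconj hpw
      rw [hb1p, ← hw1d] at e
      exact e.symm
    have h2 := (show Commute w1 π from (mem_CZ.1 hw1C).2).mul_right h1
    rw [mul_inv_cancel_left] at h2
    exact h2.symm
  have hpw2 : p * w2 = w2 * p := by
    have h1 : Commute w2 (π⁻¹ * p) := by
      have e := hconj hpw1
      rw [hb1p, ← hw2d] at e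
      exact e.symm
    have h2 := (show Commute w2 π from (mem_CZ.1 hw2C).2).mul_right h1
    rw [mul_inv_cancel_left] at h2
    exact h2.symm
  have hww1 : w * w1 = w1 * w := (hcentP hpw1.symm).symm
  have hww2 : w * w2 = w2 * w := (hcentP hpw2.symm).symm
  have h12 : w1 * w2 = w2 * w1 := by
    have e := hconj hww1
    rwa [← hw1d, ← hw2d] at e
  have hw1w1 : w1 * w1 = 1 := by
    rw [hw1d]
    calc (b1 : G) * w * (b1 : G)⁻¹ * ((b1 : G) * w * (b1 : G)⁻¹) = (b1 : G) * (w * w) * (b1 : G)⁻¹ := by group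
      _ = 1 := by rw [hw2]; group
  -- the images
  set x := J.proj ⟨w, hw⟩ with hx
  set β := J.proj b1 with hβ
  set α := J.proj ⟨p, hpC⟩ with hα
  have hi1 : J.proj ⟨w1, hw1C⟩ = β * x * β⁻¹ := by
    rw [hβ, hx, ← map_inv, ← map_mul, ← map_mul]; exact congrArg J.proj (Subtype.ext hw1d)
  have hi2 : J.proj ⟨w2, hw2C⟩ = β * (β * x * β⁻¹) * β⁻¹ := by
    rw [← hi1, hβ, ← map_inv, ← map_mul, ← map_mul]; exact congrArg J.proj (Subtype.ext hw2d)
  have hxo : orderOf x = 2 := by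
    refine orderOf_eq_prime (by rw [hx, pow_two, ← map_mul,
      show (⟨w, hw⟩ : ↥(CZ z π)) * ⟨w, hw⟩ = 1 from Subtype.ext hw2, map_one]) fun e => ?_
    rcases J.small_of_proj_one e (Or.inl hw2) with e' | e'
    exacts [hw1 e', hwne e']
  have hα3 : α * α * α = 1 := by
    rw [hα, ← map_mul, ← map_mul,
      show (⟨p, hpC⟩ : ↥(CZ z π)) * ⟨p, hpC⟩ * ⟨p, hpC⟩ = 1 from Subtype.ext hp3, map_one]
  have hβ3 : β * β * β = 1 := by
    rw [hβ, hb1]; simp only [map_mul, map_inv]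
    calc J.proj d * J.proj b * (J.proj d)⁻¹ * (J.proj d * J.proj b * (J.proj d)⁻¹) *
          (J.proj d * J.proj b * (J.proj d)⁻¹)
        = J.proj d * (J.proj b * J.proj b * J.proj b) * (J.proj d)⁻¹ := by group
      _ = 1 := by rw [P.b_cube]; group
  have hαβ : α * β = β * α := by
    have e : J.proj (b1 * ⟨p, hpC⟩ * b1⁻¹) = J.proj (⟨π, J.pi_mem_CZ⟩⁻¹ * ⟨p, hpC⟩) :=
      congrArg J.proj (Subtype.ext (by simpa using hb1p))
    rw [map_mul, map_mul, map_inv, map_mul, map_inv, J.proj_pi, inv_one, one_mul,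
      mul_inv_eq_iff_eq_mul] at e
    exact e.symm
  have hβα : β ∉ Subgroup.zpowers α := by
    intro hmem
    obtain ⟨i, hi⟩ := Subgroup.mem_zpowers_iff.1 hmem
    obtain ⟨v, -, hv, j, -, hj⟩ := J.exists_pow' (c := b1 * (⟨p, hpC⟩ ^ i)⁻¹)
      (by rw [map_mul, map_inv, map_zpow, hi, mul_inv_cancel])
    simp only [Subgroup.coe_mul, InvMemClass.coe_inv, SubgroupClass.coe_zpow] at hj
    have hbe : (b1 : G) = v * π ^ j * p ^ i := by rw [← hj]; group
    have hc : Commute p (b1 : G) := by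
      rw [hbe]
      refine Commute.mul_right (Commute.mul_right ?_ ((show Commute p π from hpπ).pow_right j))
        ((Commute.refl p).zpow_right i)
      rcases hv with e | e <;> rw [e]
      exacts [Commute.one_right _, hpz]
    rw [← hc.eq, mul_inv_cancel_right, eq_comm, mul_eq_right, inv_eq_one] at hb1p
    exact J.pi1 hb1p
  have hαx : α * x = x * α := by
    rw [hα, hx, ← map_mul, ← map_mul]; exact congrArg J.proj (Subtype.ext hpw)
  have hne1 : β * x * β⁻¹ ≠ x := fun e =>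
    not_comm_of_nine F hα3 hp1 hβ3 hαβ hβα hxo hαx (mul_inv_eq_iff_eq_mul.1 e)
  have hne2 : β * (β * x * β⁻¹) * β⁻¹ ≠ x := fun e => hne1 (by
    calc β * x * β⁻¹ = β * (β * (β * x * β⁻¹) * β⁻¹) * β⁻¹ := by rw [e]
      _ = β * β * β * x * (β * β * β)⁻¹ := by group
      _ = x := by rw [hβ3]; group)
  -- the product of the three
  obtain ⟨c, hc⟩ : ∃ c : ↥(CZ z π), c = ⟨w, hw⟩ * ⟨w1, hw1C⟩ * ⟨w2, hw2C⟩ := ⟨_, rfl⟩
  have hw22 : w2 * w2 = 1 := by
    rw [hw2d]
    calc (b1 : G) * w1 * (b1 : G)⁻¹ * ((b1 : G) * w1 * (b1 : G)⁻¹) = (b1 : G) * (w1 * w1) * (b1 : G)⁻¹ := by group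
      _ = 1 := by rw [hw1w1]; group
  have hcsq : (c : G) * c = 1 := by
    rw [hc]
    show w * w1 * w2 * (w * w1 * w2) = 1
    have h2 : Commute w2 (w * w1) := (show Commute w2 w from hww2.symm).mul_right h12.symm
    calc w * w1 * w2 * (w * w1 * w2) = w * w1 * (w2 * (w * w1)) * w2 := by group
      _ = (w * w1) * (w * w1) * (w2 * w2) := by rw [h2.eq]; group
      _ = 1 := by
          rw [hw22, mul_one, show w * w1 * (w * w1) = w * (w1 * w) * w1 by group, ← hww1,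
            show w * (w * w1) * w1 = (w * w) * (w1 * w1) by group, hw2, hw1w1, one_mul]
  have hc1 : J.proj c = 1 := by
    by_contra hne
    set y := J.proj c with hy
    have hyo : orderOf y = 2 := by
      refine orderOf_eq_prime (by rw [hy, pow_two, ← map_mul, show c * c = 1 from Subtype.ext hcsq, map_one]) hne
    have hαy : α * y = y * α := by
      rw [hα, hy, ← map_mul, ← map_mul]
      refine congrArg J.proj (Subtype.ext ?_)
      rw [hc]
      exact ((((show Commute p w from hpw).mul_right hpw1)).mul_right hpw2).eq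
    refine not_comm_of_nine F hα3 hp1 hβ3 hαβ hβα hyo hαy (mul_inv_eq_iff_eq_mul.1 ?_)
    have hyv : y = x * (β * x * β⁻¹) * (β * (β * x * β⁻¹) * β⁻¹) := by
      rw [hy, hc, map_mul, map_mul, hi1, hi2]
    have hb3x : β * (β * (β * x * β⁻¹) * β⁻¹) * β⁻¹ = x := by
      calc _ = β * β * β * x * (β * β * β)⁻¹ := by group
        _ = x := by rw [hβ3]; group
    have hx12 : Commute x (β * x * β⁻¹ * (β * (β * x * β⁻¹) * β⁻¹)) := by
      rw [← hi2, ← hi1, hx, ← map_mul]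
      show _ = _
      rw [← map_mul, ← map_mul]
      exact congrArg J.proj (Subtype.ext ((show Commute w w1 from hww1).mul_right hww2).eq)
    calc β * y * β⁻¹ = (β * x * β⁻¹) * (β * (β * x * β⁻¹) * β⁻¹) *
          (β * (β * (β * x * β⁻¹) * β⁻¹) * β⁻¹) := by rw [hyv]; group
      _ = (β * x * β⁻¹) * (β * (β * x * β⁻¹) * β⁻¹) * x := by rw [hb3x]
      _ = _ := by rw [← hx12.eq, hyv]; group
  -- the values on the conjugates of `π`
  have e1 : ((b1 : G) * h) * π * ((b1 : G) * h)⁻¹ = π⁻¹ * p := by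
    rw [← hb1p, hp]; group
  have e2 : ((b1 : G) * ((b1 : G) * h)) * π * ((b1 : G) * ((b1 : G) * h))⁻¹ = π * p := by
    calc _ = (b1 : G) * (((b1 : G) * h) * π * ((b1 : G) * h)⁻¹) * (b1 : G)⁻¹ := by group
      _ = _ := by rw [e1, hb11p]
  have hz1 : ∀ k : G, k * π * k⁻¹ = π⁻¹ * p ∨ k * π * k⁻¹ = (π⁻¹ * p)⁻¹ → k * z * k⁻¹ = w1 := by
    intro k hk
    rw [conj_z_eq J F hC (k := k) (l := (b1 : G) * h) (by rw [e1]; exact hk), hw1d, ← hh]; group
  have hz2 : ∀ k : G, k * π * k⁻¹ = π * p ∨ k * π * k⁻¹ = (π * p)⁻¹ → k * z * k⁻¹ = w2 := by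
    intro k hk
    rw [conj_z_eq J F hC (k := k) (l := (b1 : G) * ((b1 : G) * h)) (by rw [e2]; exact hk), hw2d, hw1d, ← hh]
    group
  have hprod : w * w1 * w2 = z := by
    have hv : w * w1 * w2 = (c : G) := by rw [hc]; rfl
    rcases J.small_of_proj_one hc1 (Or.inl hcsq) with e | e
    · -- the second lift
      exfalso
      rw [← hv] at e
      obtain ⟨q, hq⟩ : ∃ q, q = h * (b : G) * h⁻¹ := ⟨_, rfl⟩
      have hqw : q * w * q⁻¹ = w := by
        rw [hq, ← hh]
        calc h * (b : G) * h⁻¹ * (h * z * h⁻¹) * (h * (b : G) * h⁻¹)⁻¹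
            = h * ((b : G) * z * (b : G)⁻¹) * h⁻¹ := by group
          _ = _ := by rw [hbz, mul_inv_cancel_right]
      have hqπ : q * π * q⁻¹ = p⁻¹ * π := by
        rw [hq, show h * (b : G) * h⁻¹ * π * (h * (b : G) * h⁻¹)⁻¹ =
          h * (b : G) * h⁻¹ * (h * a * h⁻¹) * (h * (b : G) * h⁻¹)⁻¹ by rw [hha]]
        calc h * (b : G) * h⁻¹ * (h * a * h⁻¹) * (h * (b : G) * h⁻¹)⁻¹
            = h * ((b : G) * a * (b : G)⁻¹) * h⁻¹ := by group
          _ = (h * π * h⁻¹)⁻¹ * (h * a * h⁻¹) := by rw [hbab]; group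
          _ = _ := by rw [hha, hp]
      have hqp : q * p * q⁻¹ = p := by
        rw [hq, hp]
        calc h * (b : G) * h⁻¹ * (h * π * h⁻¹) * (h * (b : G) * h⁻¹)⁻¹
            = h * ((b : G) * π * (b : G)⁻¹) * h⁻¹ := by group
          _ = _ := by rw [hbp, mul_inv_cancel_right]
      have hq1 : q * z * q⁻¹ = w1 := by
        refine hz1 q (Or.inr ?_)
        rw [hqπ, mul_inv_rev, inv_inv]
      have hq2 : q * w1 * q⁻¹ = w2 := by
        have hl : (q * ((b1 : G) * h)) * π * (q * ((b1 : G) * h))⁻¹ = (π * p)⁻¹ := by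
          calc _ = q * (((b1 : G) * h) * π * ((b1 : G) * h)⁻¹) * q⁻¹ := by group
            _ = (q * π * q⁻¹)⁻¹ * (q * p * q⁻¹) := by rw [e1]; group
            _ = π⁻¹ * (p * p) := by rw [hqπ, hqp]; group
            _ = _ := by
                rw [show p * p = p⁻¹ from (inv_eq_of_mul_eq_one_left hp3).symm, mul_inv_rev,
                  (show Commute p π from hpπ).inv_inv.eq]
        rw [← hz2 _ (Or.inr hl), hw1d, ← hh]; group
      have hq3 : q * w2 * q⁻¹ = z := by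
        have hl : (q * ((b1 : G) * ((b1 : G) * h))) * π * (q * ((b1 : G) * ((b1 : G) * h)))⁻¹ = π := by
          calc _ = q * (((b1 : G) * ((b1 : G) * h)) * π * ((b1 : G) * ((b1 : G) * h))⁻¹) * q⁻¹ := by group
            _ = (q * π * q⁻¹) * (q * p * q⁻¹) := by rw [e2]; group
            _ = p⁻¹ * π * p := by rw [hqπ, hqp]
            _ = π := by rw [mul_assoc, ← hpπ, inv_mul_cancel_left]
        have := conj_z_eq J F hC (k := q * ((b1 : G) * ((b1 : G) * h))) (l := 1) (Or.inl (by rw [hl]; group))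
        calc q * w2 * q⁻¹ = (q * ((b1 : G) * ((b1 : G) * h))) * z * (q * ((b1 : G) * ((b1 : G) * h)))⁻¹ := by
              rw [hw2d, hw1d, ← hh]; group
          _ = z := by rw [this]; group
      have e' : w * w2 * z = 1 := by
        calc w * w2 * z = q * (w * w1 * w2) * q⁻¹ := by
              rw [show q * (w * w1 * w2) * q⁻¹ = (q * w * q⁻¹) * (q * w1 * q⁻¹) * (q * w2 * q⁻¹) by group,
                hqw, hq2, hq3]
          _ = 1 := by rw [e]; group
      have hzw1 : z = w1 := by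
        apply mul_left_cancel (a := w * w2)
        rw [e', mul_assoc, ← h12, ← mul_assoc, e]
      refine hwne ?_
      have hb1w : (b1 : G) * w1 = w1 * (b1 : G) := (congrArg (fun t => (b1 : G) * t) hzw1).symm.trans
        (hb1z.trans (congrArg (fun t => t * (b1 : G)) hzw1))
      calc w = (b1 : G)⁻¹ * w1 * (b1 : G) := by rw [hw1d]; group
        _ = (b1 : G)⁻¹ * (w1 * (b1 : G)) := by group
        _ = w1 := by rw [← hb1w, inv_mul_cancel_left]
        _ = z := hzw1.symm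
    · rw [hv]; exact e
  refine ⟨w1, w2, ⟨hpC, hp3, hpw, hw1C, hw2C, hw1w1, hww1, hpw1, hprod, hz1, hz2, ⟨_, e1⟩, ⟨_, e2⟩⟩,
    fun _ => by rw [hi1]; exact hne1, fun _ => by rw [hi2]; exact hne2, fun _ => hp1⟩

end CfsgLib.JFourLocal
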