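import Cfsg.Agent.Lib.JFour.VData
import Cfsg.Agent.Lib.JFour.VChecks

/-!
# Checks for the centralizer of the elementary subgroup of order eight
-/

set_option autoImplicit false
set_option maxRecDepth 100000

namespace CfsgLib.JFourLocal

open CfsgLib.JFour

/-- The vectors orthogonal to the three vectors of the first kind. -/
def pentP (n : ℕ) : Bool := bb n 1092 == false && bb n 2184 == false

/-- A word fixing the three vectors and moving their orthogonal space into their span. -/
def pentW : List ℕ := [3, 2, 4, 3, 2, 4, 2, 2]

theorem pent_count : ((List.range 4096).filter pentP).length = 1024 ∧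
    ((List.range 4096).filter (inLay layA)).length = 693 ∧
    inLay layA 1092 = true ∧ ap gW0 1092 = 2184 ∧ Nat.xor 1092 2184 = 3276 := by decide +kernel

theorem pent_word : pentW.all (fun k => decide (k < 5)) = true ∧
    ap (wordB MS pentW) 1092 = 1092 ∧ ap (wordB MS pentW) 2184 = 2184 ∧
    ap (wordB MS pentW) 1 ≠ 1 ∧
    (List.range 4096).all (fun n => !pentP n ||
      [0, 1092, 2184, 3276].contains (Nat.xor (ap (wordB MS pentW) n) n)) = true := by decide +kernel

/-- A basis of the orthogonal space. -/
def pentB : List ℕ := [4, 8, 17, 34, 64, 128, 257, 514, 1024, 2048]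

theorem pent_radical : pentB.all (fun m => pentP m && decide (m < 4096)) = true ∧
    (List.range 4096).all (fun n => !pentP n || [0, 1092, 2184, 3276].contains n ||
      pentB.any fun m => bb n m) = true := by decide +kernel

theorem pent_pair : pentP 4 = true ∧ pentP 34 = true ∧ bb 4 34 = true := by decide +kernel

end CfsgLib.JFourLocal
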