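import Cfsg.Agent.Lib.JFourLocal.FiveConj
import Cfsg.Agent.Lib.JFourLocal.PentadData

/-!
# The centralizer of the elementary subgroup of order eight

It lies in `H0`, meets `E` in a subgroup of order `2 ^ 11` and maps onto a subgroup of order 1920 of `M`.
-/

set_option autoImplicit false
set_option maxRecDepth 100000
set_option linter.style.haveILetI false
set_option linter.unusedSectionVars false

open Cfsg
open scoped Classical

namespace CfsgLib.JFourLocal

open CfsgLib.JFour CfsgLib.JFour.Ctx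

variable {G : Type*} [Group G] [Finite G] {M : Type*} [Group M] [Finite M] {z π : G} {E : Subgroup G}

theorem mem_cent {A : Subgroup G} {y : G} :
    y ∈ Subgroup.centralizer (A : Set G) ↔ ∀ a ∈ A, a * y = y * a := Subgroup.mem_centralizer_iff

theorem card_fin_filter (p : ℕ → Bool) :
    Nat.card {n : Fin 4096 // p n = true} = ((List.range 4096).filter p).length := by
  have hnd : ((List.range 4096).filter p).Nodup := List.nodup_range.filter _
  rw [Nat.card_eq_fintype_card, Fintype.card_subtype, ← List.toFinset_card_of_nodup hnd]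
  symm
  refine Finset.card_bij (fun n hn => ⟨n, List.mem_range.1 (List.mem_filter.1 (List.mem_toFinset.1 hn)).1⟩)
    ?_ ?_ ?_
  · intro n hn
    simp only [Finset.mem_filter, Finset.mem_univ, true_and]
    exact (List.mem_filter.1 (List.mem_toFinset.1 hn)).2
  · intro m _ n _ h
    exact congrArg Fin.val h
  · intro n hn
    simp only [Finset.mem_filter, Finset.mem_univ, true_and] at hn
    exact ⟨n.val, List.mem_toFinset.2 (List.mem_filter.2 ⟨List.mem_range.2 n.2, hn⟩), rfl⟩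

section Std

variable {J : Ctx M z π E} {g : ℕ → M} {vec : ℕ → G} {V : Subgroup G} (D : J.Std g vec V) {q : G}
  (Q : FiveEl z π vec q) {A : Subgroup G} (hA : IsFiveA z vec A)
include D Q hA

theorem cent_comm_z {y : G} (hy : y ∈ Subgroup.centralizer (A : Set G)) : y * z = z * y :=
  ((mem_cent.1 hy) z (z_mem_A D Q hA)).symm

theorem vec_mem_A : vec 1092 ∈ A ∧ vec 2184 ∈ A :=
  ⟨(hA _).2 ⟨1092, Or.inr (by decide), J.rel_refl _⟩, (hA _).2 ⟨2184, Or.inr (by decide), J.rel_refl _⟩⟩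

/-- Commuting with two vectors is enough. -/
theorem cent_of_two {y : G} (hyz : y * z = z * y) (h1 : vec 1092 * y = y * vec 1092)
    (h2 : vec 2184 * y = y * vec 2184) : y ∈ Subgroup.centralizer (A : Set G) := by
  refine mem_cent.2 fun a ha => ?_
  obtain ⟨n, hn, hr⟩ := (hA a).1 ha
  refine J.comm_of_rel hyz hr ?_
  rcases hn with rfl | hn
  · exact J.comm_of_rel hyz (D.full.Mo.coords.rel_zero J) (by rw [one_mul, mul_one])
  · simp only [fixA, List.mem_cons, List.not_mem_nil, or_false] at hn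
    rcases hn with rfl | rfl | rfl
    · exact h1
    · exact h2
    · have hadd := D.full.Mo.coords.add 1092 2184 (by norm_num) (by norm_num)
      rw [pent_count.2.2.2.2] at hadd
      exact J.comm_of_rel hyz hadd ((show Commute (vec 1092) y from h1).mul_left h2).eq

/-- The centralizer lies in `H0`. -/
theorem cent_le_H0 : Subgroup.centralizer (A : Set G) ≤ H0 z π E := fun y hy => by
  by_contra hn
  obtain ⟨b, hb, hnb⟩ := outer_moves D Q hA (cent_comm_z D Q hA hy) hn
  exact hnb (Or.inl (by rw [← (mem_cent.1 hy) b hb, mul_inv_cancel_right]))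

theorem conj_W {y e : G} (hy : y ∈ Subgroup.centralizer (A : Set G))
    (he : e ∈ E ⊓ Subgroup.centralizer (A : Set G)) : y * e * y⁻¹ ∈ E ⊓ Subgroup.centralizer (A : Set G) :=
  ⟨J.conjE (cent_comm_z D Q hA hy) he.1,
    (Subgroup.centralizer (A : Set G)).mul_mem ((Subgroup.centralizer (A : Set G)).mul_mem hy he.2)
      ((Subgroup.centralizer (A : Set G)).inv_mem hy)⟩

theorem A_le_W : A ≤ E ⊓ Subgroup.centralizer (A : Set G) := fun a ha => by
  refine ⟨(mem_fiveO.1 (A_le D Q hA ha)).1, mem_cent.2 fun b hb => ?_⟩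
  have hi : ∀ {u : G}, u ∈ A → u⁻¹ = u := fun hu => inv_eq_of_mul_eq_one_right (A_sq D Q hA hu)
  calc b * a = (b * a)⁻¹ := (hi (A.mul_mem hb ha)).symm
    _ = a * b := by rw [mul_inv_rev, hi ha, hi hb]

theorem card_W : Nat.card ↥(E ⊓ Subgroup.centralizer (A : Set G)) = 2 ^ 11 := by
  rw [D.full.Mo.coords.card_eq J inf_le_left (A_le_W D Q hA (z_mem_A D Q hA)) pentP fun n hn => ?_,
    pent_count.1]
  · rfl
  have hE := vec_E D hn
  simp only [pentP, Bool.and_eq_true, beq_iff_eq]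
  rw [← D.full.comm_vec D.isV hn (by norm_num : (1092 : ℕ) < 4096),
    ← D.full.comm_vec D.isV hn (by norm_num : (2184 : ℕ) < 4096)]
  obtain ⟨h1, h2⟩ := vec_mem_A D Q hA
  exact ⟨fun h => ⟨((mem_cent.1 h.2) _ h1).symm, ((mem_cent.1 h.2) _ h2).symm⟩,
    fun h => ⟨hE, cent_of_two D Q hA (J.s.z_comm hE) h.1.symm h.2.symm⟩⟩

/-- Fixing the first vector modulo `z` suffices in `C(z, π)`. -/
theorem cent_of_fix {c : G} (hc : c ∈ CZ z π) (h : Rel z (c * vec 1092 * c⁻¹) (vec 1092)) :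
    c ∈ Subgroup.centralizer (A : Set G) := by
  obtain ⟨hcz, hcp⟩ := mem_CZ.1 hc
  have h1E := vec_E D (n := 1092) (by norm_num)
  have h2E := vec_E D (n := 2184) (by norm_num)
  have hom : Rel z (π * vec 1092 * π⁻¹) (vec 2184) := by
    have := D.full.Mo.om.2 1092 (by norm_num)
    rwa [pent_count.2.2.2.1] at this
  have h2 : Rel z (c * vec 2184 * c⁻¹) (vec 2184) := by
    have h3 := J.rel_conj J.piz h
    rw [show π * (c * vec 1092 * c⁻¹) * π⁻¹ = (π * c) * vec 1092 * (π * c)⁻¹ by group, ← hcp,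
      show (c * π) * vec 1092 * (c * π)⁻¹ = c * (π * vec 1092 * π⁻¹) * c⁻¹ by group] at h3
    exact J.rel_trans (J.rel_conj hcz (J.rel_symm hom)) (J.rel_trans h3 hom)
  exact cent_of_two D Q hA hcz (J.comm_of_fx hc ((J.mem_fx hcz).2 ⟨h1E, h⟩)).symm
    (J.comm_of_fx hc ((J.mem_fx hcz).2 ⟨h2E, h2⟩)).symm

theorem fix_of_cent {c : G} (hc : c ∈ Subgroup.centralizer (A : Set G)) :
    Rel z (c * vec 1092 * c⁻¹) (vec 1092) :=
  Or.inl (by rw [← (mem_cent.1 hc) _ (vec_mem_A D Q hA).1, mul_inv_cancel_right])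

theorem ker_cases {c : ↥(CZ z π)} (h : J.proj c = 1) (hc : (c : G) ∈ Subgroup.centralizer (A : Set G)) :
    (c : G) = 1 ∨ (c : G) = z := by
  obtain ⟨u, -, hu, k, hk, he⟩ := J.exists_pow' h
  have hk0 : k = 0 := by
    by_contra hne
    have hb := vec_E D (n := 1092) (by norm_num)
    have hv := D.vec_ne (n := 1092) (by norm_num) (by norm_num)
    have hfix := fix_of_cent D Q hA hc
    rw [he] at hfix
    have h4 : Rel z (π ^ k * vec 1092 * (π ^ k)⁻¹) (vec 1092) := by
      have huz : u⁻¹ * z = z * u⁻¹ := by rcases hu with w | w <;> rw [w] <;> group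
      have h2 := J.rel_conj huz hfix
      rw [show u⁻¹ * (u * π ^ k * vec 1092 * (u * π ^ k)⁻¹) * u⁻¹⁻¹ = π ^ k * vec 1092 * (π ^ k)⁻¹ by group] at h2
      refine J.rel_trans h2 (Or.inl ?_)
      rcases hu with w | w <;> rw [w]
      · group
      · rw [inv_inv, show z⁻¹ = z from inv_eq_of_mul_eq_one_right J.zz, mul_assoc, J.s.z_comm hb, ← mul_assoc,
          J.zz, one_mul]
    have hπ : Rel z (π * vec 1092 * π⁻¹) (vec 1092) := by
      interval_cases k
      · exact absurd rfl hne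
      · rwa [pow_one] at h4
      · rw [pow_two, ← J.pi_inv] at h4
        have := J.rel_conj J.piz h4
        rw [show π * (π⁻¹ * vec 1092 * π⁻¹⁻¹) * π⁻¹ = vec 1092 by group] at this
        exact J.rel_symm this
    rcases J.fpf_rel hb hπ with w | w
    · exact hv.1 w
    · exact hv.2 (w.trans (mul_one z))
  rw [he, hk0, pow_zero, mul_one]
  exact hu

theorem orbit_layA {n : ℕ} (hn : n < 4096) :
    (∃ c : ↥(CZ z π), Rel z ((c : G) * vec 1092 * (c : G)⁻¹) (vec n)) ↔ inLay layA n = true := by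
  constructor
  · rintro ⟨c, hc⟩
    set x := (c : G) * vec 1092 * (c : G)⁻¹ with hx
    have hcz := (mem_CZ.1 c.2).1
    have hxE : x ∈ E := J.conjE hcz (vec_E D (by norm_num))
    have hv := D.vec_ne (n := 1092) (by norm_num) (by norm_num)
    have hx1 : x ≠ 1 := fun e => hv.1 (by rwa [hx, mul_inv_eq_one, mul_eq_left] at e)
    have hxz : x ≠ z := fun e => hv.2 (by
      rw [hx, mul_inv_eq_iff_eq_mul] at e
      rw [← hcz] at e
      exact mul_left_cancel e)
    have hzx : IsConj z x := (A_conj D Q hA (vec_mem_A D Q hA).1 hv.1).trans (isConj_iff.2 ⟨c, rfl⟩)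
    have hzn : IsConj z (vec n) := by
      rcases hc with e | e
      · rwa [← e]
      · obtain ⟨w, hw, hwe⟩ := J.s.exists_move hxE hx1 hxz
        refine hzx.trans (isConj_iff.2 ⟨w, ?_⟩)
        rw [hwe, e, ← mul_assoc, J.zz, one_mul]
    rcases D.full.vec_cases hn with rfl | h | h | h
    · exfalso
      rcases J.rel_trans hc (D.full.Mo.coords.rel_zero J) with k | k
      · exact hx1 k
      · exact hxz (by rwa [mul_one] at k)
    · exact h
    · exfalso
      obtain ⟨d, -, hd⟩ := conj_seed D (seed := 260) (by norm_num) (by norm_num) layB_ok hn h (J.rel_refl _)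
      exact D.conj_classes.2.1 ((isConj_conj_iff d).1 (hd ▸ hzn))
    · exfalso
      have h2 : vec n * vec n = 1 := by
        obtain ⟨k, hk⟩ := isConj_iff.1 hzn
        rw [← hk, show k * z * k⁻¹ * (k * z * k⁻¹) = k * (z * z) * k⁻¹ by group, J.zz]; group
      rw [(D.full.sq_one_iff D.isV hn).1 h2] at h
      exact Bool.noConfusion h
  · intro h
    obtain ⟨d, hd⟩ := D.full.reach (by norm_num : (76 : ℕ) < 4096) layA_ok hn h
    obtain ⟨d1, hd1⟩ := D.full.reach (by norm_num : (76 : ℕ) < 4096) layA_ok (by norm_num : (1092 : ℕ) < 4096)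
      pent_count.2.2.1
    refine ⟨d * d1⁻¹, J.rel_trans (J.rel_conj (mem_CZ.1 (d * d1⁻¹).2).1 (J.rel_symm hd1)) (J.rel_trans (Or.inl ?_) hd)⟩
    simp only [Subgroup.coe_mul, InvMemClass.coe_inv]
    group

/-- The stabilizer in `C(z, π)`. -/
theorem card_cent_CZ :
    Nat.card ↥((Subgroup.centralizer (A : Set G)).subgroupOf (CZ z π)) = 3840 := by
  set S := (Subgroup.centralizer (A : Set G)).subgroupOf (CZ z π) with hS
  set O := {n : Fin 4096 // inLay layA n = true}
  have hr : ∀ n : O, ∃ c : ↥(CZ z π), Rel z ((c : G) * vec 1092 * (c : G)⁻¹) (vec n.1) :=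
    fun n => (orbit_layA D Q hA n.1.2).2 n.2
  choose r hr using hr
  let F : ↥S × O → ↥(CZ z π) := fun p => r p.2 * p.1
  have himg : ∀ p, Rel z ((F p : G) * vec 1092 * (F p : G)⁻¹) (vec p.2.1) := fun p => by
    refine J.rel_trans (Or.inl ?_) (hr p.2)
    show ((r p.2 : G) * (p.1 : ↥(CZ z π))) * vec 1092 * ((r p.2 : G) * (p.1 : ↥(CZ z π)))⁻¹ = _
    rw [mul_assoc (r p.2 : G), ← (mem_cent.1 (Subgroup.mem_subgroupOf.1 p.1.2)) _ (vec_mem_A D Q hA).1]
    group
  have hF : Function.Bijective F := by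
    constructor
    · rintro ⟨s, n⟩ ⟨s', n'⟩ h
      have h1 := himg (s, n)
      rw [h] at h1
      have : n = n' := Subtype.ext (Fin.ext ((D.full.Mo.coords.rel_iff J n.1.2 n'.1.2).1
        (J.rel_trans (J.rel_symm h1) (himg (s', n')))))
      subst this
      exact Prod.ext (Subtype.ext (mul_left_cancel h)) rfl
    · intro c
      have hcz := (mem_CZ.1 c.2).1
      obtain ⟨n, hn, hcn⟩ := D.full.Mo.coords.surj _ (J.conjE hcz (vec_E D (n := 1092) (by norm_num)))
      let n' : O := ⟨⟨n, hn⟩, (orbit_layA D Q hA hn).1 ⟨c, hcn⟩⟩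
      refine ⟨(⟨(r n')⁻¹ * c, Subgroup.mem_subgroupOf.2 (cent_of_fix D Q hA ((r n')⁻¹ * c).2 ?_)⟩, n'),
        mul_inv_cancel_left _ _⟩
      simp only [Subgroup.coe_mul, InvMemClass.coe_inv]
      have hrz : (r n' : G)⁻¹ * z = z * (r n' : G)⁻¹ :=
        (show Commute (r n' : G) z from (mem_CZ.1 (r n').2).1).inv_left.eq
      refine J.rel_trans (Or.inl ?_) (J.rel_trans (J.rel_conj hrz (J.rel_trans hcn (J.rel_symm (hr n')))) (Or.inl ?_))
      · group
      · group
  have h := Nat.card_congr (Equiv.ofBijective F hF)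
  rw [Nat.card_prod, card_fin_filter, pent_count.2.1, J.card_CZ D.small.card] at h
  omega

/-- The image in `M`. -/
theorem exists_psi : ∃ ψ : ↥(Subgroup.centralizer (A : Set G)) →* M,
    (∀ y : ↥(Subgroup.centralizer (A : Set G)), ψ y = 1 ↔ (y : G) ∈ E) ∧
    (∀ (c : ↥(CZ z π)) (h : (c : G) ∈ Subgroup.centralizer (A : Set G)), ψ ⟨c, h⟩ = J.proj c) ∧
    (∀ y : ↥(Subgroup.centralizer (A : Set G)), ∃ c : ↥(CZ z π), (c : G) ∈ Subgroup.centralizer (A : Set G) ∧ (y : G) * (c : G)⁻¹ ∈ E ∧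
      ψ y = J.proj c) ∧
    Nat.card ψ.range = 1920 := by
  set CA := Subgroup.centralizer (A : Set G) with hCA
  have hdec : ∀ y : ↥CA, ∃ c : ↥(CZ z π), (c : G) ∈ CA ∧ (y : G) * (c : G)⁻¹ ∈ E := by
    intro y
    obtain ⟨e, he, c, hc, hyc⟩ := J.mem_H0.1 (cent_le_H0 D Q hA y.2)
    refine ⟨⟨c, hc⟩, cent_of_fix D Q hA hc ?_, by rw [hyc, mul_inv_cancel_right]; exact he⟩
    have hb := vec_E D (n := 1092) (by norm_num)
    have h1 := fix_of_cent D Q hA y.2
    rw [hyc, show e * c * vec 1092 * (e * c)⁻¹ = e * (c * vec 1092 * c⁻¹) * e⁻¹ by group] at h1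
    exact J.rel_trans (J.rel_symm (J.rel_conj_E he (J.conjE (mem_CZ.1 hc).1 hb))) h1
  choose cf hcf1 hcf2 using hdec
  have huniq : ∀ (y : ↥CA) (c : ↥(CZ z π)), (y : G) * (c : G)⁻¹ ∈ E → J.proj (cf y) = J.proj c :=
    fun y c h => J.proj_eq (by
      rw [show (cf y : G) * (c : G)⁻¹ = ((y : G) * (cf y : G)⁻¹)⁻¹ * ((y : G) * (c : G)⁻¹) by group]
      exact E.mul_mem (E.inv_mem (hcf2 y)) h)
  set ψ : ↥CA →* M := MonoidHom.mk' (fun y => J.proj (cf y)) (fun y y' => by
    show J.proj (cf (y * y')) = J.proj (cf y) * J.proj (cf y')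
    rw [← map_mul]
    refine huniq _ _ ?_
    simp only [Subgroup.coe_mul]
    rw [show (y : G) * y' * ((cf y : G) * cf y')⁻¹ =
      ((y : G) * (cf y : G)⁻¹) * ((cf y : G) * ((y' : G) * (cf y' : G)⁻¹) * (cf y : G)⁻¹) by group]
    exact E.mul_mem (hcf2 y) (J.conjE (mem_CZ.1 (cf y).2).1 (hcf2 y'))) with hψ
  have hψc : ∀ (c : ↥(CZ z π)) (h : (c : G) ∈ CA), ψ ⟨c, h⟩ = J.proj c := fun c h =>
    huniq ⟨c, h⟩ c (by rw [mul_inv_cancel]; exact one_mem E)
  have hker : ∀ y : ↥CA, ψ y = 1 ↔ (y : G) ∈ E := by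
    intro y
    constructor
    · intro h
      have hE : (cf y : G) ∈ E := by
        rcases ker_cases D Q hA h (hcf1 y) with k | k <;> rw [k]
        exacts [one_mem E, J.s.z_mem]
      have := E.mul_mem (hcf2 y) hE
      rwa [inv_mul_cancel_right] at this
    · intro h
      show J.proj (cf y) = 1
      rw [huniq y 1 (by simpa using h), map_one]
  refine ⟨ψ, hker, hψc, fun y => ⟨cf y, hcf1 y, hcf2 y, rfl⟩, ?_⟩
  set S := CA.subgroupOf (CZ z π)
  let f : ↥S →* M := J.proj.comp S.subtype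
  have hr : f.range = ψ.range := by
    refine le_antisymm ?_ ?_
    · rintro _ ⟨c, rfl⟩
      exact ⟨⟨(c : ↥(CZ z π)), Subgroup.mem_subgroupOf.1 c.2⟩, hψc _ _⟩
    · rintro _ ⟨y, rfl⟩
      exact ⟨⟨cf y, Subgroup.mem_subgroupOf.2 (hcf1 y)⟩, rfl⟩
  have hk : Nat.card f.ker = 2 := by
    let zk : ↥f.ker := ⟨⟨⟨z, J.z_mem_CZ⟩, Subgroup.mem_subgroupOf.2 (A_le_W D Q hA (z_mem_A D Q hA)).2⟩, J.proj_z⟩
    refine le_antisymm ?_ ?_
    · refine le_trans (Nat.card_le_card_of_injective (fun c : ↥f.ker => (((c : ↥S) : ↥(CZ z π)) : G) == z) ?_)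
        (by simp)
      intro c c' h
      refine Subtype.ext (Subtype.ext (Subtype.ext ?_))
      rcases ker_cases D Q hA c.2 (Subgroup.mem_subgroupOf.1 (c : ↥S).2) with k | k <;>
        rcases ker_cases D Q hA c'.2 (Subgroup.mem_subgroupOf.1 (c' : ↥S).2) with k' | k' <;>
        simp_all [J.z_ne, J.z_ne.symm]
    · refine Finite.one_lt_card_iff_nontrivial.2 ⟨⟨zk, 1, fun e => J.z_ne ?_⟩⟩
      exact congrArg (fun c : ↥f.ker => (((c : ↥S) : ↥(CZ z π)) : G)) e
  have h1 := f.ker.card_mul_index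
  rw [Subgroup.index_ker, hk, card_cent_CZ D Q hA, hr] at h1
  omega

theorem card_cent_A_all : Nat.card ↥(Subgroup.centralizer (A : Set G)) = 2 ^ 15 * 120 := by
  obtain ⟨ψ, hker, -, -, hrange⟩ := exists_psi D Q hA
  have hk : Nat.card ψ.ker = 2 ^ 11 := by
    rw [← card_W D Q hA]
    exact Nat.card_congr
      { toFun := fun y => ⟨y.1.1, Subgroup.mem_inf.2 ⟨(hker _).1 y.2, y.1.2⟩⟩
        invFun := fun e => ⟨⟨e, (Subgroup.mem_inf.1 e.2).2⟩, (hker _).2 (Subgroup.mem_inf.1 e.2).1⟩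
        left_inv := fun _ => rfl
        right_inv := fun _ => rfl }
  have h1 := ψ.ker.card_mul_index
  rw [Subgroup.index_ker, hrange, hk] at h1
  omega

/-- An element moving the part in `E` into `A`. -/
theorem exists_witness : ∃ y : G, y ∈ Subgroup.centralizer (A : Set G) ∧ y ∉ E ∧
    ∀ e ∈ E ⊓ Subgroup.centralizer (A : Set G), y * e * y⁻¹ * e⁻¹ ∈ A := by
  obtain ⟨hw, h1, h2, hne, hall⟩ := pent_word
  obtain ⟨c, -, hAct⟩ := D.full.Mo.lift (w := pentW) fun k hk => of_decide_eq_true (List.all_eq_true.1 hw k hk)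
  have hcz := (mem_CZ.1 c.2).1
  have hcA : (c : G) ∈ Subgroup.centralizer (A : Set G) := cent_of_fix D Q hA c.2 (by
    have := hAct.2 1092 (by norm_num)
    rwa [h1] at this)
  refine ⟨c, hcA, fun hcE => hne ?_, fun e he => ?_⟩
  · refine (D.full.Mo.coords.rel_iff J (okB_lt hAct.1 1) (by norm_num : (1 : ℕ) < 4096)).1 ?_
    refine J.rel_trans (J.rel_symm (hAct.2 1 (by norm_num))) ?_
    exact J.rel_conj_E hcE (vec_E D (by norm_num))
  · obtain ⟨n, hn, hr⟩ := D.full.Mo.coords.surj e he.1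
    have hnE := vec_E D hn
    have hp : pentP n = true := by
      obtain ⟨v1, v2⟩ := vec_mem_A D Q hA
      have hv1 : vec 1092 * vec n = vec n * vec 1092 :=
        (J.comm_of_rel (J.s.z_comm (vec_E D (by norm_num))) (J.rel_symm hr) ((mem_cent.1 he.2) _ v1).symm).symm
      have hv2 : vec 2184 * vec n = vec n * vec 2184 :=
        (J.comm_of_rel (J.s.z_comm (vec_E D (by norm_num))) (J.rel_symm hr) ((mem_cent.1 he.2) _ v2).symm).symm
      simp only [pentP, Bool.and_eq_true, beq_iff_eq]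
      exact ⟨(D.full.comm_vec D.isV hn (by norm_num)).1 hv1.symm, (D.full.comm_vec D.isV hn (by norm_num)).1 hv2.symm⟩
    have := List.all_eq_true.1 hall n (List.mem_range.2 hn)
    simp only [hp, Bool.not_true, Bool.false_or, List.contains_iff_mem] at this
    have hlt := okB_lt hAct.1 n
    set m := Nat.xor (ap (wordB MS pentW) n) n
    have hrel : Rel z ((c : G) * e * (c : G)⁻¹ * e⁻¹) (vec m) :=
      J.rel_trans (J.rel_mul (J.s.z_comm (vec_E D hlt)) (J.rel_trans (J.rel_conj hcz hr) (hAct.2 n hn))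
        (J.rel_trans (J.rel_inv he.1) hr)) (J.rel_symm (D.full.Mo.coords.add _ _ hlt hn))
    refine (hA _).2 ⟨m, ?_, hrel⟩
    simp only [List.mem_cons, List.not_mem_nil, or_false] at this
    rcases this with k | k | k | k
    · exact Or.inl k
    all_goals exact Or.inr (by rw [k]; decide)

/-- Involutory images centralize less. -/
theorem exists_moved {y : G} (hy : y ∈ Subgroup.centralizer (A : Set G)) (hyE : y ∉ E) (hy2 : y * y ∈ E) :
    ∃ e ∈ E ⊓ Subgroup.centralizer (A : Set G), y * e ≠ e * y := by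
  by_contra hne
  push Not at hne
  obtain ⟨ψ, hker, -, hdec, -⟩ := exists_psi D Q hA
  obtain ⟨c, hcA, hyc, hψy⟩ := hdec ⟨y, hy⟩
  have hcz := (mem_CZ.1 c.2).1
  have hp1 : J.proj c ≠ 1 := fun e => hyE ((hker ⟨y, hy⟩).1 (hψy.trans e))
  have hpp : J.proj (c * c) = 1 := by
    rw [map_mul, ← hψy, ← map_mul]
    exact (hker _).2 hy2
  have hcc : (c : G) * c = 1 := J.sq_eq_one D.small (by
    simpa using ker_cases D Q hA hpp (mul_mem hcA hcA))
  have hc1 : (c : G) ≠ 1 := fun e => hp1 (by rw [show c = 1 from Subtype.ext e, map_one])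
  have hcnz : (c : G) ≠ z := fun e => hp1 (by
    rw [show c = ⟨z, J.z_mem_CZ⟩ from Subtype.ext e]; exact J.proj_z)
  have hle : E ⊓ Subgroup.centralizer (A : Set G) ≤ fx z E (c : G) := fun e he => by
    refine (J.mem_fx hcz).2 ⟨he.1, ?_⟩
    set d := y * (c : G)⁻¹ with hd
    have h1 : (c : G) * e * (c : G)⁻¹ = d⁻¹ * e * d⁻¹⁻¹ := by
      calc (c : G) * e * (c : G)⁻¹ = d⁻¹ * (y * e * y⁻¹) * d⁻¹⁻¹ := by rw [hd]; group
        _ = _ := by rw [hne e he, mul_inv_cancel_right]
    rw [h1]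
    exact J.rel_conj_E (E.inv_mem hyc) he.1
  have h := Subgroup.card_le_of_le hle
  rw [card_W D Q hA, D.full.hdim c c.2 hcc hc1 hcnz] at h
  norm_num at h

/-- The part in `E` is not abelian. -/
theorem exists_noncomm : ∃ e ∈ E ⊓ Subgroup.centralizer (A : Set G),
    ∃ f ∈ E ⊓ Subgroup.centralizer (A : Set G), e * f * e⁻¹ * f⁻¹ = z := by
  obtain ⟨h4, h34, hbb⟩ := pent_pair
  have hmem : ∀ n, n < 4096 → pentP n = true → vec n ∈ E ⊓ Subgroup.centralizer (A : Set G) := fun n hn hp => by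
    simp only [pentP, Bool.and_eq_true, beq_iff_eq] at hp
    exact ⟨vec_E D hn, cent_of_two D Q hA (J.s.z_comm (vec_E D hn))
      ((D.full.comm_vec D.isV hn (by norm_num)).2 hp.1).symm ((D.full.comm_vec D.isV hn (by norm_num)).2 hp.2).symm⟩
  refine ⟨vec 4, hmem 4 (by norm_num) h4, vec 34, hmem 34 (by norm_num) h34, ?_⟩
  rcases J.s.comm_cases (vec_E D (n := 4) (by norm_num)) (vec_E D (n := 34) (by norm_num)) with k | k
  · exfalso
    have := (D.full.comm_vec D.isV (by norm_num : (4 : ℕ) < 4096) (by norm_num : (34 : ℕ) < 4096)).1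
      (mul_inv_eq_iff_eq_mul.1 k)
    rw [hbb] at this
    exact Bool.noConfusion this
  · rw [k, mul_inv_cancel_right]

end Std

end CfsgLib.JFourLocal
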