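import Mathlib.GroupTheory.Perm.Cycle.Type
import Cfsg.Agent.Lib.JFourLocal.FiveLoc

/-!
# The data behind the 2-local subgroup over the elementary subgroup of order eight

Small lemmas on fixed points of elements of prime order, and the record of what is used.
-/

set_option autoImplicit false
set_option linter.style.haveILetI false
set_option linter.unusedSectionVars false

open scoped Classical

namespace CfsgLib.JFourLocal

variable {G : Type*} [Group G] [Finite G]

/-- An element of prime order normalizing a set of size prime to it commutes with a member. -/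
theorem exists_fixed_conj {p : ℕ} [Fact p.Prime] {x : G} (hx : x ^ p = 1) {S : Set G}
    (hinv : ∀ y ∈ S, x * y * x⁻¹ ∈ S) (hS : ¬ p ∣ S.ncard) : ∃ y ∈ S, x * y = y * x := by
  classical
  letI : Fintype ↥S := Fintype.ofFinite _
  let f : ↥S → ↥S := fun y => ⟨x * y * x⁻¹, hinv y y.2⟩
  have hf : Function.Bijective f := Finite.injective_iff_bijective.1 fun a b h =>
    Subtype.ext ((MulAut.conj x).injective (congrArg Subtype.val h))
  let σ : Equiv.Perm ↥S := Equiv.ofBijective f hf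
  have hσ : ∀ (n : ℕ) (y : ↥S), ((σ ^ n) y : G) = x ^ n * y * (x ^ n)⁻¹ := by
    intro n
    induction n with
    | zero => intro y; simp
    | succ n ih =>
      intro y
      rw [pow_succ', Equiv.Perm.mul_apply]
      show x * ((σ ^ n) y : G) * x⁻¹ = _
      rw [ih y, pow_succ']
      group
  obtain ⟨y, hy⟩ := Equiv.Perm.exists_fixed_point_of_prime (p := p) (n := 1) (α := ↥S)
    (by rwa [← Nat.card_eq_fintype_card, Nat.card_coe_set_eq]) (σ := σ)
    (Equiv.ext fun y => Subtype.ext (by rw [pow_one, hσ, hx]; simp))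
  exact ⟨y, y.2, mul_inv_eq_iff_eq_mul.1 (congrArg Subtype.val hy)⟩

/-- What is used about the centralizer of `A`. -/
structure PentadPre (z q f : G) (E A : Subgroup G) : Prop where
  L : FiveLoc q f A
  z1 : z ≠ 1
  zA : z ∈ A
  fA : ∀ a ∈ A, f * a * f⁻¹ ∈ A
  card_C : Nat.card ↥(Subgroup.centralizer (A : Set G)) = 2 ^ 15 * 120
  card_W : Nat.card ↥(E ⊓ Subgroup.centralizer (A : Set G)) = 2 ^ 11
  conj_W : ∀ y ∈ Subgroup.centralizer (A : Set G), ∀ e ∈ E ⊓ Subgroup.centralizer (A : Set G),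
    y * e * y⁻¹ ∈ E ⊓ Subgroup.centralizer (A : Set G)
  A_W : A ≤ E ⊓ Subgroup.centralizer (A : Set G)
  sq : ∀ e ∈ E ⊓ Subgroup.centralizer (A : Set G), e * e = 1 ∨ e * e = z
  comm : ∀ e ∈ E ⊓ Subgroup.centralizer (A : Set G), ∀ e' ∈ E ⊓ Subgroup.centralizer (A : Set G),
    e * e' * e⁻¹ * e'⁻¹ = 1 ∨ e * e' * e⁻¹ * e'⁻¹ = z
  noncomm : ∃ e ∈ E ⊓ Subgroup.centralizer (A : Set G), ∃ e' ∈ E ⊓ Subgroup.centralizer (A : Set G),
    e * e' * e⁻¹ * e'⁻¹ = z
  radical : ∀ e ∈ E ⊓ Subgroup.centralizer (A : Set G),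
    (∀ e' ∈ E ⊓ Subgroup.centralizer (A : Set G), e * e' = e' * e) → e ∈ A
  five : ∀ y ∈ Subgroup.centralizer (A : Set G), y * q * y⁻¹ * q⁻¹ ∈ E → ∃ i : ℕ, y * (q ^ i)⁻¹ ∈ E
  witness : ∃ y, y ∈ Subgroup.centralizer (A : Set G) ∧ y ∉ E ∧
    ∀ e ∈ E ⊓ Subgroup.centralizer (A : Set G), y * e * y⁻¹ * e⁻¹ ∈ A
  moved : ∀ y ∈ Subgroup.centralizer (A : Set G), y ∉ E → y * y ∈ E →
    ∃ e ∈ E ⊓ Subgroup.centralizer (A : Set G), y * e ≠ e * y
  free : ∀ x : G, orderOf x = 7 → x * q = q * x → ∀ a ∈ A, x * a = a * x → a = 1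

namespace PentadPre

variable {z q f : G} {E A : Subgroup G} (P : PentadPre z q f E A)
include P

theorem conj_mem {k a : G} (hk : k ∈ Subgroup.normalizer (A : Set G)) (ha : a ∈ A) : k * a * k⁻¹ ∈ A :=
  (Subgroup.mem_normalizer_iff.1 hk a).1 ha

theorem mem_norm {k : G} (h : ∀ a ∈ A, k * a * k⁻¹ ∈ A) : k ∈ Subgroup.normalizer (A : Set G) := by
  have hle : A.map (MulAut.conj k).toMonoidHom ≤ A := by
    rintro _ ⟨a, ha, rfl⟩
    exact h a ha
  have heq := Subgroup.eq_of_le_of_card_ge hle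
    (by rw [Subgroup.card_map_of_injective (MulAut.conj k).injective])
  refine Subgroup.mem_normalizer_iff.2 fun y => ?_
  conv_rhs => rw [← heq, Subgroup.mem_map_equiv, MulAut.conj_symm_apply]
  rw [show k⁻¹ * (k * y * k⁻¹) * k = y by group]

theorem centq_le : Subgroup.centralizer ({q} : Set G) ≤ Subgroup.normalizer (A : Set G) := fun g hg =>
  P.mem_norm fun a ha => P.L.Anorm g (Subgroup.mem_centralizer_singleton_iff.1 hg) a ha

theorem cent_le : Subgroup.centralizer (A : Set G) ≤ Subgroup.normalizer (A : Set G) :=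
  Subgroup.centralizer_le_normalizer _

theorem f_mem : f ∈ Subgroup.normalizer (A : Set G) := P.mem_norm P.fA

theorem cent_normal {k y : G} (hk : k ∈ Subgroup.normalizer (A : Set G))
    (hy : y ∈ Subgroup.centralizer (A : Set G)) : k * y * k⁻¹ ∈ Subgroup.centralizer (A : Set G) :=
  Subgroup.mem_centralizer_iff.2 fun a ha => by
    have hk' := (Subgroup.normalizer (A : Set G)).inv_mem hk
    have h1 := (Subgroup.mem_centralizer_iff.1 hy) _ (P.conj_mem hk' ha)
    rw [inv_inv] at h1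
    calc a * (k * y * k⁻¹) = k * (k⁻¹ * a * k * y) * k⁻¹ := by group
      _ = _ := by rw [h1]; group

theorem q_C : q ∈ Subgroup.centralizer (A : Set G) := Subgroup.mem_centralizer_iff.2 P.L.Ac

/-- `C(q)` induces every automorphism of `A` induced by its normalizer. -/
theorem decomp {k : G} (hk : k ∈ Subgroup.normalizer (A : Set G)) :
    ∃ c ∈ Subgroup.centralizer ({q} : Set G), c⁻¹ * k ∈ Subgroup.centralizer (A : Set G) := by
  set N := Subgroup.normalizer (A : Set G)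
  let θ : ↥N →* MulAut ↥A := MonoidHom.mk'
    (fun k => { toFun := fun a => ⟨(k : G) * a * (k : G)⁻¹, P.conj_mem k.2 a.2⟩
                invFun := fun a => ⟨(k : G)⁻¹ * a * k, by
                  have := P.conj_mem (N.inv_mem k.2) a.2
                  rwa [inv_inv] at this⟩
                left_inv := fun a => Subtype.ext (by
                  show (k : G)⁻¹ * ((k : G) * a * (k : G)⁻¹) * k = a
                  group)
                right_inv := fun a => Subtype.ext (by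
                  show (k : G) * ((k : G)⁻¹ * a * k) * (k : G)⁻¹ = a
                  group)
                map_mul' := fun a b => Subtype.ext (by
                  show (k : G) * (a * b : G) * (k : G)⁻¹ = (k : G) * a * (k : G)⁻¹ * ((k : G) * b * (k : G)⁻¹)
                  group) })
    (fun k k' => MulEquiv.ext fun a => Subtype.ext (by
      show (k : G) * k' * a * ((k : G) * k')⁻¹ = (k : G) * ((k' : G) * a * (k' : G)⁻¹) * (k : G)⁻¹
      group))
  have hθ : ∀ (k : ↥N) (a : ↥A), (θ k a : G) = (k : G) * a * (k : G)⁻¹ := fun _ _ => rfl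
  set CQ := (Subgroup.centralizer ({q} : Set G)).subgroupOf N
  let ρ : ↥CQ →* MulAut ↥A := θ.comp CQ.subtype
  have hCQ : Nat.card CQ = 6720 := by
    rw [Nat.card_congr (Subgroup.subgroupOfEquivOfLe P.centq_le).toEquiv, P.L.card]
  have hker : Nat.card ρ.ker ≤ 40 := by
    have hsur : ∀ x : ↥ρ.ker, ∃ a : ↥A, ∃ i : Fin 5, (((x : ↥CQ) : ↥N) : G) = a * q ^ (i : ℕ) := by
      intro x
      have hq := Subgroup.mem_centralizer_singleton_iff.1 (Subgroup.mem_subgroupOf.1 (x : ↥CQ).2)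
      have hfix : ∀ a ∈ A, (((x : ↥CQ) : ↥N) : G) * a = a * ((x : ↥CQ) : ↥N) := fun a ha => by
        have h1 := congrArg (fun σ : MulAut ↥A => (σ ⟨a, ha⟩ : G)) (MonoidHom.mem_ker.1 x.2)
        exact mul_inv_eq_iff_eq_mul.1 h1
      obtain ⟨a, ha, i, he⟩ := P.L.Acent _ hq hfix
      refine ⟨⟨a, ha⟩, ⟨i % 5, Nat.mod_lt _ (by norm_num)⟩, ?_⟩
      rw [he]
      show a * q ^ i = a * q ^ (i % 5)
      rw [← P.L.q5, pow_mod_orderOf]
    choose a i hai using hsur
    refine (Nat.card_le_card_of_injective (fun x => (a x, i x)) fun x y h => ?_).trans (le_of_eq ?_)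
    · have h1 : a x = a y := congrArg Prod.fst h
      have h2 : i x = i y := congrArg Prod.snd h
      exact Subtype.ext (Subtype.ext (Subtype.ext (by rw [hai x, hai y, h1, h2])))
    · rw [Nat.card_prod, Nat.card_fin, P.L.A8]
  obtain ⟨θ', hθ'⟩ := exists_SL_hom (fun a : ↥A => Subtype.ext (P.L.Asq _ a.2)) P.L.A8
  have hAut : Nat.card (MulAut ↥A) ≤ 168 := by
    rw [← card_SL_three_two]
    exact Nat.card_le_card_of_injective θ' hθ'
  have hmul := ρ.ker.card_mul_index
  rw [Subgroup.index_ker, hCQ] at hmul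
  have htop : ρ.range = ⊤ := Subgroup.eq_top_of_le_card _ (by nlinarith [hker, hAut, hmul])
  obtain ⟨c, hc⟩ : θ ⟨k, hk⟩ ∈ ρ.range := htop ▸ Subgroup.mem_top _
  refine ⟨((c : ↥N) : G), Subgroup.mem_subgroupOf.1 c.2, Subgroup.mem_centralizer_iff.2 fun a ha => ?_⟩
  have h1 : ((c : ↥N) : G) * a * ((c : ↥N) : G)⁻¹ = k * a * k⁻¹ :=
    congrArg (fun σ : MulAut ↥A => (σ ⟨a, ha⟩ : G)) hc
  calc a * (((c : ↥N) : G)⁻¹ * k) = ((c : ↥N) : G)⁻¹ * (((c : ↥N) : G) * a * ((c : ↥N) : G)⁻¹) * k := by group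
    _ = _ := by rw [h1]; group

/-- An element of the centralizer of `A` squaring `q`. -/
theorem exists_square : ∃ y ∈ Subgroup.centralizer (A : Set G), y * q * y⁻¹ = q ^ 2 := by
  obtain ⟨c, hc, hcy⟩ := P.decomp P.f_mem
  refine ⟨c⁻¹ * f, hcy, ?_⟩
  have hcq := Subgroup.mem_centralizer_singleton_iff.1 hc
  rw [show c⁻¹ * f * q * (c⁻¹ * f)⁻¹ = c⁻¹ * (f * q * f⁻¹) * c by group, P.L.fq, mul_assoc,
    ((show Commute c q from hcq).pow_right 2).symm.eq, inv_mul_cancel_left]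

theorem card_normalizer_A : Nat.card ↥(Subgroup.normalizer (A : Set G)) = 2 ^ 15 * 120 * 168 := by
  set CA := Subgroup.centralizer (A : Set G)
  set CQ := Subgroup.centralizer ({q} : Set G)
  have hker : Nat.card ↥(CQ ⊓ CA) = 40 := by
    let F : ↥A × Fin 5 → ↥(CQ ⊓ CA) := fun u => ⟨u.1 * q ^ (u.2 : ℕ), Subgroup.mem_inf.2
      ⟨Subgroup.mem_centralizer_singleton_iff.2
        ((show Commute (u.1 : G) q from P.L.Ac _ u.1.2).mul_left ((Commute.refl q).pow_left _)).eq,
      CA.mul_mem (P.A_W u.1.2).2 (CA.pow_mem P.q_C _)⟩⟩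
    have hF : Function.Bijective F := by
      constructor
      · rintro ⟨a, i⟩ ⟨b, j⟩ h
        have h' : (a : G) * q ^ (i : ℕ) = b * q ^ (j : ℕ) := congrArg Subtype.val h
        have h2 : ((b : G)⁻¹ * a) = q ^ (j : ℕ) * (q ^ (i : ℕ))⁻¹ := by
          rw [eq_mul_inv_iff_mul_eq, mul_assoc, h', inv_mul_cancel_left]
        have h3 : ((b : G)⁻¹ * a) ^ 2 = 1 := by
          rw [pow_two]; exact P.L.Asq _ (A.mul_mem (A.inv_mem b.2) a.2)
        have h4 : ((b : G)⁻¹ * a) ^ 5 = 1 := by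
          rw [h2, (((Commute.refl q).pow_pow _ _).inv_right).mul_pow, inv_pow, ← pow_mul, ← pow_mul,
            mul_comm (i : ℕ), mul_comm (j : ℕ), pow_mul, pow_mul, P.L.q_pow, one_pow, one_pow, inv_one, mul_one]
        have h5 : (b : G)⁻¹ * a = 1 := by simpa using pow_gcd_eq_one.2 ⟨h3, h4⟩
        obtain rfl : b = a := Subtype.ext (inv_mul_eq_one.1 h5)
        have h6 := mul_left_cancel h'
        rw [pow_eq_pow_iff_modEq, P.L.q5] at h6
        exact Prod.ext rfl (Fin.ext (h6.eq_of_lt_of_lt i.2 j.2))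
      · rintro ⟨g, hg⟩
        obtain ⟨hgq, hgA⟩ := Subgroup.mem_inf.1 hg
        obtain ⟨a, ha, i, rfl⟩ := P.L.Acent g (Subgroup.mem_centralizer_singleton_iff.1 hgq)
          fun a ha => ((Subgroup.mem_centralizer_iff.1 hgA) a ha).symm
        refine ⟨(⟨a, ha⟩, ⟨i % 5, Nat.mod_lt _ (by norm_num)⟩), Subtype.ext ?_⟩
        show a * q ^ (i % 5) = a * q ^ i
        rw [← P.L.q5, pow_mod_orderOf]
    rw [← Nat.card_congr (Equiv.ofBijective F hF), Nat.card_prod, P.L.A8, Nat.card_fin]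
  let F : ↥CQ × ↥CA → ↥(Subgroup.normalizer (A : Set G)) := fun u =>
    ⟨u.1 * u.2, (Subgroup.normalizer (A : Set G)).mul_mem (P.centq_le u.1.2) (P.cent_le u.2.2)⟩
  have hsur : Function.Surjective F := fun k => by
    obtain ⟨c, hc, hy⟩ := P.decomp k.2
    exact ⟨(⟨c, hc⟩, ⟨_, hy⟩), Subtype.ext (mul_inv_cancel_left c k)⟩
  choose r hr using hsur
  let e : ↥(Subgroup.normalizer (A : Set G)) × ↥(CQ ⊓ CA) ≃ ↥CQ × ↥CA :=
    { toFun := fun u => (⟨(r u.1).1 * u.2, CQ.mul_mem (r u.1).1.2 (Subgroup.mem_inf.1 u.2.2).1⟩,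
        ⟨(u.2 : G)⁻¹ * (r u.1).2, CA.mul_mem (CA.inv_mem (Subgroup.mem_inf.1 u.2.2).2) (r u.1).2.2⟩)
      invFun := fun v => (F v, ⟨((r (F v)).1 : G)⁻¹ * v.1, Subgroup.mem_inf.2
        ⟨CQ.mul_mem (CQ.inv_mem (r (F v)).1.2) v.1.2, by
          have h : ((r (F v)).1 : G) * (r (F v)).2 = v.1 * v.2 := congrArg Subtype.val (hr (F v))
          rw [show ((r (F v)).1 : G)⁻¹ * v.1 = (r (F v)).2 * (v.2 : G)⁻¹ by
            rw [eq_mul_inv_iff_mul_eq, mul_assoc, ← h, inv_mul_cancel_left]]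
          exact CA.mul_mem (r (F v)).2.2 (CA.inv_mem v.2.2)⟩⟩)
      left_inv := fun u => by
        have h1 : F (⟨(r u.1).1 * u.2, CQ.mul_mem (r u.1).1.2 (Subgroup.mem_inf.1 u.2.2).1⟩,
            ⟨(u.2 : G)⁻¹ * (r u.1).2, CA.mul_mem (CA.inv_mem (Subgroup.mem_inf.1 u.2.2).2) (r u.1).2.2⟩) = u.1 :=
          (Subtype.ext (by
            show ((r u.1).1 : G) * u.2 * ((u.2 : G)⁻¹ * (r u.1).2) = ((r u.1).1 : G) * (r u.1).2
            group)).trans (hr u.1)
        refine Prod.ext h1 (Subtype.ext ?_)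
        show ((r (F _)).1 : G)⁻¹ * ((r u.1).1 * u.2) = u.2
        rw [h1, inv_mul_cancel_left]
      right_inv := fun v => by
        have h : ((r (F v)).1 : G) * (r (F v)).2 = v.1 * v.2 := congrArg Subtype.val (hr (F v))
        refine Prod.ext (Subtype.ext ?_) (Subtype.ext ?_)
        · show ((r (F v)).1 : G) * (((r (F v)).1 : G)⁻¹ * v.1) = v.1
          rw [mul_inv_cancel_left]
        · show (((r (F v)).1 : G)⁻¹ * v.1)⁻¹ * (r (F v)).2 = v.2
          rw [mul_inv_rev, inv_inv, mul_assoc, h, inv_mul_cancel_left] }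
  have h := Nat.card_congr e
  rw [Nat.card_prod, Nat.card_prod, hker, P.L.card, P.card_C] at h
  omega

end PentadPre

end CfsgLib.JFourLocal
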