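import Mathlib.GroupTheory.Perm.Cycle.Type
import Mathlib.GroupTheory.PGroup
import Cfsg.Agent.Lib.JFour.M22Checks
import Cfsg.Agent.Lib.JFourLocal.OuterData
import Cfsg.Agent.Lib.JFourLocal.SevenM
import Cfsg.Agent.Lib.JFourLocal.PentadPre

/-!
# An elementary subgroup of order eight with a normalizing element of order seven in the group on 22 points

It has exactly one regular orbit on the 24 points; a point stabilizer in any group normalizing it is a
complement.
-/

set_option autoImplicit false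
set_option maxRecDepth 100000
set_option linter.style.haveILetI false

open Cfsg
open scoped Classical

namespace CfsgLib.JFourLocal

open CfsgLib.Golay CfsgLib.Golay.SylowTwo

/-- The number of fixed points. -/
noncomputable def pentFix (σ : Equiv.Perm GolayPt) : ℕ := (Finset.univ.filter fun p => σ p = p).card

theorem pentFix_conj (h σ : Equiv.Perm GolayPt) : pentFix (h * σ * h⁻¹) = pentFix σ := by
  refine (Finset.card_bij (fun p _ => h p) ?_ (fun a _ b _ e => h.injective e) ?_).symm
  · intro p hp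
    simp only [Finset.mem_filter, Finset.mem_univ, true_and] at hp ⊢
    simp [hp]
  · intro p hp
    simp only [Finset.mem_filter, Finset.mem_univ, true_and] at hp
    refine ⟨h⁻¹ p, ?_, by simp⟩
    simp only [Finset.mem_filter, Finset.mem_univ, true_and]
    exact h.injective (by simpa using hp)

theorem pentFix_toPerm {P : ℕ} (h : validP P = true) :
    pentFix (toPerm P) = (Finset.univ.filter fun p : GolayPt => ap P (idx p) = idx p).card := by
  unfold pentFix
  congr 1
  ext p
  simp only [Finset.mem_filter, Finset.mem_univ, true_and]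
  exact ⟨fun e => by rw [← idx_toPerm h, e], fun e => idx_injective ((idx_toPerm h p).trans e)⟩

theorem pentFix_data : JFour.M22Cert.inG JFour.M22Cert.zP = true ∧
    eqP JFour.M22Cert.zP idP = false ∧
    eqP (mulP JFour.M22Cert.zP JFour.M22Cert.zP) idP = true ∧
    (Finset.univ.filter fun p : GolayPt => ap JFour.M22Cert.zP (idx p) = idx p).card = 8 ∧
    (Finset.univ.filter fun p : GolayPt => ap Aut.elt7 (idx p) = idx p).card = 3 := by
  decide +kernel

/-- The fixed points of involutions and of elements of order seven. -/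
theorem fix_counts (F : CfsgLib.M22Order.Facts ↥Cfsg.Spor.M22) :
    (∀ m : ↥Cfsg.Spor.M22, orderOf m = 2 → pentFix m = 8) ∧
      ∀ m : ↥Cfsg.Spor.M22, orderOf m = 7 → pentFix m = 3 := by
  obtain ⟨hz, hz1, hz2, h8, h3⟩ := pentFix_data
  obtain ⟨hvz, hzM⟩ := OuterData.mem_of_inG hz
  obtain ⟨hvs, hsM⟩ := OuterData.mem_of_inG OuterData.mem_ok.1
  obtain ⟨c1, c2, c3, ⟨ci, hci, hcne⟩, c4, c5, c6, c7, c8, c9, c10⟩ := Aut.elt7_chk
  constructor
  · intro m hm
    haveI := Fact.mk Nat.prime_two
    have hZ : orderOf (⟨toPerm JFour.M22Cert.zP, hzM⟩ : ↥Cfsg.Spor.M22) = 2 := by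
      refine orderOf_eq_prime (Subtype.ext ?_) fun e => ?_
      · rw [Subgroup.coe_pow, pow_two, Subgroup.coe_one, ← toPerm_mulP hvz hvz,
          toPerm_eq_of_eqP (validP_mulP hvz hvz) validP_idP hz2, toPerm_idP]
      · have h := eqP_of_toPerm_eq hvz validP_idP ((congrArg Subtype.val e).trans toPerm_idP.symm)
        rw [h] at hz1
        exact Bool.noConfusion hz1
    obtain ⟨c, hc⟩ := isConj_iff.1 (F.invol_conj _ _ hZ hm)
    rw [← hc, Subgroup.coe_mul, Subgroup.coe_mul, InvMemClass.coe_inv, pentFix_conj, pentFix_toPerm hvz, h8]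
  · intro m hm
    haveI := Fact.mk (show Nat.Prime 7 by norm_num)
    have hS : orderOf (⟨toPerm Aut.elt7, hsM⟩ : ↥Cfsg.Spor.M22) = 7 := by
      refine orderOf_eq_prime (Subtype.ext ?_) fun e => hcne ?_
      · rw [Subgroup.coe_pow, Subgroup.coe_one, ← (toPerm_powP hvs 7).2, c3, (toPerm_powP hvs 0).2, pow_zero]
      · have := (idx_toPerm hvs (pt ci)).symm
        rw [show toPerm Aut.elt7 = 1 from congrArg Subtype.val e, Equiv.Perm.one_apply,
          idx_pt ci (List.mem_range.1 hci)] at this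
        exact this
    obtain ⟨c, j, hj, hc⟩ := seven_conj F.card hm hS
    have h1 : pentFix (toPerm Aut.elt7 ^ j) = 3 := by
      rw [← h3, ← pentFix_toPerm hvs]
      unfold pentFix
      congr 1
      ext p
      simp only [Finset.mem_filter, Finset.mem_univ, true_and]
      have hfix : ∀ (σ : Equiv.Perm GolayPt) (n : ℕ), σ p = p → (σ ^ n) p = p := by
        intro σ n hσ
        induction n with
        | zero => simp
        | succ n ih => rw [pow_succ', Equiv.Perm.mul_apply, ih, hσ]
      refine ⟨fun h => ?_, hfix _ j⟩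
      have h' := hfix (toPerm Aut.elt7 ^ j) (j ^ 5) h
      have h7 : toPerm Aut.elt7 ^ 7 = 1 := by
        rw [← (toPerm_powP hvs 7).2, c3, (toPerm_powP hvs 0).2, pow_zero]
      have hmod : j * j ^ 5 % 7 = 1 := by
        rw [← pow_succ', Nat.pow_mod]
        have : j % 7 < 7 := Nat.mod_lt _ (by norm_num)
        interval_cases j % 7 <;> simp at hj ⊢
      rwa [← pow_mul, ← Nat.mod_add_div (j * j ^ 5) 7, hmod, pow_add, pow_one, pow_mul, h7, one_pow,
        mul_one] at h'
    have h2 : (c : Equiv.Perm GolayPt) * m * (c : Equiv.Perm GolayPt)⁻¹ = toPerm Aut.elt7 ^ j :=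
      congrArg Subtype.val hc
    rw [← h1, ← h2, pentFix_conj]

theorem pent_arith {a b c d f g : ℕ} (hN : a + b + c + d = 24) (hW : a + 2 * b + 4 * c + 8 * d = 80)
    (hF : f + g = 3) (hg : 2 ≤ g) (ha : f % 7 = a % 7) (hb : 0 % 7 = b % 7) (hc : 0 % 7 = c % 7)
    (hd : g % 7 = d % 7) (hfa : f ≤ a) (hgd : g ≤ d) (he : 2 ∣ c) : a = 8 := by
  obtain ⟨c', rfl⟩ := he
  have hc' : c' = 0 ∨ c' = 7 := by omega
  have hd' : d ≤ 10 := by omega
  rcases hc' with rfl | rfl <;> interval_cases d <;> omega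

/-- Fixed points in an invariant set modulo seven. -/
theorem fixed_mod_seven {σ : Equiv.Perm GolayPt} (hσ : σ ^ 7 = 1) {S : Finset GolayPt}
    (hS : ∀ p, σ p ∈ S ↔ p ∈ S) : (S.filter fun p => σ p = p).card ≡ S.card [MOD 7] := by
  haveI := Fact.mk (show Nat.Prime 7 by norm_num)
  let τ : Equiv.Perm {p // p ∈ S} := σ.subtypePerm hS
  have hτ : τ ^ 7 ^ 1 = 1 := by
    ext p
    simp [τ, hσ]
  have h := Equiv.Perm.card_compl_support_modEq (p := 7) hτ
  rw [Fintype.card_coe] at h
  refine Eq.subst (motive := fun k => k ≡ S.card [MOD 7]) ?_ h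
  refine Finset.card_bij (fun p _ => (p : GolayPt)) ?_ (fun a _ b _ e => Subtype.ext e) ?_
  · intro p hp
    rw [Finset.mem_compl, Equiv.Perm.notMem_support] at hp
    exact Finset.mem_filter.2 ⟨p.2, congrArg Subtype.val hp⟩
  · intro p hp
    obtain ⟨hpS, hfix⟩ := Finset.mem_filter.1 hp
    exact ⟨⟨p, hpS⟩, by rw [Finset.mem_compl, Equiv.Perm.notMem_support]; exact Subtype.ext hfix, rfl⟩

section Orbit

variable {D : Type*} [Group D] [Finite D] (φ : D →* Equiv.Perm GolayPt) {A : Subgroup D}

/-- The order of the stabilizer in `A`. -/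
noncomputable def pentStab (A : Subgroup D) (p : GolayPt) : ℕ := Nat.card {a : ↥A // φ a p = p}

theorem pentStab_cases (hA8 : Nat.card A = 8) (p : GolayPt) :
    pentStab φ A p = 1 ∨ pentStab φ A p = 2 ∨ pentStab φ A p = 4 ∨ pentStab φ A p = 8 := by
  let S : Subgroup ↥A := (MulAction.stabilizer (Equiv.Perm GolayPt) p).comap (φ.comp A.subtype)
  have h : pentStab φ A p = Nat.card S := rfl
  obtain ⟨k, hk, he⟩ := (Nat.dvd_prime_pow Nat.prime_two).1
    (show pentStab φ A p ∣ 2 ^ 3 by rw [h, show 2 ^ 3 = 8 from rfl, ← hA8]; exact S.card_subgroup_dvd_card)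
  rw [he]
  interval_cases k <;> simp

theorem pentStab_conj [hn : A.Normal] (d : D) (p : GolayPt) : pentStab φ A (φ d p) = pentStab φ A p := by
  refine Nat.card_congr
    { toFun := fun a => ⟨⟨d⁻¹ * a.1 * d, by simpa using hn.conj_mem _ a.1.2 d⁻¹⟩, by
        show φ (d⁻¹ * a.1 * d) p = p
        rw [map_mul, map_mul, Equiv.Perm.mul_apply, Equiv.Perm.mul_apply, a.2, ← Equiv.Perm.mul_apply,
          ← map_mul, inv_mul_cancel, map_one, Equiv.Perm.one_apply]⟩
      invFun := fun a => ⟨⟨d * a.1 * d⁻¹, hn.conj_mem _ a.1.2 d⟩, by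
        show φ (d * a.1 * d⁻¹) (φ d p) = φ d p
        rw [← Equiv.Perm.mul_apply, ← map_mul, inv_mul_cancel_right, map_mul, Equiv.Perm.mul_apply, a.2]⟩
      left_inv := fun a => Subtype.ext (Subtype.ext (by
        show d * (d⁻¹ * a.1 * d) * d⁻¹ = a.1
        group))
      right_inv := fun a => Subtype.ext (Subtype.ext (by
        show d⁻¹ * (d * a.1 * d⁻¹) * d = a.1
        group)) }

theorem pentStab_full (hA8 : Nat.card A = 8) {p : GolayPt} (h : pentStab φ A p = 8) : ∀ a ∈ A, φ a p = p := by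
  intro a ha
  let S : Subgroup ↥A := (MulAction.stabilizer (Equiv.Perm GolayPt) p).comap (φ.comp A.subtype)
  have hS : S = ⊤ := Subgroup.eq_top_of_card_eq _ (by rw [hA8]; exact h)
  exact (hS ▸ Subgroup.mem_top _ : (⟨a, ha⟩ : ↥A) ∈ S)

/-- The two-point orbits fill a set of even size. -/
theorem pentStab_even [A.Normal] (hA8 : Nat.card A = 8) :
    2 ∣ (Finset.univ.filter fun p => pentStab φ A p = 4).card := by
  haveI := Fact.mk Nat.prime_two
  set T := {p : GolayPt // pentStab φ A p = 4}
  letI : MulAction ↥A T :=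
    { smul := fun a p => ⟨φ a p.1, by rw [pentStab_conj]; exact p.2⟩
      one_smul := fun p => Subtype.ext (by show φ ((1 : ↥A) : D) p.1 = p.1; simp)
      mul_smul := fun a b p => Subtype.ext (by
        show φ ((a * b : ↥A) : D) p.1 = φ a (φ b p.1)
        simp) }
  have h := (IsPGroup.of_card (p := 2) (n := 3) hA8).card_modEq_card_fixedPoints (α := T)
  have hempty : IsEmpty ↥(MulAction.fixedPoints ↥A T) := ⟨fun p => by
    have hall : ∀ a : ↥A, φ a p.1.1 = p.1.1 := fun a => congrArg Subtype.val (p.2 a)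
    have h4 := p.1.2
    rw [pentStab, Nat.card_congr (Equiv.subtypeUnivEquiv hall), hA8] at h4
    omega⟩
  rw [Nat.card_of_isEmpty (α := ↥(MulAction.fixedPoints ↥A T))] at h
  rw [show (Finset.univ.filter fun p => pentStab φ A p = 4).card = Nat.card T by
    rw [Nat.card_eq_fintype_card, Fintype.card_subtype]]
  exact Nat.modEq_zero_iff_dvd.1 h

/-- Two counts. -/
theorem pentStab_sum (hA8 : Nat.card A = 8) (hfix : ∀ a ∈ A, a ≠ 1 → pentFix (φ a) = 8) :
    ∑ p, pentStab φ A p = 80 := by
  letI : Fintype ↥A := Fintype.ofFinite _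
  have h1 : ∀ p, pentStab φ A p = ∑ a : ↥A, if φ a p = p then 1 else 0 := fun p => by
    rw [pentStab, Nat.card_eq_fintype_card, Fintype.card_subtype, Finset.card_filter]
  simp only [h1]
  rw [Finset.sum_comm]
  have h2 : ∀ a : ↥A, (∑ p, if φ a p = p then 1 else 0) = pentFix (φ a) := fun a => by
    rw [pentFix, Finset.card_filter]
  simp only [h2]
  rw [← Finset.add_sum_erase _ _ (Finset.mem_univ (1 : ↥A)),
    Finset.sum_eq_card_nsmul (s := Finset.univ.erase (1 : ↥A)) (b := 8) (fun a ha => hfix a a.2 fun e =>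
      (Finset.mem_erase.1 ha).1 (Subtype.ext e)), Finset.card_erase_of_mem (Finset.mem_univ _),
    Finset.card_univ, ← Nat.card_eq_fintype_card, hA8]
  simp [pentFix]

/-- **A complement.** -/
theorem exists_point_complement [hn : A.Normal] (hA8 : Nat.card A = 8)
    (hfix : ∀ a ∈ A, a ≠ 1 → pentFix (φ a) = 8) (hspec : ∀ d : D, φ d none = none ∧ φ d (some 0) = some 0)
    {s : D} (hs : s ^ 7 = 1) (hfree : ∀ a ∈ A, s * a = a * s → a = 1) (hsfix : pentFix (φ s) = 3) :
    ∃ C : Subgroup D, (∀ d ∈ C, d ∈ A → d = 1) ∧ Nat.card D = 8 * Nat.card C := by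
  haveI := Fact.mk (show Nat.Prime 7 by norm_num)
  set cls : ℕ → Finset GolayPt := fun k => Finset.univ.filter fun p => pentStab φ A p = k with hcls
  set σ := φ s
  have hσ : σ ^ 7 = 1 := by rw [← map_pow, hs, map_one]
  have hmod : ∀ k, ((cls k).filter fun p => σ p = p).card ≡ (cls k).card [MOD 7] := fun k =>
    fixed_mod_seven hσ fun p => by simp [hcls, σ, pentStab_conj]
  have hnone : ∀ k, (k = 2 ∨ k = 4) → ((cls k).filter fun p => σ p = p).card = 0 := by
    intro k hk
    rw [Finset.card_eq_zero, Finset.filter_eq_empty_iff]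
    intro p hp hps
    simp only [hcls, Finset.mem_filter, Finset.mem_univ, true_and] at hp
    set T := {a : D | a ∈ A ∧ φ a p = p} \ {1}
    have hT : T.ncard = k - 1 := by
      rw [Set.ncard_sdiff (Set.singleton_subset_iff.2 (show (1 : D) ∈ {a : D | a ∈ A ∧ φ a p = p} from ⟨A.one_mem, by simp⟩)), Set.ncard_singleton,
        ← Nat.card_coe_set_eq, ← hp]
      congr 1
      exact Nat.card_congr
        { toFun := fun a => ⟨⟨a.1, a.2.1⟩, a.2.2⟩
          invFun := fun a => ⟨a.1.1, a.1.2, a.2⟩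
          left_inv := fun _ => rfl
          right_inv := fun _ => rfl }
    obtain ⟨a, ⟨⟨ha, -⟩, ha1⟩, hsa⟩ := exists_fixed_conj (p := 7) hs (S := T) (fun a ha => ⟨⟨hn.conj_mem _ ha.1.1 s, by
        rw [map_mul, map_mul, Equiv.Perm.mul_apply, Equiv.Perm.mul_apply]
        have hinv : φ s⁻¹ p = p := by rw [map_inv, Equiv.Perm.inv_eq_iff_eq]; exact hps.symm
        rw [hinv, ha.1.2]
        exact hps⟩, fun e => ha.2 (by simpa using mul_inv_eq_one.1 (show s * a * s⁻¹ = 1 from e))⟩)
      (by rw [hT]; rcases hk with rfl | rfl <;> norm_num)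
    exact ha1 (hfree a ha hsa)
  -- partitions
  have hpart : ∀ g : GolayPt → ℕ, ∑ p, g p =
      ∑ p ∈ cls 1, g p + ∑ p ∈ cls 2, g p + ∑ p ∈ cls 4, g p + ∑ p ∈ cls 8, g p := fun g => by
    simp only [hcls, Finset.sum_filter, ← Finset.sum_add_distrib]
    refine Finset.sum_congr rfl fun p _ => ?_
    rcases pentStab_cases φ hA8 p with h | h | h | h <;> simp [h]
  have hN : (cls 1).card + (cls 2).card + (cls 4).card + (cls 8).card = 24 := by
    have h := hpart fun _ => 1
    simp only [Finset.sum_const, smul_eq_mul, mul_one, Finset.card_univ] at h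
    rw [← h]
    rfl
  have hW : (cls 1).card + 2 * (cls 2).card + 4 * (cls 4).card + 8 * (cls 8).card = 80 := by
    have h := hpart (pentStab φ A)
    rw [pentStab_sum φ hA8 hfix] at h
    have hk : ∀ k, ∑ p ∈ cls k, pentStab φ A p = k * (cls k).card := fun k => by
      rw [Finset.sum_eq_card_nsmul (b := k) fun p hp => (Finset.mem_filter.1 hp).2, smul_eq_mul, mul_comm]
    rw [hk, hk, hk, hk, one_mul] at h
    exact h.symm
  have hF : ((cls 1).filter fun p => σ p = p).card + ((cls 8).filter fun p => σ p = p).card = 3 := by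
    have h := hpart fun p => if σ p = p then 1 else 0
    simp only [← Finset.card_filter] at h
    rw [hnone 2 (Or.inl rfl), hnone 4 (Or.inr rfl)] at h
    rw [← hsfix, pentFix]
    simpa using h.symm
  have h8 : 2 ≤ ((cls 8).filter fun p => σ p = p).card := by
    refine (show 2 = ({none, some 0} : Finset GolayPt).card from rfl).trans_le (Finset.card_le_card ?_)
    intro p hp
    have hp' : ∀ d : D, φ d p = p := fun d => by
      simp only [Finset.mem_insert, Finset.mem_singleton] at hp
      rcases hp with rfl | rfl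
      exacts [(hspec d).1, (hspec d).2]
    simp only [hcls, Finset.mem_filter, Finset.mem_univ, true_and]
    refine ⟨?_, hp' s⟩
    rw [pentStab, Nat.card_congr (Equiv.subtypeUnivEquiv fun a : ↥A => hp' a), hA8]
  have heven := pentStab_even φ hA8
  have hle1 := Finset.card_filter_le (cls 1) fun p => σ p = p
  have hle8 := Finset.card_filter_le (cls 8) fun p => σ p = p
  have m1 := hmod 1
  have m2 := hmod 2
  have m4 := hmod 4
  have m8 := hmod 8
  rw [hnone 2 (Or.inl rfl)] at m2
  rw [hnone 4 (Or.inr rfl)] at m4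
  simp only [Nat.ModEq] at m1 m2 m4 m8
  have heven' : 2 ∣ (cls 4).card := heven
  clear heven m2 m4
  have m2 := hmod 2
  have m4 := hmod 4
  simp only [Nat.ModEq, hnone 2 (Or.inl rfl), hnone 4 (Or.inr rfl)] at m2 m4
  have h1 : (cls 1).card = 8 := pent_arith hN hW hF h8 m1 m2 m4 m8 hle1 hle8 heven'
  -- the regular orbit
  obtain ⟨p, hp⟩ := Finset.card_pos.1 (show 0 < (cls 1).card by omega)
  have hp1 : pentStab φ A p = 1 := (Finset.mem_filter.1 hp).2
  have hfree' : ∀ a : ↥A, φ a p = p → a = 1 := fun a ha => by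
    obtain ⟨hsub, -⟩ := Nat.card_eq_one_iff_unique.1 hp1
    exact congrArg Subtype.val (@Subsingleton.elim _ hsub ⟨a, ha⟩ ⟨1, by simp⟩)
  set C : Subgroup D := (MulAction.stabilizer (Equiv.Perm GolayPt) p).comap φ with hC
  have hmemC : ∀ d, d ∈ C ↔ φ d p = p := fun d => Iff.rfl
  refine ⟨C, fun d hd hdA => congrArg Subtype.val (hfree' ⟨d, hdA⟩ ((hmemC d).1 hd)), ?_⟩
  let F : ↥A → ↥(cls 1) := fun a => ⟨φ a p, by
    simp only [hcls, Finset.mem_filter, Finset.mem_univ, true_and]
    rw [pentStab_conj, hp1]⟩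
  have hF : Function.Bijective F := by
    refine (Nat.bijective_iff_injective_and_card F).2 ⟨fun a b h => ?_, ?_⟩
    · have h' : φ a p = φ b p := congrArg Subtype.val h
      refine inv_mul_eq_one.1 (hfree' (b⁻¹ * a) ?_) |>.symm
      simp [h']
    · rw [hA8, Nat.card_eq_fintype_card, Fintype.card_coe, h1]
  let H : ↥A × ↥C → D := fun u => u.1 * u.2
  have hH : Function.Bijective H := by
    constructor
    · rintro ⟨a, c⟩ ⟨a', c'⟩ h
      have h' : (a : D) * c = a' * c' := h
      have h2 := congrArg (fun d => φ d p) h'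
      simp only [map_mul, Equiv.Perm.mul_apply, (hmemC _).1 c.2, (hmemC _).1 c'.2] at h2
      obtain rfl : a = a' := hF.1 (Subtype.ext h2)
      exact Prod.ext rfl (Subtype.ext (mul_left_cancel h'))
    · intro d
      obtain ⟨a, ha⟩ := hF.2 ⟨φ d p, by
        simp only [hcls, Finset.mem_filter, Finset.mem_univ, true_and]
        rw [pentStab_conj, hp1]⟩
      have ha' : φ a p = φ d p := congrArg Subtype.val ha
      refine ⟨(a, ⟨(a : D)⁻¹ * d, (hmemC _).2 ?_⟩), mul_inv_cancel_left _ _⟩
      rw [map_mul, Equiv.Perm.mul_apply, ← ha', ← Equiv.Perm.mul_apply, ← map_mul, inv_mul_cancel, map_one,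
        Equiv.Perm.one_apply]
  rw [← Nat.card_congr (Equiv.ofBijective H hH), Nat.card_prod, hA8]

end Orbit

end CfsgLib.JFourLocal
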