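import Cfsg.Agent.Lib.JFourLocal.PentadN
import Cfsg.Agent.Lib.JFourLocal.PentadM22

/-!
# A subgroup isomorphic to `SL(3,2)`

It sits in the centralizer of an element of order three, which maps into the group on 22 points.
-/

set_option autoImplicit false
set_option maxRecDepth 100000
set_option linter.style.haveILetI false
set_option linter.unusedSectionVars false

open Cfsg
open scoped Classical

namespace CfsgLib.JFourLocal

variable {G : Type*} [Group G] [Finite G]

local notation "SL32" => Matrix.SpecialLinearGroup (Fin 3) (ZMod 2)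

/-- What is used about the centralizer of an element of order three. -/
structure PentadThree (x : G) (φ : ↥(Subgroup.centralizer ({x} : Set G)) →* Equiv.Perm GolayPt) : Prop where
  card : Nat.card ↥(Subgroup.centralizer ({x} : Set G)) = 6 * 443520
  central : ∀ c, φ c = 1 → ∀ d, c * d = d * c
  spec : ∀ c, φ c none = none ∧ φ c (some 0) = some 0
  two : ∀ c, orderOf (φ c) = 2 → pentFix (φ c) = 8
  seven : ∀ c, orderOf (φ c) = 7 → pentFix (φ c) = 3

namespace PentadPre

variable {z q f : G} {E A : Subgroup G} (P : PentadPre z q f E A) {s : G} (hs : orderOf s = 7)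
  (hsq : s * q = q * s) {X : Subgroup G}
  (hX : Subgroup.centralizer (A : Set G) ⊓ Subgroup.centralizer ({s} : Set G) = X)
  (e : ↥X ≃* Equiv.Perm (Fin 5))
include P hs hsq hX e

/-- The centralizer in the 2-subgroup of an element of order three is `A`. -/
theorem cent_three_L {x : G} (hx : x ∈ X) {S : Subgroup G} (hS : S ≤ Subgroup.centralizer ({x} : Set G))
    (hAS : A ≤ S) (hSL : S ≤ pentL A)
    (hmax : ∀ l ∈ pentL A, l * x = x * l → l ∈ S) (hcard : Nat.card S ≤ 32) : S = A := by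
  haveI := Fact.mk Nat.prime_two
  haveI := Fact.mk (show Nat.Prime 7 by norm_num)
  have hxs : x * s = s * x := Subgroup.mem_centralizer_singleton_iff.1 (Subgroup.mem_inf.1 (hX ▸ hx)).2
  by_contra hne
  obtain ⟨n, hn⟩ := (IsPGroup.iff_card (p := 2)).1 ((pentL_isPGroup A).to_le hSL)
  have h8 : Nat.card A < Nat.card S := lt_of_le_of_ne (Subgroup.card_le_of_le hAS) fun h =>
    hne (Subgroup.eq_of_le_of_card_ge hAS h.ge).symm
  rw [P.L.A8, hn] at h8
  rw [hn] at hcard
  have hn3 : 3 < n := (Nat.pow_lt_pow_iff_right (by norm_num : 1 < 2)).1 (show 2 ^ 3 < 2 ^ n from h8)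
  have hn5 : n ≤ 5 := (Nat.pow_le_pow_iff_right (by norm_num : 1 < 2)).1 (show 2 ^ n ≤ 2 ^ 5 from hcard)
  have hdiff : ((S : Set G) \ (A : Set G)).ncard = 2 ^ n - 8 := by
    rw [Set.ncard_sdiff (show (A : Set G) ⊆ S from hAS), ← Nat.card_coe_set_eq, SetLike.coe_sort_coe, hn,
      ← Nat.card_coe_set_eq, SetLike.coe_sort_coe, P.L.A8]
  obtain ⟨l, ⟨hl, hlA⟩, hsl⟩ := exists_fixed_conj (p := 7) (hs ▸ pow_orderOf_eq_one s)
    (S := (S : Set G) \ (A : Set G)) (fun l hl => ⟨hmax _ (P.pentL_conj (P.s_mem hs hsq) (hSL hl.1)) (by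
      have h1 := Subgroup.mem_centralizer_singleton_iff.1 (hS hl.1)
      exact (((show Commute s x from hxs.symm).mul_left h1).mul_left
        (show Commute s x from hxs.symm).inv_left).eq),
      fun h => hl.2 (by
        have := P.conj_mem ((Subgroup.normalizer (A : Set G)).inv_mem (P.s_mem hs hsq)) h
        rwa [show s⁻¹ * (s * l * s⁻¹) * s⁻¹⁻¹ = l by group] at this)⟩)
    (by rw [hdiff]; interval_cases n <;> norm_num)
  refine hlA ?_
  have hlX : l ∈ X := hX ▸ Subgroup.mem_inf.2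
    ⟨pentL_le A (hSL hl), Subgroup.mem_centralizer_singleton_iff.2 hsl.symm⟩
  rw [P.inf_X hs hsq hX e (hSL hl) hlX]
  exact A.one_mem

/-- **A copy of `SL(3,2)`.** -/
theorem exists_SL32 {x : G} (hx : x ∈ X) (hxo : orderOf x = 3)
    (φ : ↥(Subgroup.centralizer ({x} : Set G)) →* Equiv.Perm GolayPt) (T : PentadThree x φ) :
    ∃ K : Subgroup G, K ≤ Subgroup.normalizer (A : Set G) ∧ Nonempty (↥K ≃* SL32) := by
  haveI := Fact.mk Nat.prime_two
  haveI := Fact.mk Nat.prime_three
  haveI := Fact.mk (show Nat.Prime 7 by norm_num)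
  obtain ⟨Dd, hD⟩ := P.exists_D
  obtain ⟨θ, hsur, hker⟩ := P.exists_theta
  have hxs : x * s = s * x := Subgroup.mem_centralizer_singleton_iff.1 (Subgroup.mem_inf.1 (hX ▸ hx)).2
  have hxA : x ∈ Subgroup.centralizer (A : Set G) := P.X_le hs hsq hX e hx
  set Dx := Dd ⊓ Subgroup.centralizer ({x} : Set G) with hDx
  have hDN : Dx ≤ Subgroup.normalizer (A : Set G) := fun d hd => ((hD d).1 (Subgroup.mem_inf.1 hd).1).1
  have hAx : A ≤ Subgroup.centralizer ({x} : Set G) := fun a ha => Subgroup.mem_centralizer_singleton_iff.2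
    ((Subgroup.mem_centralizer_iff.1 hxA) a ha)
  have hAD : A ≤ Dx := le_inf (fun a ha => P.L_le_D hs hsq hX e hD (P.W_le_L (P.A_W ha))) hAx
  let θx : ↥Dx →* SL32 := θ.comp (Subgroup.inclusion hDN)
  have hθk : ∀ d : ↥Dx, θx d = 1 ↔ (d : G) ∈ Subgroup.centralizer (A : Set G) := fun d => hker _
  -- it covers
  have hθs : Function.Surjective θx := by
    intro m
    obtain ⟨d, hd, hdm⟩ := P.D_surj hs hsq hX e hD θ hsur hker m
    obtain ⟨u, ⟨l, hl, rfl⟩, hxu⟩ := exists_fixed_conj (p := 3) (hxo ▸ pow_orderOf_eq_one x)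
      (S := (fun l => (d : G) * l) '' (pentL A : Set G)) (by
        rintro _ ⟨l, hl, rfl⟩
        refine ⟨((d : G)⁻¹ * (x * d * x⁻¹)) * (x * l * x⁻¹), (pentL A).mul_mem ?_
          (P.pentL_conj (P.cent_le hxA) hl), by group⟩
        have h := P.pentL_conj ((Subgroup.normalizer (A : Set G)).inv_mem d.2) (((hD _).1 hd).2 x hxA)
        have h' := (pentL A).inv_mem h
        rwa [show ((d : G)⁻¹ * (d * x * (d : G)⁻¹ * x⁻¹) * (d : G)⁻¹⁻¹)⁻¹ = (d : G)⁻¹ * (x * d * x⁻¹) by group] at h')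
      (by
        rw [Set.ncard_image_of_injective _ (mul_right_injective (d : G)), ← Nat.card_coe_set_eq,
          SetLike.coe_sort_coe, P.card_pentL hs hsq hX e]
        norm_num)
    refine ⟨⟨(d : G) * l, Subgroup.mem_inf.2 ⟨Dd.mul_mem hd (P.L_le_D hs hsq hX e hD hl),
      Subgroup.mem_centralizer_singleton_iff.2 hxu.symm⟩⟩, ?_⟩
    show θ ⟨(d : G) * l, _⟩ = m
    rw [show (⟨(d : G) * l, _⟩ : ↥(Subgroup.normalizer (A : Set G))) = d * ⟨l, P.cent_le (pentL_le A hl)⟩ from rfl,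
      map_mul, (hker ⟨l, P.cent_le (pentL_le A hl)⟩).2 (pentL_le A hl), mul_one, hdm]
  -- the kernel
  set S := θx.ker.map Dx.subtype with hS
  have hSle : S ≤ Dx := Subgroup.map_subtype_le _
  have hmul : Nat.card θx.ker * 168 = Nat.card Dx := by
    rw [← θx.ker.card_mul_index, Subgroup.index_ker, MonoidHom.range_eq_top.2 hθs, Subgroup.card_top,
      card_SL_three_two]
  have hmemS : ∀ v, v ∈ S ↔ v ∈ pentL A ∧ v * x = x * v := fun v => by
    constructor
    · rintro ⟨d, hd, rfl⟩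
      exact ⟨P.D_cent hs hsq hX e hD (Subgroup.mem_inf.1 d.2).1 ((hθk d).1 hd),
        Subgroup.mem_centralizer_singleton_iff.1 (Subgroup.mem_inf.1 d.2).2⟩
    · rintro ⟨hv, hvx⟩
      exact ⟨⟨v, Subgroup.mem_inf.2 ⟨P.L_le_D hs hsq hX e hD hv,
        Subgroup.mem_centralizer_singleton_iff.2 hvx⟩⟩, (hθk _).2 (pentL_le A hv), rfl⟩
  have hScard : Nat.card S = Nat.card θx.ker := Subgroup.card_map_of_injective Dx.subtype_injective
  have hSA : S = A := by
    refine P.cent_three_L hs hsq hX e hx (fun v hv => Subgroup.mem_centralizer_singleton_iff.2 ((hmemS v).1 hv).2)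
      (fun a ha => (hmemS a).2 ⟨P.W_le_L (P.A_W ha), Subgroup.mem_centralizer_singleton_iff.1 (hAx ha)⟩)
      (fun v hv => ((hmemS v).1 hv).1) (fun l hl h => (hmemS l).2 ⟨hl, h⟩) ?_
    obtain ⟨n, hn⟩ := (IsPGroup.iff_card (p := 2)).1
      ((pentL_isPGroup A).to_le (fun v hv => ((hmemS v).1 hv).1 : S ≤ pentL A))
    have h1 : Nat.card Dx ∣ 6 * 443520 := T.card ▸ Subgroup.card_dvd_of_le inf_le_right
    rw [← hmul, ← hScard, hn] at h1
    rw [hn]
    refine (Nat.pow_le_pow_right (by norm_num) (show n ≤ 5 from ?_) : 2 ^ n ≤ 2 ^ 5)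
    by_contra h6
    have h2 := (Nat.mul_dvd_mul_right (pow_dvd_pow 2 (show 6 ≤ n by omega)) 168).trans h1
    norm_num at h2
  have hk8 : Nat.card θx.ker = 8 := by rw [← hScard, hSA, P.L.A8]
  have hDxc : Nat.card Dx = 1344 := by rw [← hmul, hk8]
  -- trivial centre
  have hcenter : ∀ c : ↥Dx, (∀ d : ↥Dx, c * d = d * c) → c = 1 := by
    intro c hc
    have h1 : θx c = 1 := center_SL32 fun g => by
      obtain ⟨d, rfl⟩ := hθs g
      rw [← map_mul, ← map_mul, hc d]
    have hcA : (c : G) ∈ A := hSA ▸ ⟨c, h1, rfl⟩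
    have hsD : s ∈ Dx := Subgroup.mem_inf.2
      ⟨P.s_D hs hsq hX e hD, Subgroup.mem_centralizer_singleton_iff.2 hxs.symm⟩
    exact Subtype.ext (P.free s hs hsq c hcA (congrArg Subtype.val (hc ⟨s, hsD⟩)).symm)
  let φx : ↥Dx →* Equiv.Perm GolayPt :=
    φ.comp (Subgroup.inclusion (inf_le_right : Dx ≤ Subgroup.centralizer ({x} : Set G)))
  have hinj : Function.Injective φx := (injective_iff_map_eq_one φx).2 fun c hc => hcenter c fun d => by
    have := congrArg Subtype.val (T.central _ hc (Subgroup.inclusion inf_le_right d))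
    exact Subtype.ext this
  set Ax := A.subgroupOf Dx
  haveI : Ax.Normal := ⟨fun a ha d => Subgroup.mem_subgroupOf.2
    (P.conj_mem (hDN d.2) (Subgroup.mem_subgroupOf.1 ha))⟩
  have hAx8 : Nat.card Ax = 8 := by rw [Nat.card_congr (Subgroup.subgroupOfEquivOfLe hAD).toEquiv, P.L.A8]
  set sx : ↥Dx := ⟨s, Subgroup.mem_inf.2
    ⟨P.s_D hs hsq hX e hD, Subgroup.mem_centralizer_singleton_iff.2 hxs.symm⟩⟩
  have hsx : orderOf sx = 7 := by rw [← Subgroup.orderOf_coe]; exact hs
  obtain ⟨C, hC1, hC2⟩ := exists_point_complement φx hAx8 (fun a ha ha1 => T.two _ (by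
      show orderOf (φx a) = 2
      rw [orderOf_injective φx hinj]
      refine orderOf_eq_prime (Subtype.ext ?_) ha1
      rw [Subgroup.coe_pow, pow_two, Subgroup.coe_one]
      exact P.L.Asq _ (Subgroup.mem_subgroupOf.1 ha))) (fun d => T.spec _) (s := sx)
    (hsx ▸ pow_orderOf_eq_one sx)
    (fun a ha h => Subtype.ext (P.free s hs hsq a (Subgroup.mem_subgroupOf.1 ha) (congrArg Subtype.val h)))
    (T.seven _ (by
      show orderOf (φx sx) = 7
      rw [orderOf_injective φx hinj, hsx]))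
  let ρ : ↥C →* SL32 := θx.comp C.subtype
  have hρi : Function.Injective ρ := (injective_iff_map_eq_one ρ).2 fun c hc => by
    have hcA : ((c : ↥Dx) : G) ∈ A := hSA ▸ ⟨c.1, hc, rfl⟩
    exact Subtype.ext (hC1 _ c.2 (Subgroup.mem_subgroupOf.2 hcA))
  have hρ : Function.Bijective ρ := (Nat.bijective_iff_injective_and_card ρ).2 ⟨hρi, by
    rw [card_SL_three_two]
    omega⟩
  refine ⟨C.map Dx.subtype, (Subgroup.map_subtype_le C).trans hDN,
    ⟨(C.equivMapOfInjective Dx.subtype Dx.subtype_injective).symm.trans (MulEquiv.ofBijective ρ hρ)⟩⟩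

end PentadPre

end CfsgLib.JFourLocal
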