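import Mathlib.GroupTheory.PGroup
import Mathlib.GroupTheory.SpecificGroups.Alternating
import Mathlib.GroupTheory.Perm.Fin

/-!
# Facts on the symmetric group of degree five
-/

set_option autoImplicit false
set_option maxRecDepth 100000
set_option Elab.async false

namespace CfsgLib.JFourLocal

/-- Enough transpositions to witness the commutator facts. -/
def fiveSwaps : List (Equiv.Perm (Fin 5)) := [Equiv.swap 0 1, Equiv.swap 0 2, Equiv.swap 0 3, Equiv.swap 1 2, Equiv.swap 3 4]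

/-- Enough double transpositions to witness the fact on three-cycles. -/
def fiveDoubles : List (Equiv.Perm (Fin 5)) :=
  [Equiv.swap 0 1 * Equiv.swap 2 3, Equiv.swap 0 2 * Equiv.swap 1 4, Equiv.swap 1 3 * Equiv.swap 2 4]

theorem five_comm_odd : ∀ p : Equiv.Perm (Fin 5), p ≠ 1 →
    ∃ g : Equiv.Perm (Fin 5), (p * g * p⁻¹ * g⁻¹) ^ 8 ≠ 1 := fun p hp =>
  have h : ∀ p : Equiv.Perm (Fin 5), p ≠ 1 → ∃ g ∈ fiveSwaps, (p * g * p⁻¹ * g⁻¹) ^ 8 ≠ 1 := by decide +kernel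
  let ⟨g, _, hg⟩ := h p hp
  ⟨g, hg⟩

theorem five_comm_three : ∀ p : Equiv.Perm (Fin 5), p ≠ 1 → ∃ g : Equiv.Perm (Fin 5),
    (p * g * p⁻¹ * g⁻¹) ^ 3 = 1 ∧ p * g * p⁻¹ * g⁻¹ ≠ 1 := fun p hp =>
  have h : ∀ p : Equiv.Perm (Fin 5), p ≠ 1 → ∃ g ∈ fiveSwaps,
      (p * g * p⁻¹ * g⁻¹) ^ 3 = 1 ∧ p * g * p⁻¹ * g⁻¹ ≠ 1 := by decide +kernel
  let ⟨g, _, hg⟩ := h p hp
  ⟨g, hg⟩

theorem five_of_three : ∀ c : Equiv.Perm (Fin 5), c ^ 3 = 1 → c ≠ 1 → ∃ h : Equiv.Perm (Fin 5),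
    (c * (h * c * h⁻¹)) ^ 5 = 1 ∧ c * (h * c * h⁻¹) ≠ 1 := fun c hc hc1 =>
  have h : ∀ c : Equiv.Perm (Fin 5), c ^ 3 = 1 → c ≠ 1 → ∃ h ∈ fiveDoubles,
      (c * (h * c * h⁻¹)) ^ 5 = 1 ∧ c * (h * c * h⁻¹) ≠ 1 := by decide +kernel
  let ⟨g, _, hg⟩ := h c hc hc1
  ⟨g, hg⟩

theorem five_has_five (p : Equiv.Perm (Fin 5)) (hp : p ≠ 1) : ∃ g h : Equiv.Perm (Fin 5),
    (p * g * p⁻¹ * g⁻¹ * (h * (p * g * p⁻¹ * g⁻¹) * h⁻¹)) ^ 5 = 1 ∧
      p * g * p⁻¹ * g⁻¹ * (h * (p * g * p⁻¹ * g⁻¹) * h⁻¹) ≠ 1 := by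
  obtain ⟨g, h3, hne⟩ := five_comm_three p hp
  exact ⟨g, five_of_three _ h3 hne⟩

theorem five_central : ∀ p : Equiv.Perm (Fin 5), (∀ g : Equiv.Perm (Fin 5), g * p = p * g) → p = 1 := by
  decide +kernel

theorem five_even_exp : ∀ p : Equiv.Perm (Fin 5), Equiv.Perm.sign p = 1 → p ^ 30 = 1 := by decide +kernel

/-- No nontrivial normal 2-subgroup. -/
theorem five_normal_two {X : Type*} [Group X] (e : X ≃* Equiv.Perm (Fin 5)) {N : Subgroup X} [hn : N.Normal]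
    (hN : IsPGroup 2 ↥N) : N = ⊥ := by
  refine (Subgroup.eq_bot_iff_forall N).2 fun x hx => ?_
  by_contra h1
  obtain ⟨g, hg⟩ := five_comm_odd (e x) (fun h => h1 (e.injective (h.trans (map_one e).symm)))
  obtain ⟨g, rfl⟩ := e.surjective g
  have hmem : x * g * x⁻¹ * g⁻¹ ∈ N := by
    rw [show x * g * x⁻¹ * g⁻¹ = x * (g * x⁻¹ * g⁻¹) by group]
    exact N.mul_mem hx (hn.conj_mem _ (N.inv_mem hx) g)
  refine hg ?_
  rw [← map_inv, ← map_inv, ← map_mul, ← map_mul, ← map_mul, ← map_pow, ← map_one e]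
  refine congrArg e ?_
  obtain ⟨k, hk⟩ := hN ⟨_, hmem⟩
  have hk' : (x * g * x⁻¹ * g⁻¹) ^ 2 ^ k = 1 := congrArg Subtype.val hk
  have h120 : (x * g * x⁻¹ * g⁻¹) ^ 120 = 1 := e.injective (by
    rw [map_pow, map_one, show 120 = Nat.card (Equiv.Perm (Fin 5)) by rw [Nat.card_perm, Nat.card_fin]; rfl, pow_card_eq_one'])
  have h := pow_gcd_eq_one.2 ⟨hk', h120⟩
  obtain ⟨j, hj, hje⟩ := (Nat.dvd_prime_pow Nat.prime_two).1 (Nat.gcd_dvd_left (2 ^ k) 120)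
  have hd := Nat.gcd_dvd_right (2 ^ k) 120
  rw [hje] at hd h
  have hj3 : j ≤ 3 := by
    by_contra hj3
    have h16 : 2 ^ 4 ∣ 120 := (Nat.pow_dvd_pow 2 (by omega : 4 ≤ j)).trans hd
    norm_num at h16
  rw [show 8 = 2 ^ j * 2 ^ (3 - j) by rw [← pow_add, Nat.add_sub_cancel' hj3]; rfl, pow_mul, h, one_pow]

/-- A subgroup of index at most two with an element of order divisible by four is everything. -/
theorem five_top {X : Type*} [Group X] [Finite X] (e : X ≃* Equiv.Perm (Fin 5)) {Y : Subgroup X}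
    (h60 : 60 ∣ Nat.card ↥Y) {y : X} (hy : y ∈ Y) (hy4 : y ^ 30 ≠ 1) : Y = ⊤ := by
  have hX : Nat.card X = 120 := by
    rw [Nat.card_congr e.toEquiv, Nat.card_perm, Nat.card_fin]; rfl
  have hmul := Y.card_mul_index
  obtain ⟨c, hc⟩ := h60
  rw [hX, hc] at hmul
  have hidx : Y.index = 1 ∨ Y.index = 2 := by
    have hc0 : c * Y.index = 2 := by
      rw [mul_assoc] at hmul
      omega
    rcases (Nat.dvd_prime Nat.prime_two).1 (Dvd.intro_left c hc0) with h | h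
    · exact Or.inl h
    · exact Or.inr h
  rcases hidx with h | h
  · exact Subgroup.index_eq_one.1 h
  · exfalso
    have h' : (Y.map e.toMonoidHom).index = 2 := by
      rw [Subgroup.index_map_of_bijective e.bijective, h]
    have hA := Equiv.Perm.eq_alternatingGroup_of_index_eq_two h'
    refine hy4 (e.injective ?_)
    rw [map_pow, map_one]
    refine five_even_exp _ (Equiv.Perm.mem_alternatingGroup.1 ?_)
    rw [← hA]
    exact ⟨y, hy, rfl⟩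

end CfsgLib.JFourLocal
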