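import Mathlib.GroupTheory.Sylow
import Mathlib.GroupTheory.SemidirectProduct
import Cfsg.Agent.Lib.JFourLocal.PentadPre
import Cfsg.Agent.Lib.JFourLocal.PentadPerm

/-!
# The symmetric group of degree five in the centralizer of `A`
-/

set_option autoImplicit false
set_option maxRecDepth 100000
set_option linter.style.haveILetI false
set_option linter.unusedSectionVars false

open scoped Pointwise Classical

namespace CfsgLib.JFourLocal

variable {G : Type*} [Group G] [Finite G]

/-- An automorphism of order seven of a group with Sylow 3-subgroups of order three fixes an element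
of order three. -/
theorem exists_three_fixed {H : Type*} [Group H] [Finite H] (hfac : (Nat.card H).factorization 3 = 1)
    (h7 : ¬ 7 ∣ Nat.card H) {a : MulAut H} (ha : a ^ 7 = 1) : ∃ x : H, orderOf x = 3 ∧ a x = x := by
  classical
  haveI := Fact.mk Nat.prime_three
  haveI := Fact.mk (show Nat.Prime 7 by norm_num)
  letI : Fintype (Sylow 3 H) := Fintype.ofFinite _
  let σ : Equiv.Perm (Sylow 3 H) := MulAction.toPermHom (MulAut H) (Sylow 3 H) a
  have hσ : σ ^ 7 ^ 1 = 1 := by rw [pow_one, ← map_pow, ha, map_one]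
  have hcard : ¬ 7 ∣ Fintype.card (Sylow 3 H) := fun h => by
    rw [← Nat.card_eq_fintype_card] at h
    obtain ⟨P⟩ := (inferInstance : Nonempty (Sylow 3 H))
    exact h7 ((h.trans P.card_dvd_index).trans (P : Subgroup H).index_dvd_card)
  obtain ⟨P, hP⟩ := Equiv.Perm.exists_fixed_point_of_prime (p := 7) (n := 1) hcard hσ
  have hP3 : Nat.card ↥(P : Subgroup H) = 3 := by
    have h := P.card_eq_multiplicity
    rwa [hfac, pow_one] at h
  obtain ⟨x, hx⟩ := exists_prime_orderOf_dvd_card' (G := ↥(P : Subgroup H)) 3 (dvd_of_eq hP3.symm)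
  rw [← Subgroup.orderOf_coe] at hx
  refine ⟨x, hx, ?_⟩
  have hax : a (x : H) ∈ (P : Subgroup H) := by
    have h : ((a • P : Sylow 3 H) : Subgroup H) = (P : Subgroup H) :=
      congrArg (fun Q : Sylow 3 H => (Q : Subgroup H)) hP
    have h' : a (x : H) ∈ ((a • P : Sylow 3 H) : Subgroup H) := ⟨x, x.2, rfl⟩
    rwa [h] at h'
  have hz : Subgroup.zpowers (x : H) = (P : Subgroup H) :=
    Subgroup.eq_of_le_of_card_ge (Subgroup.zpowers_le.2 x.2) (by rw [hP3, Nat.card_zpowers, hx])
  obtain ⟨i, hi⟩ := (isOfFinOrder_of_finite (x : H)).mem_powers_iff_mem_zpowers.2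
    (show a (x : H) ∈ Subgroup.zpowers (x : H) by rw [hz]; exact hax)
  have hi' : a (x : H) = (x : H) ^ i := hi.symm
  have hn : ∀ n : ℕ, (a ^ n) (x : H) = (x : H) ^ (i ^ n) := by
    intro n
    induction n with
    | zero => simp
    | succ n ih => rw [pow_succ', MulAut.mul_apply, ih, map_pow, hi', ← pow_mul, pow_succ' i]
  have h := hn 7
  rw [ha, MulAut.one_apply] at h
  have h1 : (x : H) ^ 1 = (x : H) ^ (i ^ 7) := by rw [pow_one]; exact h
  rw [pow_eq_pow_iff_modEq, hx] at h1
  rw [hi']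
  nth_rw 2 [← pow_one (x : H)]
  rw [pow_eq_pow_iff_modEq, hx]
  have hlt : i % 3 < 3 := Nat.mod_lt _ (by norm_num)
  rw [Nat.ModEq, Nat.pow_mod] at h1
  rw [Nat.ModEq]
  interval_cases h : i % 3 <;> simp at h1 ⊢

namespace PentadPre

variable {z q f : G} {E A : Subgroup G} (P : PentadPre z q f E A) {s : G} (hs : orderOf s = 7)
  (hsq : s * q = q * s)
include P hs hsq

theorem s_mem : s ∈ Subgroup.normalizer (A : Set G) :=
  P.centq_le (Subgroup.mem_centralizer_singleton_iff.2 hsq)

theorem s_moves {a : G} (ha : a ∈ A) (h1 : a ≠ 1) : s * a ≠ a * s := fun h => h1 (P.free s hs hsq a ha h)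

theorem s_conj_pow {i : ℕ} : s ^ i ∈ Subgroup.normalizer (A : Set G) :=
  Subgroup.pow_mem _ (P.s_mem hs hsq) i

/-- The centralizer of `s` in the centralizer of `A`. -/
theorem card_X {I : Subgroup G} (e : ↥I ≃* Equiv.Perm (Fin 5))
    (hI : ∀ x ∈ Subgroup.centralizer ({s} : Set G), x ^ 120 = 1 → x ∈ I)
    (hC : Nat.card ↥(Subgroup.centralizer ({s} : Set G)) = 840) :
    Subgroup.centralizer (A : Set G) ⊓ Subgroup.centralizer ({s} : Set G) = I ∧ Nat.card I = 120 := by
  haveI := Fact.mk (show Nat.Prime 7 by norm_num)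
  haveI := Fact.mk Nat.prime_three
  set CA := Subgroup.centralizer (A : Set G) with hCA
  set X := CA ⊓ Subgroup.centralizer ({s} : Set G)
  have hs7 : s ^ 7 = 1 := hs ▸ pow_orderOf_eq_one s
  have h7 : ¬ 7 ∣ Nat.card CA := by rw [P.card_C]; norm_num
  have hI120 : Nat.card I = 120 := by rw [Nat.card_congr e.toEquiv, Nat.card_perm, Nat.card_fin]; rfl
  have hX120 : Nat.card X ∣ 120 := by
    have h1 : Nat.card X ∣ 840 := hC ▸ Subgroup.card_dvd_of_le inf_le_right
    have h2 : Nat.card X ∣ 2 ^ 15 * 120 := P.card_C ▸ Subgroup.card_dvd_of_le inf_le_left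
    exact (Nat.dvd_gcd h1 h2).trans (by norm_num)
  have hXI : X ≤ I := fun x hx => hI x (Subgroup.mem_inf.1 hx).2 (by
    obtain ⟨c, hc⟩ := (Subgroup.orderOf_dvd_natCard X hx).trans hX120
    rw [hc, pow_mul, pow_orderOf_eq_one, one_pow])
  -- an element squaring `q`
  obtain ⟨y0, hy0, hy0q⟩ := P.exists_square
  set S := {y : G | y ∈ CA ∧ y * q * y⁻¹ = q ^ 2} with hS
  have hS40 : S.ncard = Nat.card ↥(CA ⊓ Subgroup.centralizer ({q} : Set G)) := by
    rw [← Nat.card_coe_set_eq]
    refine Nat.card_congr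
      { toFun := fun y => ⟨y0⁻¹ * y.1, Subgroup.mem_inf.2 ⟨CA.mul_mem (CA.inv_mem hy0) y.2.1,
          Subgroup.mem_centralizer_singleton_iff.2 (by
            calc y0⁻¹ * y.1 * q = y0⁻¹ * (y.1 * q * y.1⁻¹) * y.1 := by group
              _ = y0⁻¹ * (y0 * q * y0⁻¹) * y.1 := by rw [y.2.2, hy0q]
              _ = _ := by group)⟩⟩
        invFun := fun c => ⟨y0 * c, CA.mul_mem hy0 (Subgroup.mem_inf.1 c.2).1, by
          rw [show y0 * c * q * (y0 * c)⁻¹ = y0 * ((c : G) * q * (c : G)⁻¹) * y0⁻¹ by group,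
            Subgroup.mem_centralizer_singleton_iff.1 (Subgroup.mem_inf.1 c.2).2, mul_inv_cancel_right, hy0q]⟩
        left_inv := fun y => Subtype.ext (mul_inv_cancel_left y0 _)
        right_inv := fun c => Subtype.ext (inv_mul_cancel_left y0 _) }
  obtain ⟨y, ⟨hyA, hyq⟩, hsy⟩ := exists_fixed_conj (p := 7) hs7 (S := S) (fun y hy => by
      refine ⟨P.cent_normal (P.s_mem hs hsq) hy.1, ?_⟩
      calc s * y * s⁻¹ * q * (s * y * s⁻¹)⁻¹ = s * (y * (s⁻¹ * q * s) * y⁻¹) * s⁻¹ := by group
        _ = s * (y * q * y⁻¹) * s⁻¹ := by rw [mul_assoc s⁻¹, ← hsq, inv_mul_cancel_left]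
        _ = _ := by rw [hy.2, ((show Commute s q from hsq).pow_right 2).eq, mul_inv_cancel_right])
    (fun h => by
      rw [hS40] at h
      exact h7 (h.trans (Subgroup.card_dvd_of_le inf_le_left)))
  have hyX : y ∈ X := Subgroup.mem_inf.2 ⟨hyA, Subgroup.mem_centralizer_singleton_iff.2 hsy.symm⟩
  have hpow : ∀ n : ℕ, y ^ n * q * (y ^ n)⁻¹ = q ^ (2 ^ n) := by
    intro n
    induction n with
    | zero => simp
    | succ n ih =>
      rw [pow_succ', show y * y ^ n * q * (y * y ^ n)⁻¹ = y * (y ^ n * q * (y ^ n)⁻¹) * y⁻¹ by group, ih,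
        ← conj_pow, hyq, ← pow_mul, pow_succ' 2 n]
  have hy4 : ∀ n : ℕ, y ^ n = 1 → 4 ∣ n := fun n hn => by
    have h := hpow n
    rw [hn, one_mul, inv_one, mul_one] at h
    have h1 : q ^ 1 = q ^ (2 ^ n) := by rw [pow_one]; exact h
    rw [pow_eq_pow_iff_modEq, P.L.q5, Nat.ModEq, ← Nat.div_add_mod n 4, pow_add, pow_mul, Nat.mul_mod,
      Nat.pow_mod] at h1
    have hlt : n % 4 < 4 := Nat.mod_lt _ (by norm_num)
    refine Nat.dvd_of_mod_eq_zero ?_
    interval_cases n % 4 <;> simp at h1 ⊢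
  have h4 : 4 ∣ Nat.card X := (hy4 _ (pow_orderOf_eq_one y)).trans (Subgroup.orderOf_dvd_natCard X hyX)
  have h5 : 5 ∣ Nat.card X := by
    have := Subgroup.orderOf_dvd_natCard X (show q ∈ X from Subgroup.mem_inf.2
      ⟨P.q_C, Subgroup.mem_centralizer_singleton_iff.2 hsq.symm⟩)
    rwa [P.L.q5] at this
  have h3 : 3 ∣ Nat.card X := by
    let a : MulAut ↥CA :=
      { toFun := fun x => ⟨s * x * s⁻¹, P.cent_normal (P.s_mem hs hsq) x.2⟩
        invFun := fun x => ⟨s⁻¹ * x * s, by
          have := P.cent_normal ((Subgroup.normalizer (A : Set G)).inv_mem (P.s_mem hs hsq)) x.2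
          rwa [inv_inv] at this⟩
        left_inv := fun x => Subtype.ext (by
          show s⁻¹ * (s * x * s⁻¹) * s = x
          group)
        right_inv := fun x => Subtype.ext (by
          show s * (s⁻¹ * x * s) * s⁻¹ = x
          group)
        map_mul' := fun x y => Subtype.ext (by
          show s * ((x : G) * y) * s⁻¹ = s * x * s⁻¹ * (s * y * s⁻¹)
          group) }
    have han : ∀ (n : ℕ) (x : ↥CA), ((a ^ n) x : G) = s ^ n * x * (s ^ n)⁻¹ := by
      intro n
      induction n with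
      | zero => intro x; simp
      | succ n ih =>
        intro x
        rw [pow_succ', MulAut.mul_apply]
        show s * ((a ^ n) x : G) * s⁻¹ = _
        rw [ih x, pow_succ']
        group
    obtain ⟨x, hx, hax⟩ := exists_three_fixed (H := ↥CA) (by
        rw [P.card_C, show (2 ^ 15 * 120 : ℕ) = 3 ^ 1 * (2 ^ 15 * 40) by norm_num,
          Nat.factorization_mul (by norm_num) (by norm_num), Finsupp.add_apply, Nat.factorization_pow,
          Nat.factorization_eq_zero_of_not_dvd (show ¬ 3 ∣ 2 ^ 15 * 40 by norm_num)]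
        simp [Nat.prime_three.factorization_self]) h7 (a := a)
      (MulEquiv.ext fun x => Subtype.ext (by rw [han, hs7, MulAut.one_apply]; simp))
    have hxX : (x : G) ∈ X := Subgroup.mem_inf.2 ⟨x.2, Subgroup.mem_centralizer_singleton_iff.2
      (mul_inv_eq_iff_eq_mul.1 (congrArg Subtype.val hax)).symm⟩
    have := Subgroup.orderOf_dvd_natCard X hxX
    rwa [Subgroup.orderOf_coe, hx] at this
  have h60 : 60 ∣ Nat.card X := Nat.Coprime.mul_dvd_of_dvd_of_dvd (show Nat.Coprime 4 15 by decide) h4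
    (Nat.Coprime.mul_dvd_of_dvd_of_dvd (show Nat.Coprime 3 5 by decide) h3 h5)
  have htop := five_top e (Y := X.subgroupOf I) (y := ⟨y, hXI hyX⟩)
    (by rwa [Nat.card_congr (Subgroup.subgroupOfEquivOfLe hXI).toEquiv])
    (Subgroup.mem_subgroupOf.2 hyX) (fun h => by
      have h30 := hy4 30 (congrArg Subtype.val h)
      norm_num at h30)
  exact ⟨le_antisymm hXI (Subgroup.subgroupOf_eq_top.1 htop), hI120⟩

end PentadPre

end CfsgLib.JFourLocal
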