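import Cfsg.Prelude.Def_Solvable
import Cfsg.Agent.Lib.Fitting.Basic
import Cfsg.Agent.Lib.Critical.Basic
import Cfsg.Agent.Lib.HSub.Fusion
import Cfsg.Agent.Lib.JFourLocal.FiveM
import Cfsg.Agent.Lib.JFourLocal.PentadX

/-!
# The special subgroup of order `2 ^ 15`

It is the largest normal 2-subgroup of the centralizer of `A`; its centre is `A`.
-/

set_option autoImplicit false
set_option maxRecDepth 100000
set_option linter.style.haveILetI false
set_option linter.unusedSectionVars false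

open scoped Classical

namespace CfsgLib.JFourLocal

variable {G : Type*} [Group G] [Finite G]

/-- The largest normal 2-subgroup of the centralizer of `A`. -/
def pentL (A : Subgroup G) : Subgroup G :=
  (Cfsg.pCore 2 ↥(Subgroup.centralizer (A : Set G))).map (Subgroup.centralizer (A : Set G)).subtype

theorem pentL_le (A : Subgroup G) : pentL A ≤ Subgroup.centralizer (A : Set G) := Subgroup.map_subtype_le _

theorem pentL_isPGroup (A : Subgroup G) : IsPGroup 2 ↥(pentL A) :=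
  (CfsgLib.Fitting.pCore_isPGroup 2).map _

/-- A normal 2-subgroup of the centralizer lies in it. -/
theorem le_pentL {A U : Subgroup G} (hU : U ≤ Subgroup.centralizer (A : Set G))
    (hn : ∀ y ∈ Subgroup.centralizer (A : Set G), ∀ u ∈ U, y * u * y⁻¹ ∈ U) (hp : IsPGroup 2 ↥U) :
    U ≤ pentL A := by
  intro u hu
  refine ⟨⟨u, hU hu⟩, CfsgLib.Fitting.le_pCore (N := U.subgroupOf (Subgroup.centralizer (A : Set G))) ?_ ?_
    (Subgroup.mem_subgroupOf.2 hu), rfl⟩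
  · exact ⟨fun a ha y => Subgroup.mem_subgroupOf.2 (hn y y.2 a (Subgroup.mem_subgroupOf.1 ha))⟩
  · exact hp.of_equiv (Subgroup.subgroupOfEquivOfLe hU).symm

/-- A normal 2-subgroup of the symmetric group of degree five is trivial. -/
theorem inf_eq_bot_five {X U : Subgroup G} (e : ↥X ≃* Equiv.Perm (Fin 5)) (hp : IsPGroup 2 ↥U)
    (hn : ∀ x ∈ X, ∀ u ∈ U, x * u * x⁻¹ ∈ U) {u : G} (hu : u ∈ U) (hx : u ∈ X) : u = 1 := by
  haveI : (U.subgroupOf X).Normal :=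
    ⟨fun a ha x => Subgroup.mem_subgroupOf.2 (hn x x.2 a (Subgroup.mem_subgroupOf.1 ha))⟩
  have h2 : IsPGroup 2 ↥(U.subgroupOf X) := hp.comap_subtype (H := U) (K := X)
  have hmem : (⟨u, hx⟩ : ↥X) ∈ U.subgroupOf X := Subgroup.mem_subgroupOf.2 hu
  rw [five_normal_two e h2, Subgroup.mem_bot] at hmem
  exact congrArg Subtype.val hmem

namespace PentadPre

variable {z q f : G} {E A : Subgroup G} (P : PentadPre z q f E A) {s : G} (hs : orderOf s = 7)
  (hsq : s * q = q * s) {X : Subgroup G}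
  (hX : Subgroup.centralizer (A : Set G) ⊓ Subgroup.centralizer ({s} : Set G) = X)
  (e : ↥X ≃* Equiv.Perm (Fin 5))
include P

theorem pentL_conj {k l : G} (hk : k ∈ Subgroup.normalizer (A : Set G)) (hl : l ∈ pentL A) :
    k * l * k⁻¹ ∈ pentL A := by
  refine le_pentL (U := (pentL A).map (MulAut.conj k).toMonoidHom) ?_ ?_ ?_ ⟨l, hl, rfl⟩
  · rintro _ ⟨u, hu, rfl⟩
    exact P.cent_normal hk (pentL_le A hu)
  · rintro y hy _ ⟨u, hu, rfl⟩
    have hk' := (Subgroup.normalizer (A : Set G)).inv_mem hk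
    have hy' := P.cent_normal hk' hy
    rw [inv_inv] at hy'
    obtain ⟨v, hv, hv'⟩ := hu
    refine ⟨k⁻¹ * y * k * u * (k⁻¹ * y * k)⁻¹, ?_, ?_⟩
    · refine ⟨⟨k⁻¹ * y * k, hy'⟩ * v * ⟨k⁻¹ * y * k, hy'⟩⁻¹,
        (CfsgLib.Fitting.pCore_normal 2).conj_mem v hv _, ?_⟩
      rw [map_mul, map_mul, map_inv, hv']
      rfl
    · show k * (k⁻¹ * y * k * u * (k⁻¹ * y * k)⁻¹) * k⁻¹ = y * (k * u * k⁻¹) * y⁻¹
      group
  · exact (pentL_isPGroup A).map _

theorem W_le_L : E ⊓ Subgroup.centralizer (A : Set G) ≤ pentL A :=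
  le_pentL inf_le_right P.conj_W (IsPGroup.of_card P.card_W)

theorem comm_A {a : G} (ha : a ∈ A) {y : G} (hy : y ∈ Subgroup.centralizer (A : Set G)) :
    y * a * y⁻¹ = a := by
  rw [← (Subgroup.mem_centralizer_iff.1 hy) a ha, mul_inv_cancel_right]

include hs hsq hX e

theorem q_X : q ∈ X := hX ▸ Subgroup.mem_inf.2
  ⟨P.q_C, Subgroup.mem_centralizer_singleton_iff.2 hsq.symm⟩

theorem X_le : X ≤ Subgroup.centralizer (A : Set G) := hX ▸ inf_le_left

theorem inf_X {l : G} (hl : l ∈ pentL A) (hlX : l ∈ X) : l = 1 :=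
  inf_eq_bot_five e (pentL_isPGroup A) (fun x hx u hu =>
    P.pentL_conj (P.cent_le (P.X_le hs hsq hX e hx)) hu) hl hlX

/-- No element outside `E` is fixed by `q` modulo `E`. -/
theorem no_fixed {l : G} (hl : l ∈ pentL A) (h : l * q * l⁻¹ * q⁻¹ ∈ E) : l ∈ E := by
  obtain ⟨i, hi⟩ := P.five l (pentL_le A hl) h
  have hiW : l * (q ^ i)⁻¹ ∈ E ⊓ Subgroup.centralizer (A : Set G) :=
    Subgroup.mem_inf.2 ⟨hi, mul_mem (pentL_le A hl) (inv_mem (pow_mem P.q_C i))⟩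
  have hq : q ^ i ∈ pentL A := by
    rw [show q ^ i = (l * (q ^ i)⁻¹)⁻¹ * l by group]
    exact mul_mem (inv_mem (P.W_le_L hiW)) hl
  have h1 := P.inf_X hs hsq hX e hq (pow_mem (P.q_X hs hsq hX e) i)
  rwa [h1, inv_one, mul_one] at hi

/-- An invariant subgroup between the part in `E` and the 2-subgroup. -/
theorem card_between {U : Subgroup G} (hW : E ⊓ Subgroup.centralizer (A : Set G) ≤ U) (hU : U ≤ pentL A)
    (hq : ∀ u ∈ U, q * u * q⁻¹ ∈ U) (hne : ¬ U ≤ E) : Nat.card U = 2 ^ 15 ∧ Nat.card ↥(pentL A) ≤ 2 ^ 15 := by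
  haveI := Fact.mk Nat.prime_two
  haveI := Fact.mk (show Nat.Prime 5 by norm_num)
  set CA := Subgroup.centralizer (A : Set G)
  set W := E ⊓ CA
  -- upper bound
  have hbound : Nat.card ↥(pentL A) * 120 ≤ 2 ^ 15 * 120 := by
    have hX120 : Nat.card X = 120 := by rw [Nat.card_congr e.toEquiv, Nat.card_perm, Nat.card_fin]; rfl
    rw [← P.card_C, ← hX120, ← Nat.card_prod]
    refine Nat.card_le_card_of_injective (fun u : ↥(pentL A) × ↥X =>
      (⟨u.1 * u.2, CA.mul_mem (pentL_le A u.1.2) (P.X_le hs hsq hX e u.2.2)⟩ : ↥CA)) ?_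
    rintro ⟨l, x⟩ ⟨l', x'⟩ h
    have h' : (l : G) * x = l' * x' := congrArg Subtype.val h
    have h1 : (l' : G)⁻¹ * l = x' * (x : G)⁻¹ := by
      rw [eq_mul_inv_iff_mul_eq, mul_assoc, h', inv_mul_cancel_left]
    have h2 := P.inf_X hs hsq hX e ((pentL A).mul_mem ((pentL A).inv_mem l'.2) l.2)
      (h1 ▸ X.mul_mem x'.2 (X.inv_mem x.2))
    obtain rfl : l' = l := Subtype.ext (inv_mul_eq_one.1 h2)
    exact Prod.ext rfl (Subtype.ext (mul_left_cancel h'))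
  obtain ⟨n, hn⟩ := (IsPGroup.iff_card (p := 2)).1 ((pentL_isPGroup A).to_le hU)
  -- the free action
  have hdiff : ((U : Set G) \ (W : Set G)).ncard = 2 ^ n - 2 ^ 11 := by
    rw [Set.ncard_sdiff (show (W : Set G) ⊆ U from hW), ← Nat.card_coe_set_eq, SetLike.coe_sort_coe, hn,
      ← Nat.card_coe_set_eq, SetLike.coe_sort_coe, P.card_W]
  have h5 : 5 ∣ 2 ^ n - 2 ^ 11 := by
    rw [← hdiff]
    by_contra h
    obtain ⟨u, ⟨hu, huW⟩, hqu⟩ := exists_fixed_conj (p := 5) P.L.q_pow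
      (S := (U : Set G) \ (W : Set G)) (fun u hu => ⟨hq u hu.1, fun hW' => hu.2 (by
        have := P.conj_W q⁻¹ (CA.inv_mem P.q_C) _ hW'
        rwa [show q⁻¹ * (q * u * q⁻¹) * q⁻¹⁻¹ = u by group] at this)⟩) h
    exact huW (Subgroup.mem_inf.2 ⟨P.no_fixed hs hsq hX e (hU hu)
      (by rw [← hqu, mul_inv_cancel_right, mul_inv_cancel]; exact E.one_mem), pentL_le A (hU hu)⟩)
  have hL : Nat.card ↥(pentL A) ≤ 2 ^ 15 := Nat.le_of_mul_le_mul_right hbound (by norm_num)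
  have hle : Nat.card U ≤ 2 ^ 15 := (Subgroup.card_le_of_le hU).trans hL
  have hlt : 2 ^ 11 < Nat.card U := by
    rcases lt_or_eq_of_le (Subgroup.card_le_of_le hW) with h | h
    · rwa [P.card_W] at h
    · refine absurd ?_ hne
      rw [← Subgroup.eq_of_le_of_card_ge hW h.ge]
      exact inf_le_left
  rw [hn] at hle hlt
  have hn1 := (Nat.pow_lt_pow_iff_right (by norm_num : 1 < 2)).1 hlt
  have hn2 := (Nat.pow_le_pow_iff_right (by norm_num : 1 < 2)).1 hle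
  refine ⟨?_, hL⟩
  interval_cases n <;> simp_all

theorem s_not_normal : ¬ ∀ e' ∈ E ⊓ Subgroup.centralizer (A : Set G),
    s * e' * s⁻¹ ∈ E ⊓ Subgroup.centralizer (A : Set G) := by
  intro h
  obtain ⟨a, ha, b, hb, hab⟩ := P.noncomm
  rcases P.comm _ (h a ha) _ (h b hb) with k | k <;>
    rw [show s * a * s⁻¹ * (s * b * s⁻¹) * (s * a * s⁻¹)⁻¹ * (s * b * s⁻¹)⁻¹ = s * (a * b * a⁻¹ * b⁻¹) * s⁻¹ by
      group, hab] at k
  · exact P.z1 (by rwa [mul_inv_eq_one, mul_eq_left] at k)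
  · exact P.s_moves hs hsq P.zA P.z1 (mul_inv_eq_iff_eq_mul.1 k)

theorem L_not_le : ¬ pentL A ≤ E := by
  intro h
  refine P.s_not_normal hs hsq hX e fun a ha => ?_
  have := P.pentL_conj (P.s_mem hs hsq) (P.W_le_L ha)
  exact Subgroup.mem_inf.2 ⟨h this, pentL_le A this⟩

theorem card_pentL : Nat.card ↥(pentL A) = 2 ^ 15 :=
  (P.card_between hs hsq hX e P.W_le_L le_rfl
    (fun _ hu => P.pentL_conj (P.cent_le P.q_C) hu) (P.L_not_le hs hsq hX e)).1

theorem eq_pentL {U : Subgroup G} (hW : E ⊓ Subgroup.centralizer (A : Set G) ≤ U) (hU : U ≤ pentL A)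
    (hq : ∀ u ∈ U, q * u * q⁻¹ ∈ U) (hne : ¬ U ≤ E) : U = pentL A :=
  Subgroup.eq_of_le_of_card_ge hU
    (by rw [P.card_pentL hs hsq hX e, (P.card_between hs hsq hX e hW hU hq hne).1])

/-- The centralizer of `A` is the product. -/
theorem exists_LX {y : G} (hy : y ∈ Subgroup.centralizer (A : Set G)) :
    ∃ l ∈ pentL A, ∃ x ∈ X, y = l * x := by
  set CA := Subgroup.centralizer (A : Set G)
  let F : ↥(pentL A) × ↥X → ↥CA := fun u => ⟨u.1 * u.2, CA.mul_mem (pentL_le A u.1.2) (P.X_le hs hsq hX e u.2.2)⟩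
  have hinj : Function.Injective F := by
    rintro ⟨l, x⟩ ⟨l', x'⟩ h
    have h' : (l : G) * x = l' * x' := congrArg Subtype.val h
    have h1 : (l' : G)⁻¹ * l = x' * (x : G)⁻¹ := by
      rw [eq_mul_inv_iff_mul_eq, mul_assoc, h', inv_mul_cancel_left]
    have h2 := P.inf_X hs hsq hX e ((pentL A).mul_mem ((pentL A).inv_mem l'.2) l.2)
      (h1 ▸ X.mul_mem x'.2 (X.inv_mem x.2))
    obtain rfl : l' = l := Subtype.ext (inv_mul_eq_one.1 h2)
    exact Prod.ext rfl (Subtype.ext (mul_left_cancel h'))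
  have hbij := (Nat.bijective_iff_injective_and_card F).2 ⟨hinj, by
    rw [Nat.card_prod, P.card_pentL hs hsq hX e, P.card_C, Nat.card_congr e.toEquiv, Nat.card_perm, Nat.card_fin]
    rfl⟩
  obtain ⟨⟨l, x⟩, h⟩ := hbij.2 ⟨y, hy⟩
  exact ⟨l, l.2, x, x.2, (congrArg Subtype.val h).symm⟩

omit hs hsq hX e in
/-- The elements acting trivially modulo `A` on the part in `E`. -/
theorem exists_N0 : ∃ N0 : Subgroup G, ∀ y, y ∈ N0 ↔ y ∈ Subgroup.centralizer (A : Set G) ∧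
    ∀ a ∈ E ⊓ Subgroup.centralizer (A : Set G), y * a * y⁻¹ * a⁻¹ ∈ A := by
  set CA := Subgroup.centralizer (A : Set G)
  refine ⟨{ carrier := {y | y ∈ CA ∧ ∀ a ∈ E ⊓ CA, y * a * y⁻¹ * a⁻¹ ∈ A},
            one_mem' := ⟨CA.one_mem, fun a _ => by simp⟩, mul_mem' := ?_,
            inv_mem' := ?_ }, fun y => Iff.rfl⟩
  · rintro y y' ⟨hy, h⟩ ⟨hy', h'⟩
    refine ⟨CA.mul_mem hy hy', fun a ha => ?_⟩
    rw [show y * y' * a * (y * y')⁻¹ * a⁻¹ = y * (y' * a * y'⁻¹ * a⁻¹) * y⁻¹ * (y * a * y⁻¹ * a⁻¹) by group,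
      P.comm_A (h' a ha) hy]
    exact A.mul_mem (h' a ha) (h a ha)
  · rintro y ⟨hy, h⟩
    refine ⟨CA.inv_mem hy, fun a ha => ?_⟩
    have hb := h _ (P.conj_W y⁻¹ (CA.inv_mem hy) a ha)
    rw [show y * (y⁻¹ * a * y⁻¹⁻¹) * y⁻¹ * (y⁻¹ * a * y⁻¹⁻¹)⁻¹ = (y⁻¹ * a * y⁻¹⁻¹ * a⁻¹)⁻¹ by group] at hb
    exact A.inv_mem_iff.1 hb

/-- The 2-subgroup acts trivially on the part in `E` modulo `A`. -/
theorem L_trivial {l : G} (hl : l ∈ pentL A) {a : G} (ha : a ∈ E ⊓ Subgroup.centralizer (A : Set G)) :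
    l * a * l⁻¹ * a⁻¹ ∈ A := by
  haveI := Fact.mk (show Nat.Prime 5 by norm_num)
  set CA := Subgroup.centralizer (A : Set G) with hCA
  obtain ⟨N0, hN0⟩ := P.exists_N0
  suffices hsuff : pentL A ≤ N0 from ((hN0 l).1 (hsuff hl)).2 a ha
  have hWN : E ⊓ CA ≤ N0 := fun u hu => (hN0 u).2 ⟨hu.2, fun b hb => by
    rcases P.comm u hu b hb with k | k <;> rw [k]
    exacts [A.one_mem, P.zA]⟩
  have hnorm : ∀ y ∈ CA, ∀ u ∈ N0, y * u * y⁻¹ ∈ N0 := by
    intro y hy u hu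
    obtain ⟨huC, h⟩ := (hN0 u).1 hu
    refine (hN0 _).2 ⟨CA.mul_mem (CA.mul_mem hy huC) (CA.inv_mem hy), fun b hb => ?_⟩
    have hb' := P.conj_W y⁻¹ (CA.inv_mem hy) b hb
    rw [show y * u * y⁻¹ * b * (y * u * y⁻¹)⁻¹ * b⁻¹ =
      y * (u * (y⁻¹ * b * y⁻¹⁻¹) * u⁻¹ * (y⁻¹ * b * y⁻¹⁻¹)⁻¹) * y⁻¹ by group, P.comm_A (h _ hb') hy]
    exact h _ hb'
  by_cases hU : N0 ⊓ pentL A ≤ E
  · exfalso
    -- then `q` is inner on the 2-subgroup modulo `E`
    obtain ⟨w, hwC, hwE, hw⟩ := P.witness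
    have hwN : w ∈ N0 := (hN0 w).2 ⟨hwC, hw⟩
    obtain ⟨lw, hlw, xw, hxw, hwx⟩ := P.exists_LX hs hsq hX e hwC
    set Y : Subgroup ↥X := (N0 ⊔ pentL A).subgroupOf X with hY
    have hNle : N0 ⊔ pentL A ≤ CA := sup_le (fun u hu => ((hN0 u).1 hu).1) (pentL_le A)
    haveI : Y.Normal := ⟨fun u hu x => Subgroup.mem_subgroupOf.2 (by
      have hxC := P.X_le hs hsq hX e x.2
      have hxn : (x : G) ∈ Subgroup.normalizer ((N0 ⊔ pentL A : Subgroup G) : Set G) := by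
        refine Subgroup.mem_normalizer_iff.2 fun v => ?_
        have key : ∀ y ∈ CA, ∀ v ∈ N0 ⊔ pentL A, y * v * y⁻¹ ∈ N0 ⊔ pentL A := by
          intro y hy v hv
          have : (MulAut.conj y).toMonoidHom v ∈ (N0 ⊔ pentL A).map (MulAut.conj y).toMonoidHom := ⟨v, hv, rfl⟩
          rw [Subgroup.map_sup] at this
          have h1 : N0.map (MulAut.conj y).toMonoidHom ≤ N0 := by
            rintro _ ⟨u, hu, rfl⟩; exact hnorm y hy u hu
          have h2 : (pentL A).map (MulAut.conj y).toMonoidHom ≤ pentL A := by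
            rintro _ ⟨u, hu, rfl⟩; exact P.pentL_conj (P.cent_le hy) hu
          exact SetLike.le_def.1 (sup_le_sup h1 h2) this
        refine ⟨key _ hxC v, fun h => ?_⟩
        have := key _ (CA.inv_mem hxC) _ h
        rwa [show (x : G)⁻¹ * ((x : G) * v * (x : G)⁻¹) * (x : G)⁻¹⁻¹ = v by group] at this
      exact (Subgroup.mem_normalizer_iff.1 hxn _).1 (Subgroup.mem_subgroupOf.1 hu))⟩
    have hxY : (⟨xw, hxw⟩ : ↥X) ∈ Y := Subgroup.mem_subgroupOf.2 (by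
      rw [show ((⟨xw, hxw⟩ : ↥X) : G) = lw⁻¹ * w by rw [hwx, inv_mul_cancel_left]]
      exact mul_mem (Subgroup.mem_sup_right (inv_mem hlw)) (Subgroup.mem_sup_left hwN))
    have hx1 : (⟨xw, hxw⟩ : ↥X) ≠ 1 := fun k => hwE (hU (Subgroup.mem_inf.2 ⟨hwN, by
      rw [hwx, show xw = 1 from congrArg Subtype.val k, mul_one]; exact hlw⟩))
    obtain ⟨g, h, hfive, hne⟩ := five_has_five (e ⟨xw, hxw⟩) fun k => hx1 (e.injective (k.trans (map_one e).symm))
    obtain ⟨g, rfl⟩ := e.surjective g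
    obtain ⟨h, rfl⟩ := e.surjective h
    set x := (⟨xw, hxw⟩ : ↥X)
    set d := x * g * x⁻¹ * g⁻¹ * (h * (x * g * x⁻¹ * g⁻¹) * h⁻¹) with hd
    have hcY : x * g * x⁻¹ * g⁻¹ ∈ Y := by
      rw [show x * g * x⁻¹ * g⁻¹ = x * (g * x⁻¹ * g⁻¹) by group]
      exact Y.mul_mem hxY ((inferInstance : Y.Normal).conj_mem _ (Y.inv_mem hxY) g)
    have hdY : d ∈ Y := Y.mul_mem hcY ((inferInstance : Y.Normal).conj_mem _ hcY h)
    have hed : e d = e x * e g * (e x)⁻¹ * (e g)⁻¹ * (e h * (e x * e g * (e x)⁻¹ * (e g)⁻¹) * (e h)⁻¹) := by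
      simp [hd]
    have hdo : orderOf d = 5 := orderOf_eq_prime (e.injective (by rw [map_pow, hed, hfive, map_one]))
      (fun k => hne (by rw [← hed, k, map_one]))
    have hX120 : Nat.card X = 120 := by rw [Nat.card_congr e.toEquiv, Nat.card_perm, Nat.card_fin]; rfl
    obtain ⟨m, j, hj, hm⟩ := five_conj (H := ↥X) (by
        rw [hX120, show (120 : ℕ) = 5 ^ 1 * 24 by norm_num, Nat.factorization_mul (by norm_num) (by norm_num),
          Finsupp.add_apply, Nat.factorization_pow, Nat.factorization_eq_zero_of_not_dvd (show ¬ 5 ∣ 24 by norm_num)]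
        simp [(show Nat.Prime 5 by norm_num).factorization_self])
      hdo (y := ⟨q, P.q_X hs hsq hX e⟩) (by rw [← Subgroup.orderOf_coe]; exact P.L.q5)
    have hqY : q ∈ N0 ⊔ pentL A := by
      have h1 : (⟨q, P.q_X hs hsq hX e⟩ : ↥X) ^ j ∈ Y := hm ▸ (inferInstance : Y.Normal).conj_mem _ hdY m
      have h2 := Y.pow_mem h1 (j ^ 3)
      rw [← pow_mul] at h2
      have h3 := Subgroup.mem_subgroupOf.1 h2
      rw [Subgroup.coe_pow] at h3
      have e1 : q ^ (j * j ^ 3) = q := by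
        rw [← pow_mod_orderOf, P.L.q5]
        have h4 : (j * j ^ 3) % 5 = 1 := by
          rw [← pow_succ', Nat.pow_mod]
          have : j % 5 < 5 := Nat.mod_lt _ (by norm_num)
          interval_cases j % 5 <;> simp at hj ⊢
        rw [h4, pow_one]
      rwa [e1] at h3
    rw [← SetLike.mem_coe, Subgroup.coe_mul_of_right_le_normalizer_left N0 (pentL A) (fun v hv =>
      Subgroup.mem_normalizer_iff.2 fun u => ⟨hnorm v (pentL_le A hv) u, fun hu => by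
        have := hnorm v⁻¹ (CA.inv_mem (pentL_le A hv)) _ hu
        rwa [show v⁻¹ * (v * u * v⁻¹) * v⁻¹⁻¹ = u by group] at this⟩)] at hqY
    obtain ⟨n, hn, l0, hl0, hql⟩ := hqY
    have hql' : n * l0 = q := hql
    -- the element `l0` is fixed modulo `E`
    have key : ∀ v ∈ pentL A, n * v * n⁻¹ * v⁻¹ ∈ E := fun v hv => hU (Subgroup.mem_inf.2 ⟨by
      rw [show n * v * n⁻¹ * v⁻¹ = n * (v * n⁻¹ * v⁻¹) by group]
      exact N0.mul_mem hn (hnorm v (pentL_le A hv) _ (N0.inv_mem hn)),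
      (pentL A).mul_mem (P.pentL_conj (P.cent_le ((hN0 n).1 hn).1) hv) ((pentL A).inv_mem hv)⟩)
    have hconjE : ∀ y ∈ CA, ∀ u ∈ E ⊓ CA, y * u * y⁻¹ ∈ E := fun y hy u hu => (P.conj_W y hy u hu).1
    have hl0E : l0 ∈ E := P.no_fixed hs hsq hX e hl0 (by
      have h1 := key l0 hl0
      have h2 : n * l0 * n⁻¹ * l0⁻¹ ∈ E ⊓ CA := Subgroup.mem_inf.2 ⟨h1,
        mul_mem (mul_mem (mul_mem ((hN0 n).1 hn).1 (pentL_le A hl0)) (inv_mem ((hN0 n).1 hn).1))
          (inv_mem (pentL_le A hl0))⟩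
      rw [show l0 * q * l0⁻¹ * q⁻¹ = (q * l0 * q⁻¹ * l0⁻¹)⁻¹ by group, ← hql',
        show n * l0 * l0 * (n * l0)⁻¹ * l0⁻¹ = n * l0 * n⁻¹ * l0⁻¹ by group]
      exact E.inv_mem h1)
    have hqN : q ∈ N0 := hql' ▸ N0.mul_mem hn (hWN (Subgroup.mem_inf.2 ⟨hl0E, pentL_le A hl0⟩))
    refine P.L_not_le hs hsq hX e fun v hv => P.no_fixed hs hsq hX e hv ?_
    refine hU (Subgroup.mem_inf.2 ⟨?_, ?_⟩)
    · exact N0.mul_mem (hnorm v (pentL_le A hv) q hqN) (N0.inv_mem hqN)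
    · rw [show v * q * v⁻¹ * q⁻¹ = v * (q * v⁻¹ * q⁻¹) by group]
      exact (pentL A).mul_mem hv (P.pentL_conj (P.cent_le P.q_C) ((pentL A).inv_mem hv))
  · have := P.eq_pentL hs hsq hX e (U := N0 ⊓ pentL A) (le_inf hWN P.W_le_L) inf_le_right
      (fun u hu => Subgroup.mem_inf.2 ⟨hnorm q P.q_C u (Subgroup.mem_inf.1 hu).1,
        P.pentL_conj (P.cent_le P.q_C) (Subgroup.mem_inf.1 hu).2⟩) hU
    rw [← this]
    exact inf_le_left

/-- The translates of the part in `E` generate. -/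
theorem L_eq_closure :
    Subgroup.closure {u : G | ∃ i : ℕ, ∃ a ∈ E ⊓ Subgroup.centralizer (A : Set G), s ^ i * a * (s ^ i)⁻¹ = u} =
      pentL A := by
  set CA := Subgroup.centralizer (A : Set G)
  set T := {u : G | ∃ i : ℕ, ∃ a ∈ E ⊓ CA, s ^ i * a * (s ^ i)⁻¹ = u} with hT
  refine P.eq_pentL hs hsq hX e (fun a ha => Subgroup.subset_closure ⟨0, a, ha, by simp⟩) ?_ ?_ ?_
  · rw [Subgroup.closure_le]
    rintro _ ⟨i, a, ha, rfl⟩
    exact P.pentL_conj (P.s_conj_pow hs hsq) (P.W_le_L ha)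
  · intro u hu
    have hle : Subgroup.closure T ≤ (Subgroup.closure T).comap (MulAut.conj q).toMonoidHom := by
      rw [Subgroup.closure_le]
      rintro _ ⟨i, a, ha, rfl⟩
      refine Subgroup.subset_closure ⟨i, q * a * q⁻¹, P.conj_W q P.q_C a ha, ?_⟩
      show s ^ i * (q * a * q⁻¹) * (s ^ i)⁻¹ = q * (s ^ i * a * (s ^ i)⁻¹) * q⁻¹
      have hc : Commute (s ^ i) q := (show Commute s q from hsq).pow_left i
      calc s ^ i * (q * a * q⁻¹) * (s ^ i)⁻¹ = (s ^ i * q) * a * (s ^ i * q)⁻¹ := by group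
        _ = (q * s ^ i) * a * (q * s ^ i)⁻¹ := by rw [hc.eq]
        _ = _ := by group
    exact hle hu
  · intro hE
    refine P.s_not_normal hs hsq hX e fun a ha => Subgroup.mem_inf.2
      ⟨hE (Subgroup.subset_closure ⟨1, a, ha, by rw [pow_one]⟩), ?_⟩
    exact P.cent_normal (P.s_mem hs hsq) ha.2

/-- Commutators lie in `A`. -/
theorem L_comm {l m : G} (hl : l ∈ pentL A) (hm : m ∈ pentL A) : l * m * l⁻¹ * m⁻¹ ∈ A := by
  set CA := Subgroup.centralizer (A : Set G)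
  let Φ : Subgroup G :=
    { carrier := {l | l ∈ pentL A ∧ ∀ m ∈ pentL A, l * m * l⁻¹ * m⁻¹ ∈ A}
      one_mem' := ⟨(pentL A).one_mem, fun m _ => by simp⟩
      mul_mem' := by
        rintro y y' ⟨hy, h⟩ ⟨hy', h'⟩
        refine ⟨(pentL A).mul_mem hy hy', fun m hm => ?_⟩
        rw [show y * y' * m * (y * y')⁻¹ * m⁻¹ = y * (y' * m * y'⁻¹ * m⁻¹) * y⁻¹ * (y * m * y⁻¹ * m⁻¹) by group,
          P.comm_A (h' m hm) (pentL_le A hy)]
        exact A.mul_mem (h' m hm) (h m hm)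
      inv_mem' := by
        rintro y ⟨hy, h⟩
        refine ⟨(pentL A).inv_mem hy, fun m hm => ?_⟩
        have hb := h _ ((pentL A).mul_mem ((pentL A).mul_mem ((pentL A).inv_mem hy) hm) hy)
        rw [show y * (y⁻¹ * m * y) * y⁻¹ * (y⁻¹ * m * y)⁻¹ = (y⁻¹ * m * y⁻¹⁻¹ * m⁻¹)⁻¹ by group] at hb
        exact A.inv_mem_iff.1 hb }
  suffices hsuff : pentL A ≤ Φ from (hsuff hl).2 m hm
  refine (P.L_eq_closure hs hsq hX e).symm.le.trans ((Subgroup.closure_le _).2 ?_)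
  rintro _ ⟨i, a, ha, rfl⟩
  refine ⟨P.pentL_conj (P.s_conj_pow hs hsq) (P.W_le_L ha), fun m hm => ?_⟩
  set k := s ^ i
  have hk : k ∈ Subgroup.normalizer (A : Set G) := P.s_conj_pow hs hsq
  have hm' : k⁻¹ * m * k⁻¹⁻¹ ∈ pentL A := P.pentL_conj ((Subgroup.normalizer (A : Set G)).inv_mem hk) hm
  rw [inv_inv] at hm'
  have h1 := A.inv_mem (P.L_trivial hs hsq hX e hm' ha)
  rw [show k * a * k⁻¹ * m * (k * a * k⁻¹)⁻¹ * m⁻¹ =
    k * (k⁻¹ * m * k * a * (k⁻¹ * m * k)⁻¹ * a⁻¹)⁻¹ * k⁻¹ by group]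
  exact P.conj_mem hk h1

/-- Squares lie in `A`. -/
theorem L_sq {l : G} (hl : l ∈ pentL A) : l * l ∈ A := by
  set CA := Subgroup.centralizer (A : Set G)
  let Φ : Subgroup G :=
    { carrier := {l | l ∈ pentL A ∧ l * l ∈ A}
      one_mem' := ⟨(pentL A).one_mem, by simp⟩
      mul_mem' := by
        rintro a b ⟨ha, h⟩ ⟨hb, h'⟩
        refine ⟨(pentL A).mul_mem ha hb, ?_⟩
        have hc := P.L_comm hs hsq hX e ((pentL A).inv_mem ha) hb
        rw [show a * b * (a * b) = (a * a) * (a⁻¹ * b * a⁻¹⁻¹ * b⁻¹) * (b * b) by group]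
        exact A.mul_mem (A.mul_mem h hc) h'
      inv_mem' := by
        rintro a ⟨ha, h⟩
        exact ⟨(pentL A).inv_mem ha, by rw [← mul_inv_rev]; exact A.inv_mem h⟩ }
  suffices hsuff : pentL A ≤ Φ from (hsuff hl).2
  refine (P.L_eq_closure hs hsq hX e).symm.le.trans ((Subgroup.closure_le _).2 ?_)
  rintro _ ⟨i, a, ha, rfl⟩
  refine ⟨P.pentL_conj (P.s_conj_pow hs hsq) (P.W_le_L ha), ?_⟩
  rw [show s ^ i * a * (s ^ i)⁻¹ * (s ^ i * a * (s ^ i)⁻¹) = s ^ i * (a * a) * (s ^ i)⁻¹ by group]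
  refine P.conj_mem (P.s_conj_pow hs hsq) ?_
  rcases P.sq a ha with k | k <;> rw [k]
  exacts [A.one_mem, P.zA]

/-- The centre is `A`. -/
theorem center_pentL : (Subgroup.center ↥(pentL A)).map (pentL A).subtype = A := by
  refine le_antisymm ?_ ?_
  · rintro _ ⟨l, hl, rfl⟩
    have hcomm : ∀ m ∈ pentL A, (l : G) * m = m * l := fun m hm =>
      (congrArg Subtype.val (Subgroup.mem_center_iff.1 hl ⟨m, hm⟩)).symm
    have hlE : (l : G) ∈ E := by
      by_contra hn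
      obtain ⟨a, ha, hne⟩ := P.moved l (pentL_le A l.2) hn (P.A_W (P.L_sq hs hsq hX e l.2)).1
      exact hne (hcomm a (P.W_le_L ha))
    exact P.radical l (Subgroup.mem_inf.2 ⟨hlE, pentL_le A l.2⟩) fun a ha => hcomm a (P.W_le_L ha)
  · intro a ha
    refine ⟨⟨a, P.W_le_L (P.A_W ha)⟩, Subgroup.mem_center_iff.2 fun m => Subtype.ext ?_, rfl⟩
    exact ((Subgroup.mem_centralizer_iff.1 (pentL_le A m.2)) a ha).symm

/-- The subgroup is special. -/
theorem special : Cfsg.IsSpecial 2 ↥(pentL A) ∧ Nat.card ↥(Subgroup.center ↥(pentL A)) = 8 := by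
  haveI := Fact.mk Nat.prime_two
  haveI := Fact.mk (show Nat.Prime 7 by norm_num)
  set L := pentL A
  have hcen := P.center_pentL hs hsq hX e
  have hmem : ∀ x : ↥L, x ∈ Subgroup.center ↥L ↔ (x : G) ∈ A := fun x => by
    rw [← hcen]
    exact ⟨fun h => ⟨x, h, rfl⟩, fun ⟨y, hy, hye⟩ => (Subtype.ext hye : y = x) ▸ hy⟩
  have hcomm : commutator ↥L ≤ Subgroup.center ↥L := by
    rw [commutator_def, Subgroup.commutator_le]
    rintro a - b -
    rw [hmem]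
    simp only [commutatorElement_def, Subgroup.coe_mul, InvMemClass.coe_inv]
    exact P.L_comm hs hsq hX e a.2 b.2
  -- the commutator subgroup is all of the centre
  set D := (commutator ↥L).map L.subtype with hD
  have hDA : D ≤ A := by
    rintro _ ⟨x, hx, rfl⟩
    exact (hmem x).1 (hcomm hx)
  have hDs : ∀ x ∈ D, s * x * s⁻¹ ∈ D := by
    intro x hx
    have hle : D.map (MulAut.conj s).toMonoidHom ≤ D := by
      rw [hD, Subgroup.map_map, commutator_def, Subgroup.map_commutator, Subgroup.map_commutator]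
      have : (⊤ : Subgroup ↥L).map ((MulAut.conj s).toMonoidHom.comp L.subtype) ≤ (⊤ : Subgroup ↥L).map L.subtype := by
        rintro _ ⟨y, -, rfl⟩
        exact ⟨⟨s * y * s⁻¹, P.pentL_conj (P.s_mem hs hsq) y.2⟩, trivial, rfl⟩
      exact Subgroup.commutator_mono this this
    exact hle ⟨x, hx, rfl⟩
  have hzD : z ∈ D := by
    obtain ⟨a, ha, b, hb, hab⟩ := P.noncomm
    refine ⟨⟨a, P.W_le_L ha⟩ * ⟨b, P.W_le_L hb⟩ * (⟨a, P.W_le_L ha⟩ : ↥L)⁻¹ * (⟨b, P.W_le_L hb⟩ : ↥L)⁻¹,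
      Subgroup.commutator_mem_commutator (Subgroup.mem_top _) (Subgroup.mem_top _), ?_⟩
    exact hab
  have hDcard : Nat.card D = 8 := by
    obtain ⟨n, hn⟩ := (IsPGroup.iff_card (p := 2)).1 ((IsPGroup.of_card (p := 2) (n := 3) P.L.A8).to_le hDA)
    have h7 : 7 ∣ ((D : Set G) \ {1}).ncard := by
      by_contra h
      obtain ⟨a, ⟨haD, ha1⟩, hsa⟩ := exists_fixed_conj (p := 7) (hs ▸ pow_orderOf_eq_one s)
        (S := (D : Set G) \ {1}) (fun y hy => ⟨hDs y hy.1, fun k => hy.2 (by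
          simpa using mul_inv_eq_one.1 (show s * y * s⁻¹ = 1 from k))⟩) h
      exact P.s_moves hs hsq (hDA haD) ha1 hsa
    rw [Set.ncard_sdiff (Set.singleton_subset_iff.2 D.one_mem), Set.ncard_singleton, ← Nat.card_coe_set_eq,
      SetLike.coe_sort_coe, hn] at h7
    have hle : 2 ^ n ≤ 2 ^ 3 := by
      have := Subgroup.card_le_of_le hDA
      rwa [hn, P.L.A8] at this
    have hge : 2 ≤ 2 ^ n := by
      rw [← hn]
      exact (Subgroup.one_lt_card_iff_ne_bot D).2 fun k => P.z1 (by rw [k] at hzD; exact hzD)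
    have hn3 := (Nat.pow_le_pow_iff_right (by norm_num : 1 < 2)).1 hle
    rw [hn]
    interval_cases n <;> omega
  have hc8 : Nat.card ↥(Subgroup.center ↥L) = 8 := by
    rw [← Subgroup.card_map_of_injective L.subtype_injective, hcen, P.L.A8]
  have heq : commutator ↥L = Subgroup.center ↥L := Subgroup.eq_of_le_of_card_ge hcomm (by
    rw [hc8, ← hDcard, hD, Subgroup.card_map_of_injective L.subtype_injective])
  refine ⟨⟨pentL_isPGroup A, le_antisymm ?_ ?_, heq⟩, hc8⟩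
  · refine CfsgLib.Critical.frattini_le_of_elementary (p := 2) _ hcomm fun x => ?_
    rw [hmem, Subgroup.coe_pow, pow_two]
    exact P.L_sq hs hsq hX e x.2
  · rw [← heq]
    exact CfsgLib.HSub.commutator_le_frattini (pentL_isPGroup A)

end PentadPre

end CfsgLib.JFourLocal
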