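import Cfsg.Agent.Lib.JFourLocal.PentadA
import Cfsg.Agent.Lib.JFourLocal.PentadPre
import Cfsg.Agent.Lib.JFourLocal.FiveCount

/-!
# The data of the subgroup over the elementary subgroup of order eight
-/

set_option autoImplicit false
set_option maxRecDepth 100000
set_option linter.style.haveILetI false
set_option linter.unusedSectionVars false

open Cfsg
open scoped Classical

namespace CfsgLib.JFourLocal

open CfsgLib.JFour CfsgLib.JFour.Ctx

variable {G : Type*} [Group G] [Finite G] {M : Type*} [Group M] [Finite M] {z π : G} {E : Subgroup G}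

section Std

variable {J : Ctx M z π E} {g : ℕ → M} {vec : ℕ → G} {V : Subgroup G} (D : J.Std g vec V) {q : G}
  (Q : FiveEl z π vec q) (FF : FiveFacts M)
include D Q FF

/-- The squaring element normalizes `A`. -/
theorem four_normal_A {A : Subgroup G} (hA : IsFiveA z vec A) {f : G} (hfC : f ∈ CZ z π)
    (hf : f * q * f⁻¹ = q ^ 2) {a : G} (ha : a ∈ A) : f * a * f⁻¹ ∈ A := by
  by_cases h1 : a = 1
  · rw [h1, mul_one, mul_inv_cancel]; exact A.one_mem
  obtain ⟨haE, haq⟩ := mem_fiveO.1 (A_le D Q hA ha)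
  refine mem_A_of_conj D Q hA (mem_fiveO.2 ⟨J.conjE (mem_CZ.1 hfC).1 haE, ?_⟩)
    ((A_conj D Q hA ha h1).trans (isConj_iff.2 ⟨f, rfl⟩))
  have h2 : Commute (f * a * f⁻¹) (q ^ 2) := by
    rw [← hf]
    exact conj_comm_conj haq
  have h3 := h2.pow_right 3
  rwa [← pow_mul, show 2 * 3 = 5 + 1 from rfl, pow_succ, q_pow D Q, one_mul] at h3

/-- **The data.** -/
theorem exists_pre : ∃ (f : G) (A : Subgroup G), PentadPre z q f E A := by
  obtain ⟨A, hA⟩ := exists_fiveA D Q
  obtain ⟨f, hfC, hf4, hf⟩ := exists_four_el J D.small D.full.Mo Q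
  have L : FiveLoc q f A :=
    { q5 := Q.ord
      f4 := hf4
      fq := hf
      card := card_cent D Q hA FF
      A8 := card_A D Q hA
      Asq := fun a ha => A_sq D Q hA ha
      Ac := fun a ha => (mem_fiveO.1 (A_le D Q hA ha)).2
      Anorm := fun x hx a ha => conj_A D Q hA FF hx ha
      Acent := fun x hx h => cent_A_all D Q hA FF hx h
      small := fun k h1 h2 h3 v h4 h5 h6 => invol_small D Q hA FF h1 h2 h3 h4 h5 h6 }
  set CA := Subgroup.centralizer (A : Set G)
  refine ⟨f, A,
    { L := L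
      z1 := J.z_ne
      zA := z_mem_A D Q hA
      fA := fun a ha => four_normal_A D Q FF hA hfC hf ha
      card_C := card_cent_A_all D Q hA
      card_W := card_W D Q hA
      conj_W := fun y hy e he => conj_W D Q hA hy he
      A_W := A_le_W D Q hA
      sq := fun e he => J.s.sq_cases he.1
      comm := fun e he e' he' => ?_
      noncomm := exists_noncomm D Q hA
      radical := fun e he h => ?_
      five := fun y hy h => ?_
      witness := exists_witness D Q hA
      moved := fun y hy hn h2 => exists_moved D Q hA hy hn h2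
      free := fun x hx hxq a ha hxa => ?_ }⟩
  · rcases J.s.comm_cases he.1 he'.1 with k | k <;> rw [k]
    exacts [Or.inl (mul_inv_cancel e'), Or.inr (mul_inv_cancel_right z e')]
  · obtain ⟨n, hn, hr⟩ := D.full.Mo.coords.surj e he.1
    have hp : pentP n = true := by
      obtain ⟨v1, v2⟩ := vec_mem_A D Q hA
      have hv1 : vec 1092 * vec n = vec n * vec 1092 :=
        (J.comm_of_rel (J.s.z_comm (vec_E D (by norm_num))) (J.rel_symm hr) ((mem_cent.1 he.2) _ v1).symm).symm
      have hv2 : vec 2184 * vec n = vec n * vec 2184 :=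
        (J.comm_of_rel (J.s.z_comm (vec_E D (by norm_num))) (J.rel_symm hr) ((mem_cent.1 he.2) _ v2).symm).symm
      simp only [pentP, Bool.and_eq_true, beq_iff_eq]
      exact ⟨(D.full.comm_vec D.isV hn (by norm_num)).1 hv1.symm, (D.full.comm_vec D.isV hn (by norm_num)).1 hv2.symm⟩
    obtain ⟨hB, hall⟩ := pent_radical
    have := List.all_eq_true.1 hall n (List.mem_range.2 hn)
    simp only [hp, Bool.not_true, Bool.false_or, Bool.or_eq_true, List.contains_iff_mem, List.any_eq_true] at this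
    rcases this with k | ⟨m, hm, hnm⟩
    · refine (hA e).2 ⟨n, ?_, hr⟩
      simp only [List.mem_cons, List.not_mem_nil, or_false] at k
      rcases k with k | k | k | k
      · exact Or.inl k
      all_goals exact Or.inr (by rw [k]; decide)
    · exfalso
      have hm' := List.all_eq_true.1 hB m hm
      simp only [Bool.and_eq_true, decide_eq_true_eq] at hm'
      obtain ⟨hmp, hmlt⟩ := hm'
      simp only [pentP, Bool.and_eq_true, beq_iff_eq] at hmp
      have hmW : vec m ∈ E ⊓ CA := ⟨vec_E D hmlt, cent_of_two D Q hA (J.s.z_comm (vec_E D hmlt))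
        ((D.full.comm_vec D.isV hmlt (by norm_num)).2 hmp.1).symm
        ((D.full.comm_vec D.isV hmlt (by norm_num)).2 hmp.2).symm⟩
      have h1 := J.comm_of_rel (J.s.z_comm hmW.1) (J.rel_symm hr) (h _ hmW)
      have h2 := (D.full.comm_vec D.isV hn hmlt).1 h1
      rw [h2] at hnm
      exact Bool.noConfusion hnm
  · obtain ⟨ψ, hker, hψc, -, -⟩ := exists_psi D Q hA
    have hqC : q ∈ CA := Subgroup.mem_centralizer_iff.2 L.Ac
    have hc : ψ ⟨y, hy⟩ * ψ ⟨q, hqC⟩ = ψ ⟨q, hqC⟩ * ψ ⟨y, hy⟩ := by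
      refine mul_inv_eq_one.1 ?_
      rw [← map_mul, ← map_mul, ← map_inv, ← map_mul]
      refine (hker _).2 ?_
      show y * q * (q * y)⁻¹ ∈ E
      rwa [mul_inv_rev, ← mul_assoc]
    have hqψ : ψ ⟨q, hqC⟩ = J.proj ⟨q, Q.mem⟩ := hψc ⟨q, Q.mem⟩ hqC
    obtain ⟨i, hi⟩ := (isOfFinOrder_of_finite (ψ ⟨q, hqC⟩)).mem_powers_iff_mem_zpowers.2
      (FF.cent _ _ (hqψ ▸ proj_order_five J Q) hc)
    refine ⟨i, (hker (⟨y, hy⟩ * (⟨q, hqC⟩ ^ i)⁻¹)).1 ?_⟩
    rw [map_mul, map_inv, map_pow, show ψ ⟨q, hqC⟩ ^ i = ψ ⟨y, hy⟩ from hi, mul_inv_cancel]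
  · by_contra h1
    obtain ⟨c, hcq, hcz, -⟩ := exists_move_five D Q hA FF ha h1
    set x' := c⁻¹ * x * c
    have hx'z : x' * z = z * x' := by
      calc c⁻¹ * x * c * z = c⁻¹ * (x * (c * z * c⁻¹)) * c := by group
        _ = c⁻¹ * ((c * z * c⁻¹) * x) * c := by rw [hcz, hxa]
        _ = _ := by rw [hcz, ← hcz]; simp only [x']; group
    have hx'q : x' * q = q * x' := ((((show Commute c q from hcq).inv_left).mul_left hxq).mul_left hcq).eq
    have h7 : orderOf x' = 7 := by
      rw [show x' = MulAut.conj c⁻¹ x by simp [x'], MulEquiv.orderOf_eq]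
      exact hx
    have h := Subgroup.card_dvd_of_le (Subgroup.zpowers_le.2 (Subgroup.mem_inf.2
      ⟨Subgroup.mem_centralizer_singleton_iff.2 hx'q, Subgroup.mem_centralizer_singleton_iff.2 hx'z⟩))
    rw [Nat.card_zpowers, h7, card_cent_z D Q FF] at h
    norm_num at h

end Std

end CfsgLib.JFourLocal
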