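import Cfsg.Agent.Lib.Classical.UThreeThree.Hom
import Cfsg.Agent.Lib.JFourLocal.PentadL
import Cfsg.Agent.Lib.JFourLocal.FiveH

/-!
# The normalizer of the special subgroup

Its quotient is the product of the symmetric group of degree five and `SL(3,2)`, the extension does
not split, and it holds normalizers of Sylow subgroups for the primes five and seven.
-/

set_option autoImplicit false
set_option maxRecDepth 100000
set_option linter.style.haveILetI false
set_option linter.unusedSectionVars false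

open scoped Classical

namespace CfsgLib.JFourLocal

variable {G : Type*} [Group G] [Finite G]

local notation "SL32" => Matrix.SpecialLinearGroup (Fin 3) (ZMod 2)

/-- Elements commuting with a five-cycle. -/
theorem five_cent_five : ∀ p g : Equiv.Perm (Fin 5), p ^ 5 = 1 → p ≠ 1 → g * p = p * g → g ^ 5 = 1 := by
  decide +kernel

/-- Powers of an element squaring one of order five realize all automorphisms. -/
theorem pent_power {q f : G} (hq : orderOf q = 5) (hf : f * q * f⁻¹ = q ^ 2) {j : ℕ} (hj : j % 5 ≠ 0) :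
    ∃ i : ℕ, f ^ i * q * (f ^ i)⁻¹ = q ^ j := by
  have hi : ∀ i : ℕ, f ^ i * q * (f ^ i)⁻¹ = q ^ (2 ^ i) := by
    intro i
    induction i with
    | zero => simp
    | succ i ih =>
      rw [pow_succ', show f * f ^ i * q * (f * f ^ i)⁻¹ = f * (f ^ i * q * (f ^ i)⁻¹) * f⁻¹ by group, ih,
        ← conj_pow, hf, ← pow_mul, pow_succ' 2 i]
  rw [pow_mod_five hq j]
  have : j % 5 < 5 := Nat.mod_lt _ (by norm_num)
  interval_cases j % 5
  · exact absurd rfl hj
  · exact ⟨0, by simp⟩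
  · exact ⟨1, by rw [hi]; rfl⟩
  · exact ⟨3, by rw [hi, pow_mod_five hq]; rfl⟩
  · exact ⟨2, by rw [hi]; rfl⟩

/-- The centre of `SL(3,2)` is trivial. -/
theorem center_SL32 {m : SL32} (h : ∀ g : SL32, g * m = m * g) : m = 1 := by
  haveI := CfsgLib.UThreeThree.isSimpleGroup_SL32.1
  rcases (inferInstance : (Subgroup.center SL32).Normal).eq_bot_or_eq_top with k | k
  · have : m ∈ Subgroup.center SL32 := Subgroup.mem_center_iff.2 h
    rwa [k, Subgroup.mem_bot] at this
  · exfalso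
    have hcard := CfsgLib.UThreeThree.isSimpleGroup_SL32.2
    letI : CommGroup SL32 := Group.commGroupOfCenterEqTop k
    have hp : Nat.Prime (Nat.card SL32) := IsSimpleGroup.prime_card
    rw [hcard] at hp
    norm_num at hp

namespace PentadPre

variable {z q f : G} {E A : Subgroup G} (P : PentadPre z q f E A) {s : G} (hs : orderOf s = 7)
  (hsq : s * q = q * s) {X : Subgroup G}
  (hX : Subgroup.centralizer (A : Set G) ⊓ Subgroup.centralizer ({s} : Set G) = X)
  (e : ↥X ≃* Equiv.Perm (Fin 5))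
include P

theorem mem_norm_L {k : G} (hk : k ∈ Subgroup.normalizer (A : Set G)) :
    k ∈ Subgroup.normalizer (pentL A : Set G) := by
  refine Subgroup.mem_normalizer_iff.2 fun v => ⟨P.pentL_conj hk, fun h => ?_⟩
  have := P.pentL_conj ((Subgroup.normalizer (A : Set G)).inv_mem hk) h
  rwa [show k⁻¹ * (k * v * k⁻¹) * k⁻¹⁻¹ = v by group] at this

include hs hsq hX e

theorem card_X120 : Nat.card X = 120 := by rw [Nat.card_congr e.toEquiv, Nat.card_perm, Nat.card_fin]; rfl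

/-- The normalizers of the two subgroups agree. -/
theorem normalizer_pentL : Subgroup.normalizer (pentL A : Set G) = Subgroup.normalizer (A : Set G) := by
  refine le_antisymm (fun k hk => P.mem_norm fun a ha => ?_) fun k hk => P.mem_norm_L hk
  have hL := Subgroup.mem_normalizer_iff.1 hk
  have haL : k * a * k⁻¹ ∈ pentL A := (hL a).1 (P.W_le_L (P.A_W ha))
  rw [← P.center_pentL hs hsq hX e]
  refine ⟨⟨_, haL⟩, Subgroup.mem_center_iff.2 fun m => Subtype.ext ?_, rfl⟩
  have hm : k⁻¹ * m * k ∈ pentL A := (hL _).2 (by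
    rw [show k * (k⁻¹ * m * k) * k⁻¹ = (m : G) by group]; exact m.2)
  have hc := (Subgroup.mem_centralizer_iff.1 (pentL_le A hm)) a ha
  show (m : G) * (k * a * k⁻¹) = k * a * k⁻¹ * m
  calc (m : G) * (k * a * k⁻¹) = k * (k⁻¹ * m * k * a) * k⁻¹ := by group
    _ = k * (a * (k⁻¹ * m * k)) * k⁻¹ := by rw [hc]
    _ = _ := by group

omit hs hsq hX e in
/-- The elements acting trivially on the centralizer of `A` modulo the 2-subgroup. -/
theorem exists_D : ∃ Dd : Subgroup G, ∀ k, k ∈ Dd ↔ k ∈ Subgroup.normalizer (A : Set G) ∧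
    ∀ y ∈ Subgroup.centralizer (A : Set G), k * y * k⁻¹ * y⁻¹ ∈ pentL A := by
  set CA := Subgroup.centralizer (A : Set G)
  set N := Subgroup.normalizer (A : Set G)
  refine ⟨{ carrier := {k | k ∈ N ∧ ∀ y ∈ CA, k * y * k⁻¹ * y⁻¹ ∈ pentL A},
            one_mem' := ⟨N.one_mem, fun y _ => by simp⟩, mul_mem' := ?_, inv_mem' := ?_ }, fun y => Iff.rfl⟩
  · rintro k k' ⟨hk, h⟩ ⟨hk', h'⟩
    refine ⟨N.mul_mem hk hk', fun y hy => ?_⟩
    rw [show k * k' * y * (k * k')⁻¹ * y⁻¹ = k * (k' * y * k'⁻¹ * y⁻¹) * k⁻¹ * (k * y * k⁻¹ * y⁻¹) by group]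
    exact (pentL A).mul_mem (P.pentL_conj hk (h' y hy)) (h y hy)
  · rintro k ⟨hk, h⟩
    refine ⟨N.inv_mem hk, fun y hy => ?_⟩
    have hb := (pentL A).inv_mem (h _ (P.cent_normal (N.inv_mem hk) hy))
    rwa [show (k * (k⁻¹ * y * k⁻¹⁻¹) * k⁻¹ * (k⁻¹ * y * k⁻¹⁻¹)⁻¹)⁻¹ = k⁻¹ * y * k⁻¹⁻¹ * y⁻¹ by group] at hb

omit hs hsq hX e in
/-- The action on `A`. -/
theorem exists_theta : ∃ θ : ↥(Subgroup.normalizer (A : Set G)) →* SL32, Function.Surjective θ ∧
    ∀ k, θ k = 1 ↔ (k : G) ∈ Subgroup.centralizer (A : Set G) := by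
  obtain ⟨θ', hθ'⟩ := exists_SL_hom (fun a : ↥A => Subtype.ext (P.L.Asq _ a.2)) P.L.A8
  set θ := θ'.comp A.normalizerMonoidHom
  have hker : θ.ker = (Subgroup.centralizer (A : Set G)).subgroupOf (Subgroup.normalizer (A : Set G)) := by
    rw [← Subgroup.normalizerMonoidHom_ker]
    ext k
    simp only [MonoidHom.mem_ker, θ, MonoidHom.comp_apply]
    exact ⟨fun h => hθ' (h.trans (map_one θ').symm), fun h => by rw [h, map_one]⟩
  refine ⟨θ, ?_, fun k => by rw [← MonoidHom.mem_ker, hker, Subgroup.mem_subgroupOf]⟩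
  rw [← MonoidHom.range_eq_top]
  refine Subgroup.eq_top_of_card_eq _ ?_
  have h := θ.ker.card_mul_index
  rw [Subgroup.index_ker, hker, Nat.card_congr (Subgroup.subgroupOfEquivOfLe P.cent_le).toEquiv, P.card_C,
    P.card_normalizer_A] at h
  rw [card_SL_three_two]
  omega

section WithD

variable {Dd : Subgroup G} (hD : ∀ k, k ∈ Dd ↔ k ∈ Subgroup.normalizer (A : Set G) ∧
    ∀ y ∈ Subgroup.centralizer (A : Set G), k * y * k⁻¹ * y⁻¹ ∈ pentL A)
include hD

theorem D_conj {g k : G} (hg : g ∈ Subgroup.normalizer (A : Set G)) (hk : k ∈ Dd) : g * k * g⁻¹ ∈ Dd := by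
  obtain ⟨hkN, h⟩ := (hD k).1 hk
  set N := Subgroup.normalizer (A : Set G)
  refine (hD _).2 ⟨N.mul_mem (N.mul_mem hg hkN) (N.inv_mem hg), fun y hy => ?_⟩
  rw [show g * k * g⁻¹ * y * (g * k * g⁻¹)⁻¹ * y⁻¹ =
    g * (k * (g⁻¹ * y * g⁻¹⁻¹) * k⁻¹ * (g⁻¹ * y * g⁻¹⁻¹)⁻¹) * g⁻¹ by group]
  exact P.pentL_conj hg (h _ (P.cent_normal (N.inv_mem hg) hy))

theorem L_le_D : pentL A ≤ Dd := fun l hl => (hD l).2 ⟨P.cent_le (pentL_le A hl), fun y hy => by
  rw [show l * y * l⁻¹ * y⁻¹ = l * (y * l⁻¹ * y⁻¹) by group]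
  exact (pentL A).mul_mem hl (P.pentL_conj (P.cent_le hy) ((pentL A).inv_mem hl))⟩

theorem s_D : s ∈ Dd := (hD s).2 ⟨P.s_mem hs hsq, fun y hy => by
  obtain ⟨l, hl, x, hx, rfl⟩ := P.exists_LX hs hsq hX e hy
  have hxs : x * s = s * x := Subgroup.mem_centralizer_singleton_iff.1 (Subgroup.mem_inf.1 (hX ▸ hx)).2
  rw [show s * (l * x) * s⁻¹ * (l * x)⁻¹ = s * l * (x * s⁻¹ * x⁻¹) * l⁻¹ by group,
    (show Commute x s from hxs).inv_right.eq, mul_inv_cancel_right]
  exact (pentL A).mul_mem (P.pentL_conj (P.s_mem hs hsq) hl) ((pentL A).inv_mem hl)⟩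

theorem D_cent {y : G} (hy : y ∈ Dd) (hyC : y ∈ Subgroup.centralizer (A : Set G)) : y ∈ pentL A := by
  obtain ⟨l, hl, x, hx, rfl⟩ := P.exists_LX hs hsq hX e hyC
  have hxD : x ∈ Dd := by
    have := Dd.mul_mem (Dd.inv_mem (P.L_le_D hs hsq hX e hD hl)) hy
    rwa [inv_mul_cancel_left] at this
  have hx1 : (⟨x, hx⟩ : ↥X) = 1 := e.injective <| by
    rw [map_one]
    refine five_central _ fun g => ?_
    obtain ⟨⟨g, hg⟩, rfl⟩ := e.surjective g
    have h := ((hD x).1 hxD).2 g (P.X_le hs hsq hX e hg)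
    have h1 := P.inf_X hs hsq hX e h (X.mul_mem (X.mul_mem (X.mul_mem hx hg) (X.inv_mem hx)) (X.inv_mem hg))
    rw [← map_mul, ← map_mul]
    exact congrArg e (Subtype.ext ((mul_inv_eq_iff_eq_mul.1 (mul_inv_eq_one.1 h1)).symm))
  rw [show x = 1 from congrArg Subtype.val hx1, mul_one]
  exact hl

theorem D_surj (θ : ↥(Subgroup.normalizer (A : Set G)) →* SL32) (hsur : Function.Surjective θ)
    (hker : ∀ k, θ k = 1 ↔ (k : G) ∈ Subgroup.centralizer (A : Set G)) (m : SL32) :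
    ∃ d : ↥(Subgroup.normalizer (A : Set G)), (d : G) ∈ Dd ∧ θ d = m := by
  haveI := CfsgLib.UThreeThree.isSimpleGroup_SL32.1
  haveI : (Dd.subgroupOf (Subgroup.normalizer (A : Set G))).Normal :=
    ⟨fun k hk g => Subgroup.mem_subgroupOf.2 (P.D_conj hs hsq hX e hD g.2 (Subgroup.mem_subgroupOf.1 hk))⟩
  have hn : ((Dd.subgroupOf (Subgroup.normalizer (A : Set G))).map θ).Normal := Subgroup.Normal.map inferInstance θ hsur
  have htop : (Dd.subgroupOf (Subgroup.normalizer (A : Set G))).map θ = ⊤ := by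
    refine hn.eq_bot_or_eq_top.resolve_left fun h => ?_
    have hmem : θ ⟨s, P.s_mem hs hsq⟩ ∈ (Dd.subgroupOf (Subgroup.normalizer (A : Set G))).map θ :=
      ⟨_, Subgroup.mem_subgroupOf.2 (P.s_D hs hsq hX e hD), rfl⟩
    rw [h, Subgroup.mem_bot, hker] at hmem
    exact P.s_moves hs hsq P.zA P.z1 ((Subgroup.mem_centralizer_iff.1 hmem) z P.zA).symm
  obtain ⟨d, hd, hdm⟩ : m ∈ (Dd.subgroupOf (Subgroup.normalizer (A : Set G))).map θ := htop ▸ Subgroup.mem_top m
  exact ⟨d, Subgroup.mem_subgroupOf.1 hd, hdm⟩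

/-- The quotient. -/
theorem exists_quotient [((pentL A).subgroupOf (Subgroup.normalizer (A : Set G))).Normal] :
    Nonempty (↥(Subgroup.normalizer (A : Set G)) ⧸
    (pentL A).subgroupOf (Subgroup.normalizer (A : Set G)) ≃* Equiv.Perm (Fin 5) × SL32) := by
  set N := Subgroup.normalizer (A : Set G)
  set CA := Subgroup.centralizer (A : Set G)
  obtain ⟨θ, hsur, hker⟩ : ∃ θ : ↥N →* SL32, Function.Surjective θ ∧ ∀ k, θ k = 1 ↔ (k : G) ∈ CA :=
    P.exists_theta
  have hex : ∀ k : ↥N, ∃ x : ↥X, (k : G) * (x : G)⁻¹ ∈ Dd := by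
    intro k
    obtain ⟨d, hd, hdk⟩ := P.D_surj hs hsq hX e hD θ hsur hker (θ k)
    have hC : ((d⁻¹ * k : ↥N) : G) ∈ CA := (hker _).1 (by rw [map_mul, map_inv, hdk, inv_mul_cancel])
    obtain ⟨l, hl, x, hx, hlx⟩ := P.exists_LX hs hsq hX e hC
    refine ⟨⟨x, hx⟩, ?_⟩
    rw [show (k : G) = d * l * x by rw [mul_assoc, ← hlx]; simp, mul_inv_cancel_right]
    exact Dd.mul_mem hd (P.L_le_D hs hsq hX e hD hl)
  choose χ hχ using hex
  have huniq : ∀ (k : ↥N) (x : ↥X), (k : G) * (x : G)⁻¹ ∈ Dd → χ k = x := by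
    intro k x hx
    have h1 : (x : G) * (χ k : G)⁻¹ ∈ Dd := by
      have := Dd.mul_mem (Dd.inv_mem hx) (hχ k)
      rwa [show ((k : G) * (x : G)⁻¹)⁻¹ * ((k : G) * (χ k : G)⁻¹) = (x : G) * (χ k : G)⁻¹ by group] at this
    have hmX := X.mul_mem x.2 (X.inv_mem (χ k).2)
    have h2 := P.inf_X hs hsq hX e (P.D_cent hs hsq hX e hD h1 (P.X_le hs hsq hX e hmX)) hmX
    exact Subtype.ext (mul_inv_eq_one.1 h2).symm
  set χh : ↥N →* ↥X := MonoidHom.mk' χ (fun k k' => huniq _ _ (by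
    simp only [Subgroup.coe_mul]
    rw [show (k : G) * k' * ((χ k : G) * χ k')⁻¹ =
      (k : G) * (χ k : G)⁻¹ * ((χ k : G) * ((k' : G) * (χ k' : G)⁻¹) * (χ k : G)⁻¹) by group]
    exact Dd.mul_mem (hχ k) (P.D_conj hs hsq hX e hD (P.cent_le (P.X_le hs hsq hX e (χ k).2)) (hχ k'))))
    with hχh
  let Φ : ↥N →* Equiv.Perm (Fin 5) × SL32 := (e.toMonoidHom.comp χh).prod θ
  have hΦk : Φ.ker = (pentL A).subgroupOf N := by
    ext k
    rw [MonoidHom.mem_ker, Subgroup.mem_subgroupOf]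
    constructor
    · intro h
      have h1 : χ k = 1 := e.injective ((congrArg Prod.fst h).trans (map_one e).symm)
      have hk : (k : G) ∈ Dd := by
        have := hχ k
        rwa [h1, Subgroup.coe_one, inv_one, mul_one] at this
      exact P.D_cent hs hsq hX e hD hk ((hker k).1 (congrArg Prod.snd h))
    · intro h
      refine Prod.ext ?_ ((hker k).2 (pentL_le A h))
      show e (χ k) = 1
      rw [huniq k 1 (by simpa using P.L_le_D hs hsq hX e hD h), map_one]
  have hΦs : Function.Surjective Φ := by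
    rintro ⟨p, m⟩
    obtain ⟨x, rfl⟩ := e.surjective p
    have hxN : (x : G) ∈ N := P.cent_le (P.X_le hs hsq hX e x.2)
    obtain ⟨d, hd, hdm⟩ := P.D_surj hs hsq hX e hD θ hsur hker m
    refine ⟨d * ⟨x, hxN⟩, Prod.ext ?_ ?_⟩
    · exact congrArg e (huniq _ x (by simpa using hd))
    · show θ (d * ⟨x, hxN⟩) = m
      rw [map_mul, (hker ⟨x, hxN⟩).2 (P.X_le hs hsq hX e x.2), mul_one, hdm]
  exact ⟨(QuotientGroup.quotientMulEquivOfEq hΦk.symm).trans (QuotientGroup.quotientKerEquivOfSurjective Φ hΦs)⟩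

end WithD

/-- No complement. -/
theorem not_split_pentL : ∀ K : Subgroup ↥(Subgroup.normalizer (A : Set G)),
    ¬ ((pentL A).subgroupOf (Subgroup.normalizer (A : Set G))).IsComplement' K := by
  haveI := Fact.mk (show Nat.Prime 5 by norm_num)
  set N := Subgroup.normalizer (A : Set G) with hN
  set L := pentL A with hL
  intro K hK
  have hLN : L ≤ N := (pentL_le A).trans P.cent_le
  have hcard : Nat.card K = 20160 := by
    have h := hK.card_mul
    rw [Nat.card_congr (Subgroup.subgroupOfEquivOfLe hLN).toEquiv, P.card_pentL hs hsq hX e,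
      P.card_normalizer_A] at h
    omega
  obtain ⟨k, hk⟩ := exists_prime_orderOf_dvd_card' (G := ↥K) 5 (by rw [hcard]; norm_num)
  rw [← Subgroup.orderOf_coe] at hk
  have hqN : q ∈ N := P.cent_le P.q_C
  obtain ⟨m, j, hj, hm⟩ := five_conj (H := ↥N) (by
      rw [P.card_normalizer_A, show (2 ^ 15 * 120 * 168 : ℕ) = 5 ^ 1 * (2 ^ 15 * 24 * 168) by norm_num,
        Nat.factorization_mul (by norm_num) (by norm_num), Finsupp.add_apply, Nat.factorization_pow,
        Nat.factorization_eq_zero_of_not_dvd (show ¬ 5 ∣ 2 ^ 15 * 24 * 168 by norm_num)]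
      simp [(show Nat.Prime 5 by norm_num).factorization_self])
    hk (y := ⟨q, hqN⟩) (by rw [← Subgroup.orderOf_coe]; exact P.L.q5)
  set K' := K.map (MulAut.conj m).toMonoidHom
  have hqK : (⟨q, hqN⟩ : ↥N) ∈ K' := by
    have h1 : (⟨q, hqN⟩ : ↥N) ^ j ∈ K' := hm ▸ ⟨(k : ↥N), k.2, rfl⟩
    have h2 := K'.pow_mem h1 (j ^ 3)
    rwa [← pow_mul, show (⟨q, hqN⟩ : ↥N) ^ (j * j ^ 3) = ⟨q, hqN⟩ from Subtype.ext (by
      rw [Subgroup.coe_pow]
      show q ^ (j * j ^ 3) = q
      rw [pow_mod_five P.L.q5, inv_pow_five hj, pow_one])] at h2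
  have hdec : ∀ n : ↥N, ∃ l : ↥N, (l : G) ∈ L ∧ ∃ r ∈ K', n = l * r := by
    intro n
    obtain ⟨⟨⟨l, hl⟩, ⟨r, hr⟩⟩, hlr⟩ := hK.2 (m⁻¹ * n * m)
    refine ⟨m * l * m⁻¹, ?_, m * r * m⁻¹, ⟨r, hr, rfl⟩, ?_⟩
    · simpa using P.pentL_conj m.2 (Subgroup.mem_subgroupOf.1 hl)
    · rw [show m * l * m⁻¹ * (m * r * m⁻¹) = m * (l * r) * m⁻¹ by group, show l * r = m⁻¹ * n * m from hlr]
      group
  have htriv : ∀ r ∈ K', (r : G) ∈ L → r = 1 := by
    rintro _ ⟨r, hr, rfl⟩ h
    simp only [MulEquiv.coe_toMonoidHom, MulAut.conj_apply, Subgroup.coe_mul, InvMemClass.coe_inv] at h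
    have h1 := P.pentL_conj (N.inv_mem m.2) h
    rw [show (m : G)⁻¹ * (m * r * (m : G)⁻¹) * (m : G)⁻¹⁻¹ = r by group] at h1
    have h2 : r ∈ (L.subgroupOf N) ⊓ K := ⟨Subgroup.mem_subgroupOf.2 h1, hr⟩
    rw [hK.disjoint.eq_bot, Subgroup.mem_bot] at h2
    rw [h2, map_one]
  have hcent : ∀ c : ↥N, (c : G) * q = q * c → ∃ a ∈ A, ∃ r ∈ K', (c : G) = a * r := by
    intro c hc
    obtain ⟨l, hl, r, hr, rfl⟩ := hdec c
    set Q : ↥N := ⟨q, hqN⟩
    have hQ : l * r * Q = Q * (l * r) := Subtype.ext hc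
    have hr' : Q * r * Q⁻¹ * r⁻¹ ∈ K' := K'.mul_mem (K'.mul_mem (K'.mul_mem hqK hr) (K'.inv_mem hqK)) (K'.inv_mem hr)
    have hrL : ((Q * r * Q⁻¹ * r⁻¹ : ↥N) : G) ∈ L := by
      rw [show Q * r * Q⁻¹ * r⁻¹ = Q * l⁻¹ * Q⁻¹ * l by
        calc Q * r * Q⁻¹ * r⁻¹ = Q * l⁻¹ * (l * r * Q⁻¹) * r⁻¹ := by group
          _ = Q * l⁻¹ * (Q⁻¹ * (l * r)) * r⁻¹ := by rw [(show Commute (l * r) Q from hQ).inv_right.eq]
          _ = _ := by group]
      simp only [Subgroup.coe_mul, InvMemClass.coe_inv]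
      exact L.mul_mem (P.pentL_conj hqN (L.inv_mem hl)) hl
    have h1 := htriv _ hr' hrL
    rw [show Q * r * Q⁻¹ * r⁻¹ = Q * r * (r * Q)⁻¹ by group, mul_inv_eq_one] at h1
    have hlq : (l : G) * q = q * l := congrArg Subtype.val (show l * Q = Q * l by
      calc l * Q = l * (r * Q) * r⁻¹ * (r * (Q⁻¹ * r⁻¹ * Q)) := by group
        _ = l * r * Q * r⁻¹ * (r * (Q⁻¹ * r⁻¹ * Q)) := by group
        _ = Q * (l * r) * r⁻¹ * (r * (Q⁻¹ * r⁻¹ * Q)) := by rw [hQ]
        _ = Q * l * (r * (r * Q)⁻¹ * Q) := by group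
        _ = Q * l * (r * (Q * r)⁻¹ * Q) := by rw [h1]
        _ = _ := by group)
    obtain ⟨a, ha, i, hai⟩ := P.L.Acent _ hlq fun a ha => ((Subgroup.mem_centralizer_iff.1 (pentL_le A hl)) a ha).symm
    have hqi : q ^ i ∈ pentL A := by
      rw [show q ^ i = a⁻¹ * (l : G) by rw [hai, inv_mul_cancel_left]]
      exact L.mul_mem (L.inv_mem (P.W_le_L (P.A_W ha))) hl
    rw [P.inf_X hs hsq hX e hqi (pow_mem (P.q_X hs hsq hX e) i), mul_one] at hai
    exact ⟨a, ha, r, hr, by rw [← hai]; rfl⟩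
  obtain ⟨J, hJ, hAJ, hJc⟩ := P.L.exists_complement
  obtain ⟨-, hJC, -, -, -⟩ := id hJ
  set KJ := (K'.map N.subtype).subgroupOf J
  refine P.L.not_split hJ hAJ hJc KJ (Subgroup.isComplement'_of_disjoint_and_mul_eq_univ ?_ ?_)
  · rw [disjoint_iff, Subgroup.eq_bot_iff_forall]
    rintro x ⟨hxA, hxK⟩
    obtain ⟨r, hr, hrx⟩ := Subgroup.mem_subgroupOf.1 hxK
    have := htriv r hr (by
      rw [show (r : G) = x from hrx]
      exact P.W_le_L (P.A_W (Subgroup.mem_subgroupOf.1 hxA)))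
    exact Subtype.ext (hrx.symm.trans (by rw [this]; rfl))
  · refine Set.eq_univ_of_forall fun x => ?_
    have hxC := hJC x.2
    obtain ⟨a, ha, r, hr, hxe⟩ := hcent ⟨x, P.centq_le hxC⟩ (Subgroup.mem_centralizer_singleton_iff.1 hxC)
    have haJ := hAJ ha
    have hrJ : (r : G) ∈ J := by
      rw [show (r : G) = a⁻¹ * (x : G) by rw [show (x : G) = a * r from hxe, inv_mul_cancel_left]]
      exact J.mul_mem (J.inv_mem haJ) x.2
    exact ⟨⟨a, haJ⟩, Subgroup.mem_subgroupOf.2 ha, ⟨r, hrJ⟩, Subgroup.mem_subgroupOf.2 ⟨r, hr, rfl⟩,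
      Subtype.ext hxe.symm⟩

/-- The Sylow 5-normalizer. -/
theorem exists_sylow_five : ∃ Q : Sylow 5 G,
    Subgroup.normalizer ((Q : Subgroup G) : Set G) ≤ Subgroup.normalizer (A : Set G) := by
  haveI := Fact.mk (show Nat.Prime 5 by norm_num)
  have hfac : (Nat.card G).factorization 5 = 1 := by
    have h1 : 5 ∣ Nat.card G := P.L.q5 ▸ orderOf_dvd_natCard q
    have h2 := (Nat.Prime.dvd_iff_one_le_factorization (by norm_num) Nat.card_pos.ne').1 h1
    by_contra hne
    exact P.L.not_dvd (by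
      simpa using ((show Nat.Prime 5 by norm_num).pow_dvd_iff_le_factorization Nat.card_pos.ne').2
        (show 2 ≤ (Nat.card G).factorization 5 by omega))
  refine ⟨Sylow.ofCard (Subgroup.zpowers q) (by rw [Nat.card_zpowers, P.L.q5, hfac, pow_one]), fun g hg => ?_⟩
  rw [Sylow.coe_ofCard] at hg
  obtain ⟨j, hj⟩ := (isOfFinOrder_of_finite q).mem_powers_iff_mem_zpowers.2
    ((Subgroup.mem_normalizer_iff.1 hg q).1 (Subgroup.mem_zpowers q))
  have hj' : q ^ j = g * q * g⁻¹ := hj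
  have hj0 : j % 5 ≠ 0 := fun h => by
    rw [pow_mod_five P.L.q5, h, pow_zero, eq_comm, mul_inv_eq_one, mul_eq_left] at hj'
    have := P.L.q5
    rw [hj', orderOf_one] at this
    omega
  obtain ⟨i, hi⟩ := pent_power P.L.q5 P.L.fq hj0
  have hfi : f ^ i ∈ Subgroup.normalizer (A : Set G) := Subgroup.pow_mem _ P.f_mem i
  have hc : (f ^ i)⁻¹ * g ∈ Subgroup.centralizer ({q} : Set G) := by
    refine Subgroup.mem_centralizer_singleton_iff.2 ?_
    calc (f ^ i)⁻¹ * g * q = (f ^ i)⁻¹ * (g * q * g⁻¹) * g := by group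
      _ = (f ^ i)⁻¹ * (f ^ i * q * (f ^ i)⁻¹) * g := by rw [← hj', hi]
      _ = _ := by group
  have := (Subgroup.normalizer (A : Set G)).mul_mem hfi (P.centq_le hc)
  rwa [mul_inv_cancel_left] at this

/-- The Sylow 7-normalizer. -/
theorem exists_sylow_seven (hC : Nat.card ↥(Subgroup.centralizer ({s} : Set G)) = 840)
    (hN : Nat.card ↥(Subgroup.normalizer (Subgroup.zpowers s : Set G)) = 2520) :
    ∃ S : Sylow 7 G, Subgroup.normalizer ((S : Subgroup G) : Set G) ≤ Subgroup.normalizer (A : Set G) := by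
  haveI := Fact.mk (show Nat.Prime 7 by norm_num)
  set N := Subgroup.normalizer (A : Set G)
  set Z := Subgroup.zpowers s with hZ
  set C := Subgroup.centralizer ({s} : Set G) with hCdef
  have hfac : (Nat.card G).factorization 7 = 1 := by
    have h1 : 7 ∣ Nat.card G := hs ▸ orderOf_dvd_natCard s
    have h2 := (Nat.Prime.dvd_iff_one_le_factorization (by norm_num) Nat.card_pos.ne').1 h1
    by_contra hne
    have h49 : 7 ^ 2 ∣ Nat.card G := ((show Nat.Prime 7 by norm_num).pow_dvd_iff_le_factorization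
      Nat.card_pos.ne').2 (show 2 ≤ (Nat.card G).factorization 7 by omega)
    obtain ⟨K, hK, hle⟩ := Sylow.exists_subgroup_card_pow_succ (p := 7) (n := 1) h49
      (show Nat.card ↥Z = 7 ^ 1 by rw [hZ, Nat.card_zpowers, hs, pow_one])
    have hcomm := IsPGroup.isMulCommutative_of_card_eq_prime_sq (p := 7) hK
    have hKC : K ≤ C := fun k hk => Subgroup.mem_centralizer_singleton_iff.2 <|
      congrArg Subtype.val (hcomm.is_comm.comm ⟨k, hk⟩ ⟨s, hle (Subgroup.mem_zpowers s)⟩)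
    have := Subgroup.card_dvd_of_le hKC
    rw [hK, hC] at this
    norm_num at this
  have hsC : s ∈ C := Subgroup.mem_centralizer_singleton_iff.2 rfl
  have hXC : X ≤ C := hX ▸ inf_le_right
  have hqC : q ∈ C := Subgroup.mem_centralizer_singleton_iff.2 hsq.symm
  -- all of the centralizer of `s`
  have hXN : X ≤ N := (P.X_le hs hsq hX e).trans P.cent_le
  have hCN : C ≤ N := by
    have h120 : 120 ∣ Nat.card ↥(C ⊓ N) := P.card_X120 hs hsq hX e ▸ Subgroup.card_dvd_of_le (le_inf hXC hXN)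
    have h7 : 7 ∣ Nat.card ↥(C ⊓ N) := by
      rw [← hs]
      exact Subgroup.orderOf_dvd_natCard _ (Subgroup.mem_inf.2 ⟨hsC, P.s_mem hs hsq⟩)
    have h840 := Nat.Coprime.mul_dvd_of_dvd_of_dvd (show Nat.Coprime 120 7 by decide) h120 h7
    have heq := Subgroup.eq_of_le_of_card_ge (inf_le_left : C ⊓ N ≤ C)
      (by rw [hC]; exact Nat.le_of_dvd Nat.card_pos h840)
    exact heq ▸ inf_le_right
  refine ⟨Sylow.ofCard Z (by rw [hZ, Nat.card_zpowers, hs, hfac, pow_one]), ?_⟩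
  rw [Sylow.coe_ofCard]
  set NS := Subgroup.normalizer (Z : Set G)
  have hCNS : C ≤ NS := by
    rw [hCdef, ← Subgroup.centralizer_closure, ← Subgroup.zpowers_eq_closure]
    exact Subgroup.centralizer_le_normalizer _
  suffices hout : ∃ n, n ∈ N ∧ n ∈ NS ∧ n ∉ C by
    obtain ⟨n, hn, hnS, hnC⟩ := hout
    have h840 : 840 ∣ Nat.card ↥(N ⊓ NS) := hC ▸ Subgroup.card_dvd_of_le (le_inf hCN hCNS)
    have h2520 : Nat.card ↥(N ⊓ NS) ∣ 2520 := hN ▸ Subgroup.card_dvd_of_le inf_le_right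
    have hne : Nat.card ↥(N ⊓ NS) ≠ 840 := fun h => hnC (by
      rw [Subgroup.eq_of_le_of_card_ge (le_inf hCN hCNS) (by rw [hC, h])]
      exact Subgroup.mem_inf.2 ⟨hn, hnS⟩)
    have heq := Subgroup.eq_of_le_of_card_ge (inf_le_right : N ⊓ NS ≤ NS) (by
      rw [hN]
      obtain ⟨c, hc⟩ := h840
      rw [hc] at h2520 hne ⊢
      have h3 : c ∣ 3 := (Nat.mul_dvd_mul_iff_left (show 0 < 840 by norm_num)).1 h2520
      rcases (Nat.dvd_prime Nat.prime_three).1 h3 with rfl | rfl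
      · exact absurd (mul_one 840) hne
      · norm_num)
    exact heq ▸ inf_le_left
  by_contra hout
  push Not at hout
  -- count the subgroups of order seven in the centralizer of `q`
  set H := Subgroup.centralizer ({q} : Set G)
  set sH : ↥H := ⟨s, Subgroup.mem_centralizer_singleton_iff.2 hsq⟩
  have hsH : orderOf sH = 7 := by rw [← Subgroup.orderOf_coe]; exact hs
  have hH : (Nat.card ↥H).factorization 7 = 1 := by
    rw [P.L.card, show (6720 : ℕ) = 7 ^ 1 * 960 by norm_num, Nat.factorization_mul (by norm_num) (by norm_num),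
      Finsupp.add_apply, Nat.factorization_pow, Nat.factorization_eq_zero_of_not_dvd (show ¬ 7 ∣ 960 by norm_num)]
    simp [(show Nat.Prime 7 by norm_num).factorization_self]
  set T : Sylow 7 ↥H := Sylow.ofCard (Subgroup.zpowers sH) (by rw [Nat.card_zpowers, hsH, hH, pow_one])
  have hcount : Nat.card ↥(Subgroup.normalizer ((T : Subgroup ↥H) : Set ↥H)) = 35 := by
    have hmem : ∀ n : ↥H, n ∈ Subgroup.normalizer ((T : Subgroup ↥H) : Set ↥H) → (n : G) ∈ C := by
      intro n hn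
      rw [Sylow.coe_ofCard] at hn
      refine hout n (P.centq_le n.2) (Subgroup.mem_normalizer_iff.2 fun y => ?_)
      have hmap : ∀ y : G, y ∈ Z ↔ ∃ w ∈ Subgroup.zpowers sH, (w : G) = y := by
        intro y
        constructor
        · intro hy
          obtain ⟨i, rfl⟩ := Subgroup.mem_zpowers_iff.1 hy
          exact ⟨sH ^ i, Subgroup.zpow_mem _ (Subgroup.mem_zpowers sH) i, by simp [sH]⟩
        · rintro ⟨w, hw, rfl⟩
          obtain ⟨i, rfl⟩ := Subgroup.mem_zpowers_iff.1 hw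
          exact ⟨i, by simp [sH]⟩
      rw [hmap, hmap]
      constructor
      · rintro ⟨w, hw, rfl⟩
        exact ⟨n * w * n⁻¹, (Subgroup.mem_normalizer_iff.1 hn w).1 hw, by simp⟩
      · rintro ⟨w, hw, he⟩
        refine ⟨n⁻¹ * w * n, (Subgroup.mem_normalizer_iff.1 hn _).2 ?_, ?_⟩
        · rw [show n * (n⁻¹ * w * n) * n⁻¹ = w by group]; exact hw
        · simp only [Subgroup.coe_mul, InvMemClass.coe_inv, he]
          group
    set NT := Subgroup.normalizer ((T : Subgroup ↥H) : Set ↥H)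
    have hsT : sH ∈ NT := Subgroup.le_normalizer (by rw [Sylow.coe_ofCard]; exact Subgroup.mem_zpowers sH)
    set qH : ↥H := ⟨q, Subgroup.mem_centralizer_singleton_iff.2 rfl⟩
    have hqT : qH ∈ NT := by
      rw [show NT = Subgroup.normalizer ((Subgroup.zpowers sH : Subgroup ↥H) : Set ↥H) by
        simp only [NT, T, Sylow.coe_ofCard]]
      refine Subgroup.centralizer_le_normalizer _ ?_
      rw [Subgroup.zpowers_eq_closure, Subgroup.centralizer_closure]
      exact Subgroup.mem_centralizer_singleton_iff.2 (Subtype.ext hsq.symm)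
    have h35 : 35 ∣ Nat.card NT := by
      refine Nat.Coprime.mul_dvd_of_dvd_of_dvd (show Nat.Coprime 5 7 by decide) ?_ ?_
      · have := Subgroup.orderOf_dvd_natCard NT hqT
        rwa [← Subgroup.orderOf_coe, show (qH : G) = q from rfl, P.L.q5] at this
      · have := Subgroup.orderOf_dvd_natCard NT hsT
        rwa [hsH] at this
    have hexp : ∀ n : ↥NT, n ^ 35 = 1 := by
      intro n
      have hnC := hmem n.1 n.2
      obtain ⟨p, hp, hpe⟩ : ∃ p : ↥X, (p : G) * q = q * p ∧ ∃ i : ℕ, ((n : ↥H) : G) = s ^ i * p := by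
        have hnq : ((n : ↥H) : G) * q = q * (n : ↥H) := Subgroup.mem_centralizer_singleton_iff.1 n.1.2
        -- `C` is the product
        have hdisj : ∀ a ∈ Z, a ∈ X → a = 1 := fun a ha hax => by
          have h1 : a ^ 7 = 1 := by
            have h := pow_card_eq_one' (G := ↥Z) (x := ⟨a, ha⟩)
            rw [show Nat.card ↥Z = 7 from (Nat.card_zpowers s).trans hs] at h
            exact congrArg Subtype.val h
          have h2 : a ^ 120 = 1 := by
            have h := pow_card_eq_one' (G := ↥X) (x := ⟨a, hax⟩)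
            rw [P.card_X120 hs hsq hX e] at h
            exact congrArg Subtype.val h
          simpa using pow_gcd_eq_one.2 ⟨h1, h2⟩
        let F : ↥Z × ↥X → ↥C := fun u => ⟨u.1 * u.2, C.mul_mem ((Subgroup.zpowers_le.2 hsC) u.1.2) (hXC u.2.2)⟩
        have hF : Function.Bijective F := (Nat.bijective_iff_injective_and_card F).2 ⟨by
          rintro ⟨a, x⟩ ⟨a', x'⟩ h
          have h' : (a : G) * x = a' * x' := congrArg Subtype.val h
          have h1 : (a' : G)⁻¹ * a = x' * (x : G)⁻¹ := by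
            rw [eq_mul_inv_iff_mul_eq, mul_assoc, h', inv_mul_cancel_left]
          have h2 := hdisj _ (Z.mul_mem (Z.inv_mem a'.2) a.2) (h1 ▸ X.mul_mem x'.2 (X.inv_mem x.2))
          obtain rfl : a' = a := Subtype.ext (inv_mul_eq_one.1 h2)
          exact Prod.ext rfl (Subtype.ext (mul_left_cancel h')),
          by rw [Nat.card_prod, hZ, Nat.card_zpowers, hs, P.card_X120 hs hsq hX e, hC]⟩
        obtain ⟨⟨a, p⟩, hap⟩ := hF.2 ⟨_, hnC⟩
        have hap' : (a : G) * p = (n : ↥H) := congrArg Subtype.val hap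
        obtain ⟨i, hi⟩ := (isOfFinOrder_of_finite s).mem_powers_iff_mem_zpowers.2 a.2
        have hi' : s ^ i = (a : G) := hi
        refine ⟨p, ?_, i, by rw [hi', hap']⟩
        rw [show (p : G) = (s ^ i)⁻¹ * (n : ↥H) by rw [hi', ← hap', inv_mul_cancel_left]]
        exact ((((show Commute s q from hsq).pow_left i).inv_left).mul_left hnq).eq
      obtain ⟨i, hni⟩ := hpe
      have hp5 : p ^ 5 = 1 := e.injective (by
        rw [map_pow, map_one]
        refine five_cent_five (e ⟨q, P.q_X hs hsq hX e⟩) (e p) ?_ ?_ ?_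
        · rw [← map_pow, show (⟨q, P.q_X hs hsq hX e⟩ : ↥X) ^ 5 = 1 from Subtype.ext (by simpa using P.L.q_pow),
            map_one]
        · intro h
          have h1 : q = 1 := congrArg Subtype.val (e.injective (h.trans (map_one e).symm))
          have := P.L.q5
          rw [h1, orderOf_one] at this
          omega
        · rw [← map_mul, ← map_mul]
          exact congrArg e (Subtype.ext hp))
      refine Subtype.ext (Subtype.ext ?_)
      simp only [Subgroup.coe_pow, Subgroup.coe_one]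
      rw [hni, (((show Commute s (p : G) from (Subgroup.mem_centralizer_singleton_iff.1 (hXC p.2)).symm)).pow_left i).mul_pow,
        show s ^ 7 = 1 ∧ True → (s ^ i) ^ 35 = 1 from fun h => by
          rw [← pow_mul, show i * 35 = 7 * (i * 5) by ring, pow_mul, h.1, one_pow]]
      · rw [one_mul, show (35 : ℕ) = 5 * 7 from rfl, pow_mul]
        rw [show (p : G) ^ 5 = 1 from congrArg Subtype.val hp5, one_pow]
      · exact ⟨hs ▸ pow_orderOf_eq_one s, trivial⟩
    have hdvd : Nat.card NT ∣ 840 := by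
      rw [← hC, ← Subgroup.card_map_of_injective H.subtype_injective]
      refine Subgroup.card_dvd_of_le ?_
      rintro _ ⟨n, hn, rfl⟩
      exact hmem n hn
    have hno : ∀ p : ℕ, p.Prime → p ∣ Nat.card NT → p ∣ 35 := fun p hp hpd => by
      haveI := Fact.mk hp
      obtain ⟨x, hx⟩ := exists_prime_orderOf_dvd_card' p hpd
      exact hx ▸ orderOf_dvd_of_pow_eq_one (hexp x)
    obtain ⟨c, hc⟩ := h35
    rw [hc] at hdvd hno ⊢
    have hc24 : c ∣ 24 := (Nat.mul_dvd_mul_iff_left (show 0 < 35 by norm_num)).1 hdvd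
    suffices c = 1 by rw [this, mul_one]
    by_contra hc1
    have hp := hno c.minFac (Nat.minFac_prime hc1) (dvd_mul_of_dvd_right c.minFac_dvd _)
    have h2 := Nat.dvd_gcd hp (c.minFac_dvd.trans hc24)
    exact (Nat.minFac_prime hc1).one_lt.ne' (Nat.dvd_one.1 h2)
  have hidx : Nat.card (Sylow 7 ↥H) = (Subgroup.normalizer ((T : Subgroup ↥H) : Set ↥H)).index :=
    T.card_eq_index_normalizer
  have hmod := card_sylow_modEq_one 7 ↥H
  have hmul := (Subgroup.normalizer ((T : Subgroup ↥H) : Set ↥H)).card_mul_index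
  rw [hcount, ← hidx] at hmul
  have h6720 : Nat.card ↥H = 6720 := P.L.card
  rw [h6720] at hmul
  rw [Nat.ModEq] at hmod
  omega

end PentadPre

end CfsgLib.JFourLocal
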