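import Cfsg.Agent.Lib.M22Order.Counts
import Cfsg.Agent.Lib.JFour.Three
import Cfsg.Agent.Lib.JFourLocal.PentadMk
import Cfsg.Agent.Lib.JFourLocal.PentadSeven
import Cfsg.Agent.Lib.JFourLocal.PentadK
import Cfsg.Agent.Lib.JFourLocal.SevenSetup

/-!
# The 2-local subgroup over the elementary subgroup of order eight
-/

set_option autoImplicit false
set_option maxRecDepth 100000
set_option linter.style.haveILetI false
set_option linter.unusedSectionVars false

open Cfsg
open scoped Classical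

namespace CfsgLib.JFourLocal

open CfsgLib.JFour CfsgLib.JFour.Ctx

variable {G : Type*} [Group G] [Finite G] [IsSimpleGroup G]

/-- The centralizer of any element of order three maps into the group on 22 points. -/
theorem exists_pentadThree (hG : ¬ IsMulCommutative G) {z : G} (hJ : IsOfJankoFourTypeAt z) {x : G}
    (hx : orderOf x = 3) :
    ∃ φ : ↥(Subgroup.centralizer ({x} : Set G)) →* Equiv.Perm GolayPt, PentadThree x φ := by
  classical
  haveI := CfsgLib.M22Order.Counts.isSimple_M22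
  have F := CfsgLib.M22Order.facts_of_card CfsgLib.M22Order.Counts.natCard_M22
  obtain ⟨hinv, hsev⟩ := fix_counts F
  obtain ⟨P, hP⟩ := id hJ
  obtain ⟨π, -, J, g, vec, -, -, -, -, -, hC⟩ := exists_setup hG hP
  obtain ⟨w, hw⟩ := isConj_iff.1 (one_class_three hG ⟨z, hJ⟩ π x J.orderOf_pi hx)
  set C := Subgroup.centralizer ({x} : Set G)
  have hmem : ∀ c : ↥C, w⁻¹ * (c : G) * w ∈ CZ z π := fun c => hC ▸ Subgroup.mem_centralizer_singleton_iff.2 (by
    have hc := Subgroup.mem_centralizer_singleton_iff.1 c.2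
    calc w⁻¹ * (c : G) * w * π = w⁻¹ * ((c : G) * (w * π * w⁻¹)) * w := by group
      _ = w⁻¹ * ((w * π * w⁻¹) * c) * w := by rw [hw, hc]
      _ = _ := by group)
  let κ : ↥C →* ↥(CZ z π) := MonoidHom.mk' (fun c => ⟨w⁻¹ * (c : G) * w, hmem c⟩) fun a b => Subtype.ext (by
    show w⁻¹ * ((a : G) * b) * w = w⁻¹ * a * w * (w⁻¹ * b * w)
    group)
  have hκi : Function.Injective κ := fun a b h => Subtype.ext (mul_left_cancel (mul_right_cancel
    (congrArg Subtype.val h)))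
  have hκs : Function.Surjective κ := fun c => ⟨⟨w * c * w⁻¹, Subgroup.mem_centralizer_singleton_iff.2 (by
      have hc := (mem_CZ.1 c.2).2
      calc w * c * w⁻¹ * x = w * (c * π) * w⁻¹ := by rw [← hw]; group
        _ = w * (π * c) * w⁻¹ := by rw [hc]
        _ = _ := by rw [← hw]; group)⟩, Subtype.ext (by
      show w⁻¹ * (w * (c : G) * w⁻¹) * w = c
      group)⟩
  refine ⟨(Cfsg.Spor.M22.subtype.comp (J.proj.comp κ)),
    { card := ?_
      central := fun c hc d => ?_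
      spec := fun c => ?_
      two := fun c hc => ?_
      seven := fun c hc => ?_ }⟩
  · rw [Nat.card_congr (Equiv.ofBijective κ ⟨hκi, hκs⟩), J.card_CZ CfsgLib.M22Order.Counts.natCard_M22]
  · have hp : J.proj (κ c) = 1 := Subtype.ext hc
    obtain ⟨u, hu, hcu⟩ := J.proj_eq_one.1 hp
    obtain ⟨hdz, hdp⟩ := mem_CZ.1 (κ d).2
    have hu' : Commute u (κ d : G) := by
      rcases hu with rfl | rfl
      exacts [Commute.one_left _, (show Commute (κ d : G) _ from hdz).symm]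
    have hp' : Commute π (κ d : G) := (show Commute (κ d : G) π from hdp).symm
    refine hκi (Subtype.ext ?_)
    rw [map_mul, map_mul, Subgroup.coe_mul, Subgroup.coe_mul]
    rcases hcu with k | k | k <;> rw [k]
    exacts [hu'.eq, (hu'.mul_left hp').eq, (hu'.mul_left hp'.inv_left).eq]
  · exact (CfsgLib.Golay.mem_M22_iff.1 (J.proj (κ c)).2).2
  · exact hinv _ (by rw [← Subgroup.orderOf_coe]; exact hc)
  · exact hsev _ (by rw [← Subgroup.orderOf_coe]; exact hc)

/-- **The 2-local subgroup.** -/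
theorem exists_pentad (hG : ¬ IsMulCommutative G) (hJ : IsOfJankoFourType G) :
    ∃ L : Subgroup G, Cfsg.IsSpecial 2 ↥L ∧ Nat.card ↥L = 2 ^ 15 ∧ Nat.card ↥(Subgroup.center ↥L) = 8 ∧
    Nonempty (↥(Subgroup.normalizer (L : Set G)) ⧸ L.subgroupOf (Subgroup.normalizer (L : Set G)) ≃*
      Equiv.Perm (Fin 5) × Matrix.SpecialLinearGroup (Fin 3) (ZMod 2)) ∧
    (∀ K : Subgroup ↥(Subgroup.normalizer (L : Set G)),
      ¬ (L.subgroupOf (Subgroup.normalizer (L : Set G))).IsComplement' K) ∧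
    (∃ K₁ : Subgroup G, K₁ ≤ Subgroup.normalizer (L : Set G) ∧ Nonempty (↥K₁ ≃* Equiv.Perm (Fin 5))) ∧
    (∃ K₂ : Subgroup G, K₂ ≤ Subgroup.normalizer (L : Set G) ∧
      Nonempty (↥K₂ ≃* Matrix.SpecialLinearGroup (Fin 3) (ZMod 2))) ∧
    (∃ Q : Sylow 5 G, Subgroup.normalizer ((Q : Subgroup G) : Set G) ≤ Subgroup.normalizer (L : Set G)) ∧
    (∃ S : Sylow 7 G, Subgroup.normalizer ((S : Subgroup G) : Set G) ≤ Subgroup.normalizer (L : Set G)) := by
  classical
  haveI := Fact.mk Nat.prime_two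
  haveI := Fact.mk Nat.prime_three
  haveI := Fact.mk (show Nat.Prime 7 by norm_num)
  obtain ⟨z, P, hP⟩ := id hJ
  obtain ⟨π, -, J, g, vec, S⟩ := exists_full hG hP
  set E := twoCoreOfCentralizer z with hE
  have hU := unique11_of_type (G := G) ⟨z, P, hP⟩
  obtain ⟨V, hV⟩ := S.exists_isV
  have D : J.Std g vec V := ⟨S, hV, hU⟩
  haveI := CfsgLib.M22Order.Counts.isSimple_M22
  have FF : FiveFacts ↥Cfsg.Spor.M22 :=
    five_facts (CfsgLib.M22Order.facts_of_card CfsgLib.M22Order.Counts.natCard_M22)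
  obtain ⟨q, Q⟩ := exists_five_el J FF.card D.full.Mo
  obtain ⟨f, A, PP⟩ := exists_pre D Q FF
  obtain ⟨s0, hs0⟩ := exists_prime_orderOf_dvd_card' (G := ↥(Subgroup.centralizer ({q} : Set G))) 7
    (by rw [PP.L.card]; norm_num)
  rw [← Subgroup.orderOf_coe] at hs0
  have hsq : (s0 : G) * q = q * s0 := Subgroup.mem_centralizer_singleton_iff.1 s0.2
  obtain ⟨I, -, ⟨e⟩, hI, hC, hN⟩ := seven_local hG ⟨P, hP⟩ hs0
  obtain ⟨hX, hX120⟩ := PP.card_X hs0 hsq e hI hC
  obtain ⟨x, hx⟩ := exists_prime_orderOf_dvd_card' (G := ↥I) 3 (by rw [hX120]; norm_num)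
  rw [← Subgroup.orderOf_coe] at hx
  obtain ⟨φ, T⟩ := exists_pentadThree hG ⟨P, hP⟩ hx
  obtain ⟨Dd, hD⟩ := PP.exists_D
  have heq := PP.normalizer_pentL hs0 hsq hX e
  obtain ⟨hsp, hc8⟩ := PP.special hs0 hsq hX e
  refine ⟨pentL A, hsp, PP.card_pentL hs0 hsq hX e, hc8, ?_, ?_, ?_⟩
  · haveI : ((pentL A).subgroupOf (Subgroup.normalizer (A : Set G))).Normal :=
      ⟨fun a ha k => Subgroup.mem_subgroupOf.2 (PP.pentL_conj k.2 (Subgroup.mem_subgroupOf.1 ha))⟩
    obtain ⟨ι⟩ := PP.exists_quotient hs0 hsq hX e hD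
    set e' := MulEquiv.subgroupCongr heq
    refine ⟨(QuotientGroup.congr _ _ e' ?_).trans ι⟩
    rw [Subgroup.map_equiv_eq_comap_symm]
    rfl
  · rw [heq]
    exact PP.not_split_pentL hs0 hsq hX e
  · rw [heq]
    refine ⟨⟨I, ?_, ⟨e⟩⟩, PP.exists_SL32 hs0 hsq hX e x.2 hx φ T, PP.exists_sylow_five hs0 hsq hX e,
      PP.exists_sylow_seven hs0 hsq hX e hC hN⟩
    exact (PP.X_le hs0 hsq hX e).trans PP.cent_le

end CfsgLib.JFourLocal
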