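import Mathlib.Data.Finite.Prod
import Cfsg.Agent.Lib.JFourLocal.SevenInv

/-!
# The order of the centralizer of an element of order seven

The two involution centralizers in it have orders 84 and 56 and the two fibres of Thompson's order
formula have 9 and 4 members, so the order is 840.
-/

set_option autoImplicit false
set_option linter.unusedSectionVars false

open scoped Classical

namespace CfsgLib.JFourLocal

variable {G : Type*} [Group G] [Finite G]

namespace Seven

variable {z π s u x : G} (S : Seven z π s u x)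
include S

theorem orderOf_pi : orderOf π = 3 :=
  haveI := Fact.mk Nat.prime_three
  orderOf_eq_prime S.p3 S.p1

theorem u1 : u ≠ 1 := fun h => by
  have h1 := S.xzx
  rw [h, mul_inv_eq_one, mul_eq_left] at h1
  exact S.z1 h1

theorem un_pi : u * π ≠ π * u := fun h => by
  have h1 := S.up
  rw [h, mul_assoc, S.uu, mul_one] at h1
  have h2 : π * π = 1 := by nth_rw 2 [h1]; exact mul_inv_cancel π
  exact S.p1 (by rw [← S.p3, pow_succ, pow_two, h2, one_mul])

theorem s_inj {i i' : ℕ} (hi : i < 7) (hi' : i' < 7) {w w' : G} {n : ℕ} (hn : ¬ 7 ∣ n)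
    (hw : w ^ n = 1) (hw' : w' ^ n = 1) (hc : w * s = s * w) (hc' : w' * s = s * w')
    (h : s ^ i * w = s ^ i' * w') : i = i' := by
  have h1 := congrArg (· ^ n) h
  simp only [((show Commute s w from hc.symm).pow_left i).mul_pow,
    ((show Commute s w' from hc'.symm).pow_left i').mul_pow, hw, hw', mul_one] at h1
  have hco : Nat.Coprime 7 n := (Nat.Prime.coprime_iff_not_dvd (by norm_num)).2 hn
  rw [← pow_mul, ← pow_mul, pow_eq_pow_iff_modEq, S.s7] at h1
  exact (Nat.ModEq.cancel_right_of_coprime hco h1).eq_of_lt_of_lt hi hi'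

theorem s_pow_mod (i : ℕ) : s ^ i = s ^ (i % 7) := by rw [← S.s7, pow_mod_orderOf]

theorem pi_pow_mod (i : ℕ) : π ^ i = π ^ (i % 3) := by rw [← S.orderOf_pi, pow_mod_orderOf]

omit S in
theorem pow_mod_two {a : G} (h : a * a = 1) (i : ℕ) : a ^ i = a ^ (i % 2) := by
  conv_lhs => rw [← Nat.mod_add_div i 2, pow_add, pow_mul, pow_two a, h, one_pow, mul_one]

/-- The centralizer of `z` and `s` has 84 elements. -/
theorem card_cent_z :
    Nat.card {y : G // y * z = z * y ∧ y * s = s * y} = 84 := by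
  have hzs : Commute z s := S.zs
  have hps : Commute π s := S.ps
  have hus : Commute u s := S.us
  have hpz : Commute π z := S.pz
  have huz : Commute u z := S.uz
  have hsmem : ∀ (i j k l : ℕ), s ^ i * z ^ j * π ^ k * u ^ l * z = z * (s ^ i * z ^ j * π ^ k * u ^ l) ∧
      s ^ i * z ^ j * π ^ k * u ^ l * s = s * (s ^ i * z ^ j * π ^ k * u ^ l) := fun i j k l =>
    ⟨((((hzs.symm).pow_left i).mul_left ((Commute.refl z).pow_left j)).mul_left (hpz.pow_left k)
      |>.mul_left (huz.pow_left l)).eq,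
     (((((Commute.refl s).pow_left i)).mul_left (hzs.pow_left j)).mul_left (hps.pow_left k)
      |>.mul_left (hus.pow_left l)).eq⟩
  let f : Fin 7 × Fin 2 × Fin 3 × Fin 2 → {y : G // y * z = z * y ∧ y * s = s * y} := fun p =>
    ⟨_, hsmem p.1 p.2.1 p.2.2.1 p.2.2.2⟩
  have hbij : Function.Bijective f := by
    constructor
    · rintro ⟨i, j, k, l⟩ ⟨i', j', k', l'⟩ h
      have h' : s ^ (i : ℕ) * z ^ (j : ℕ) * π ^ (k : ℕ) * u ^ (l : ℕ) =
          s ^ (i' : ℕ) * z ^ (j' : ℕ) * π ^ (k' : ℕ) * u ^ (l' : ℕ) := congrArg Subtype.val h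
      have hA : ∀ a b c : ℕ, Commute (s ^ a * z ^ b * π ^ c) π := fun a b c =>
        ((hps.symm.pow_left a).mul_left (hpz.symm.pow_left b)).mul_left ((Commute.refl π).pow_left c)
      have hl : (l : ℕ) = l' := by
        have key : ∀ {A B : G}, Commute A π → Commute B π → A = B * u → False := fun {A B} hA hB e => by
          have := (hB.inv_left.mul_left hA).eq
          rw [e, inv_mul_cancel_left] at this
          exact S.un_pi this
        rcases Nat.lt_succ_iff.1 l.2 |>.lt_or_eq with e | e <;>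
          rcases Nat.lt_succ_iff.1 l'.2 |>.lt_or_eq with e' | e'
        · omega
        · exfalso
          rw [Nat.lt_one_iff.1 e, e', pow_zero, mul_one, pow_one] at h'
          exact key (hA _ _ _) (hA _ _ _) h'
        · exfalso
          rw [e, Nat.lt_one_iff.1 e', pow_zero, mul_one, pow_one] at h'
          exact key (hA _ _ _) (hA _ _ _) h'.symm
        · omega
      rw [hl, mul_left_inj, mul_assoc, mul_assoc] at h'
      have hw : ∀ b c : ℕ, (z ^ b * π ^ c) ^ 6 = 1 := fun b c => by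
        rw [((hpz.symm.pow_left b).pow_right c).mul_pow, ← pow_mul, show b * 6 = 2 * (3 * b) by ring,
          pow_mul, pow_two, S.zz, one_pow, one_mul, ← pow_mul, show c * 6 = 3 * (2 * c) by ring, pow_mul,
          S.p3, one_pow]
      have hi := S.s_inj i.2 i'.2 (n := 6) (by norm_num) (hw _ _) (hw _ _)
        ((hzs.pow_left _).mul_left (hps.pow_left _)).eq ((hzs.pow_left _).mul_left (hps.pow_left _)).eq h'
      rw [hi, mul_right_inj] at h'
      have h3 := congrArg (· ^ 3) h'
      simp only [((hpz.symm.pow_left (j : ℕ)).pow_right (k : ℕ)).mul_pow,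
        ((hpz.symm.pow_left (j' : ℕ)).pow_right (k' : ℕ)).mul_pow] at h3
      rw [← pow_mul π, ← pow_mul π, mul_comm (k : ℕ), mul_comm (k' : ℕ), pow_mul, pow_mul, S.p3, one_pow,
        one_pow, mul_one, mul_one, ← pow_mul, ← pow_mul, pow_eq_pow_iff_modEq,
        orderOf_eq_prime (p := 2) (by rw [pow_two]; exact S.zz) S.z1] at h3
      have hj : (j : ℕ) = j' :=
        (Nat.ModEq.cancel_right_of_coprime (show Nat.Coprime 2 3 by decide) h3).eq_of_lt_of_lt j.2 j'.2
      rw [hj, mul_right_inj, pow_eq_pow_iff_modEq, S.orderOf_pi] at h'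
      exact Prod.ext (Fin.ext hi) (Prod.ext (Fin.ext hj)
        (Prod.ext (Fin.ext (Nat.ModEq.eq_of_lt_of_lt h' k.2 k'.2)) (Fin.ext hl)))
    · rintro ⟨y, hyz, hys⟩
      obtain ⟨i, j, k, l, rfl⟩ := S.cz y hyz hys
      refine ⟨⟨⟨i % 7, Nat.mod_lt _ (by norm_num)⟩, ⟨j % 2, Nat.mod_lt _ (by norm_num)⟩,
        ⟨k % 3, Nat.mod_lt _ (by norm_num)⟩, ⟨l % 2, Nat.mod_lt _ (by norm_num)⟩⟩, Subtype.ext ?_⟩
      show s ^ (i % 7) * z ^ (j % 2) * π ^ (k % 3) * u ^ (l % 2) = _
      rw [← S.s_pow_mod, ← S.pi_pow_mod, ← pow_mod_two S.zz, ← pow_mod_two S.uu]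
  rw [← Nat.card_congr (Equiv.ofBijective f hbij)]
  simp

/-- The centralizer of `z * u` and `s` has 56 elements. -/
theorem card_cent_t :
    Nat.card {y : G // y * (z * u) = z * u * y ∧ y * s = s * y} = 56 := by
  have hzs : Commute z s := S.zs
  have hts : Commute (z * u) s := S.ts
  have hxs : Commute x s := S.xs
  have htx : Commute (z * u) x := S.xt.symm
  have htz : Commute (z * u) z := S.zt.symm
  have hmem : ∀ i a b c : ℕ,
      s ^ i * (z * u) ^ a * x ^ b * z ^ c * (z * u) = z * u * (s ^ i * (z * u) ^ a * x ^ b * z ^ c) ∧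
      s ^ i * (z * u) ^ a * x ^ b * z ^ c * s = s * (s ^ i * (z * u) ^ a * x ^ b * z ^ c) :=
    fun i a b c =>
    ⟨((((hts.symm).pow_left i).mul_left ((Commute.refl (z * u)).pow_left a)).mul_left (htx.symm.pow_left b)
      |>.mul_left (htz.symm.pow_left c)).eq,
     (((((Commute.refl s).pow_left i)).mul_left (hts.pow_left a)).mul_left (hxs.pow_left b)
      |>.mul_left (hzs.pow_left c)).eq⟩
  let f : Fin 7 × Fin 2 × Fin 2 × Fin 2 → {y : G // y * (z * u) = z * u * y ∧ y * s = s * y} := fun p =>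
    ⟨_, hmem p.1 p.2.1 p.2.2.1 p.2.2.2⟩
  have hbij : Function.Bijective f := by
    constructor
    · rintro ⟨i, a, b, c⟩ ⟨i', a', b', c'⟩ h
      have h' : s ^ (i : ℕ) * (z * u) ^ (a : ℕ) * x ^ (b : ℕ) * z ^ (c : ℕ) =
          s ^ (i' : ℕ) * (z * u) ^ (a' : ℕ) * x ^ (b' : ℕ) * z ^ (c' : ℕ) := congrArg Subtype.val h
      have hA : ∀ p q r : ℕ, Commute (s ^ p * (z * u) ^ q * x ^ r) x := fun p q r =>
        ((hxs.symm.pow_left p).mul_left (htx.pow_left q)).mul_left ((Commute.refl x).pow_left r)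
      have hc : (c : ℕ) = c' := by
        have key : ∀ {A B : G}, Commute A x → Commute B x → A = B * z → False := fun {A B} hA hB e => by
          have := (hB.inv_left.mul_left hA).eq
          rw [e, inv_mul_cancel_left] at this
          exact S.xnz this.symm
        rcases Nat.lt_succ_iff.1 c.2 |>.lt_or_eq with e | e <;>
          rcases Nat.lt_succ_iff.1 c'.2 |>.lt_or_eq with e' | e'
        · omega
        · exfalso
          rw [Nat.lt_one_iff.1 e, e', pow_zero, mul_one, pow_one] at h'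
          exact key (hA _ _ _) (hA _ _ _) h'
        · exfalso
          rw [e, Nat.lt_one_iff.1 e', pow_zero, mul_one, pow_one] at h'
          exact key (hA _ _ _) (hA _ _ _) h'.symm
        · omega
      rw [hc, mul_left_inj, mul_assoc, mul_assoc] at h'
      have hw : ∀ q r : ℕ, ((z * u) ^ q * x ^ r) ^ 2 = 1 := fun q r => by
        rw [((htx.pow_left q).pow_right r).mul_pow, ← pow_mul, mul_comm, pow_mul, pow_two, S.tt, one_pow,
          one_mul, ← pow_mul, mul_comm, pow_mul, pow_two, S.xx, one_pow]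
      have hi := S.s_inj i.2 i'.2 (n := 2) (by norm_num) (hw _ _) (hw _ _)
        ((hts.pow_left _).mul_left (hxs.pow_left _)).eq ((hts.pow_left _).mul_left (hxs.pow_left _)).eq h'
      rw [hi, mul_right_inj] at h'
      have hb : (b : ℕ) = b' := by
        have key : ∀ {A B : G}, Commute A z → Commute B z → A = B * x → False := fun {A B} hA hB e => by
          have := (hB.inv_left.mul_left hA).eq
          rw [e, inv_mul_cancel_left] at this
          exact S.xnz this
        rcases Nat.lt_succ_iff.1 b.2 |>.lt_or_eq with e | e <;>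
          rcases Nat.lt_succ_iff.1 b'.2 |>.lt_or_eq with e' | e'
        · omega
        · exfalso
          rw [Nat.lt_one_iff.1 e, e', pow_zero, mul_one, pow_one] at h'
          exact key (htz.pow_left _) (htz.pow_left _) h'
        · exfalso
          rw [e, Nat.lt_one_iff.1 e', pow_zero, mul_one, pow_one] at h'
          exact key (htz.pow_left _) (htz.pow_left _) h'.symm
        · omega
      rw [hb, mul_left_inj, pow_eq_pow_iff_modEq,
        orderOf_eq_prime (p := 2) (by rw [pow_two]; exact S.tt) S.t1] at h'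
      exact Prod.ext (Fin.ext hi) (Prod.ext (Fin.ext (Nat.ModEq.eq_of_lt_of_lt h' a.2 a'.2))
        (Prod.ext (Fin.ext hb) (Fin.ext hc)))
    · rintro ⟨y, hyt, hys⟩
      obtain ⟨i, a, b, c, rfl⟩ := S.ct y hyt hys
      refine ⟨⟨⟨i % 7, Nat.mod_lt _ (by norm_num)⟩, ⟨a % 2, Nat.mod_lt _ (by norm_num)⟩,
        ⟨b % 2, Nat.mod_lt _ (by norm_num)⟩, ⟨c % 2, Nat.mod_lt _ (by norm_num)⟩⟩, Subtype.ext ?_⟩
      show s ^ (i % 7) * (z * u) ^ (a % 2) * x ^ (b % 2) * z ^ (c % 2) = _
      rw [← S.s_pow_mod, ← pow_mod_two S.tt, ← pow_mod_two S.xx, ← pow_mod_two S.zz]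
  rw [← Nat.card_congr (Equiv.ofBijective f hbij)]
  simp

/-- The product of two conjugates of `u` and `z * u` by powers of `π`. -/
theorem prod_pair (k l : ℕ) :
    π ^ k * u * (π ^ k)⁻¹ * (π ^ l * (z * u) * (π ^ l)⁻¹) = z * (π ^ (2 * k) * (π ^ (2 * l))⁻¹) := by
  have e1 : ∀ n, π ^ n * u * (π ^ n)⁻¹ = π ^ (2 * n) * u := fun n => by
    rw [mul_assoc, show u * (π ^ n)⁻¹ = π ^ n * u by
      calc u * (π ^ n)⁻¹ = π ^ n * ((π ^ n)⁻¹ * u) * (π ^ n)⁻¹ := by group
        _ = π ^ n * (u * π ^ n) * (π ^ n)⁻¹ := by rw [S.up']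
        _ = _ := by group,
      ← mul_assoc, ← pow_add, ← two_mul]
  rw [show π ^ l * (z * u) * (π ^ l)⁻¹ = z * (π ^ l * u * (π ^ l)⁻¹) by
    rw [← mul_assoc (π ^ l), S.pi_z]; group, e1, e1,
    show π ^ (2 * k) * u * (z * (π ^ (2 * l) * u)) = (π ^ (2 * k) * (u * z)) * π ^ (2 * l) * u by group,
    S.uz, ← mul_assoc (π ^ (2 * k)), S.pi_z, mul_assoc z, mul_assoc z, mul_assoc z, mul_assoc (π ^ (2 * k)) u,
    S.up', mul_assoc (π ^ (2 * k)), mul_assoc ((π ^ (2 * l))⁻¹), S.uu, mul_one]

/-- Conjugates of `u` by distinct powers of `π` differ. -/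
theorem conj_u_inj {w : G} (hw : Commute π w) {k l : ℕ} (hk : k < 3) (hl : l < 3)
    (h : π ^ k * (w * u) * (π ^ k)⁻¹ = π ^ l * (w * u) * (π ^ l)⁻¹) : k = l := by
  have e1 : ∀ n, π ^ n * (w * u) * (π ^ n)⁻¹ = w * (π ^ (2 * n) * u) := fun n => by
    rw [← mul_assoc (π ^ n), (hw.pow_left n).eq, mul_assoc w, mul_assoc w, mul_assoc (π ^ n)]
    congr 1
    rw [show u * (π ^ n)⁻¹ = π ^ n * u by
      calc u * (π ^ n)⁻¹ = π ^ n * ((π ^ n)⁻¹ * u) * (π ^ n)⁻¹ := by group
        _ = π ^ n * (u * π ^ n) * (π ^ n)⁻¹ := by rw [S.up']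
        _ = _ := by group,
      ← mul_assoc, ← pow_add, ← two_mul]
  rw [e1, e1, mul_right_inj, mul_left_inj, pow_eq_pow_iff_modEq, S.orderOf_pi] at h
  exact (Nat.ModEq.cancel_left_of_coprime (show Nat.Coprime 3 2 by decide) h).eq_of_lt_of_lt hk hl

/-- **The order of the centralizer of `s`.** -/
theorem card_cent : Nat.card ↥(Subgroup.centralizer ({s} : Set G)) = 840 := by
  set C := Subgroup.centralizer ({s} : Set G)
  letI := Fintype.ofFinite ↥C
  have hmem : ∀ {g : G}, g * s = s * g → g ∈ C := fun h => Subgroup.mem_centralizer_singleton_iff.2 h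
  have hC : ∀ c : ↥C, (c : G) * s = s * c := fun c => Subgroup.mem_centralizer_singleton_iff.1 c.2
  set Z : ↥C := ⟨z, hmem S.zs⟩ with hZ
  set T : ↥C := ⟨z * u, hmem S.ts⟩ with hT
  have hG : ∀ {a b : ↥C}, IsConj a b → IsConj (a : G) b := fun h => by
    obtain ⟨c, hc⟩ := isConj_iff.1 h
    exact isConj_iff.2 ⟨c, congrArg Subtype.val hc⟩
  have hsq : ∀ {a : ↥C}, (a : G) * a = 1 → a * a = 1 := fun h => Subtype.ext h
  have hZT : ¬ IsConj Z T := fun h => S.nt (hG h)
  have hoZ : orderOf Z = 2 := orderOf_eq_prime (by rw [pow_two]; exact hsq S.zz)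
    fun e => S.z1 (congrArg Subtype.val e)
  have hoT : orderOf T = 2 := orderOf_eq_prime (by rw [pow_two]; exact hsq S.tt)
    fun e => S.t1 (congrArg Subtype.val e)
  have hval : ∀ {a b : ↥C}, IsConj a b → (a : G) * a = 1 → (a : G) ≠ 1 → (b : G) * b = 1 ∧ (b : G) ≠ 1 :=
    fun {a b} h h1 h2 => by
    obtain ⟨c, hc⟩ := isConj_iff.1 (hG h)
    refine ⟨?_, fun e => h2 ?_⟩
    · rw [← hc, show c * (a : G) * c⁻¹ * (c * a * c⁻¹) = c * ((a : G) * a) * c⁻¹ by group, h1]; group
    · rw [show (a : G) = c⁻¹ * (c * a * c⁻¹) * c by group, hc, e]; group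
  have hcl : ∀ a : ↥C, orderOf a = 2 → IsConj a Z ∨ IsConj a T := by
    intro a ha
    have ha2 : (a : G) * a = 1 := by
      rw [← pow_two, ← Subgroup.coe_pow, ← ha, pow_orderOf_eq_one, Subgroup.coe_one]
    have ha1 : (a : G) ≠ 1 := fun e => by
      rw [show a = 1 from Subtype.ext e, orderOf_one] at ha
      omega
    rcases S.invol_class ha2 ha1 (hC a) with ⟨c, hc, hce⟩ | ⟨c, hc, hce⟩
    · exact Or.inl (isConj_iff.2 ⟨⟨c, hmem hc⟩, Subtype.ext hce⟩).symm
    · exact Or.inr (isConj_iff.2 ⟨⟨c, hmem hc⟩, Subtype.ext hce⟩).symm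
  have hform := J2Order.order_formula Z T hoZ hoT hZT hcl
  have hpi : ∀ m, π ^ m * s = s * π ^ m := S.pi_s
  have hcU : ∀ m : ℕ, π ^ m * u * (π ^ m)⁻¹ * s = s * (π ^ m * u * (π ^ m)⁻¹) := fun m =>
    conj_comm (hpi m) S.us
  have hcT : ∀ m : ℕ, π ^ m * (z * u) * (π ^ m)⁻¹ * s = s * (π ^ m * (z * u) * (π ^ m)⁻¹) := fun m =>
    conj_comm (hpi m) S.ts
  have hZU : ∀ m : ℕ, IsConj Z ⟨π ^ m * u * (π ^ m)⁻¹, hmem (hcU m)⟩ := fun m =>
    isConj_iff.2 ⟨⟨π ^ m * x, hmem ((show Commute (π ^ m) s from hpi m).mul_left S.xs).eq⟩, Subtype.ext (by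
      show π ^ m * x * z * (π ^ m * x)⁻¹ = π ^ m * u * (π ^ m)⁻¹
      rw [← S.xzx]; group)⟩
  have hnG : ∀ {a : ↥C}, IsConj T a → ¬ IsConj z (a : G) := fun h k => S.nt (k.trans (hG h).symm)
  -- the fibre over `z`
  have hA : (J2Order.pairsAt Z T Z).card = 9 := by
    let f : Fin 3 × Fin 3 → ↥C × ↥C := fun p =>
      (⟨π ^ (p.1 : ℕ) * u * (π ^ (p.1 : ℕ))⁻¹, hmem (hcU _)⟩,
        ⟨π ^ (p.2 : ℕ) * (z * u) * (π ^ (p.2 : ℕ))⁻¹, hmem (hcT _)⟩)
    refine (Finset.card_bij (s := (Finset.univ : Finset (Fin 3 × Fin 3))) (fun p _ => f p) ?_ ?_ ?_).symm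
      |>.trans (by simp)
    · intro p _
      simp only [J2Order.pairsAt, Finset.mem_filter, Finset.mem_univ, true_and]
      refine ⟨hZU _, isConj_iff.2 ⟨⟨π ^ (p.2 : ℕ), hmem (hpi _)⟩, Subtype.ext rfl⟩,
        Subgroup.mem_zpowers_iff.2 ⟨3, Subtype.ext ?_⟩⟩
      show (((f p).1 * (f p).2) ^ (3 : ℤ) : ↥C).1 = z
      rw [SubgroupClass.coe_zpow, zpow_ofNat, Subgroup.coe_mul]
      show (π ^ (p.1 : ℕ) * u * (π ^ (p.1 : ℕ))⁻¹ * (π ^ (p.2 : ℕ) * (z * u) * (π ^ (p.2 : ℕ))⁻¹)) ^ 3 = z
      have hcm : Commute z (π ^ (2 * (p.1 : ℕ)) * (π ^ (2 * (p.2 : ℕ)))⁻¹) :=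
        ((show Commute π z from S.pz).symm.pow_right _).mul_right
          ((show Commute π z from S.pz).symm.pow_right _).inv_right
      rw [S.prod_pair, hcm.mul_pow, ((Commute.refl π).pow_pow _ _).inv_right.mul_pow, inv_pow, ← pow_mul,
        ← pow_mul, mul_comm _ 3, mul_comm _ 3]
      simp only [pow_mul, S.p3, one_pow, inv_one, mul_one]
      rw [pow_succ, pow_two, S.zz, one_mul]
    · rintro ⟨k, l⟩ _ ⟨k', l'⟩ _ h
      simp only [f, Prod.mk.injEq, Subtype.mk.injEq] at h
      refine Prod.ext (Fin.ext (S.conj_u_inj (w := 1) (Commute.one_right π) k.2 k'.2 ?_))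
        (Fin.ext (S.conj_u_inj (show Commute π z from S.pz) l.2 l'.2 h.2))
      simpa using h.1
    · rintro ⟨a, b⟩ hp
      simp only [J2Order.pairsAt, Finset.mem_filter, Finset.mem_univ, true_and] at hp
      obtain ⟨h1, h2, h3⟩ := hp
      obtain ⟨ha, ha1⟩ := hval h1 S.zz S.z1
      obtain ⟨hb, hb1⟩ := hval h2 S.tt S.t1
      obtain ⟨haz, hbz⟩ := mem_cent_of_zpowers' (hsq ha) (hsq hb) (hsq (a := Z) S.zz) h3
      have haz' : (a : G) * z = z * a := congrArg Subtype.val haz
      have hbz' : (b : G) * z = z * b := congrArg Subtype.val hbz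
      obtain ⟨l, hl⟩ : ∃ l, (b : G) = π ^ l * (z * u) * (π ^ l)⁻¹ := by
        rcases S.invol_z hb hb1 hbz' (hC b) with e | ⟨m, e⟩ | h
        · exact absurd (by rw [e]) (hnG h2)
        · exact absurd (isConj_iff.2 ⟨π ^ m * x, by rw [e, ← S.xzx]; group⟩) (hnG h2)
        · exact h
      obtain ⟨k, hk⟩ : ∃ k, (a : G) = π ^ k * u * (π ^ k)⁻¹ := by
        rcases S.invol_z ha ha1 haz' (hC a) with e | h | ⟨m, e⟩
        · exfalso
          have hab : (a : G) * b * ((a : G) * b) = 1 := by
            rw [show (a : G) * b * ((a : G) * b) = (a : G) * ((b : G) * a) * b by group, e, hbz',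
              ← mul_assoc z z, S.zz, one_mul, hb]
          obtain ⟨n, hn⟩ := Subgroup.mem_zpowers_iff.1 h3
          have hn' : ((a : G) * b) ^ n = z := by
            have := congrArg Subtype.val hn
            rwa [SubgroupClass.coe_zpow, Subgroup.coe_mul] at this
          rcases Int.even_or_odd' n with ⟨m, hm | hm⟩ <;> rw [hm] at hn'
          · rw [zpow_mul, zpow_ofNat, pow_two, hab, one_zpow] at hn'
            exact S.z1 hn'.symm
          · rw [zpow_add, zpow_mul, zpow_ofNat, pow_two, hab, one_zpow, one_mul, zpow_one, e,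
              mul_eq_left] at hn'
            exact hb1 hn'
        · exact h
        · exfalso
          refine S.nt ((show IsConj z (a : G) from hG h1).trans ?_)
          rw [e]
          exact (isConj_iff.2 ⟨π ^ m, rfl⟩).symm
      refine ⟨(⟨k % 3, Nat.mod_lt _ (by norm_num)⟩, ⟨l % 3, Nat.mod_lt _ (by norm_num)⟩), Finset.mem_univ _,
        Prod.ext (Subtype.ext ?_) (Subtype.ext ?_)⟩
      · show π ^ (k % 3) * u * (π ^ (k % 3))⁻¹ = (a : G)
        rw [hk, ← S.pi_pow_mod]
      · show π ^ (l % 3) * (z * u) * (π ^ (l % 3))⁻¹ = (b : G)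
        rw [hl, ← S.pi_pow_mod]
  -- the fibre over `z * u`
  have hB : (J2Order.pairsAt Z T T).card = 4 := by
    set U : ↥C := ⟨u, hmem S.us⟩ with hU
    set X : ↥C := ⟨x, hmem S.xs⟩ with hX
    have hTX : IsConj T X := by
      obtain ⟨c, hc, hce⟩ := S.x_conj
      exact isConj_iff.2 ⟨⟨c, hmem hc⟩, Subtype.ext hce⟩
    have hTTX : IsConj T (T * X) := hTX.trans (isConj_iff.2 ⟨Z, Subtype.ext (by
      show z * x * z⁻¹ = z * u * x
      rw [S.z_inv, S.zx, S.xt])⟩)
    have hZU' : IsConj Z U := isConj_iff.2 ⟨X, Subtype.ext S.xzx⟩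
    have hzx2 : z * x * (z * x) = z * u := by
      rw [← mul_assoc, S.zx, show x * (z * u) * x = x * (z * u * x) by group, ← S.xt, ← mul_assoc, S.xx,
        one_mul]
    have hux : u * x * (u * x) = z * u ∧ z * (z * u * x) = u * x ∧ u * (z * u * x) = z * x := by
      have e1 : z * (z * u * x) = u * x := by rw [← mul_assoc, ← mul_assoc, S.zz, one_mul]
      have e2 : u * (z * u * x) = z * x := by
        rw [← mul_assoc, ← mul_assoc, S.uz, mul_assoc z, S.uu, mul_one]
      refine ⟨?_, e1, e2⟩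
      rw [show u * x = z * u * (z * x) by rw [← mul_assoc, S.tz],
        ((show Commute (z * u) (z * x) from
          (show Commute (z * u) z from S.zt.symm).mul_right S.xt.symm).symm.mul_mul_mul_comm _ _),
        S.tt, one_mul, hzx2]
    have hset : J2Order.pairsAt Z T T = ({Z, U} : Finset ↥C) ×ˢ ({X, T * X} : Finset ↥C) := by
      ext ⟨a, b⟩
      simp only [J2Order.pairsAt, Finset.mem_filter, Finset.mem_univ, true_and, Finset.mem_product,
        Finset.mem_insert, Finset.mem_singleton]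
      constructor
      · rintro ⟨h1, h2, h3⟩
        obtain ⟨ha, ha1⟩ := hval h1 S.zz S.z1
        obtain ⟨hb, hb1⟩ := hval h2 S.tt S.t1
        obtain ⟨hat, hbt⟩ := mem_cent_of_zpowers' (hsq ha) (hsq hb) (hsq (a := T) S.tt) h3
        have haT : a = Z ∨ a = U := by
          have hx' : ∀ {w : ↥C}, IsConj T w → a ≠ w := fun {w} hw e => hZT (h1.trans (e ▸ hw.symm))
          rcases S.invol_t ha ha1 (congrArg Subtype.val hat) (hC a) with e | e | e | e | e
          · exact absurd (Subtype.ext e) (hx' (IsConj.refl T))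
          · exact absurd (Subtype.ext e) (hx' hTX)
          · exact absurd (Subtype.ext e) (hx' hTTX)
          · exact Or.inl (Subtype.ext e)
          · exact Or.inr (Subtype.ext e)
        refine ⟨haT, ?_⟩
        have hz' : ∀ {w : ↥C}, IsConj Z w → b ≠ w := fun {w} hw e => hZT (hw.trans (e ▸ h2).symm)
        rcases S.invol_t hb hb1 (congrArg Subtype.val hbt) (hC b) with e | e | e | e | e
        · exfalso
          have hbe : b = T := Subtype.ext e
          have hab : a * b = U ∨ a * b = Z := by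
            rcases haT with k | k <;> rw [k, hbe]
            · exact Or.inl (Subtype.ext (by show z * (z * u) = u; rw [← mul_assoc, S.zz, one_mul]))
            · exact Or.inr (Subtype.ext (by
                show u * (z * u) = z
                rw [← mul_assoc, S.uz, mul_assoc, S.uu, mul_one]))
          obtain ⟨n, hn⟩ := Subgroup.mem_zpowers_iff.1 h3
          have key : ∀ {w : ↥C}, IsConj Z w → a * b = w → False := fun {w} hw e' => by
            rw [e'] at hn
            obtain ⟨hw2, -⟩ := hval hw S.zz S.z1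
            rcases Int.even_or_odd' n with ⟨m, hm | hm⟩ <;> rw [hm] at hn
            · rw [zpow_mul, zpow_ofNat, pow_two, hsq hw2, one_zpow] at hn
              exact S.t1 (congrArg Subtype.val hn).symm
            · rw [zpow_add, zpow_mul, zpow_ofNat, pow_two, hsq hw2, one_zpow, one_mul, zpow_one] at hn
              exact hZT (hn ▸ hw)
          rcases hab with k | k
          exacts [key hZU' k, key (IsConj.refl Z) k]
        · exact Or.inl (Subtype.ext e)
        · exact Or.inr (Subtype.ext e)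
        · exact absurd (Subtype.ext e) (hz' (IsConj.refl Z))
        · exact absurd (Subtype.ext e) (hz' hZU')
      · rintro ⟨ha, hb⟩
        refine ⟨?_, ?_, Subgroup.mem_zpowers_iff.2 ⟨2, Subtype.ext ?_⟩⟩
        · rcases ha with rfl | rfl
          exacts [IsConj.refl Z, hZU']
        · rcases hb with rfl | rfl
          exacts [hTX, hTTX]
        · show ((a * b) ^ (2 : ℤ) : ↥C).1 = z * u
          rw [SubgroupClass.coe_zpow, zpow_ofNat, pow_two, Subgroup.coe_mul]
          rcases ha with rfl | rfl <;> rcases hb with rfl | rfl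
          · exact hzx2
          · show z * (z * u * x) * (z * (z * u * x)) = z * u
            rw [hux.2.1, hux.1]
          · exact hux.1
          · show u * (z * u * x) * (u * (z * u * x)) = z * u
            rw [hux.2.2, hzx2]
    rw [hset, Finset.card_product, Finset.card_pair, Finset.card_pair]
    · intro e
      exact S.t1 (mul_eq_right.1 (congrArg Subtype.val e).symm)
    · intro e
      have h : z = u := congrArg Subtype.val e
      exact S.t1 (by rw [← h, S.zz])
  -- the centralizers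
  have hcz : Nat.card ↥(Subgroup.centralizer ({Z} : Set ↥C)) = 84 := by
    rw [← S.card_cent_z]
    exact Nat.card_congr
      { toFun := fun c => ⟨c.1.1, congrArg Subtype.val (Subgroup.mem_centralizer_singleton_iff.1 c.2), hC c.1⟩
        invFun := fun y => ⟨⟨y.1, hmem y.2.2⟩, Subgroup.mem_centralizer_singleton_iff.2 (Subtype.ext y.2.1)⟩
        left_inv := fun _ => rfl
        right_inv := fun _ => rfl }
  have hct : Nat.card ↥(Subgroup.centralizer ({T} : Set ↥C)) = 56 := by
    rw [← S.card_cent_t]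
    exact Nat.card_congr
      { toFun := fun c => ⟨c.1.1, congrArg Subtype.val (Subgroup.mem_centralizer_singleton_iff.1 c.2), hC c.1⟩
        invFun := fun y => ⟨⟨y.1, hmem y.2.2⟩, Subgroup.mem_centralizer_singleton_iff.2 (Subtype.ext y.2.1)⟩
        left_inv := fun _ => rfl
        right_inv := fun _ => rfl }
  rw [Nat.card_eq_fintype_card, hform, hA, hB, hcz, hct]

end Seven

end CfsgLib.JFourLocal
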