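import Mathlib.GroupTheory.SchurZassenhaus
import Mathlib.GroupTheory.Sylow
import Mathlib.GroupTheory.PGroup
import Mathlib.Data.Finite.Perm
import Mathlib.GroupTheory.GroupAction.Quotient
import Cfsg.Agent.Lib.JFourLocal.SevenCount

/-!
# The centralizer and the normalizer of a subgroup of order seven

The centralizer is the product of `s` with a symmetric group of degree five, the normalizer induces
a group of order three.
-/

set_option autoImplicit false
set_option linter.unusedSectionVars false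

open scoped Classical

namespace CfsgLib.JFourLocal

variable {G : Type*} [Group G] [Finite G]

namespace Seven

variable {z π s u x : G} (S : Seven z π s u x)
include S

/-- The Sylow subgroups of order seven. -/
theorem not_dvd : ¬ 49 ∣ Nat.card G := by
  intro h
  haveI := Fact.mk (show Nat.Prime 7 by norm_num)
  obtain ⟨K, hK, hle⟩ := Sylow.exists_subgroup_card_pow_succ (p := 7) (n := 1) (by simpa using h)
    (show Nat.card ↥(Subgroup.zpowers s) = 7 ^ 1 by rw [Nat.card_zpowers, S.s7, pow_one])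
  have hcomm := IsPGroup.isMulCommutative_of_card_eq_prime_sq (p := 7) hK
  have hKC : K ≤ Subgroup.centralizer ({s} : Set G) := fun k hk => Subgroup.mem_centralizer_singleton_iff.2 <|
    congrArg Subtype.val (hcomm.is_comm.comm ⟨k, hk⟩ ⟨s, hle (Subgroup.mem_zpowers s)⟩)
  have := Subgroup.card_dvd_of_le hKC
  rw [hK, S.card_cent] at this
  norm_num at this

/-- An element inverting or centralizing `π` and not commuting with `z` does not exist. -/
theorem x_pi {k : ℕ} (h : x * π * x⁻¹ = π ^ k) : False := by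
  rw [S.pi_pow_mod] at h
  have hk : k % 3 < 3 := Nat.mod_lt _ (by norm_num)
  interval_cases hk' : k % 3
  · rw [pow_zero, mul_inv_eq_one, mul_eq_left] at h
    exact S.p1 h
  · rw [pow_one] at h
    exact S.xnz (S.cp x (mul_inv_eq_iff_eq_mul.1 h))
  · have hinv : π ^ 2 = π⁻¹ := eq_inv_of_mul_eq_one_left (by rw [← pow_succ, S.p3])
    have hxu : x * u * π = π * (x * u) := by
      calc x * u * π = x * (u * π * u⁻¹) * u := by group
        _ = (x * π * x⁻¹)⁻¹ * x * u := by rw [S.u_inv, S.up]; group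
        _ = _ := by rw [h, hinv]; group
    have h1 := S.cp _ hxu
    rw [mul_assoc, S.uz, ← mul_assoc, ← mul_assoc, mul_left_inj] at h1
    exact S.xnz h1

/-- The subgroup normalizing the four group is of index five and has no core in the complement; the
centralizer is the product of `s` and a symmetric group of degree five. -/
theorem exists_complement :
    ∃ I : Subgroup G, I ≤ Subgroup.centralizer ({s} : Set G) ∧
      Subgroup.zpowers s ⊓ I = ⊥ ∧ Subgroup.zpowers s ⊔ I = Subgroup.centralizer ({s} : Set G) ∧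
      Nonempty (↥I ≃* Equiv.Perm (Fin 5)) := by
  set C := Subgroup.centralizer ({s} : Set G) with hC
  letI := Fintype.ofFinite ↥C
  have hmem : ∀ {g : G}, g * s = s * g → g ∈ C := fun h => Subgroup.mem_centralizer_singleton_iff.2 h
  have hCs : ∀ c : ↥C, (c : G) * s = s * c := fun c => Subgroup.mem_centralizer_singleton_iff.1 c.2
  set sC : ↥C := ⟨s, hmem rfl⟩
  set N0 := Subgroup.zpowers sC
  have hcentral : ∀ (a : ↥C) (c : ↥C), a ∈ N0 → Commute a c := by
    rintro a c ⟨n, rfl⟩
    exact (show Commute sC c from Subtype.ext (hCs c).symm).zpow_left n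
  haveI : N0.Normal := ⟨fun a ha g => by
    rw [((hcentral a g ha).symm).eq, mul_inv_cancel_right]; exact ha⟩
  have hN0 : Nat.card N0 = 7 := by
    rw [Nat.card_zpowers, ← Subgroup.orderOf_coe]; exact S.s7
  have hidx : N0.index = 120 := by
    have := N0.card_mul_index
    rw [hN0, S.card_cent] at this
    omega
  obtain ⟨K, hK⟩ := Subgroup.exists_right_complement'_of_coprime (N := N0)
    (by rw [hN0, hidx]; decide)
  have hKc : Nat.card K = 120 := by
    have := hK.card_mul
    rw [hN0, S.card_cent] at this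
    omega
  have hsplit : ∀ g : ↥C, ∃ a ∈ N0, ∃ k ∈ K, g = a * k := fun g => by
    obtain ⟨⟨a, k⟩, h⟩ := hK.2 g
    exact ⟨a, a.2, k, k.2, h.symm⟩
  -- elements of order prime to seven
  have hmemK : ∀ (g : ↥C) (n : ℕ), ¬ 7 ∣ n → g ^ n = 1 → g ∈ K := by
    intro g n hn hg
    obtain ⟨a, ha, k, hk, rfl⟩ := hsplit g
    rw [(hcentral a k ha).mul_pow] at hg
    have h1 : a ^ n = 1 := by
      have : a ^ n ∈ N0 ⊓ K := ⟨N0.pow_mem ha n, by
        rw [eq_inv_of_mul_eq_one_left hg]; exact K.inv_mem (K.pow_mem hk n)⟩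
      rwa [hK.disjoint.eq_bot, Subgroup.mem_bot] at this
    have h7 : a ^ 7 = 1 := by
      have h := orderOf_dvd_natCard (⟨a, ha⟩ : ↥N0)
      rw [hN0, Subgroup.orderOf_mk] at h
      exact orderOf_dvd_iff_pow_eq_one.1 h
    have hg7 : Nat.gcd n 7 = 1 := Nat.Coprime.symm ((Nat.Prime.coprime_iff_not_dvd (by norm_num)).2 hn)
    have ha1 : a = 1 := by
      have := (pow_gcd_eq_one (m := n) (n := 7) (a := a)).2 ⟨h1, h7⟩
      rwa [hg7, pow_one] at this
    rw [ha1, one_mul]
    exact hk
  haveI : K.Normal := ⟨fun k hk g => by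
    obtain ⟨a, ha, k', hk', rfl⟩ := hsplit g
    rw [show a * k' * k * (a * k')⁻¹ = a * (k' * k * k'⁻¹) * a⁻¹ by group,
      (hcentral a _ ha).eq, mul_inv_cancel_right]
    exact K.mul_mem (K.mul_mem hk' hk) (K.inv_mem hk')⟩
  set Z : ↥C := ⟨z, hmem S.zs⟩
  set T : ↥C := ⟨z * u, hmem S.ts⟩
  set X : ↥C := ⟨x, hmem S.xs⟩
  set P : ↥C := ⟨π, hmem S.ps⟩
  set W : Set ↥C := {T, X, T * X}
  set L := Subgroup.normalizer W
  have hTT : T * T = 1 := Subtype.ext S.tt
  have hXX : X * X = 1 := Subtype.ext S.xx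
  have hXT : X * T = T * X := Subtype.ext S.xt
  have hW : ∀ w ∈ W, w = T ∨ w = X ∨ w = T * X := fun w hw => by simpa [W] using hw
  -- membership
  have hLmem : ∀ g : ↥C, g * T * g⁻¹ ∈ W → g * X * g⁻¹ ∈ W → g ∈ L := by
    intro g h1 h2
    have hinj : Function.Injective fun y : ↥C => g * y * g⁻¹ := (MulAut.conj g).injective
    have hne : X ≠ T := fun e => by
      have h := congrArg Subtype.val e
      exact S.xnz (by rw [show x = z * u from h]; exact S.zt.symm)
    have h3 : g * (T * X) * g⁻¹ ∈ W := by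
      have hprod : ∀ a ∈ W, ∀ b ∈ W, a ≠ b → a * b ∈ W := by
        intro a ha b hb hab
        have e1 : T * (T * X) = X := by rw [← mul_assoc, hTT, one_mul]
        have e2 : X * (T * X) = T := by rw [← mul_assoc, hXT, mul_assoc, hXX, mul_one]
        have e3 : T * X * T = X := by rw [← hXT, mul_assoc, hTT, mul_one]
        have e4 : T * X * X = T := by rw [mul_assoc, hXX, mul_one]
        rcases hW a ha with rfl | rfl | rfl <;> rcases hW b hb with rfl | rfl | rfl
        exacts [absurd rfl hab, by simp [W], by simp [W, e1], by simp [W, hXT], absurd rfl hab,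
          by simp [W, e2], by simp [W, e3], by simp [W, e4], absurd rfl hab]
      rw [show g * (T * X) * g⁻¹ = (g * T * g⁻¹) * (g * X * g⁻¹) by group]
      exact hprod _ h1 _ h2 fun e => hne (hinj e).symm
    have himg : (fun y => g * y * g⁻¹) '' W = W := Set.eq_of_subset_of_ncard_le (by
      rintro _ ⟨w, hw, rfl⟩
      rcases hW w hw with rfl | rfl | rfl
      exacts [h1, h2, h3]) (by rw [Set.ncard_image_of_injective _ hinj]) (Set.toFinite _)
    refine Subgroup.mem_set_normalizer_iff.2 fun n => ⟨fun hn => ?_, fun hn => ?_⟩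
    · rw [← himg]; exact ⟨n, hn, rfl⟩
    · rw [← himg] at hn
      obtain ⟨m, hm, hme⟩ := hn
      rwa [← hinj hme]
  have hLmem' : ∀ {g : ↥C}, g ∈ L → g * T * g⁻¹ ∈ W := fun hg =>
    (Subgroup.mem_set_normalizer_iff.1 hg T).1 (by simp [W])
  have hnc : ∀ {g : G}, IsConj z g → g ≠ z * u ∧ g ≠ x ∧ g ≠ z * u * x := fun h =>
    ⟨fun e => S.nt (e ▸ h), fun e => S.nx (e ▸ h), fun e => S.nx (by
      refine h.trans (isConj_iff.2 ⟨z, ?_⟩)
      rw [e, S.z_inv, ← mul_assoc z, mul_assoc (z * (z * u)), S.zt, mul_assoc (z * u) z, ← mul_assoc z x,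
        S.zx, S.xt, ← mul_assoc, S.tt, one_mul])⟩
  -- the stabilizer of `z * u`
  have hstab : ∀ g : ↥C, g * T = T * g → g ∈ L := by
    intro g hg
    have hT' : g * T * g⁻¹ = T := by rw [hg, mul_inv_cancel_right]
    refine hLmem g (by rw [hT']; simp [W]) ?_
    have hnz : ¬ IsConj z ((g : G) * x * (g : G)⁻¹) := fun h =>
      S.nx (h.trans (isConj_iff.2 ⟨(g : G)⁻¹, by group⟩))
    have hcx : (g : G) * x * (g : G)⁻¹ * (z * u) = z * u * ((g : G) * x * (g : G)⁻¹) := by
      have hgT : (g : G) * (z * u) = z * u * g := congrArg Subtype.val hg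
      exact conj_comm hgT S.xt
    rcases S.invol_t (y := (g : G) * x * (g : G)⁻¹) (by
        rw [show (g : G) * x * (g : G)⁻¹ * ((g : G) * x * (g : G)⁻¹) = g * (x * x) * (g : G)⁻¹ by group,
          S.xx]; group)
      (fun e => S.x1 (by rw [mul_inv_eq_one, mul_eq_left] at e; exact e)) hcx
      (conj_comm (hCs g) S.xs) with e | e | e | e | e
    · simp [W, show g * X * g⁻¹ = T from Subtype.ext e]
    · simp [W, show g * X * g⁻¹ = X from Subtype.ext e]
    · simp [W, show g * X * g⁻¹ = T * X from Subtype.ext e]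
    · exact absurd (e ▸ IsConj.refl z) hnz
    · exact absurd (isConj_iff.2 ⟨x, by rw [e]; exact S.xzx⟩) hnz
  -- an element moving `z * u` to `x`
  obtain ⟨k0, hk0, hk0x⟩ := S.x_conj
  set k : ↥C := ⟨k0, hmem hk0⟩
  have hkT : k * T * k⁻¹ = X := Subtype.ext hk0x
  have hkL : k ∈ L := by
    have key : ∀ w : ↥C, (w : G) * w = 1 → (w : G) ≠ 1 → ¬ IsConj z (w : G) → w * X = X * w →
        k⁻¹ * w * k ∈ W := by
      intro w h1 h2 h3 h4
      have hT : k⁻¹ * w * k * T = T * (k⁻¹ * w * k) := by
        rw [show T = k⁻¹ * X * k by rw [← hkT]; group]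
        calc k⁻¹ * w * k * (k⁻¹ * X * k) = k⁻¹ * (w * X) * k := by group
          _ = _ := by rw [h4]; group
      rcases S.invol_t (y := (↑(k⁻¹ * w * k) : G)) (by
          simp only [Subgroup.coe_mul, InvMemClass.coe_inv]
          rw [show (k : G)⁻¹ * w * k * ((k : G)⁻¹ * w * k) = (k : G)⁻¹ * ((w : G) * w) * k by group, h1]
          group)
        (fun e => h2 (by
          simp only [Subgroup.coe_mul, InvMemClass.coe_inv] at e
          rw [show (w : G) = k * ((k : G)⁻¹ * w * k) * (k : G)⁻¹ by group, e]; group))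
        (congrArg Subtype.val hT) (hCs _) with e | e | e | e | e
      · simp [W, show k⁻¹ * w * k = T from Subtype.ext e]
      · simp [W, show k⁻¹ * w * k = X from Subtype.ext e]
      · simp [W, show k⁻¹ * w * k = T * X from Subtype.ext e]
      · refine absurd (IsConj.trans (b := z) (IsConj.refl z) (isConj_iff.2 ⟨(k : G), ?_⟩)) h3
        rw [← e]; simp only [Subgroup.coe_mul, InvMemClass.coe_inv]; group
      · refine absurd (IsConj.trans (b := u) (isConj_iff.2 ⟨x, S.xzx⟩) (isConj_iff.2 ⟨(k : G), ?_⟩)) h3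
        rw [← e]; simp only [Subgroup.coe_mul, InvMemClass.coe_inv]; group
    have hinv : k⁻¹ ∈ L := by
      refine hLmem k⁻¹ ?_ ?_
      · rw [inv_inv]
        exact key T S.tt S.t1 S.nt hXT.symm
      · rw [inv_inv]
        exact key X S.xx S.x1 S.nx rfl
    exact inv_mem_iff.1 hinv
  -- the order of `L`
  have hzX : Z * X * Z⁻¹ = T * X := Subtype.ext (by
    show z * x * z⁻¹ = z * u * x
    rw [S.z_inv, S.zx, S.xt])
  have hzL : Z ∈ L := hstab Z (Subtype.ext (show z * (z * u) = z * u * z from S.zt))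
  set r : Fin 3 → ↥C := ![1, k, Z * k]
  have hrL : ∀ i, r i ∈ L := by
    intro i; fin_cases i
    exacts [L.one_mem, hkL, L.mul_mem hzL hkL]
  have hr : r 0 * T * (r 0)⁻¹ = T ∧ r 1 * T * (r 1)⁻¹ = X ∧ r 2 * T * (r 2)⁻¹ = T * X := by
    refine ⟨by simp [r], hkT, ?_⟩
    show Z * k * T * (Z * k)⁻¹ = T * X
    rw [show Z * k * T * (Z * k)⁻¹ = Z * (k * T * k⁻¹) * Z⁻¹ by group, hkT, hzX]
  have hL : Nat.card L = 168 := by
    let F : Fin 3 × ↥(Subgroup.centralizer ({T} : Set ↥C)) → ↥L := fun p =>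
      ⟨r p.1 * p.2, L.mul_mem (hrL p.1) (hstab _ (Subgroup.mem_centralizer_singleton_iff.1 p.2.2))⟩
    have hF : Function.Bijective F := by
      constructor
      · rintro ⟨i, c⟩ ⟨j, d⟩ h
        have h' : r i * (c : ↥C) = r j * d := congrArg Subtype.val h
        have e : r i * T * (r i)⁻¹ = r j * T * (r j)⁻¹ := by
          have h1 : ∀ (i : Fin 3) (c : ↥(Subgroup.centralizer ({T} : Set ↥C))),
              r i * c * T * (r i * c)⁻¹ = r i * T * (r i)⁻¹ := fun i c => by
            rw [mul_assoc (r i), Subgroup.mem_centralizer_singleton_iff.1 c.2]; group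
          rw [← h1 i c, h', h1 j d]
        have hXne : X ≠ T := fun q => S.xnz (by
          rw [show x = z * u from congrArg Subtype.val q]; exact S.zt.symm)
        have hTXne : T * X ≠ T := fun q => S.x1 (congrArg Subtype.val (mul_eq_left.1 q))
        have hTXX : T * X ≠ X := fun q => S.t1 (congrArg Subtype.val (mul_eq_right.1 q))
        have hij : i = j := by
          fin_cases i <;> fin_cases j <;> first
            | rfl
            | (simp only [Fin.zero_eta, Fin.mk_one, Fin.reduceFinMk, hr.1, hr.2.1, hr.2.2] at e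
               first
               | exact absurd e hXne | exact absurd e.symm hXne | exact absurd e hTXne
               | exact absurd e.symm hTXne | exact absurd e hTXX | exact absurd e.symm hTXX)
        subst hij
        exact Prod.ext rfl (Subtype.ext (mul_left_cancel h'))
      · rintro ⟨g, hg⟩
        obtain ⟨i, hi⟩ : ∃ i, g * T * g⁻¹ = r i * T * (r i)⁻¹ := by
          rcases hW _ (hLmem' hg) with e | e | e
          exacts [⟨0, e.trans hr.1.symm⟩, ⟨1, e.trans hr.2.1.symm⟩, ⟨2, e.trans hr.2.2.symm⟩]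
        refine ⟨⟨i, (r i)⁻¹ * g, Subgroup.mem_centralizer_singleton_iff.2 ?_⟩, Subtype.ext
          (mul_inv_cancel_left _ _)⟩
        calc (r i)⁻¹ * g * T = (r i)⁻¹ * (g * T * g⁻¹) * g := by group
          _ = _ := by rw [hi]; group
    have hct : Nat.card ↥(Subgroup.centralizer ({T} : Set ↥C)) = 56 := by
      rw [← S.card_cent_t]
      exact Nat.card_congr
        { toFun := fun c => ⟨c.1.1, congrArg Subtype.val (Subgroup.mem_centralizer_singleton_iff.1 c.2), hCs c.1⟩
          invFun := fun y => ⟨⟨y.1, hmem y.2.2⟩, Subgroup.mem_centralizer_singleton_iff.2 (Subtype.ext y.2.1)⟩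
          left_inv := fun _ => rfl
          right_inv := fun _ => rfl }
    rw [← Nat.card_congr (Equiv.ofBijective F hF), Nat.card_prod, hct, Nat.card_fin]
  have hq : Nat.card (↥C ⧸ L) = 5 := by
    have := L.card_mul_index
    rw [hL, S.card_cent, Subgroup.index] at this
    omega
  -- the core
  set Nc := L.normalCore ⊓ K with hNc
  haveI : Nc.Normal := Subgroup.normal_inf_normal _ _
  have hNL : Nc ≤ L := inf_le_left.trans L.normalCore_le
  have hTN : T ∉ Nc := fun h => by
    have hP' : P * T * P⁻¹ ∈ L := hNL ((inferInstance : Nc.Normal).conj_mem T h P)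
    have hsimp : (π * (z * u) * π⁻¹) * (z * u) * (π * (z * u) * π⁻¹)⁻¹ * z =
        z * ((π * (z * u) * π⁻¹) * (z * u) * (π * (z * u) * π⁻¹)⁻¹) := by
      have h1 : Commute (π * (z * u) * π⁻¹) z :=
        (((show Commute π z from S.pz).mul_left (show Commute (z * u) z from S.zt.symm)).mul_left
          (show Commute π z from S.pz).inv_left)
      exact ((h1.mul_left (show Commute (z * u) z from S.zt.symm)).mul_left h1.inv_left).eq
    rcases hW _ (hLmem' hP') with e | e | e
    · have e' : (π * (z * u) * π⁻¹) * (z * u) * (π * (z * u) * π⁻¹)⁻¹ = z * u := congrArg Subtype.val e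
      exact S.tp_ne (mul_inv_eq_iff_eq_mul.1 e').symm
    · have e' : (π * (z * u) * π⁻¹) * (z * u) * (π * (z * u) * π⁻¹)⁻¹ = x := congrArg Subtype.val e
      exact S.xnz (by rwa [e'] at hsimp)
    · have e' : (π * (z * u) * π⁻¹) * (z * u) * (π * (z * u) * π⁻¹)⁻¹ = z * u * x := congrArg Subtype.val e
      exact S.xtnz (by rwa [e'] at hsimp)
  have hodd : ∀ y ∈ Nc, y * y = 1 → y = 1 := by
    intro y hy h2
    by_contra h1
    apply hTN
    rcases S.invol_class (y := (y : G)) (congrArg Subtype.val h2) (fun e => h1 (Subtype.ext e)) (hCs y) with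
      ⟨c, hc, hce⟩ | ⟨c, hc, hce⟩
    · have hzN : Z ∈ Nc := by
        have := (inferInstance : Nc.Normal).conj_mem y hy (⟨c, hmem hc⟩ : ↥C)⁻¹
        convert this using 1
        refine Subtype.ext ?_
        simp only [Subgroup.coe_mul, InvMemClass.coe_inv]
        show z = _
        rw [← hce]; group
      have hUN : X * Z * X⁻¹ ∈ Nc := (inferInstance : Nc.Normal).conj_mem Z hzN X
      have := Nc.mul_mem hzN hUN
      convert this using 1
      refine Subtype.ext ?_
      show z * u = z * (x * z * x⁻¹)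
      rw [S.xzx]
    · have := (inferInstance : Nc.Normal).conj_mem y hy (⟨c, hmem hc⟩ : ↥C)⁻¹
      convert this using 1
      refine Subtype.ext ?_
      simp only [Subgroup.coe_mul, InvMemClass.coe_inv]
      show z * u = _
      rw [← hce]; group
  have hNbot : Nc = ⊥ := by
    haveI := Fact.mk Nat.prime_two
    haveI := Fact.mk Nat.prime_three
    have hd : Nat.card Nc ∣ 24 := by
      have h1 := Subgroup.card_dvd_of_le hNL
      have h2 := Subgroup.card_dvd_of_le (show Nc ≤ K from inf_le_right)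
      rw [hL] at h1
      rw [hKc] at h2
      exact Nat.dvd_gcd h1 h2
    have h2 : ¬ 2 ∣ Nat.card Nc := fun h => by
      obtain ⟨y, hy⟩ := exists_prime_orderOf_dvd_card' (G := ↥Nc) 2 h
      have hy2 : y ^ 2 = 1 := hy ▸ pow_orderOf_eq_one y
      have : (y : ↥C) = 1 := hodd y y.2 (by rw [← pow_two, ← Subgroup.coe_pow, hy2]; rfl)
      rw [show y = 1 from Subtype.ext this, orderOf_one] at hy
      omega
    have h3 : Nat.card Nc = 1 ∨ Nat.card Nc = 3 := by
      have hle := Nat.le_of_dvd (by norm_num) hd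
      interval_cases Nat.card Nc <;> omega
    rcases h3 with h3 | h3
    · exact Subgroup.eq_bot_of_card_eq Nc h3
    exfalso
    -- `π` lies in the core
    have hPK : IsPGroup 3 ↥(Subgroup.zpowers P) := IsPGroup.of_card (n := 1) (by
      rw [Nat.card_zpowers, ← Subgroup.orderOf_coe, pow_one]; exact S.orderOf_pi)
    have hsup : IsPGroup 3 ↥(Nc ⊔ Subgroup.zpowers P) :=
      IsPGroup.to_sup_of_normal_left (IsPGroup.of_card (n := 1) (by rw [h3, pow_one])) hPK
    obtain ⟨n, hn⟩ := IsPGroup.iff_card.1 hsup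
    have hdv := (Nc ⊔ Subgroup.zpowers P).card_subgroup_dvd_card
    rw [S.card_cent, hn] at hdv
    have hn1 : n ≤ 1 := by
      by_contra hcon
      have h9 : 9 ∣ 840 := (show 3 ^ 2 ∣ 3 ^ n from pow_dvd_pow 3 (by omega)).trans hdv
      norm_num at h9
    have heq : Nc = Nc ⊔ Subgroup.zpowers P := Subgroup.eq_of_le_of_card_ge le_sup_left (by
      rw [h3, hn]
      calc 3 ^ n ≤ 3 ^ 1 := Nat.pow_le_pow_right (by norm_num) hn1
        _ = 3 := pow_one 3)
    have hPN : P ∈ Nc := by rw [heq]; exact Subgroup.mem_sup_right (Subgroup.mem_zpowers P)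
    have hZP : Subgroup.zpowers P = Nc := Subgroup.eq_of_le_of_card_ge
      (Subgroup.zpowers_le.2 hPN) (by rw [h3, Nat.card_zpowers, ← Subgroup.orderOf_coe]; exact S.orderOf_pi.ge)
    have hXP : X * P * X⁻¹ ∈ Subgroup.zpowers P := hZP ▸ (inferInstance : Nc.Normal).conj_mem P hPN X
    obtain ⟨m, hm⟩ := (isOfFinOrder_of_finite P).mem_powers_iff_mem_zpowers.2 hXP
    exact S.x_pi (k := m) (congrArg Subtype.val hm).symm
  -- the action on the five cosets
  let φ : ↥K →* Equiv.Perm (↥C ⧸ L) := (MulAction.toPermHom ↥C (↥C ⧸ L)).comp K.subtype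
  have hφ : Function.Injective φ := by
    refine (injective_iff_map_eq_one φ).2 fun y hy => Subtype.ext ?_
    have h1 : (y : ↥C) ∈ L.normalCore := by rw [Subgroup.normalCore_eq_ker]; exact hy
    have : (y : ↥C) ∈ Nc := ⟨h1, y.2⟩
    rw [hNbot, Subgroup.mem_bot] at this
    exact this
  have hbij : Function.Bijective φ := by
    refine (Nat.bijective_iff_injective_and_card φ).2 ⟨hφ, ?_⟩
    rw [hKc, Nat.card_perm, hq]
    rfl
  let e5 : Equiv.Perm (↥C ⧸ L) ≃* Equiv.Perm (Fin 5) :=
    Equiv.permCongrHom (Finite.equivFinOfCardEq hq)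
  refine ⟨K.map C.subtype, Subgroup.map_subtype_le K, ?_, ?_,
    ⟨(K.equivMapOfInjective C.subtype C.subtype_injective).symm.trans
      ((MulEquiv.ofBijective φ hbij).trans e5)⟩⟩
  · rw [eq_bot_iff]
    rintro g ⟨h1, ⟨y, hy, rfl⟩⟩
    obtain ⟨n, hn⟩ := Subgroup.mem_zpowers_iff.1 h1
    have : y ∈ N0 ⊓ K := ⟨⟨n, Subtype.ext (by simpa using hn)⟩, hy⟩
    rw [hK.disjoint.eq_bot, Subgroup.mem_bot] at this
    rw [this, map_one]
    exact one_mem _
  · refine le_antisymm (sup_le (Subgroup.zpowers_le.2 (hmem rfl)) (Subgroup.map_subtype_le K)) fun g hg => ?_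
    obtain ⟨a, ha, y, hy, he⟩ := hsplit ⟨g, hg⟩
    obtain ⟨n, rfl⟩ := Subgroup.mem_zpowers_iff.1 ha
    have := congrArg Subtype.val he
    simp only [Subgroup.coe_mul, SubgroupClass.coe_zpow] at this
    rw [this]
    exact Subgroup.mul_mem_sup (Subgroup.zpow_mem _ (Subgroup.mem_zpowers s) n) ⟨y, hy, rfl⟩

/-- **The local structure at a subgroup of order seven.** -/
theorem structure_seven (hno : ∀ g : G, g * z = z * g → g * s * g⁻¹ ≠ s⁻¹)
    (hsq : ∃ n : G, n * z = z * n ∧ n * s * n⁻¹ = s ^ 2) :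
    ¬ 49 ∣ Nat.card G ∧
    (∃ I : Subgroup G, I ≤ Subgroup.centralizer ({s} : Set G) ∧
      Subgroup.zpowers s ⊓ I = ⊥ ∧ Subgroup.zpowers s ⊔ I = Subgroup.centralizer ({s} : Set G) ∧
      Nonempty (↥I ≃* Equiv.Perm (Fin 5))) ∧
    Nat.card ↥(Subgroup.centralizer ({s} : Set G)) = 840 ∧
    Nat.card ↥(Subgroup.normalizer (Subgroup.zpowers s : Set G)) = 2520 := by
  refine ⟨S.not_dvd, S.exists_complement, S.card_cent, ?_⟩
  obtain ⟨n, hnz, hns⟩ := hsq
  set C := Subgroup.centralizer ({s} : Set G)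
  set N := Subgroup.normalizer (Subgroup.zpowers s : Set G)
  have hs7 : s ^ 7 = 1 := by rw [← S.s7, pow_orderOf_eq_one]
  have hpow : ∀ (g : G) (j : ℕ), g * s * g⁻¹ = s ^ j → g ∈ N := by
    intro g j hg
    have hle : (Subgroup.zpowers s).map (MulAut.conj g).toMonoidHom ≤ Subgroup.zpowers s := by
      rw [MonoidHom.map_zpowers, Subgroup.zpowers_le]
      show g * s * g⁻¹ ∈ _
      rw [hg]
      exact Subgroup.pow_mem _ (Subgroup.mem_zpowers s) j
    have heq := Subgroup.eq_of_le_of_card_ge hle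
      (by rw [Subgroup.card_map_of_injective (MulAut.conj g).injective])
    refine Subgroup.mem_normalizer_iff.2 fun y => ?_
    conv_rhs => rw [← heq, Subgroup.mem_map_equiv, MulAut.conj_symm_apply]
    rw [show g⁻¹ * (g * y * g⁻¹) * g = y by group]
  have hni : ∀ i : ℕ, n ^ i * s * (n ^ i)⁻¹ = s ^ (2 ^ i) := by
    intro i
    induction i with
    | zero => simp
    | succ i ih =>
      rw [pow_succ', show n * n ^ i * s * (n * n ^ i)⁻¹ = n * (n ^ i * s * (n ^ i)⁻¹) * n⁻¹ by group, ih,
        ← conj_pow, hns, ← pow_mul, pow_succ' 2 i]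
  let F : Fin 3 × ↥C → ↥N := fun p => ⟨n ^ (p.1 : ℕ) * p.2, N.mul_mem (hpow _ _ (hni _))
    (hpow _ 1 (by rw [Subgroup.mem_centralizer_singleton_iff.1 p.2.2, mul_inv_cancel_right, pow_one]))⟩
  have hF : Function.Bijective F := by
    constructor
    · rintro ⟨i, c⟩ ⟨j, d⟩ h
      have h' : n ^ (i : ℕ) * (c : G) = n ^ (j : ℕ) * d := congrArg Subtype.val h
      have key : ∀ (i : ℕ) (c : ↥C), n ^ i * c * s * (n ^ i * c)⁻¹ = s ^ (2 ^ i) := fun i c => by
        rw [mul_assoc (n ^ i), Subgroup.mem_centralizer_singleton_iff.1 c.2, ← hni i]; group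
      have he := key i c
      rw [h', key j d, pow_eq_pow_iff_modEq, S.s7] at he
      have hij : i = j := by
        fin_cases i <;> fin_cases j <;> simp [Nat.ModEq] at he ⊢
      subst hij
      exact Prod.ext rfl (Subtype.ext (mul_left_cancel h'))
    · rintro ⟨g, hg⟩
      obtain ⟨j, hj⟩ := (isOfFinOrder_of_finite s).mem_powers_iff_mem_zpowers.2
        ((Subgroup.mem_normalizer_iff.1 hg s).1 (Subgroup.mem_zpowers s))
      simp only at hj
      have hj' : s ^ (j % 7) = g * s * g⁻¹ := by rw [← S.s_pow_mod]; exact hj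
      -- adjust to fix `z`
      have hgz : g * z * g⁻¹ * s = s * (g * z * g⁻¹) := by
        have hgs : Commute (g * z * g⁻¹) (g * s * g⁻¹) := by
          show g * z * g⁻¹ * (g * s * g⁻¹) = g * s * g⁻¹ * (g * z * g⁻¹)
          calc g * z * g⁻¹ * (g * s * g⁻¹) = g * (z * s) * g⁻¹ := by group
            _ = _ := by rw [S.zs]; group
        have hex : ∃ m : ℕ, s = (g * s * g⁻¹) ^ m := by
          have hs : s ∈ Subgroup.zpowers (g * s * g⁻¹) := by
            have heq : Subgroup.zpowers (g * s * g⁻¹) = Subgroup.zpowers s :=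
              Subgroup.eq_of_le_of_card_ge
                (Subgroup.zpowers_le.2 ((Subgroup.mem_normalizer_iff.1 hg s).1 (Subgroup.mem_zpowers s)))
                (by
                  rw [Nat.card_zpowers, Nat.card_zpowers]
                  exact le_of_eq (orderOf_injective (MulAut.conj g).toMonoidHom (MulAut.conj g).injective s).symm)
            rw [heq]
            exact Subgroup.mem_zpowers s
          obtain ⟨m, hm⟩ := (isOfFinOrder_of_finite _).mem_powers_iff_mem_zpowers.2 hs
          exact ⟨m, hm.symm⟩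
        obtain ⟨m, hm⟩ := hex
        rw [hm]
        exact (hgs.pow_right m).eq
      obtain ⟨c, hc, hce⟩ : ∃ c : G, c * s = s * c ∧ c * z * c⁻¹ = g * z * g⁻¹ := by
        rcases S.invol_class (by
            rw [show g * z * g⁻¹ * (g * z * g⁻¹) = g * (z * z) * g⁻¹ by group, S.zz]; group)
          (fun e => S.z1 (by rw [mul_inv_eq_one, mul_eq_left] at e; exact e)) hgz with h | ⟨c, -, hce⟩
        · exact h
        · exact absurd ((isConj_iff.2 ⟨g, rfl⟩).trans (isConj_iff.2 ⟨c, hce⟩).symm) S.nt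
      set h := c⁻¹ * g with hh
      have hhz : h * z = z * h := by
        calc h * z = c⁻¹ * (g * z * g⁻¹) * g := by rw [hh]; group
          _ = _ := by rw [← hce, hh]; group
      have hhs : ∀ q, h ^ q * s * (h ^ q)⁻¹ = s ^ ((j % 7) ^ q) := by
        intro q
        induction q with
        | zero => simp
        | succ q ih =>
          rw [pow_succ', show h * h ^ q * s * (h * h ^ q)⁻¹ = h * (h ^ q * s * (h ^ q)⁻¹) * h⁻¹ by group, ih,
            ← conj_pow, show h * s * h⁻¹ = s ^ (j % 7) by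
              rw [hh, show c⁻¹ * g * s * (c⁻¹ * g)⁻¹ = c⁻¹ * (g * s * g⁻¹) * c by group, ← hj',
                mul_assoc, ((show Commute c s from hc).pow_right _).symm.eq, inv_mul_cancel_left],
            ← pow_mul, pow_succ' (j % 7)]
      have hh3 := hno (h ^ 3) ((show Commute h z from hhz).pow_left 3).eq
      rw [hhs] at hh3
      have hj0 : j % 7 ≠ 0 := fun e => by
        rw [e, pow_zero] at hj'
        rw [eq_comm, mul_inv_eq_one, mul_eq_left] at hj'
        have := S.s7
        rw [hj', orderOf_one] at this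
        omega
      have hs6 : s⁻¹ = s ^ 6 := inv_eq_of_mul_eq_one_right (by rw [← pow_succ', hs7])
      have hlt : j % 7 < 7 := Nat.mod_lt _ (by norm_num)
      obtain ⟨i, hi⟩ : ∃ i : Fin 3, s ^ (2 ^ (i : ℕ)) = s ^ (j % 7) := by
        rw [hs6] at hh3
        interval_cases j % 7
        · exact absurd rfl hj0
        · exact ⟨0, rfl⟩
        · exact ⟨1, rfl⟩
        · exact absurd (pow_eq_pow_iff_modEq.2 (by rw [S.s7]; decide)) hh3
        · exact ⟨2, rfl⟩
        · exact absurd (pow_eq_pow_iff_modEq.2 (by rw [S.s7]; decide)) hh3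
        · exact absurd (pow_eq_pow_iff_modEq.2 (by rw [S.s7]; decide)) hh3
      refine ⟨⟨i, (n ^ (i : ℕ))⁻¹ * g, Subgroup.mem_centralizer_singleton_iff.2 ?_⟩,
        Subtype.ext (mul_inv_cancel_left _ _)⟩
      calc (n ^ (i : ℕ))⁻¹ * g * s = (n ^ (i : ℕ))⁻¹ * (g * s * g⁻¹) * g := by group
        _ = (n ^ (i : ℕ))⁻¹ * (n ^ (i : ℕ) * s * (n ^ (i : ℕ))⁻¹) * g := by rw [← hj', ← hi, hni]
        _ = _ := by group
  rw [← Nat.card_congr (Equiv.ofBijective F hF), Nat.card_prod, Nat.card_fin, S.card_cent]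

end Seven

end CfsgLib.JFourLocal
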