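import Cfsg.Agent.Lib.JFourLocal.TenFix
import Cfsg.Agent.Lib.JFourLocal.Outer

/-!
# The standard subgroup of order `2 ^ 10`

It is the elementary subgroup of `C(z)` over the subgroup of order eight; it exists, is unique and
contains its centralizer.
-/

set_option autoImplicit false
set_option maxRecDepth 100000
set_option linter.style.haveILetI false
set_option linter.unusedSectionVars false

open Cfsg

namespace CfsgLib.JFourLocal

open CfsgLib.JFour CfsgLib.JFour.Ctx

variable {G : Type*} [Group G] [Finite G] {M : Type*} [Group M] [Finite M] {z π : G} {E : Subgroup G}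

/-- The elementary subgroup over the subgroup of order eight. -/
structure IsTen (J : Ctx M z π E) (g : ℕ → M) (A : Subgroup G) : Prop where
  sq : ∀ a ∈ A, a * a = 1
  card : Nat.card A = 2 ^ 10
  z_mem : z ∈ A
  le_H0 : A ≤ H0 z π E
  inf_E : ∀ e ∈ E, e ∈ A ↔ ∀ c : ↥(CZ z π), (c : G) * c = 1 → J.proj c ∈ tenK g → (c : G) * e = e * c
  image : ∀ v ∈ A, ∀ c : ↥(CZ z π), v * (c : G)⁻¹ ∈ E → J.proj c ∈ tenK g
  lift : ∀ c : ↥(CZ z π), (c : G) * c = 1 → J.proj c ∈ tenK g → (c : G) ∈ A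

/-- Everything used on the standard subgroup of order `2 ^ 10`. -/
structure TenCtx (J : Ctx M z π E) (g : ℕ → M) (vec : ℕ → G) (V : Subgroup G) : Prop where
  std : J.Std g vec V
  facts : TenFacts M g

theorem sq_of_gens {M : Type*} [Group M] {S : Set M} (h : ∀ a ∈ S, a * a = 1)
    (hc : ∀ a ∈ S, ∀ b ∈ S, a * b = b * a) : ∀ m ∈ Subgroup.closure S, m * m = 1 := by
  haveI : IsMulCommutative ↥(Subgroup.closure S) := Subgroup.isMulCommutative_closure hc
  intro m hm
  have key : m * m = 1 ∧ m ∈ Subgroup.closure S := by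
    induction hm using Subgroup.closure_induction with
    | mem x hx => exact ⟨h x hx, Subgroup.subset_closure hx⟩
    | one => exact ⟨mul_one 1, one_mem _⟩
    | mul x y _ _ hx hy =>
      refine ⟨?_, mul_mem hx.2 hy.2⟩
      have hxy : y * x = x * y :=
        congrArg Subtype.val (mul_comm' (⟨y, hy.2⟩ : ↥(Subgroup.closure S)) ⟨x, hx.2⟩)
      calc x * y * (x * y) = x * (y * x) * y := by group
        _ = x * x * (y * y) := by rw [hxy]; group
        _ = 1 := by rw [hx.1, hy.1, one_mul]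
    | inv x _ hx => exact ⟨by rw [← mul_inv_rev, hx.1, inv_one], inv_mem hx.2⟩
  exact key.1

namespace IsTen

variable {J : Ctx M z π E} {g : ℕ → M} {A : Subgroup G} (hA : IsTen J g A)
include hA

theorem comm : ∀ a ∈ A, ∀ b ∈ A, a * b = b * a := comm_of_sq hA.sq

theorem cz : ∀ a ∈ A, a * z = z * a := fun a ha => hA.comm a ha z hA.z_mem

/-- A member is a product of a member in `E` and a lift. -/
theorem split (F : JFour.Small M) {v : G} (hv : v ∈ A) :
    ∃ c : ↥(CZ z π), v * (c : G)⁻¹ ∈ E ∧ v * (c : G)⁻¹ ∈ A ∧ (c : G) * c = 1 ∧ (c : G) ∈ A ∧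
      J.proj c ∈ tenK g := by
  obtain ⟨e, he, c, hc, hvc, hc2, -⟩ := J.exists_split F (hA.le_H0 hv) (hA.sq v hv)
  have h : v * ((⟨c, hc⟩ : ↥(CZ z π)) : G)⁻¹ ∈ E := by simp only [hvc, mul_inv_cancel_right]; exact he
  have hK := hA.image v hv _ h
  have hcA : c ∈ A := hA.lift ⟨c, hc⟩ hc2 hK
  exact ⟨⟨c, hc⟩, h, mul_mem hv (inv_mem hcA), hc2, hcA, hK⟩

/-- There is only one. -/
theorem unique (F : JFour.Small M) {B : Subgroup G} (hB : IsTen J g B) : B = A := by
  refine Subgroup.eq_of_le_of_card_ge (fun v hv => ?_) (by rw [hA.card, hB.card])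
  obtain ⟨c, hcE, hcB, hc2, -, hcK⟩ := hB.split F hv
  have h1 : v * (c : G)⁻¹ ∈ A := (hA.inf_E _ hcE).2 ((hB.inf_E _ hcE).1 hcB)
  have := mul_mem h1 (hA.lift c hc2 hcK)
  rwa [inv_mul_cancel_right] at this

/-- An element normalizing `C(z, π)` and preserving the subgroup of order eight normalizes it. -/
theorem normalize (F : JFour.Small M) {k : G} (hkz : k * z = z * k)
    (hk : ∀ c ∈ CZ z π, k * c * k⁻¹ ∈ CZ z π ∧ k⁻¹ * c * k ∈ CZ z π)
    (hK : ∀ c c' : ↥(CZ z π), (c' : G) = k * c * k⁻¹ → (J.proj c' ∈ tenK g ↔ J.proj c ∈ tenK g)) :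
    k ∈ Subgroup.normalizer (A : Set G) := by
  have hkz' : k⁻¹ * z = z * k⁻¹ := (Commute.inv_left (show Commute k z from hkz)).eq
  set B := A.map (MulAut.conj k).toMonoidHom with hBdef
  have hmem : ∀ x, x ∈ B ↔ k⁻¹ * x * k ∈ A := fun x => by
    rw [hBdef, Subgroup.mem_map_equiv, MulAut.conj_symm_apply]
  have hK' : ∀ c : ↥(CZ z π), J.proj ⟨k⁻¹ * c * k, (hk _ c.2).2⟩ ∈ tenK g ↔ J.proj c ∈ tenK g := fun c =>
    (hK ⟨k⁻¹ * c * k, (hk _ c.2).2⟩ c (by simp only; group)).symm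
  have hBT : IsTen J g B := by
    refine ⟨fun a ha => ?_, ?_, ?_, fun a ha => ?_, fun e he => ?_, fun v hv c hc => ?_, fun c hc2 hc => ?_⟩
    · have h := hA.sq _ ((hmem a).1 ha)
      calc a * a = k * (k⁻¹ * a * k * (k⁻¹ * a * k)) * k⁻¹ := by group
        _ = 1 := by rw [h]; group
    · rw [hBdef, Subgroup.card_map_of_injective (MulAut.conj k).injective, hA.card]
    · rw [hmem, hkz', inv_mul_cancel_right]; exact hA.z_mem
    · obtain ⟨e, he, c, hc, hec⟩ := J.mem_H0.1 (hA.le_H0 ((hmem a).1 ha))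
      refine J.mem_H0.2 ⟨k * e * k⁻¹, J.conjE hkz he, k * c * k⁻¹, (hk c hc).1, ?_⟩
      calc a = k * (k⁻¹ * a * k) * k⁻¹ := by group
        _ = _ := by rw [hec]; group
    · rw [hmem, hA.inf_E _ (J.conjE' hkz he)]
      constructor
      · intro h c hc2 hc
        have h' := h ⟨k⁻¹ * c * k, (hk _ c.2).2⟩ (by
          show k⁻¹ * (c : G) * k * (k⁻¹ * c * k) = 1
          calc k⁻¹ * (c : G) * k * (k⁻¹ * c * k) = k⁻¹ * ((c : G) * c) * k := by group
            _ = 1 := by rw [hc2]; group) ((hK' c).2 hc)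
        simp only at h'
        calc (c : G) * e = k * (k⁻¹ * c * k * (k⁻¹ * e * k)) * k⁻¹ := by group
          _ = _ := by rw [h']; group
      · intro h c hc2 hc
        have h' := h ⟨k * c * k⁻¹, (hk _ c.2).1⟩ (by
          show k * (c : G) * k⁻¹ * (k * c * k⁻¹) = 1
          calc k * (c : G) * k⁻¹ * (k * c * k⁻¹) = k * ((c : G) * c) * k⁻¹ := by group
            _ = 1 := by rw [hc2]; group) ((hK c _ rfl).2 hc)
        simp only at h'
        calc (c : G) * (k⁻¹ * e * k) = k⁻¹ * (k * c * k⁻¹ * e) * k := by group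
          _ = _ := by rw [h']; group
    · refine (hK' c).1 (hA.image _ ((hmem v).1 hv) _ ?_)
      have := J.conjE' hkz hc
      convert this using 1
      show k⁻¹ * v * k * (k⁻¹ * (c : G) * k)⁻¹ = _
      group
    · rw [hmem]
      exact hA.lift ⟨k⁻¹ * c * k, (hk _ c.2).2⟩ (by
        show k⁻¹ * (c : G) * k * (k⁻¹ * c * k) = 1
        calc k⁻¹ * (c : G) * k * (k⁻¹ * c * k) = k⁻¹ * ((c : G) * c) * k := by group
          _ = 1 := by rw [hc2]; group) ((hK' c).2 hc)
  have h := hA.unique F hBT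
  rw [Subgroup.mem_normalizer_iff]
  intro x
  conv_rhs => rw [← h, hmem]
  rw [show k⁻¹ * (k * x * k⁻¹) * k = x by group]

/-- The lifts of the normalizer of the subgroup of order eight normalize it. -/
theorem mem_normalizer (F : JFour.Small M) {d : ↥(CZ z π)}
    (hd : J.proj d ∈ Subgroup.normalizer (tenK g : Set M)) : (d : G) ∈ Subgroup.normalizer (A : Set G) := by
  refine hA.normalize F (mem_CZ.1 d.2).1 (fun c hc => ⟨mul_mem (mul_mem d.2 hc) (inv_mem d.2),
    mul_mem (mul_mem (inv_mem d.2) hc) d.2⟩) fun c c' h => ?_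
  rw [show c' = d * c * d⁻¹ from Subtype.ext h, map_mul, map_mul, map_inv]
  exact ((Subgroup.mem_normalizer_iff.1 hd) _).symm

end IsTen

namespace TenCtx

variable {J : Ctx M z π E} {g : ℕ → M} {vec : ℕ → G} {V : Subgroup G} (D : TenCtx J g vec V)
include D

theorem small : JFour.Small M := D.std.small

theorem model : J.Model g vec := D.std.full.Mo

theorem tenK_sq : ∀ m ∈ tenK g, m * m = 1 :=
  sq_of_gens (fun _ ⟨w, hw, e⟩ => e ▸ D.facts.sq w (List.mem_append_left _ hw))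
    fun _ ⟨v, hv, e⟩ _ ⟨w, hw, e'⟩ => e ▸ e' ▸ D.facts.comm v hv w hw

/-- Lifts of commuting involutions commute. -/
theorem lifts_comm {c c' : ↥(CZ z π)} (hc : (c : G) * c = 1) (hc' : (c' : G) * c' = 1)
    (h : J.proj c * J.proj c' = J.proj c' * J.proj c) : (c : G) * c' = c' * c := by
  have ic : (c : G)⁻¹ = c := inv_eq_of_mul_eq_one_right hc
  have ic' : (c' : G)⁻¹ = c' := inv_eq_of_mul_eq_one_right hc'
  have hpc : J.proj c * J.proj c = 1 := by
    rw [← map_mul, show c * c = 1 from Subtype.ext hc, map_one]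
  have h2 : ((c * c' * c : ↥(CZ z π)) : G) * (c * c' * c : ↥(CZ z π)) = 1 := by
    simp only [Subgroup.coe_mul]
    calc (c : G) * c' * c * (c * c' * c) = c * c' * ((c : G) * c) * c' * c := by group
      _ = c * ((c' : G) * c') * c := by rw [hc]; group
      _ = 1 := by rw [hc', mul_one, hc]
  have hr := J.lift_unique hc' h2 (by rw [map_mul, map_mul, h, mul_assoc, hpc, mul_one])
  simp only [Subgroup.coe_mul] at hr
  have hx : ((c * c' : ↥(CZ z π)) : G) * (c * c' : ↥(CZ z π)) = 1 := by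
    refine J.sq_eq_one D.small ?_
    simp only [Subgroup.coe_mul]
    rw [show (c : G) * c' * (c * c') = c * c' * c * c' by group]
    rcases hr with k | k
    · exact Or.inl (by rw [k, hc'])
    · exact Or.inr (by rw [k, mul_assoc, hc', mul_one])
  simp only [Subgroup.coe_mul] at hx
  calc (c : G) * c' = ((c : G) * c')⁻¹ := (inv_eq_of_mul_eq_one_right hx).symm
    _ = c' * c := by rw [mul_inv_rev, ic, ic']

/-- The fixed space of the subgroup of order eight. -/
theorem fix_data : ∃ U, IsFix z E vec tenW U ∧ Nat.card U = 2 ^ 7 ∧ (∀ a ∈ U, ∀ b ∈ U, a * b = b * a) ∧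
    (∀ a ∈ U, a * a = 1) ∧ (∀ a ∈ U, π * a * π⁻¹ ∈ U) ∧ perp E U = U := by
  obtain ⟨U, hU⟩ := exists_isFix D.model tenW
  have hc : Nat.card U = 2 ^ 7 := by rw [hU.card, ten_fix_counts.1]; norm_num
  have hab : ∀ a ∈ U, ∀ b ∈ U, a * b = b * a := by
    intro a ha b hb
    obtain ⟨m, hm, hra, hia⟩ := J.vec_mem D.model.coords (A := U) hU.z_mem (hU.le ha)
    obtain ⟨n, hn, hrb, hib⟩ := J.vec_mem D.model.coords (A := U) hU.z_mem (hU.le hb)
    have hm' := List.mem_filter.2 ⟨List.mem_range.2 hm, (hU.iff m hm).1 (hia.1 ha)⟩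
    have hn' := List.mem_filter.2 ⟨List.mem_range.2 hn, (hU.iff n hn).1 (hib.1 hb)⟩
    have hbb := List.all_eq_true.1 (List.all_eq_true.1 ten_fix_iso.1 m hm') n hn'
    have h := (D.std.full.comm_vec D.std.isV hm hn).2 (beq_iff_eq.1 hbb)
    have hza : z * vec m = vec m * z := (J.s.z_comm (D.model.coords.mem m hm)).symm
    have hzb : z * vec n = vec n * z := (J.s.z_comm (D.model.coords.mem n hn)).symm
    rcases hra with e | e <;> rcases hrb with e' | e' <;> rw [e, e']
    · exact h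
    · exact ((show Commute (vec m) z from hza.symm).mul_right h).eq
    · exact ((show Commute z (vec n) from hzb).mul_left h).eq
    · exact (((Commute.refl z).mul_right hzb).mul_left ((show Commute (vec m) z from hza.symm).mul_right h)).eq
  have hπ : ∀ a ∈ U, π * a * π⁻¹ ∈ U := fun a ha => hU.pi_conj D.model D.small
    (fun w hw => tenW_words (List.mem_append_left _ hw))
    (fun w hw => D.facts.sq w (List.mem_append_left _ hw)) ha
  refine ⟨U, hU, hc, hab, fun a ha => J.sq_of_invariant hU.le hab hπ ha, hπ, ?_⟩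
  refine (Subgroup.eq_of_le_of_card_ge (fun x hx => mem_perp.2 ⟨hU.le hx, fun a ha => hab a ha x hx⟩) ?_).symm
  have h := J.card_mul_perp (A := U) hU.z_mem hU.le
  rw [hc] at h
  rw [hc]
  omega

/-- The lifts fix the fixed space. -/
theorem lift_comm_fix {U : Subgroup G} (hU : IsFix z E vec tenW U) {c : ↥(CZ z π)} (hc : (c : G) * c = 1)
    (hcK : J.proj c ∈ tenK g) {x : G} (hx : x ∈ U) : (c : G) * x = x * c := by
  have hxz : Commute z x := (J.s.z_comm (hU.le hx)).symm
  have hrel : ∀ {a b : G}, Rel z a b → Commute b x → Commute a x := fun {a b} h hb => by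
    rcases h with e | e <;> rw [e]
    exacts [hb, hxz.mul_left hb]
  have key : J.proj c ∈ tenK g ∧
      ∀ c' : ↥(CZ z π), (c' : G) * c' = 1 → J.proj c' = J.proj c → Commute (c' : G) x := by
    generalize J.proj c = m at hcK ⊢
    clear hc c
    induction hcK using Subgroup.closure_induction with
    | mem m hm =>
      refine ⟨Subgroup.subset_closure hm, fun c' hc' hp => ?_⟩
      obtain ⟨w, hw, rfl⟩ := hm
      obtain ⟨d, hd, hd2⟩ := J.exists_lift_invol D.small (D.facts.sq w (List.mem_append_left _ hw))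
      have hdz := (mem_CZ.1 d.2).1
      refine hrel (J.lift_unique hd2 hc' (hp.trans hd.symm)) ?_
      refine J.comm_of_fx d.2 ((J.mem_fx hdz).2 ⟨hU.le hx, ?_⟩)
      exact hU.rel_of D.model D.small hw (tenW_words (List.mem_append_left _ hw)) hdz (hd2 ▸ one_mem E)
        (by rw [mul_inv_cancel]; exact one_mem E) hd hx
    | one =>
      refine ⟨one_mem _, fun c' hc' hp => ?_⟩
      rcases J.small_of_proj_one hp (Or.inl hc') with e | e <;> rw [e]
      exacts [Commute.one_left _, hxz]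
    | mul m n _ _ hm hn =>
      refine ⟨mul_mem hm.1 hn.1, fun c' hc' hp => ?_⟩
      obtain ⟨a, ha, ha2⟩ := J.exists_lift_invol D.small (D.tenK_sq m hm.1)
      obtain ⟨b, hb, hb2⟩ := J.exists_lift_invol D.small (D.tenK_sq n hn.1)
      have hmn : m * n = n * m := comm_of_sq D.tenK_sq m hm.1 n hn.1
      have hab : (a : G) * b = b * a := D.lifts_comm ha2 hb2 (by rw [ha, hb, hmn])
      have hab2 : ((a * b : ↥(CZ z π)) : G) * (a * b : ↥(CZ z π)) = 1 := by
        simp only [Subgroup.coe_mul]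
        calc (a : G) * b * (a * b) = a * ((b : G) * a) * b := by group
          _ = (a : G) * a * ((b : G) * b) := by rw [← hab]; group
          _ = 1 := by rw [ha2, hb2, one_mul]
      refine hrel (J.lift_unique hab2 hc' (by rw [map_mul, ha, hb, hp])) ?_
      simp only [Subgroup.coe_mul]
      exact (hm.2 a ha2 ha).mul_left (hn.2 b hb2 hb)
    | inv m _ hm =>
      rw [inv_eq_of_mul_eq_one_right (D.tenK_sq m hm.1)]
      exact hm
  exact (key.2 c hc rfl).eq

/-- **The subgroup exists.** -/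
theorem exists_isTen : ∃ A : Subgroup G, IsTen J g A := by
  classical
  have F := D.small
  obtain ⟨U, hU, hUc, hUab, hUsq, -, -⟩ := D.fix_data
  obtain ⟨A, hA⟩ : ∃ A : Subgroup G, A = Subgroup.closure ((U : Set G) ∪
      {x | ∃ c : ↥(CZ z π), (c : G) * c = 1 ∧ J.proj c ∈ tenK g ∧ x = c}) := ⟨_, rfl⟩
  have hUA : U ≤ A := fun x hx => hA ▸ Subgroup.subset_closure (Or.inl hx)
  have hlift : ∀ c : ↥(CZ z π), (c : G) * c = 1 → J.proj c ∈ tenK g → (c : G) ∈ A := fun c h1 h2 =>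
    hA ▸ Subgroup.subset_closure (Or.inr ⟨c, h1, h2, rfl⟩)
  have hsq : ∀ a ∈ A, a * a = 1 := by
    rw [hA]
    refine sq_of_gens ?_ ?_
    · rintro a (ha | ⟨c, h1, -, rfl⟩)
      exacts [hUsq a ha, h1]
    · intro a ha b hb
      rcases ha with ha | ⟨c, h1, h2, rfl⟩ <;> rcases hb with hb | ⟨d, h3, h4, rfl⟩
      · exact hUab a ha b hb
      · exact (D.lift_comm_fix hU h3 h4 ha).symm
      · exact D.lift_comm_fix hU h1 h2 hb
      · exact D.lifts_comm h1 h3 (comm_of_sq D.tenK_sq _ h2 _ h4)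
  obtain ⟨ψ, hψ⟩ := J.exists_projH
  have hAH : A ≤ H0 z π E := by
    rw [hA, Subgroup.closure_le]
    rintro a (ha | ⟨c, -, -, rfl⟩)
    exacts [E_le_H0 z π E (hU.le ha), CZ_le_H0 z π E c.2]
  have hψc : ∀ c : ↥(CZ z π), ψ ⟨c, CZ_le_H0 z π E c.2⟩ = J.proj c := fun c =>
    hψ ⟨c, CZ_le_H0 z π E c.2⟩ c (by rw [mul_inv_cancel]; exact one_mem E)
  have himK : (A.subgroupOf (H0 z π E)).map ψ = tenK g := by
    refine le_antisymm ?_ fun m hm => ?_
    · rintro _ ⟨t, ht, rfl⟩
      have hle : A ≤ ((tenK g).comap ψ).map (H0 z π E).subtype := by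
        rw [hA, Subgroup.closure_le]
        rintro a (ha | ⟨c, -, h2, rfl⟩)
        · refine ⟨⟨a, E_le_H0 z π E (hU.le ha)⟩, ?_, rfl⟩
          show ψ _ ∈ tenK g
          rw [hψ _ 1 (by simpa using hU.le ha), map_one]
          exact one_mem _
        · exact ⟨⟨c, CZ_le_H0 z π E c.2⟩, show ψ _ ∈ tenK g from (hψc c).symm ▸ h2, rfl⟩
      obtain ⟨s, hs, hst⟩ := hle ht
      rw [← Subtype.ext (show (s : G) = t from hst)]
      exact hs
    · obtain ⟨c, hc, hc2⟩ := J.exists_lift_invol F (D.tenK_sq m hm)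
      exact ⟨⟨c, CZ_le_H0 z π E c.2⟩, hlift c hc2 (hc ▸ hm), (hψc c).trans hc⟩
  have hzA : z ∈ A := hUA hU.z_mem
  have hAE : A ⊓ E = U := by
    refine le_antisymm (fun x hx => ?_) fun x hx => ⟨hUA hx, hU.le hx⟩
    refine hU.mem_of D.model F (fun w hw => tenW_words (List.mem_append_left _ hw)) hx.2 fun w hw => ?_
    obtain ⟨c, hc, hc2⟩ := J.exists_lift_invol F (D.facts.sq w (List.mem_append_left _ hw))
    refine ⟨c, (mem_CZ.1 c.2).1, hc2 ▸ one_mem E, ⟨c, by rw [mul_inv_cancel]; exact one_mem E, hc⟩, Or.inl ?_⟩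
    rw [comm_of_sq hsq _ (hlift c hc2 (hc ▸ Subgroup.subset_closure ⟨w, hw, rfl⟩)) x hx.1, mul_inv_cancel_right]
  refine ⟨A, hsq, ?_, hzA, hAH, fun e he => ⟨fun h c h1 h2 => comm_of_sq hsq _ (hlift c h1 h2) e h,
    fun h => hUA ?_⟩, fun v hv c hc => ?_, hlift⟩
  · rw [J.split_card hψ hAH hsq, hAE, himK, hUc, D.facts.card]; norm_num
  · refine hU.mem_of D.model F (fun w hw => tenW_words (List.mem_append_left _ hw)) he fun w hw => ?_
    obtain ⟨c, hc, hc2⟩ := J.exists_lift_invol F (D.facts.sq w (List.mem_append_left _ hw))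
    refine ⟨c, (mem_CZ.1 c.2).1, hc2 ▸ one_mem E, ⟨c, by rw [mul_inv_cancel]; exact one_mem E, hc⟩, Or.inl ?_⟩
    rw [h c hc2 (hc ▸ Subgroup.subset_closure ⟨w, hw, rfl⟩), mul_inv_cancel_right]
  · rw [← hψ ⟨v, hAH hv⟩ c hc, ← himK]
    exact ⟨⟨v, hAH hv⟩, hv, rfl⟩

/-- The part in `E` is the fixed space. -/
theorem inf_eq {A U : Subgroup G} (hA : IsTen J g A) (hU : IsFix z E vec tenW U) : A ⊓ E = U := by
  refine le_antisymm (fun x hx => ?_) fun x hx => ⟨(hA.inf_E x (hU.le hx)).2 fun c h1 h2 =>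
    D.lift_comm_fix hU h1 h2 hx, hU.le hx⟩
  refine hU.mem_of D.model D.small (fun w hw => tenW_words (List.mem_append_left _ hw)) hx.2 fun w hw => ?_
  obtain ⟨c, hc, hc2⟩ := J.exists_lift_invol D.small (D.facts.sq w (List.mem_append_left _ hw))
  refine ⟨c, (mem_CZ.1 c.2).1, hc2 ▸ one_mem E, ⟨c, by rw [mul_inv_cancel]; exact one_mem E, hc⟩, Or.inl ?_⟩
  rw [(hA.inf_E x hx.2).1 hx.1 c hc2 (hc ▸ Subgroup.subset_closure ⟨w, hw, rfl⟩), mul_inv_cancel_right]

/-- **It contains its centralizer.** -/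
theorem centralizer_le {A : Subgroup G} (hA : IsTen J g A) : Subgroup.centralizer (A : Set G) ≤ A := by
  obtain ⟨U, hU, hUc, -, -, hUπ, -⟩ := D.fix_data
  have hUA : U ≤ A := fun u hu => ((D.inf_eq hA hU).ge hu).1
  intro x hx
  have hxc : ∀ v ∈ A, v * x = x * v := Subgroup.mem_centralizer_iff.1 hx
  have hxz : x * z = z * x := (hxc z hA.z_mem).symm
  obtain ⟨a, ha, haz⟩ : ∃ a ∈ U, a ∉ Subgroup.zpowers z := by
    refine SetLike.not_le_iff_exists.1 fun h => ?_
    have := Subgroup.card_le_of_le h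
    rw [hUc, J.card_zpowers_z] at this
    norm_num at this
  have hafix : ∀ {r : G}, Rel z r a → r = π * a * π⁻¹ → False := fun {r} h e => by
    rcases J.fpf_rel (hU.le ha) (e ▸ h) with k | k <;> apply haz <;> rw [k]
    · exact one_mem _
    · rw [mul_one]; exact Subgroup.mem_zpowers z
  have hH : x ∈ H0 z π E := by
    by_contra hn
    obtain ⟨f, hf, hxp⟩ := (J.not_mem_H0_iff hxz).1 hn
    have hpa := hUπ a ha
    have e1 : π * a * π⁻¹ = x * (π * a * π⁻¹) * x⁻¹ := by rw [← hxc _ (hUA hpa), mul_inv_cancel_right]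
    have e2 : x * (π * a * π⁻¹) * x⁻¹ = f * (π⁻¹ * (f⁻¹ * a * f) * π) * f⁻¹ := by
      calc x * (π * a * π⁻¹) * x⁻¹ = (x * π * x⁻¹) * (x * a * x⁻¹) * (x * π * x⁻¹)⁻¹ := by group
        _ = (f * π⁻¹ * f⁻¹) * a * (f * π⁻¹ * f⁻¹)⁻¹ := by rw [hxp, ← hxc a (hUA ha), mul_inv_cancel_right]
        _ = _ := by group
    have hfa : f⁻¹ * a * f ∈ E := mul_mem (mul_mem (inv_mem hf) (hU.le ha)) hf
    have r1 : Rel z (π * a * π⁻¹) (π⁻¹ * a * π) := by
      rw [e1, e2]
      refine J.rel_trans (J.rel_conj_E hf (J.conjE' J.piz hfa)) ?_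
      have h1 := J.rel_conj_E (inv_mem hf) (hU.le ha)
      rw [inv_inv] at h1
      have h2 := J.rel_conj (c := π⁻¹) (Commute.inv_left (show Commute π z from J.piz)).eq h1
      rwa [inv_inv] at h2
    have r2 := J.rel_conj J.piz r1
    rw [show π * (π * a * π⁻¹) * π⁻¹ = π * π * a * (π * π)⁻¹ by group, ← J.pi_inv, inv_inv,
      show π * (π⁻¹ * a * π) * π⁻¹ = a by group] at r2
    exact hafix (J.rel_trans r1 r2) rfl
  obtain ⟨e, he, c, hc, hxec⟩ := J.mem_H0.1 hH
  have hcz := (mem_CZ.1 hc).1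
  -- the image centralizes the subgroup of order eight
  have hcK : J.proj ⟨c, hc⟩ ∈ tenK g := by
    refine D.facts.cent _ fun y hy => ?_
    obtain ⟨c', hc', hc'2⟩ := J.exists_lift_invol D.small (D.tenK_sq y hy)
    have hv : (c' : G) ∈ A := hA.lift c' hc'2 (hc' ▸ hy)
    rw [← hc', ← map_mul, ← map_mul]
    refine J.proj_eq ?_
    obtain ⟨hcz', -⟩ := mem_CZ.1 c'.2
    simp only [Subgroup.coe_mul]
    have h := hxc _ hv
    rw [hxec] at h
    have e3 : c * (c' : G) * ((c' : G) * c)⁻¹ = e⁻¹ * ((c' : G) * e * (c' : G)⁻¹) := by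
      calc c * (c' : G) * ((c' : G) * c)⁻¹ = e⁻¹ * (e * c * (c' : G)) * c⁻¹ * (c' : G)⁻¹ := by group
        _ = e⁻¹ * ((c' : G) * (e * c)) * c⁻¹ * (c' : G)⁻¹ := by rw [← h]
        _ = _ := by group
    rw [e3]
    exact mul_mem (inv_mem he) (J.conjE hcz' he)
  obtain ⟨c', hc', hc'2⟩ := J.exists_lift_invol D.small (D.tenK_sq _ hcK)
  have hv : (c' : G) ∈ A := hA.lift c' hc'2 (hc' ▸ hcK)
  obtain ⟨u, huE, hu, k, hk, he'⟩ := J.exists_pow' (c := ⟨c, hc⟩ * c'⁻¹) (by
    rw [map_mul, map_inv, hc', mul_inv_cancel])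
  simp only [Subgroup.coe_mul, InvMemClass.coe_inv] at he'
  have hy : x * (c' : G)⁻¹ = e * u * π ^ k := by rw [hxec, mul_assoc e c, he', mul_assoc]
  have hyc : ∀ v ∈ A, v * (e * u * π ^ k) = e * u * π ^ k * v := by
    intro v hv'
    rw [← hy]
    exact ((show Commute v x from hxc v hv').mul_right
      (show Commute v (c' : G) from hA.comm v hv' _ hv).inv_right).eq
  have heu : e * u ∈ E := mul_mem he huE
  have hr : Rel z (π ^ k * a * (π ^ k)⁻¹) a := by
    have h := hyc a (hUA ha)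
    have h2 : (e * u) * (π ^ k * a * (π ^ k)⁻¹) * (e * u)⁻¹ = a := by
      calc _ = e * u * π ^ k * a * (e * u * π ^ k)⁻¹ := by group
        _ = a := by rw [← h, mul_inv_cancel_right]
    have h3 := J.rel_conj_E heu (J.conjE ((show Commute π z from J.piz).pow_left k).eq (hU.le ha))
    rw [h2] at h3
    exact J.rel_symm h3
  have hk0 : k = 0 := by
    by_contra hk0
    interval_cases k
    · exact absurd rfl hk0
    · exact hafix (by simpa using hr) rfl
    · rw [pow_two, ← J.pi_inv, inv_inv] at hr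
      have := J.rel_conj J.piz hr
      rw [show π * (π⁻¹ * a * π) * π⁻¹ = a by group] at this
      exact hafix (J.rel_symm this) rfl
  rw [hk0, pow_zero, mul_one] at hy hyc
  have hmem : e * u ∈ A := (hA.inf_E _ heu).2 fun d hd2 hdK => hyc d (hA.lift d hd2 hdK)
  have := mul_mem hmem hv
  rwa [← hy, inv_mul_cancel_right] at this

theorem centralizer_eq {A : Subgroup G} (hA : IsTen J g A) : Subgroup.centralizer (A : Set G) = A :=
  le_antisymm (D.centralizer_le hA) fun a ha => Subgroup.mem_centralizer_iff.2 fun b hb => hA.comm b hb a ha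

end TenCtx

end CfsgLib.JFourLocal
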