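import Cfsg.Agent.Lib.JFour.Data

/-!
# Data for the subgroup of order `2 ^ 10`

Words for the elementary subgroups of order eight of a Sylow 2-subgroup of the group on 22 points,
the normalizing elements and the coordinates.
-/

set_option autoImplicit false

namespace CfsgLib.JFourLocal

/-- Generators of the image of the subgroup of order `2 ^ 10`. -/
def tenW : List (List ℕ) := [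
  [4, 3, 2, 1, 4, 3, 2],
  [2, 4, 2, 4, 3, 1, 2, 4, 1, 3, 4, 3, 4, 0],
  [4, 3, 1, 4, 3, 1, 4, 1, 3, 2, 4, 2, 4, 2, 1]]

/-- An element of order seven permuting the generators. -/
def tenSW : List ℕ := [3, 1, 4, 3, 4, 3, 4, 2, 1]

/-- An element of order three normalizing. -/
def tenTW : List ℕ := [2, 4, 2, 4, 1, 2, 4, 1]

/-- Two involutions generating a dihedral group of order eight. -/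
def tenIW : List ℕ := [0, 2, 2, 1]

/-- The second involution. -/
def tenJW : List ℕ := [3, 1, 4, 3, 4, 0, 2, 3, 4, 2, 4, 3]

/-- An element carrying the subgroup to the other one of the listed Sylow subgroup, and its inverse. -/
def tenCW : List ℕ × List ℕ := ([3, 4, 3, 4, 2, 4, 2], [0, 0, 2, 4, 2, 4, 3, 4, 3, 0])

/-- Elementary subgroups of order eight with small fixed space. -/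
def tenLow : List (List ℕ × List (List ℕ)) := [
  ([0, 1, 12, 13, 52, 53, 56, 57], [[2, 1, 4, 3, 4, 3, 4, 2, 2, 2, 0], [3, 2, 0, 2, 4, 2, 4, 2, 4, 1, 3, 1], [3, 4, 3, 1, 4, 1, 3, 2, 4, 2, 4, 2, 1, 0]]),
  ([0, 2, 4, 6, 8, 10, 12, 14], [[4], [0, 2, 2, 1], [3, 2, 2, 4, 3, 4, 1, 3, 2, 4, 2, 4, 2, 1]]),
  ([0, 2, 4, 6, 16, 18, 20, 22], [[0, 2, 2, 1], [2, 3, 4, 3, 2], [3, 2, 2, 4, 3, 4, 1, 3, 2, 4, 2, 4, 2, 1]]),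
  ([0, 2, 4, 6, 24, 26, 28, 30], [[0, 2, 2, 1], [4, 2, 3, 4, 3, 2], [3, 2, 2, 4, 3, 4, 1, 3, 2, 4, 2, 4, 2, 1]]),
  ([0, 2, 8, 10, 16, 18, 24, 26], [[4, 0, 2, 2, 1], [2, 3, 4, 3, 2], [3, 1, 4, 3, 1, 4, 1, 3, 2, 4, 2, 4, 2, 1]]),
  ([0, 2, 8, 10, 20, 22, 28, 30], [[4, 0, 2, 2, 1], [3, 2, 1, 4, 3, 2], [3, 1, 4, 3, 1, 4, 1, 3, 2, 4, 2, 4, 2, 1]]),
  ([0, 2, 12, 14, 16, 18, 28, 30], [[4], [2, 3, 4, 3, 2], [3, 1, 4, 3, 1, 4, 1, 3, 2, 4, 2, 4, 2, 1]]),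
  ([0, 2, 12, 14, 20, 22, 24, 26], [[4], [3, 2, 1, 4, 3, 2], [3, 1, 4, 3, 1, 4, 1, 3, 2, 4, 2, 4, 2, 1]]),
  ([0, 3, 12, 15, 32, 35, 44, 47], [[1, 3, 4, 2, 4, 2, 4, 3, 2, 2], [2, 4, 3, 4, 3, 4, 2, 2, 4, 2, 0], [2, 4, 2, 4, 3, 1, 2, 4, 1, 3, 4, 3, 4, 0]]),
  ([0, 4, 8, 12, 16, 20, 24, 28], [[0, 2, 2, 1], [4, 2, 3, 4, 3, 2], [4, 3, 2, 2, 4, 3, 4, 1, 3, 2, 4, 2, 4, 2, 1]]),
  ([0, 4, 8, 12, 18, 22, 26, 30], [[0, 2, 2, 1], [2, 3, 4, 3, 2], [4, 3, 2, 2, 4, 3, 4, 1, 3, 2, 4, 2, 4, 2, 1]]),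
  ([0, 4, 10, 14, 16, 20, 26, 30], [[4], [0, 2, 2, 1], [1, 2, 4, 2, 4, 1, 4, 3, 4, 3, 4, 0, 2, 4, 2, 1]]),
  ([0, 4, 10, 14, 18, 22, 24, 28], [[4], [0, 2, 2, 1], [2, 3, 4, 3, 2]]),
  ([0, 6, 8, 14, 16, 22, 24, 30], [[4], [3, 2, 1, 4, 3, 2], [3, 2, 2, 4, 3, 4, 1, 3, 2, 4, 2, 4, 2, 1]]),
  ([0, 6, 8, 14, 18, 20, 26, 28], [[4], [2, 3, 4, 3, 2], [3, 2, 2, 4, 3, 4, 1, 3, 2, 4, 2, 4, 2, 1]]),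
  ([0, 6, 10, 12, 16, 22, 26, 28], [[4, 0, 2, 2, 1], [3, 2, 1, 4, 3, 2], [3, 2, 2, 4, 3, 4, 1, 3, 2, 4, 2, 4, 2, 1]]),
  ([0, 6, 10, 12, 18, 20, 24, 30], [[4, 0, 2, 2, 1], [2, 3, 4, 3, 2], [3, 2, 2, 4, 3, 4, 1, 3, 2, 4, 2, 4, 2, 1]])]

/-- Those in the hexad subgroup. -/
def tenSub : List (List ℕ × List (List ℕ)) := [
  ([0, 12, 22, 26, 35, 47, 53, 57], [[3, 2, 1, 4, 3, 2], [1, 3, 4, 2, 4, 2, 4, 3, 2, 2], [2, 4, 3, 4, 3, 4, 2, 2, 4, 2, 0]]),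
  ([0, 12, 22, 26, 64, 76, 86, 90], [[3, 2, 1, 4, 3, 2], [3, 2, 4, 2, 4, 3, 1, 2, 4, 2, 4, 2, 1, 3, 4], [4, 3, 1, 4, 3, 1, 4, 1, 3, 2, 4, 2, 4, 2, 1]]),
  ([0, 12, 22, 26, 99, 111, 117, 121], [[3, 2, 1, 4, 3, 2], [4, 3, 2, 4, 2, 4, 3, 4, 2, 4, 3, 2, 1], [4, 3, 1, 4, 3, 1, 4, 1, 3, 2, 4, 2, 4, 2, 1]]),
  ([0, 12, 35, 47, 64, 76, 99, 111], [[1, 3, 4, 2, 4, 2, 4, 3, 2, 2], [2, 4, 3, 4, 3, 4, 2, 2, 4, 2, 0], [4, 3, 2, 4, 2, 4, 3, 4, 2, 4, 3, 2, 1]]),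
  ([0, 12, 35, 47, 86, 90, 117, 121], [[1, 3, 4, 2, 4, 2, 4, 3, 2, 2], [2, 4, 3, 4, 3, 4, 2, 2, 4, 2, 0], [3, 2, 4, 2, 4, 3, 4, 2, 4, 3, 2, 1, 4]]),
  ([0, 12, 53, 57, 64, 76, 117, 121], [[2, 1, 4, 3, 4, 3, 4, 2, 2, 2, 0], [3, 2, 0, 2, 4, 2, 4, 2, 4, 1, 3, 1], [3, 2, 4, 2, 4, 3, 4, 2, 4, 3, 2, 1, 4]]),
  ([0, 12, 53, 57, 86, 90, 99, 111], [[2, 1, 4, 3, 4, 3, 4, 2, 2, 2, 0], [3, 2, 0, 2, 4, 2, 4, 2, 4, 1, 3, 1], [4, 3, 2, 4, 2, 4, 3, 4, 2, 4, 3, 2, 1]]),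
  ([0, 22, 35, 57, 64, 86, 99, 121], [[3, 2, 1, 4, 3, 2], [1, 3, 4, 2, 4, 2, 4, 3, 2, 2], [3, 2, 4, 2, 4, 3, 1, 2, 4, 2, 4, 2, 1, 3, 4]]),
  ([0, 22, 35, 57, 76, 90, 111, 117], [[3, 2, 1, 4, 3, 2], [1, 3, 4, 2, 4, 2, 4, 3, 2, 2], [4, 3, 2, 4, 2, 4, 3, 4, 2, 4, 3, 2, 1]]),
  ([0, 22, 47, 53, 64, 86, 111, 117], [[3, 2, 1, 4, 3, 2], [2, 4, 3, 4, 3, 4, 2, 2, 4, 2, 0], [4, 3, 2, 4, 2, 4, 3, 4, 2, 4, 3, 2, 1]]),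
  ([0, 22, 47, 53, 76, 90, 99, 121], [[3, 2, 1, 4, 3, 2], [2, 4, 3, 4, 3, 4, 2, 2, 4, 2, 0], [4, 2, 3, 1, 1, 4, 2, 4, 3, 4, 2, 4, 2, 1, 3]]),
  ([0, 26, 35, 53, 64, 90, 99, 117], [[1, 3, 4, 2, 4, 2, 4, 3, 2, 2], [2, 1, 4, 3, 4, 3, 4, 2, 2, 2, 0], [3, 2, 4, 2, 4, 3, 4, 2, 4, 3, 2, 1, 4]]),
  ([0, 26, 35, 53, 76, 86, 111, 121], [[1, 3, 4, 2, 4, 2, 4, 3, 2, 2], [2, 1, 4, 3, 4, 3, 4, 2, 2, 2, 0], [4, 3, 2, 4, 2, 4, 3, 4, 2, 4, 3, 2, 1]]),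
  ([0, 26, 47, 57, 64, 90, 111, 121], [[2, 4, 3, 4, 3, 4, 2, 2, 4, 2, 0], [3, 2, 0, 2, 4, 2, 4, 2, 4, 1, 3, 1], [4, 3, 2, 4, 2, 4, 3, 4, 2, 4, 3, 2, 1]]),
  ([0, 26, 47, 57, 76, 86, 99, 117], [[2, 4, 3, 4, 3, 4, 2, 2, 4, 2, 0], [3, 2, 0, 2, 4, 2, 4, 2, 4, 1, 3, 1], [3, 2, 4, 2, 4, 3, 4, 2, 4, 3, 2, 1, 4]])]

/-- The two others. -/
def tenStd : List (List ℕ × List (List ℕ)) := [
  ([0, 12, 20, 24, 32, 44, 52, 56], [[4, 3, 2, 1, 4, 3, 2], [2, 4, 2, 4, 3, 1, 2, 4, 1, 3, 4, 3, 4, 0], [4, 3, 1, 4, 3, 1, 4, 1, 3, 2, 4, 2, 4, 2, 1]]),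
  ([0, 1, 2, 3, 12, 13, 14, 15], [[3, 4, 3, 4, 2, 4, 2, 4, 3, 2, 1, 4, 3, 2, 0, 0, 2, 4, 2, 4, 3, 4, 3, 0], [3, 4, 3, 4, 2, 4, 2, 2, 4, 2, 4, 3, 1, 2, 4, 1, 3, 4, 3, 4, 0, 0, 0, 2, 4, 2, 4, 3, 4, 3, 0], [3, 4, 3, 4, 2, 4, 2, 4, 3, 1, 4, 3, 1, 4, 1, 3, 2, 4, 2, 4, 2, 1, 0, 0, 2, 4, 2, 4, 3, 4, 3, 0]])]

/-- The part of the listed Sylow subgroup normalizing the subgroup. -/
def tenN : List ℕ := [0, 1, 2, 3, 4, 5, 6, 7, 8, 9, 10, 11, 12, 13, 14, 15, 16, 17, 18, 19, 20, 21, 22, 23, 24, 25, 26, 27, 28, 29, 30, 31, 32, 33, 34, 35, 36, 37, 38, 39, 40, 41, 42, 43, 44, 45, 46, 47, 48, 49, 50, 51, 52, 53, 54, 55, 56, 57, 58, 59, 60, 61, 62, 63]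

/-- The permutation inducing an outer automorphism. -/
def tenUP : ℕ := 6678679833213173746479272987730999

/-- A basis of the fixed space. -/
def tenB : List ℕ := [76, 132, 260, 520, 1057, 2098]

/-- Preimages of the basis under the commutator with `π`. -/
def tenV : List ℕ := [132, 200, 520, 780, 2098, 3091]

/-- The coordinates on bivectors. -/
def tenIota : List ℕ := [1, 2, 16, 34, 52, 66, 88, 256, 640, 128]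

/-- The inverse coordinates. -/
def tenIotaI : List ℕ := [1, 2, 30, 102, 4, 10, 34, 512, 128, 768]

end CfsgLib.JFourLocal
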