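import Cfsg.Agent.Lib.JFour.M22Checks
import Cfsg.Agent.Lib.JFour.VData
import Cfsg.Agent.Lib.JFour.Elem
import Cfsg.Agent.Lib.Golay.Aut
import Cfsg.Agent.Lib.JFourLocal.TenData

/-!
# Checks for the subgroup of order `2 ^ 10`
-/

set_option autoImplicit false
set_option maxRecDepth 100000

namespace CfsgLib.JFourLocal

open CfsgLib.Golay CfsgLib.Golay.SylowTwo
open CfsgLib.JFour.M22Cert (wordP el com invI inG)

/-- The listed subgroups of order eight. -/
def tenTab : List (List ℕ × List (List ℕ)) := tenLow ++ tenSub ++ tenStd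

/-- The products of the generators. -/
def tenProd (W : List (List ℕ)) : List (List ℕ) := W.sublists.map List.flatten

/-- Every point fixed by a list of packed permutations. -/
def tenFixed (Ps : List ℕ) : ℕ := ((List.range 24).filter fun p => Ps.all fun P => Golay.ap P p == p).length

theorem ten_tab_ok : tenTab.all (fun t => t.1.length == 8 && t.2.length == 3 &&
      t.2.all (fun w => (w.all fun k => decide (k < 5)) && t.1.any fun i => eqP (el i) (wordP w)) &&
      t.1.all fun i => decide (i < 128) && (tenProd t.2).any fun w => eqP (el i) (wordP w)) = true := by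
  decide +kernel

theorem ten_grp_ok : tenTab.all (fun t => t.1.contains 0 && (t.1.all fun i => t.1.all fun j =>
      t.1.any fun k => eqP (mulP (el i) (el j)) (el k))) = true := by
  decide +kernel

theorem ten_triples_ok : invI.all (fun a => invI.all fun b => !(com a b) || !(Nat.blt a b) ||
      invI.all fun c => !(com a c) || !(com b c) || !(Nat.blt b c) || Nat.beq a 0 ||
        eqP (el c) (mulP (el a) (el b)) ||
        tenTab.any fun t => t.1.contains a && t.1.contains b && t.1.contains c) = true := by
  decide +kernel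

theorem ten_std_ok : eqP (wordP (tenCW.1 ++ tenCW.2)) idP = true ∧
    (tenStd.map Prod.snd == [tenW, tenW.map fun w => tenCW.1 ++ w ++ tenCW.2]) = true ∧
    tenSub.all (fun t => t.2.all fun w =>
      (JFour.hexW.sublists.map List.flatten).any fun v => eqP (wordP w) (wordP v)) = true := by
  decide +kernel

theorem ten_cent_ok : tenFixed (tenW.map wordP) = 2 ∧
    tenTab.all (fun t => !(tenFixed (t.2.map wordP) == 2) || (List.range 128).all fun i =>
      t.1.contains i || !(t.1.all fun j => com i j)) = true := by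
  decide +kernel

theorem ten_basic_ok : (tenW ++ [tenIW, tenJW]).all (fun w => eqP (wordP (w ++ w)) idP) = true ∧
    tenW.all (fun v => tenW.all fun w => eqP (wordP (v ++ w)) (wordP (w ++ v))) = true ∧
    (List.range 8).all (fun i => (List.range 8).all fun j =>
      i == j || !eqP (wordP ((tenProd tenW).getD i [])) (wordP ((tenProd tenW).getD j []))) = true := by
  decide +kernel

theorem ten_norm_ok :
    [tenSW, tenTW, tenIW, tenJW].all (fun v => tenW.all fun w => (tenProd tenW).any fun u =>
      eqP (wordP (v ++ w)) (wordP (u ++ v))) = true ∧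
    tenN.length = 64 ∧ tenN.Nodup ∧ tenN.all (fun i => decide (i < 128) && tenW.all fun w =>
      (tenProd tenW).any fun u => eqP (mulP (el i) (wordP w)) (mulP (wordP u) (el i))) = true := by
  decide +kernel

theorem ten_word_ok : eqP (wordP tenSW) idP = false ∧
    eqP (wordP (tenSW ++ tenSW ++ tenSW ++ tenSW ++ tenSW ++ tenSW ++ tenSW)) idP = true ∧
    eqP (wordP tenTW) idP = false ∧ eqP (wordP (tenTW ++ tenTW ++ tenTW)) idP = true ∧
    eqP (wordP (tenSW ++ tenW.getD 0 [])) (wordP (tenW.getD 1 [] ++ tenSW)) = true ∧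
    eqP (wordP (tenSW ++ tenW.getD 1 [])) (wordP (tenW.getD 2 [] ++ tenSW)) = true ∧
    eqP (wordP (tenSW ++ tenW.getD 2 [])) (wordP (tenW.getD 0 [] ++ tenW.getD 2 [] ++ tenSW)) = true ∧
    eqP (wordP (tenIW ++ tenJW ++ tenIW ++ tenJW)) idP = false ∧
    eqP (wordP (tenIW ++ tenJW ++ tenIW ++ tenJW ++ tenIW ++ tenJW ++ tenIW ++ tenJW)) idP = true ∧
    ([[], [tenIW], [tenJW], [tenIW, tenJW], [tenJW, tenIW], [tenIW, tenJW, tenIW, tenJW],
      [tenIW, tenJW, tenIW], [tenJW, tenIW, tenJW]].map List.flatten).all (fun v =>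
        eqP (wordP v) idP || !(tenProd tenW).any fun u => eqP (wordP v) (wordP u)) = true := by
  decide +kernel

theorem ten_outer_ok : inM24 tenUP = true ∧ validP tenUP = true ∧ Golay.ap tenUP 23 = 0 ∧
    Golay.ap tenUP 0 = 23 ∧ eqP (mulP tenUP tenUP) idP = true ∧
    ([tenSW, tenIW, tenJW] ++ tenW).all (fun w =>
      eqP (mulP tenUP (wordP w)) (mulP (wordP w) tenUP)) = true := by
  decide +kernel

end CfsgLib.JFourLocal
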