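import Cfsg.Agent.Lib.JFourLocal.TenA

/-!
# The self-centralizing elementary subgroups of order `2 ^ 10` of `C(z)`

They are conjugate in `C(z)` to the standard one.
-/

set_option autoImplicit false
set_option maxRecDepth 100000
set_option linter.style.haveILetI false
set_option linter.unusedSectionVars false

open Cfsg

namespace CfsgLib.JFourLocal

open CfsgLib.JFour CfsgLib.JFour.Ctx

variable {G : Type*} [Group G] [Finite G] {M : Type*} [Group M] [Finite M] {z π : G} {E : Subgroup G}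

/-- The subgroup generated by the images of a list of words. -/
def wordK (g : ℕ → M) (W : List (List ℕ)) : Subgroup M :=
  Subgroup.closure {x | ∃ w ∈ W, x = (w.map g).prod}

/-- A self-centralizing elementary subgroup of order `2 ^ 10` containing `z`. -/
structure IsSelf (z : G) (A : Subgroup G) : Prop where
  sq : ∀ a ∈ A, a * a = 1
  card : Nat.card A = 2 ^ 10
  z_mem : z ∈ A
  cent : Subgroup.centralizer (A : Set G) ≤ A

namespace IsSelf

variable {A : Subgroup G} (hA : IsSelf z A)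
include hA

theorem cz : ∀ a ∈ A, a * z = z * a := fun a ha => comm_of_sq hA.sq a ha z hA.z_mem

theorem map {k : G} (hk : k * z = z * k) : IsSelf z (A.map (MulAut.conj k).toMonoidHom) := by
  set B := A.map (MulAut.conj k).toMonoidHom with hBdef
  have hmem : ∀ x, x ∈ B ↔ k⁻¹ * x * k ∈ A := fun x => by
    rw [hBdef, Subgroup.mem_map_equiv, MulAut.conj_symm_apply]
  refine ⟨fun a ha => ?_, ?_, ?_, fun x hx => (hmem x).2 (hA.cent ?_)⟩
  · have h := hA.sq _ ((hmem a).1 ha)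
    calc a * a = k * (k⁻¹ * a * k * (k⁻¹ * a * k)) * k⁻¹ := by group
      _ = 1 := by rw [h]; group
  · rw [hBdef, Subgroup.card_map_of_injective (MulAut.conj k).injective, hA.card]
  · rw [hmem, show k⁻¹ * z * k = z by rw [mul_assoc, ← hk, inv_mul_cancel_left]]
    exact hA.z_mem
  · refine Subgroup.mem_centralizer_iff.2 fun a ha => ?_
    have h := Subgroup.mem_centralizer_iff.1 hx (k * a * k⁻¹) ((hmem _).2 (by
      rw [show k⁻¹ * (k * a * k⁻¹) * k = a by group]; exact ha))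
    calc a * (k⁻¹ * x * k) = k⁻¹ * (k * a * k⁻¹ * x) * k := by group
      _ = _ := by rw [h]; group

end IsSelf

namespace TenCtx

variable {J : Ctx M z π E} {g : ℕ → M} {vec : ℕ → G} {V : Subgroup G} (D : TenCtx J g vec V)
include D

theorem hexW_words {w : List ℕ} (hw : w ∈ hexW) : w ∈ tenWords := List.mem_append_right _ (hex_mem_hw hw)

theorem duadW_words {w : List ℕ} (hw : w ∈ duadW) : w ∈ tenWords :=
  List.mem_append_right _ (List.mem_cons_of_mem _ (List.mem_append_left _ hw))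

/-- The fixed space of the hexad words is the part of `V` in `E`. -/
theorem hexFix_eq {U : Subgroup G} (hU : IsFix z E vec hexW U) : U = V ⊓ E := by
  refine Subgroup.eq_of_le_of_card_ge (fun x hx => ⟨?_, hU.le hx⟩) ?_
  · obtain ⟨n, hn, hr, hiff⟩ := J.vec_mem D.model.coords (A := U) hU.z_mem (hU.le hx)
    exact (J.mem_vec_iff D.std.isV.z_mem hr).2 ((D.std.full.vec_mem_V D.std.isV hn).2 ((hU.iff n hn).1 (hiff.1 hx)))
  · rw [D.std.full.card_inf_E D.std.isV, hU.card, JFour.fix_counts.1]; norm_num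

/-- The part in `E` is fixed by the words of the image. -/
theorem inf_le {vec' : ℕ → G} {g' : ℕ → M} (Mo : J.Model g' vec') {W : List (List ℕ)}
    (hW : ∀ w ∈ W, w ∈ tenWords) {ψ : ↥(H0 z π E) →* M}
    (hψ : ∀ (h : ↥(H0 z π E)) (c : ↥(CZ z π)), (h : G) * (c : G)⁻¹ ∈ E → ψ h = J.proj c)
    {A : Subgroup G} (hA : ∀ a ∈ A, a * a = 1) (hz : z ∈ A)
    (hw : ∀ w ∈ W, (w.map g').prod ∈ (A.subgroupOf (H0 z π E)).map ψ)
    {U : Subgroup G} (hU : IsFix z E vec' W U) {x : G} (hxE : x ∈ E) (hx : ∀ a ∈ A, Rel z (a * x * a⁻¹) x) :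
    x ∈ U := by
  refine hU.mem_of Mo D.small hW hxE fun w hw' => ?_
  obtain ⟨a, ha, haw⟩ := hw w hw'
  obtain ⟨c, hc⟩ := J.exists_part a
  have haA : (a : G) ∈ A := ha
  exact ⟨a, comm_of_sq hA _ haA z hz, by rw [hA _ haA]; exact one_mem E,
    ⟨c, hc, ((hψ a c hc).symm.trans haw)⟩, hx _ haA⟩

/-- **They lie in `H0`.** -/
theorem self_le_H0 {A : Subgroup G} (hA : IsSelf z A) : A ≤ H0 z π E := by
  classical
  by_contra hout
  obtain ⟨w, hw, hwH⟩ := SetLike.not_le_iff_exists.1 hout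
  have hcom := comm_of_sq hA.sq
  have hle := J.card_le_H0 (S := A) hA.cz
  rw [hA.card] at hle
  set A0 := A ⊓ H0 z π E with hA0
  have h01 : ∀ a ∈ A0, a * a = 1 := fun a ha => hA.sq a ha.1
  obtain ⟨ψ, hψ⟩ := J.exists_projH
  have hsplit := J.split_card hψ (A := A0) inf_le_right h01
  set I := (A0.subgroupOf (H0 z π E)).map ψ with hI
  have hIsq : ∀ m ∈ I, m * m = 1 := by
    rintro _ ⟨t, ht, rfl⟩
    rw [← map_mul, show t * t = 1 from Subtype.ext (h01 _ ht), map_one]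
  have hI16 : Nat.card I ≤ 16 := D.small.abelian I (isPGroup_of_sq hIsq) (comm_of_sq hIsq)
  set Y := A0 ⊓ E with hY
  have hYw : ∀ y ∈ Y, w * y = y * w := fun y hy => hcom w hw y hy.1.1
  have hYE : Y ≤ E := inf_le_right
  have hint := inter_conj_le (J := J) hYE (hA.cz w hw) hwH hYw
  by_cases hAE : A0 ≤ E
  · have := J.card_abelian_le hAE fun a ha b hb => hcom a ha.1 b hb.1
    omega
  obtain ⟨x, hx, hxE⟩ := SetLike.not_le_iff_exists.1 hAE
  obtain ⟨e, he, c, hc, hxc, hc2, -⟩ := J.exists_split D.small hx.2 (h01 x hx)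
  obtain ⟨hcz, hcp⟩ := mem_CZ.1 hc
  have hc1 : c ≠ 1 := fun k => hxE (by rw [hxc, k, mul_one]; exact he)
  have hc1' : c ≠ z := fun k => hxE (by rw [hxc, k]; exact mul_mem he J.s.z_mem)
  have hF := D.std.full.hdim c hc hc2 hc1 hc1'
  have hYfx : Y ≤ fx z E c := by
    intro y hy
    refine (J.mem_fx hcz).2 ⟨hy.2, ?_⟩
    have h2 : x * y * x⁻¹ = y := by rw [hcom x hx.1 y hy.1.1, mul_inv_cancel_right]
    have h3 : Rel z (e * (c * y * c⁻¹) * e⁻¹) (c * y * c⁻¹) := J.rel_conj_E he (J.conjE hcz hy.2)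
    rw [show e * (c * y * c⁻¹) * e⁻¹ = x * y * x⁻¹ by rw [hxc]; group, h2] at h3
    exact J.rel_symm h3
  have hfπ : ∀ u ∈ fx z E c, π * u * π⁻¹ ∈ fx z E c := by
    intro u hu
    have hf := (J.mem_fx hcz).1 hu
    refine (J.mem_fx hcz).2 ⟨J.conjE J.piz hf.1, ?_⟩
    have h2 := J.rel_conj J.piz hf.2
    rwa [show c * (π * u * π⁻¹) * c⁻¹ = c * π * u * (c * π)⁻¹ by group, hcp,
      show π * c * u * (π * c)⁻¹ = π * (c * u * c⁻¹) * π⁻¹ by group]
  have hYb : Nat.card Y ≤ 32 := by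
    have h2 := sq_card_le (J := J) hYfx hfπ hint
    rw [hF] at h2
    by_contra hgt
    have h3 : 33 * 33 ≤ Nat.card Y * Nat.card Y := Nat.mul_le_mul (by omega) (by omega)
    omega
  have h16 : Nat.card I = 16 ∧ Nat.card Y = 32 := by
    have h1 : Nat.card Y * Nat.card I ≤ 32 * Nat.card I := Nat.mul_le_mul_right _ hYb
    have h2 : Nat.card Y * Nat.card I ≤ Nat.card Y * 16 := Nat.mul_le_mul_left _ hI16
    omega
  obtain ⟨m, W, hW, hWe⟩ := D.std.full.T.e16 I h16.1 hIsq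
  obtain ⟨d, rfl⟩ := J.proj_surj m
  have Mo' := D.model.conj d
  obtain ⟨U, hU⟩ := exists_isFix Mo' W
  have hWw : ∀ w ∈ W, w ∈ tenWords := by
    intro w hw
    rcases List.mem_cons.1 hW with e | e
    · exact D.duadW_words (e ▸ hw)
    · exact D.hexW_words (List.mem_singleton.1 e ▸ hw)
  have him : ∀ w ∈ W, (w.map fun k => J.proj d * g k * (J.proj d)⁻¹).prod ∈ I := fun w hw => by
    rw [prod_conj, hWe]; exact Subgroup.subset_closure ⟨w, hw, rfl⟩
  have hzA0 : z ∈ A0 := ⟨hA.z_mem, J.z_mem_H0⟩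
  have hYU : Y ≤ U := fun y hy => D.inf_le Mo' hWw hψ h01 hzA0 him hU hy.2 fun a ha => Or.inl (by
    rw [hcom a ha.1 y hy.1.1, mul_inv_cancel_right])
  have hUπ : ∀ u ∈ U, π * u * π⁻¹ ∈ U := fun u hu => hU.pi_conj Mo' D.small hWw (fun w hw => hIsq _ (him w hw)) hu
  have h2 := sq_card_le (J := J) hYU hUπ hint
  rw [h16.2, hU.card] at h2
  have hcnt : ((List.range 4096).filter (fixP W)).length ≤ 64 := by
    rcases List.mem_cons.1 hW with e | e
    · rw [e]; exact JFour.fix_counts.2.trans (by norm_num)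
    · rw [List.mem_singleton.1 e, JFour.fix_counts.1]
  omega

/-- It does not lie in `V`. -/
theorem self_not_le {A : Subgroup G} (hA : IsSelf z A) : ¬ A ≤ V := by
  intro h
  have hle : V ≤ A := fun v hv => hA.cent (Subgroup.mem_centralizer_iff.2 fun a ha =>
    D.std.isV.comm a (h ha) v hv)
  have := Subgroup.card_le_of_le hle
  rw [hA.card, D.std.isV.card] at this
  norm_num at this

/-- Lifts of the hexad subgroup commute with the part of `V` in `E`. -/
theorem rel_inf_V {x : G} (hx : x ∈ V ⊓ E) {a : G} {c : ↥(CZ z π)} (h : a * (c : G)⁻¹ ∈ E)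
    (hc : (c : G) * c = 1) (hcK : J.proj c ∈ hexK g) : Rel z (a * x * a⁻¹) x := by
  have hcx := D.std.isV.comm _ (D.std.isV.lift c hc hcK) x hx.1
  have := J.rel_conj_E h hx.2
  rwa [show a * (c : G)⁻¹ * x * (a * (c : G)⁻¹)⁻¹ = a * ((c : G)⁻¹ * x * c) * a⁻¹ by group,
    show (c : G)⁻¹ * x * c = x by rw [mul_assoc, ← hcx, inv_mul_cancel_left]] at this

variable {A : Subgroup G} (hA : IsSelf z A) (hH : A ≤ H0 z π E) {ψ : ↥(H0 z π E) →* M}
  (hψ : ∀ (h : ↥(H0 z π E)) (c : ↥(CZ z π)), (h : G) * (c : G)⁻¹ ∈ E → ψ h = J.proj c)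
include hA hH hψ

/-- A member splits, with image in the image. -/
theorem self_part {a : G} (ha : a ∈ A) : ∃ e ∈ E, ∃ c : ↥(CZ z π), a = e * c ∧ (c : G) * c = 1 ∧
    J.proj c ∈ (A.subgroupOf (H0 z π E)).map ψ := by
  obtain ⟨e, he, c, hc, hac, hc2, -⟩ := J.exists_split D.small (hH ha) (hA.sq a ha)
  have h : a * ((⟨c, hc⟩ : ↥(CZ z π)) : G)⁻¹ ∈ E := by simp only [hac, mul_inv_cancel_right]; exact he
  exact ⟨e, he, ⟨c, hc⟩, hac, hc2, ⟨⟨a, hH ha⟩, ha, hψ ⟨a, hH ha⟩ ⟨c, hc⟩ h⟩⟩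

theorem self_card : Nat.card A = Nat.card ↥(A ⊓ E) * Nat.card ((A.subgroupOf (H0 z π E)).map ψ) :=
  J.split_card hψ hH hA.sq

/-- The image is not contained in the hexad subgroup with large part in `E`. -/
theorem self_hex_false (him : (A.subgroupOf (H0 z π E)).map ψ ≤ hexK g) (hAE : A ⊓ E ≤ V) : False := by
  classical
  have hzV := D.std.isV.z_mem
  have hI := D.self_card hA hH hψ
  set I := (A.subgroupOf (H0 z π E)).map ψ with hIdef
  have hI16 : Nat.card I ≤ 16 := D.std.hexK_card_eq.1 ▸ Subgroup.card_le_of_le him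
  -- a member outside `V`
  obtain ⟨a₀, ha₀, ha₀V⟩ := SetLike.not_le_iff_exists.1 (D.self_not_le hA)
  obtain ⟨e₀, he₀, c₀, hac₀, hc₀, hc₀I⟩ := D.self_part hA hH hψ ha₀
  have hc₀V : (c₀ : G) ∈ V := D.std.isV.lift c₀ hc₀ (him hc₀I)
  have he₀V : e₀ ∉ V := fun h => ha₀V (hac₀ ▸ mul_mem h hc₀V)
  set U := A ⊓ E with hUdef
  have hcom := comm_of_sq hA.sq
  set P := perp E U with hP
  have hmemP : ∀ {a e : G} {c : ↥(CZ z π)}, a ∈ A → e ∈ E → a = e * c → (c : G) ∈ V → e ∈ P := by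
    intro a e c ha he hac hcV
    refine mem_perp.2 ⟨he, fun u hu => ?_⟩
    have h1 : Commute u a := hcom u hu.1 a ha
    have h2 : Commute u (c : G) := D.std.isV.comm u (hAE hu) _ hcV
    have := h1.mul_right h2.inv_right
    rw [hac, mul_inv_cancel_right] at this
    exact this.eq
  have hQP : V ⊓ E ≤ P := fun x hx => mem_perp.2 ⟨hx.2, fun u hu => D.std.isV.comm u (hAE hu) x hx.1⟩
  have hPE : P ≤ E := perp_le E U
  have hcardP := J.card_mul_perp (A := U) ⟨hA.z_mem, J.s.z_mem⟩ inf_le_right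
  have he₀P : e₀ ∈ P := hmemP ha₀ he₀ hac₀ hc₀V
  -- the part of `A` in `V` has index two
  have hU6 : 64 ≤ Nat.card U := by
    have h2 : Nat.card U * Nat.card I ≤ Nat.card U * 16 := Nat.mul_le_mul_left _ hI16
    rw [hA.card] at hI
    omega
  have hPc : Nat.card P ≤ 2 * Nat.card ↥(V ⊓ E) := by
    rw [D.std.full.card_inf_E D.std.isV]
    by_contra hgt
    have h3 : 64 * 257 ≤ Nat.card U * Nat.card P := Nat.mul_le_mul hU6 (by norm_num at hgt; omega)
    rw [hP] at h3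
    omega
  have hidx : ((V ⊓ E).subgroupOf P).index = 2 := by
    have h := ((V ⊓ E).subgroupOf P).card_mul_index
    rw [Nat.card_congr (Subgroup.subgroupOfEquivOfLe hQP).toEquiv] at h
    have hne : ((V ⊓ E).subgroupOf P).index ≠ 1 := fun e => by
      rw [Subgroup.index_eq_one, Subgroup.subgroupOf_eq_top] at e
      exact he₀V (e he₀P).1
    have h0 := ((V ⊓ E).subgroupOf P).index_ne_zero_of_finite
    have hpos : 0 < Nat.card ↥(V ⊓ E) := Nat.card_pos
    have hle : ((V ⊓ E).subgroupOf P).index ≤ 2 := Nat.le_of_mul_le_mul_left (h ▸ (by omega)) hpos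
    omega
  have hmulV : ∀ a ∈ A, a ∉ V → a * a₀ ∈ V := by
    intro a ha haV
    obtain ⟨e, he, c, hac, hc, hcI⟩ := D.self_part hA hH hψ ha
    have hcV : (c : G) ∈ V := D.std.isV.lift c hc (him hcI)
    have heV : e ∉ V := fun h => haV (hac ▸ mul_mem h hcV)
    have hcz := (mem_CZ.1 c.2).1
    set e' := (c : G) * e₀ * (c : G)⁻¹ with he'
    have he'P : e' ∈ P := mem_perp.2 ⟨J.conjE hcz he₀, fun u hu => by
      have h1 : u * e₀ = e₀ * u := (mem_perp.1 he₀P).2 u hu
      have h2 : (c : G)⁻¹ * u * c = u := by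
        rw [mul_assoc, D.std.isV.comm u (hAE hu) _ hcV, inv_mul_cancel_left]
      calc u * e' = (c : G) * ((c : G)⁻¹ * u * c * e₀) * (c : G)⁻¹ := by rw [he']; group
        _ = (c : G) * (e₀ * ((c : G)⁻¹ * u * c)) * (c : G)⁻¹ := by rw [h2, h1]
        _ = _ := by rw [he']; group⟩
    have he'V : e' ∉ V := fun h => he₀V (by
      have := mul_mem (mul_mem (inv_mem hcV) h) hcV
      rwa [he', show (c : G)⁻¹ * ((c : G) * e₀ * (c : G)⁻¹) * c = e₀ by group] at this)
    have h := (Subgroup.mul_mem_iff_of_index_two hidx (a := ⟨e, hmemP ha he hac hcV⟩) (b := ⟨e', he'P⟩)).2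
      (iff_of_false (fun h => heV (Subgroup.mem_subgroupOf.1 h).1) fun h => he'V (Subgroup.mem_subgroupOf.1 h).1)
    have h' : e * e' ∈ V := (Subgroup.mem_subgroupOf.1 h).1
    rw [show a * a₀ = e * e' * ((c : G) * c₀) by rw [hac, hac₀, he']; group]
    exact mul_mem h' (mul_mem hcV hc₀V)
  set B := A ⊓ V with hB
  have hBc : 512 ≤ Nat.card B := by
    have h2 : (B.subgroupOf A).index = 2 := by
      rw [Subgroup.index_eq_two_iff]
      refine ⟨⟨a₀, ha₀⟩, fun b => ?_⟩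
      simp only [Subgroup.mem_subgroupOf, hB, Subgroup.mem_inf, Subgroup.coe_mul, SetLike.coe_mem, true_and,
        mul_mem b.2 ha₀]
      by_cases hb : (b : G) ∈ V
      · exact Or.inr ⟨hb, fun h => ha₀V ((V.mul_mem_cancel_left hb).1 h)⟩
      · exact Or.inl ⟨hmulV _ b.2 hb, hb⟩
    have := (B.subgroupOf A).card_mul_index
    rw [h2, Nat.card_congr (Subgroup.subgroupOfEquivOfLe (inf_le_left : B ≤ A)).toEquiv, hA.card,
      show (2 : ℕ) ^ 10 = 512 * 2 from rfl] at this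
    exact (Nat.eq_of_mul_eq_mul_right (by norm_num) this).ge
  -- an image of order eight fixing `e₀`
  have hB1 : ∀ a ∈ B, a * a = 1 := fun a ha => hA.sq a ha.1
  have hBH : B ≤ H0 z π E := inf_le_left.trans hH
  have hsplitB := J.split_card hψ hBH hB1
  set S := (B.subgroupOf (H0 z π E)).map ψ with hS
  have hU64 : Nat.card U * Nat.card I = 1024 := by rw [hA.card] at hI; omega
  have hS8 : 8 ≤ Nat.card S ∨ 128 ≤ Nat.card U := by
    by_contra hno
    push Not at hno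
    have hBU : Nat.card ↥(B ⊓ E) ≤ Nat.card U := Subgroup.card_le_of_le (inf_le_inf_right E inf_le_left)
    obtain ⟨n, hn⟩ := IsPGroup.iff_card.1 (isPGroup_of_sq (G := G) (A := U) fun u hu => hA.sq u hu.1)
    have hU64' : Nat.card U = 64 := by
      rw [hn] at hno hU6 ⊢
      have h6 : 6 ≤ n := (Nat.pow_le_pow_iff_right (a := 2) (by norm_num)).1 hU6
      have h7 : n < 7 := (Nat.pow_lt_pow_iff_right (a := 2) (by norm_num)).1 hno.2
      rw [show n = 6 by omega]
      norm_num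
    have h4 : Nat.card ↥(B ⊓ E) * Nat.card S ≤ 64 * 7 := Nat.mul_le_mul (by omega) (by omega)
    omega
  rcases hS8 with hS8 | hU7
  swap
  · -- the part in `E` is all of that of `V`
    have he : U = V ⊓ E := Subgroup.eq_of_le_of_card_ge (fun u hu => ⟨hAE hu, hu.2⟩)
      (by rw [D.std.full.card_inf_E D.std.isV]; norm_num; exact hU7)
    exact he₀V (D.std.mem_of_comm he₀ fun u hu huE => (mem_perp.1 he₀P).2 u (he.ge ⟨hu, huE⟩))
  have hSsq : ∀ m ∈ S, m * m = 1 := by
    rintro _ ⟨t, ht, rfl⟩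
    rw [← map_mul, show t * t = 1 from Subtype.ext (hB1 _ ht), map_one]
  obtain ⟨S8, hS8le, hS8c⟩ := Sylow.exists_subgroup_le_card_pow_prime_of_le_card (n := 3) Nat.prime_two
    (isPGroup_of_sq hSsq) (H := (⊤ : Subgroup ↥S)) (by rw [Subgroup.card_top]; norm_num; exact hS8)
  set S' := S8.map S.subtype with hS'
  have hS'c : Nat.card S' = 8 := by rw [hS', Subgroup.card_map_of_injective S.subtype_injective, hS8c]; norm_num
  have hS'le : S' ≤ S := Subgroup.map_subtype_le S8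
  obtain ⟨m, W, hW, hWe⟩ := D.facts.eight S' hS'c fun a ha => hSsq a (hS'le ha)
  obtain ⟨d, rfl⟩ := J.proj_surj m
  have Mo' := D.model.conj d
  obtain ⟨U', hU'⟩ := exists_isFix Mo' W
  have hWw : ∀ w ∈ W, w ∈ tenWords := fun w hw => tenKinds_words hW hw
  have hims : ∀ w ∈ W, (w.map fun k => J.proj d * g k * (J.proj d)⁻¹).prod ∈ S := fun w hw => hS'le (by
    rw [prod_conj, hWe]; exact Subgroup.subset_closure ⟨w, hw, rfl⟩)
  have hzB : z ∈ B := ⟨hA.z_mem, hzV⟩
  have he₀U : e₀ ∈ U' := D.inf_le Mo' hWw hψ hB1 hzB hims hU' he₀ fun a ha => Or.inl (by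
    have h1 : Commute a a₀ := hcom a ha.1 a₀ ha₀
    have h2 : Commute a (c₀ : G) := D.std.isV.comm a ha.2 _ hc₀V
    have h3 := h1.mul_right h2.inv_right
    rw [hac₀, mul_inv_cancel_right] at h3
    rw [h3.eq, mul_inv_cancel_right])
  have hVU : V ⊓ E ≤ U' := fun x hx => D.inf_le Mo' hWw hψ hB1 hzB hims hU' hx.2 fun a ha => Or.inl (by
    rw [D.std.isV.comm a ha.2 x hx.1, mul_inv_cancel_right])
  have heq : V ⊓ E = U' := Subgroup.eq_of_le_of_card_ge hVU (by
    rw [hU'.card, D.std.full.card_inf_E D.std.isV]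
    have := kinds_count hW
    norm_num
    omega)
  exact he₀V (heq.ge he₀U).1

/-- The image of a conjugate. -/
theorem map_image (d : ↥(CZ z π)) :
    ((A.map (MulAut.conj (d : G)).toMonoidHom).subgroupOf (H0 z π E)).map ψ =
      ((A.subgroupOf (H0 z π E)).map ψ).map (MulAut.conj (J.proj d)).toMonoidHom := by
  set δ : ↥(H0 z π E) := ⟨d, CZ_le_H0 z π E d.2⟩ with hδ
  have hψd : ψ δ = J.proj d := hψ δ d (by rw [hδ, mul_inv_cancel]; exact one_mem E)
  ext m
  constructor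
  · rintro ⟨t, ⟨a, ha, hat⟩, rfl⟩
    refine ⟨_, ⟨⟨a, hH ha⟩, ha, rfl⟩, ?_⟩
    show J.proj d * ψ ⟨a, hH ha⟩ * (J.proj d)⁻¹ = ψ t
    rw [← hψd, ← map_inv, ← map_mul, ← map_mul]
    exact congrArg ψ (Subtype.ext hat)
  · rintro ⟨_, ⟨t, ht, rfl⟩, rfl⟩
    refine ⟨δ * t * δ⁻¹, ⟨(t : G), ht, rfl⟩, ?_⟩
    rw [map_mul, map_mul, map_inv, hψd]
    rfl

omit hH in
/-- **They are conjugate to the standard one in `C(z, π)`.** -/
theorem self_classify : ∃ d : ↥(CZ z π), IsTen J g (A.map (MulAut.conj (d : G)).toMonoidHom) := by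
  classical
  have hH := D.self_le_H0 hA
  have hI := D.self_card hA hH hψ
  set I := (A.subgroupOf (H0 z π E)).map ψ with hIdef
  have hIsq : ∀ m ∈ I, m * m = 1 := by
    rintro _ ⟨t, ht, rfl⟩
    rw [← map_mul, show t * t = 1 from Subtype.ext (hA.sq _ ht), map_one]
  have hI16 : Nat.card I ≤ 16 := D.small.abelian I (isPGroup_of_sq hIsq) (comm_of_sq hIsq)
  have hE7 : Nat.card ↥(A ⊓ E) ≤ 2 ^ 7 := J.card_abelian_le inf_le_right fun a ha b hb =>
    comm_of_sq hA.sq a ha.1 b hb.1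
  rw [hA.card] at hI
  obtain ⟨n, hn⟩ := IsPGroup.iff_card.1 (isPGroup_of_sq hIsq)
  have hn34 : n = 3 ∨ n = 4 := by
    rw [hn] at hI hI16
    have h1 : Nat.card ↥(A ⊓ E) * 2 ^ n ≤ 2 ^ 7 * 2 ^ n := Nat.mul_le_mul_right _ hE7
    rw [← hI, ← pow_add] at h1
    have h2 := (Nat.pow_le_pow_iff_right (a := 2) (by norm_num)).1 h1
    have h3 := (Nat.pow_le_pow_iff_right (a := 2) (by norm_num)).1 (hI16.trans_eq (by norm_num : 16 = 2 ^ 4))
    omega
  -- the kind of the image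
  obtain ⟨m, W, hWw, hWe, hWk⟩ : ∃ (m : M) (W : List (List ℕ)), (∀ w ∈ W, w ∈ tenWords) ∧
      I = Subgroup.closure {x | ∃ w ∈ W, x = m * (w.map g).prod * m⁻¹} ∧
      ((W ∈ tenKinds ∧ n = 3) ∨ (W ∈ [duadW, hexW] ∧ n = 4)) := by
    rcases hn34 with rfl | rfl
    · obtain ⟨m, W, hW, he⟩ := D.facts.eight I (by rw [hn]; norm_num) hIsq
      exact ⟨m, W, fun w hw => tenKinds_words hW hw, he, Or.inl ⟨hW, rfl⟩⟩
    · obtain ⟨m, W, hW, he⟩ := D.std.full.T.e16 I (by rw [hn]; norm_num) hIsq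
      refine ⟨m, W, fun w hw => ?_, he, Or.inr ⟨hW, rfl⟩⟩
      rcases List.mem_cons.1 hW with e | e
      · exact D.duadW_words (e ▸ hw)
      · exact D.hexW_words (List.mem_singleton.1 e ▸ hw)
  obtain ⟨d, hd⟩ := J.proj_surj m⁻¹
  refine ⟨d, ?_⟩
  have hdz := (mem_CZ.1 d.2).1
  have hB := hA.map hdz
  have hBH := D.self_le_H0 hB
  have himB : ((A.map (MulAut.conj (d : G)).toMonoidHom).subgroupOf (H0 z π E)).map ψ = wordK g W := by
    rw [D.map_image hA hH hψ d, ← hIdef, hWe, MonoidHom.map_closure, hd]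
    refine congrArg Subgroup.closure (Set.ext fun x => ⟨?_, ?_⟩)
    · rintro ⟨_, ⟨w, hw, rfl⟩, rfl⟩
      exact ⟨w, hw, by simp [mul_assoc]⟩
    · rintro ⟨w, hw, rfl⟩
      exact ⟨_, ⟨w, hw, rfl⟩, by simp [mul_assoc]⟩
  have hIB : Nat.card (wordK g W) = 2 ^ n := by
    rw [← himB, D.map_image hA hH hψ d, Subgroup.card_map_of_injective (MulAut.conj (J.proj d)).injective, ← hIdef, hn]
  generalize A.map (MulAut.conj (d : G)).toMonoidHom = B at hB hBH himB
  clear hI hn hWe hd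
  have hI := D.self_card hB hBH hψ
  rw [himB, hIB, hB.card] at hI
  obtain ⟨U, hU⟩ := exists_isFix D.model W
  have hBU : B ⊓ E ≤ U := fun x hx => D.inf_le D.model hWw hψ hB.sq hB.z_mem
    (fun w hw => himB.ge (Subgroup.subset_closure ⟨w, hw, rfl⟩)) hU hx.2
    fun a ha => Or.inl (by rw [comm_of_sq hB.sq a ha x hx.1, mul_inv_cancel_right])
  have hBUc := Subgroup.card_le_of_le hBU
  rw [hU.card] at hBUc
  rcases hWk with ⟨hW, rfl⟩ | ⟨hW, rfl⟩
  swap
  · exfalso
    rcases List.mem_cons.1 hW with e | e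
    · subst e
      have := JFour.fix_counts.2
      omega
    · obtain rfl := List.mem_singleton.1 e
      exact D.self_hex_false hB hBH hψ himB.le ((hBU.trans (D.hexFix_eq hU).le).trans inf_le_left)
  rw [tenKinds, List.mem_append, List.mem_singleton] at hW
  rcases hW with hW | rfl
  · exfalso
    obtain ⟨t, ht, rfl⟩ := List.mem_map.1 hW
    rcases List.mem_append.1 ht with ht | ht
    · have h32 : _ ≤ 32 := Nat.ble_eq ▸ List.all_eq_true.1 ten_fix_counts.2.1 t ht
      omega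
    · have h64 : _ ≤ 64 := Nat.ble_eq ▸ List.all_eq_true.1 ten_fix_counts.2.2 t ht
      have hsub : wordK g t.2 ≤ hexK g :=
        (Subgroup.closure_le _).2 (by rintro _ ⟨w, hw, rfl⟩; exact D.facts.sub t ht w hw)
      refine D.self_hex_false hB hBH hψ (himB.le.trans hsub) ?_
      have hVU : V ⊓ E ≤ U := fun x hx => D.inf_le D.model hWw hψ hB.sq hB.z_mem
        (fun w hw => himB.ge (Subgroup.subset_closure ⟨w, hw, rfl⟩)) hU hx.2 fun a ha => by
        obtain ⟨e, he, c, hac, hc, hcI⟩ := D.self_part hB hBH hψ ha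
        exact D.rel_inf_V hx (c := c) (by rw [hac, mul_inv_cancel_right]; exact he) hc (hsub (himB.le hcI))
      have heq : V ⊓ E = U := Subgroup.eq_of_le_of_card_ge hVU (by
        rw [hU.card, D.std.full.card_inf_E D.std.isV]; norm_num; omega)
      exact (hBU.trans heq.ge).trans inf_le_left
  -- the standard kind
  have hUe : B ⊓ E = U := Subgroup.eq_of_le_of_card_ge hBU (by
    rw [hU.card, ten_fix_counts.1]; omega)
  obtain ⟨U₀, hU₀, -, -, -, -, hperp⟩ := D.fix_data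
  have hUU : U₀ = U := by
    ext x
    constructor <;> intro hx
    all_goals
      obtain ⟨k, hk, hr, hiff⟩ := J.vec_mem D.model.coords (A := U) hU.z_mem
        (by first | exact hU₀.le hx | exact hU.le hx)
    · exact hiff.2 ((hU.iff k hk).2 ((hU₀.iff k hk).1 ((J.mem_vec_iff hU₀.z_mem hr).1 hx)))
    · exact (J.mem_vec_iff hU₀.z_mem hr).2 ((hU₀.iff k hk).2 ((hU.iff k hk).1 (hiff.1 hx)))
  subst hUU
  have hcA : ∀ c : ↥(CZ z π), (c : G) * c = 1 → J.proj c ∈ tenK g → (c : G) ∈ B := by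
    intro c hc hcK
    obtain ⟨t, ht, hte⟩ := himB.ge (show J.proj c ∈ wordK g tenW from hcK)
    obtain ⟨e, he, c', htc, hc', hc'I⟩ := D.self_part hB hBH hψ (show (t : G) ∈ B from ht)
    have hp : J.proj c' = J.proj c := by
      rw [← hte]
      exact (hψ t c' (by rw [htc, mul_inv_cancel_right]; exact he)).symm
    have he' : e ∈ U₀ := by
      rw [← hperp]
      refine mem_perp.2 ⟨he, fun u hu => ?_⟩
      have huB : u ∈ B := (hUe.ge hu).1
      have h1 : Commute u (t : G) := comm_of_sq hB.sq u huB _ ht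
      have h2 : Commute u (c' : G) := (D.lift_comm_fix hU₀ hc' (hp ▸ hcK) hu).symm
      have h3 := h1.mul_right h2.inv_right
      rw [htc, mul_inv_cancel_right] at h3
      exact h3.eq
    have hc'B : (c' : G) ∈ B := by
      have heB : e ∈ B := (hUe.ge he').1
      have := mul_mem (inv_mem heB) (show (t : G) ∈ B from ht)
      rwa [htc, inv_mul_cancel_left] at this
    rcases J.lift_unique hc' hc hp.symm with k | k <;> rw [k]
    exacts [hc'B, mul_mem hB.z_mem hc'B]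
  refine ⟨hB.sq, hB.card, hB.z_mem, hBH, fun e he => ⟨fun h c h1 h2 => comm_of_sq hB.sq _ (hcA c h1 h2) e h,
    fun h => (hUe.ge (hU₀.mem_of D.model D.small hWw he fun w hw => ?_)).1⟩, fun v hv c hc => ?_, hcA⟩
  · obtain ⟨c, hc, hc2⟩ := J.exists_lift_invol D.small (D.facts.sq w (List.mem_append_left _ hw))
    refine ⟨c, (mem_CZ.1 c.2).1, hc2 ▸ one_mem E, ⟨c, by rw [mul_inv_cancel]; exact one_mem E, hc⟩, Or.inl ?_⟩
    rw [h c hc2 (hc ▸ Subgroup.subset_closure ⟨w, hw, rfl⟩), mul_inv_cancel_right]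
  · rw [← hψ ⟨v, hBH hv⟩ c hc]
    exact himB.le ⟨⟨v, hBH hv⟩, hv, rfl⟩

end TenCtx

end CfsgLib.JFourLocal
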