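import Cfsg.Agent.Lib.JFourLocal.TenMat
import Cfsg.Agent.Lib.JFourLocal.TenCodeData

/-!
# Checks on the codes
-/

set_option autoImplicit false
set_option maxRecDepth 100000
set_option Elab.async false

namespace CfsgLib.JFourLocal

open CfsgLib.JFour

/-- The selection of columns giving a vector. -/
def tenFind (L : List ℕ) (v : ℕ) : ℕ := ((List.range 64).find? fun k => Nat.beq (ap L k) v).getD 0

/-- The displacement of a basis vector under one of the three words. -/
def tenDisp (k i : ℕ) : ℕ := Nat.xor (ap (wB (tenW.getD k [])) (2 ^ i)) (2 ^ i)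

/-- The bit of a truth value. -/
def tenBit (b : Bool) : ℕ := if b then 1 else 0

/-- The class of `z` in one of the four possible cases. -/
def tenCls (h b : Bool) : ℕ := 2 ||| tenOE ||| (if h then tenO1 else tenO0) ||| (if b then tenO2 else 0)

/-- The number of neighbours in a set of codes. -/
def tenNbr (D x : ℕ) : ℕ := ((List.range 1024).filter fun d => D.testBit d && D.testBit (Nat.xor d x)).length

/-- An orbit list is connected by the maps. -/
def tenLinked (L : List (ℕ × ℕ × ℕ)) (seed : ℕ) : Bool :=
  (List.range L.length).all fun i => (Nat.beq i 0 && Nat.beq (L.getD i default).1 seed) ||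
    (Nat.blt (L.getD i default).2.1 i && Nat.blt (L.getD i default).2.2 14 &&
      Nat.beq (ap (tenMaps.getD (L.getD i default).2.2 []) (L.getD (L.getD i default).2.1 default).1)
        (L.getD i default).1)

theorem ten_vec_ok : (List.range 64).all (fun k => fixP tenW (ap tenV k) &&
      Nat.beq (Nat.xor (ap gW0 (ap tenV k)) (ap tenV k)) (ap tenB k)) = true ∧
    ((List.range 4096).filter (fixP tenW)).all (fun n => Nat.beq (ap tenB (tenFind tenB n)) n) = true ∧
    tenB.length = 6 ∧ tenV.length = 6 := by
  decide +kernel

theorem ten_maps_ok : tenMaps.length = 14 ∧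
    tenMaps.all (fun F => F.length == 10 && F.all fun c => Nat.blt c 1024) = true ∧
    (List.range 12).all (fun i => Nat.beq ((tenMaps.getD i []).getD 0 0) 1 &&
      ((List.range 6).all fun b => Nat.beq ((tenMaps.getD i []).getD (1 + b) 0)
        (tenBit (bb (2 ^ i) (tenB.getD b 0)) + 2 ^ (1 + b))) &&
      (List.range 3).all fun k => Nat.beq (ap tenB (tenFind tenB (tenDisp k i))) (tenDisp k i) &&
        Nat.beq ((tenMaps.getD i []).getD (7 + k) 0)
          (tenBit (bb (2 ^ i) (ap gW0 (tenDisp k i))) + 2 * tenFind tenB (tenDisp k i) + 2 ^ (7 + k))) = true := by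
  decide +kernel

theorem ten_maps_pi : ((List.range 10).all fun j => (decide (1 ≤ j ∧ j < 7)) ||
      Nat.beq ((tenMaps.getD 12 []).getD j 0) (2 ^ j)) = true ∧
    ((List.range 6).all fun b => Nat.beq (ap tenV (tenFind tenV (ap gW0 (tenV.getD b 0)))) (ap gW0 (tenV.getD b 0)) &&
      Nat.beq ((tenMaps.getD 12 []).getD (1 + b) 0) (2 * tenFind tenV (ap gW0 (tenV.getD b 0)))) = true := by
  decide +kernel

theorem ten_maps_seven : (Nat.beq ((tenMaps.getD 13 []).getD 0 0) 1 &&
      Nat.beq ((tenMaps.getD 13 []).getD 7 0) 256 && Nat.beq ((tenMaps.getD 13 []).getD 8 0) 512 &&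
      Nat.beq ((tenMaps.getD 13 []).getD 9 0) 640) = true ∧
    ((List.range 6).all fun b => Nat.beq (ap tenV (tenFind tenV (ap tenS (tenV.getD b 0)))) (ap tenS (tenV.getD b 0)) &&
      Nat.beq ((tenMaps.getD 13 []).getD (1 + b) 0) (2 * tenFind tenV (ap tenS (tenV.getD b 0)))) = true := by
  decide +kernel

theorem ten_orbits_ok_0 : tenLinked tenL0 128 = true := by
  decide +kernel

theorem ten_orbits_ok_1 : tenLinked tenL1 129 = true := by
  decide +kernel

theorem ten_orbits_ok_2 : tenLinked tenL2 (tenL2.getD 0 default).1 = true := by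
  decide +kernel

theorem ten_orbits_ok_3 : (List.range 1024).all (fun x =>
      (!tenO0.testBit x || (tenL0.map Prod.fst).contains x) &&
      (!tenO1.testBit x || (tenL1.map Prod.fst).contains x) &&
      (!tenO2.testBit x || (tenL2.map Prod.fst).contains x)) = true := by
  decide +kernel

theorem ten_orbits_ok : tenLinked tenL0 128 = true ∧ tenLinked tenL1 129 = true ∧
    tenLinked tenL2 (tenL2.getD 0 default).1 = true ∧
    (List.range 1024).all (fun x =>
      (!tenO0.testBit x || (tenL0.map Prod.fst).contains x) &&
      (!tenO1.testBit x || (tenL1.map Prod.fst).contains x) &&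
      (!tenO2.testBit x || (tenL2.map Prod.fst).contains x)) = true :=
  ⟨ten_orbits_ok_0, ten_orbits_ok_1, ten_orbits_ok_2, ten_orbits_ok_3⟩

theorem ten_cover_ok : (List.range 1024).all (fun x =>
    if Nat.blt x 128 then !tenO0.testBit x && !tenO1.testBit x && !tenO2.testBit x &&
        (if Nat.blt x 2 then !tenOE.testBit x
          else (tenOE.testBit x == inLay layA (ap tenB (x / 2))) &&
            (inLay layA (ap tenB (x / 2)) || inLay layB (ap tenB (x / 2))))
      else !tenOE.testBit x &&
        ((tenO0.testBit x && !tenO1.testBit x && !tenO2.testBit x) ||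
          (!tenO0.testBit x && tenO1.testBit x && !tenO2.testBit x) ||
          (!tenO0.testBit x && !tenO1.testBit x && tenO2.testBit x))) = true := by
  decide +kernel

theorem ten_nbr_ok :
    ((tenCls false true).testBit 128 && !(tenNbr (tenCls false true) 1 == tenNbr (tenCls false true) 128)) = true ∧
    ((tenCls true false).testBit 129 && !(tenNbr (tenCls true false) 1 == tenNbr (tenCls true false) 129)) = true ∧
    ((tenCls true true).testBit 129 && !(tenNbr (tenCls true true) 1 == tenNbr (tenCls true true) 129)) = true ∧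
    ((List.range 1024).filter fun x => (tenCls false false).testBit x).length = 155 := by
  decide +kernel

end CfsgLib.JFourLocal
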