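import Cfsg.Agent.Lib.JFourLocal.TenClass
import Cfsg.Agent.Lib.JFourLocal.TenCodeChecks

/-!
# Exact codes for the elements of the standard subgroup

`TenBase`: the codes below `1024` multiply by exclusive or, and fourteen elements of `C(z)` normalizing
the subgroup act on them by the listed maps.
-/

set_option autoImplicit false
set_option maxRecDepth 100000
set_option linter.style.haveILetI false
set_option linter.unusedSectionVars false

open Cfsg

namespace CfsgLib.JFourLocal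

open CfsgLib.JFour CfsgLib.JFour.Ctx

variable {G : Type*} [Group G] [Finite G] {M : Type*} [Group M] [Finite M] {z π : G} {E : Subgroup G}

theorem add_two_pow {a j : ℕ} (h : a < 2 ^ j) : a + 2 ^ j = a ^^^ 2 ^ j := by
  refine Nat.eq_of_testBit_eq fun i => ?_
  rw [Nat.testBit_xor, add_comm]
  rcases lt_trichotomy i j with h' | h' | h'
  · rw [Nat.testBit_two_pow_add_gt h', Nat.testBit_two_pow]; simp [Nat.ne_of_gt h']
  · subst h'; rw [Nat.testBit_two_pow_add_eq, Nat.testBit_two_pow_self, Nat.testBit_lt_two_pow h]; rfl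
  · have h1 : a.testBit i = false :=
      Nat.testBit_lt_two_pow (lt_trans h (Nat.pow_lt_pow_right (by norm_num) h'))
    have h2 : (2 ^ j + a).testBit i = false :=
      Nat.testBit_lt_two_pow (lt_of_lt_of_le (show 2 ^ j + a < 2 ^ (j + 1) by rw [pow_succ]; omega)
        (Nat.pow_le_pow_right (by norm_num) h'))
    rw [h1, h2, Nat.testBit_two_pow]; simp [Nat.ne_of_lt h']

theorem two_mul_xor (a b : ℕ) : 2 * (a ^^^ b) = 2 * a ^^^ 2 * b := by
  have h := Nat.shiftLeft_xor_distrib (a := a) (b := b) (i := 1)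
  simpa [Nat.shiftLeft_eq, mul_comm] using h

theorem bit_add (c : Bool) (k : ℕ) : tenBit c + 2 * k = tenBit c ^^^ 2 * k := by
  cases c
  · simp [tenBit]
  · rw [show tenBit true = 1 from rfl]
    refine Nat.eq_of_testBit_eq fun i => ?_
    cases i with
    | zero => simp [Nat.testBit_zero, Nat.xor_mod_two_eq]
    | succ i =>
      rw [Nat.testBit_succ, Nat.testBit_xor, Nat.testBit_succ, Nat.testBit_succ]
      simp [show (1 + 2 * k) / 2 = k by omega]

/-- Two multiplicative functions on bit strings agreeing on the basis agree. -/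
theorem xor_ext {H : Type*} [Group H] {f h : ℕ → H} (n : ℕ)
    (hf : ∀ a b, a < 2 ^ n → b < 2 ^ n → f (a ^^^ b) = f a * f b)
    (hh : ∀ a b, a < 2 ^ n → b < 2 ^ n → h (a ^^^ b) = h a * h b)
    (hb : ∀ i < n, f (2 ^ i) = h (2 ^ i)) : ∀ a < 2 ^ n, f a = h a := by
  have hone : ∀ {f : ℕ → H}, (∀ a b, a < 2 ^ n → b < 2 ^ n → f (a ^^^ b) = f a * f b) → f 0 = 1 := fun {f} hf => by
    have := hf 0 0 (Nat.two_pow_pos n) (Nat.two_pow_pos n)
    rwa [Nat.xor_self, left_eq_mul] at this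
  suffices H' : ∀ k ≤ n, ∀ a < 2 ^ k, f a = h a from H' n le_rfl
  intro k
  induction k with
  | zero =>
    intro _ a ha
    obtain rfl : a = 0 := by simpa using ha
    rw [hone hf, hone hh]
  | succ k ih =>
    intro hk a ha
    by_cases hlt : a < 2 ^ k
    · exact ih (by omega) a hlt
    obtain ⟨r, rfl⟩ : ∃ r, a = r + 2 ^ k := ⟨a - 2 ^ k, by omega⟩
    have hr : r < 2 ^ k := by rw [pow_succ] at ha; omega
    have h1 : r < 2 ^ n := lt_of_lt_of_le hr (Nat.pow_le_pow_right (by norm_num) (by omega))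
    have h2 : 2 ^ k < 2 ^ n := Nat.pow_lt_pow_right (by norm_num) (show k < n by omega)
    rw [add_two_pow hr, hf r _ h1 h2, hh r _ h1 h2, ih (by omega) r hr, hb k (by omega)]

theorem two_pow_lt {i n : ℕ} (h : i < n) : 2 ^ i < 2 ^ n := Nat.pow_lt_pow_right (by norm_num) h

/-- The product of commuting involutions selected by bits is multiplicative. -/
theorem vlist_xor_exact {H : Type*} [Group H] : ∀ {gs : List H}, (∀ a ∈ gs, a * a = 1) →
    (∀ a ∈ gs, ∀ b ∈ gs, a * b = b * a) → ∀ m n, vlist gs (m ^^^ n) = vlist gs m * vlist gs n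
  | [], _, _, _, _ => (one_mul 1).symm
  | g :: gs, h1, hc, m, n => by
    have ih := vlist_xor_exact (gs := gs) (fun a ha => h1 a (List.mem_cons_of_mem _ ha))
      (fun a ha b hb => hc a (List.mem_cons_of_mem _ ha) b (List.mem_cons_of_mem _ hb)) (m / 2) (n / 2)
    have hh : (m ^^^ n) / 2 = (m / 2) ^^^ (n / 2) := by
      apply Nat.eq_of_testBit_eq
      intro i
      simp [Nat.testBit_div_two]
    have h0 : ((m ^^^ n) % 2 == 1) = ((m % 2 == 1) ^^ (n % 2 == 1)) := by
      rcases Nat.mod_two_eq_zero_or_one m with hm | hm <;>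
        rcases Nat.mod_two_eq_zero_or_one n with hn | hn <;>
        simp [Nat.xor_mod_two_eq, Nat.add_mod, hm, hn]
    have hgc : ∀ k, Commute g (vlist gs k) := fun k => by
      have := vlist_mem (A := Subgroup.centralizer ({g} : Set H)) (gs := gs)
        (fun a ha => Subgroup.mem_centralizer_singleton_iff.2
          (hc a (List.mem_cons_of_mem _ ha) g List.mem_cons_self)) k
      exact (Subgroup.mem_centralizer_singleton_iff.1 this).symm
    simp only [vlist, hh, h0, ih]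
    have hgg := h1 g List.mem_cons_self
    cases (m % 2 == 1) <;> cases (n % 2 == 1) <;> simp only [Bool.false_xor, Bool.true_xor, Bool.not_false,
      Bool.not_true, cond_true, cond_false]
    · rw [← mul_assoc (vlist gs (m / 2)), ← (hgc (m / 2)).eq, mul_assoc]
    · rw [mul_assoc]
    · rw [mul_assoc g, ← mul_assoc (vlist gs (m / 2)), ← (hgc (m / 2)).eq, ← mul_assoc g, ← mul_assoc g g, hgg,
        one_mul]

/-- The commutator with `π`. -/
def tenPhi (π x : G) : G := π * x * π⁻¹ * x⁻¹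

/-- The exact codes and the maps on them. -/
structure TenBase (J : Ctx M z π E) (g : ℕ → M) (vec : ℕ → G) (A : Subgroup G) (el : ℕ → G)
    (s : ↥(CZ z π)) : Prop where
  mem : ∀ x, el x ∈ A
  add : ∀ x y, x < 1024 → y < 1024 → el (x ^^^ y) = el x * el y
  surj : ∀ a ∈ A, ∃ x, x < 1024 ∧ el x = a
  inj : ∀ x y, x < 1024 → y < 1024 → el x = el y → x = y
  el_one : el 1 = z
  low : ∀ k < 64, Rel z (el (2 * k)) (vec (ap tenB k))
  top : ∃ c : ↥(CZ z π), (c : G) * c = 1 ∧ J.proj c ≠ 1 ∧ el 128 = c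
  seven : (s : G) ^ 7 = 1 ∧ J.proj s = (tenSW.map g).prod ∧ Acts z vec (s : G) tenS
  maps : ∀ q < 14, ∃ n ∈ Subgroup.normalizer (A : Set G), n * z = z * n ∧
    ∀ x < 1024, n * el x * n⁻¹ = el (ap (tenMaps.getD q []) x)
  basisN : ∀ i < 12, vec (2 ^ i) ∈ Subgroup.normalizer (A : Set G)

theorem getD_bound {q : ℕ} (hq : q < 14) : (∀ c ∈ tenMaps.getD q [], c < 1024) ∧ (tenMaps.getD q []).length = 10 := by
  have h := ten_maps_ok.2.1
  simp only [List.all_eq_true, Bool.and_eq_true, beq_iff_eq, Nat.blt_eq] at h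
  rw [List.getD_eq_getElem _ _ (by rw [ten_maps_ok.1]; exact hq)]
  exact ⟨(h _ (List.getElem_mem _)).2, (h _ (List.getElem_mem _)).1⟩

theorem ap_lt1024 {F : List ℕ} (h : ∀ c ∈ F, c < 1024) : ∀ n, ap F n < 1024 := by
  induction F with
  | nil => intro n; simp [ap]
  | cons c F ih =>
    intro n
    have h1 := ih (fun x hx => h x (List.mem_cons_of_mem _ hx)) (n / 2)
    unfold ap
    cases (n % 2 == 1)
    · exact h1
    · exact Nat.xor_lt_two_pow (n := 10) (h c List.mem_cons_self) h1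

namespace TenCtx

variable {J : Ctx M z π E} {g : ℕ → M} {vec : ℕ → G} {V : Subgroup G} (D : TenCtx J g vec V)
include D

/-- An element of order seven over the listed one. -/
theorem exists_seven : ∃ s : ↥(CZ z π), (s : G) ^ 7 = 1 ∧ J.proj s = (tenSW.map g).prod ∧
    Acts z vec (s : G) tenS := by
  obtain ⟨c, hc, hcA⟩ := D.model.lift (w := tenSW) (fun k hk => of_decide_eq_true
    (List.all_eq_true.1 ten_sev_ok.2.2.1 k hk))
  set p := (tenSW.map g).prod
  have hp7 : p ^ 7 = 1 := by rw [← D.facts.seven]; exact pow_orderOf_eq_one p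
  obtain ⟨u, -, hu, k, -, he⟩ := J.exists_pow' (c := c ^ 7) (by rw [map_pow, hc, hp7])
  have hu6 : u ^ 6 = 1 := by
    rcases hu with e | e <;> rw [e]
    · exact one_pow 6
    · rw [show (6 : ℕ) = 2 * 3 from rfl, pow_mul, pow_two, J.zz, one_pow]
  have hpu : Commute u (π ^ k) := by
    rcases hu with e | e <;> rw [e]
    exacts [Commute.one_left _, ((show Commute π z from J.piz).pow_left k).symm]
  refine ⟨c ^ 36, ?_, ?_, ?_⟩
  · rw [Subgroup.coe_pow] at he
    rw [Subgroup.coe_pow, ← pow_mul, show 36 * 7 = 7 * 36 from rfl, pow_mul, he, hpu.mul_pow,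
      show (36 : ℕ) = 6 * 6 from rfl, pow_mul u, hu6, one_pow, one_mul, ← pow_mul,
      show k * (6 * 6) = 3 * (k * 12) by ring, pow_mul, J.pi_pow_three, one_pow]
  · rw [map_pow, hc, show (36 : ℕ) = 7 * 5 + 1 from rfl, pow_succ, pow_mul, hp7, one_pow, one_mul]
  have hs7 : ((c ^ 36 : ↥(CZ z π)) : G) ^ 7 = 1 := by
    rw [Subgroup.coe_pow] at he
    rw [Subgroup.coe_pow, ← pow_mul, show 36 * 7 = 7 * 36 from rfl, pow_mul, he, hpu.mul_pow,
      show (36 : ℕ) = 6 * 6 from rfl, pow_mul u, hu6, one_pow, one_mul, ← pow_mul,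
      show k * (6 * 6) = 3 * (k * 12) by ring, pow_mul, J.pi_pow_three, one_pow]
  obtain ⟨i, hi, hA⟩ := J.acts_of_proj D.model.coords D.model.om hcA (d := c ^ 36) (by
    rw [map_pow, hc, show (36 : ℕ) = 7 * 5 + 1 from rfl, pow_succ, pow_mul, hp7, one_pow, one_mul])
  have hsz := (mem_CZ.1 (c ^ 36).2).1
  generalize ((c ^ 36 : ↥(CZ z π)) : G) = t at hA hsz hs7 ⊢
  set B := sB i (wordB MS tenSW) with hB
  have e2 := D.model.coords.acts_mul J hA hsz hA (okB_comp hA.1 hA.1)
  have e3 := D.model.coords.acts_mul J hA hsz e2 (okB_comp hA.1 e2.1)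
  have e4 := D.model.coords.acts_mul J hA hsz e3 (okB_comp hA.1 e3.1)
  have e5 := D.model.coords.acts_mul J hA hsz e4 (okB_comp hA.1 e4.1)
  have e6 := D.model.coords.acts_mul J hA hsz e5 (okB_comp hA.1 e5.1)
  have e7 := D.model.coords.acts_mul J hA hsz e6 (okB_comp hA.1 e6.1)
  rw [show t * (t * (t * (t * (t * (t * t))))) = t ^ 7 by simp [pow_succ, mul_assoc], hs7] at e7
  have he' : sevB B = idB := by
    have hok : okB (sevB B) = true := e7.1
    have hlen : (sevB B).length = 12 := by simp only [okB, Bool.and_eq_true, beq_iff_eq] at hok; exact hok.1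
    refine List.ext_getElem (by rw [hlen]; rfl) fun j hj _ => ?_
    rw [hlen] at hj
    have e := D.model.coords.acts_eq J e7 (D.model.coords.acts_one J) (2 ^ j)
      (lt_of_lt_of_le (Nat.pow_lt_pow_right (by norm_num) hj) (by norm_num))
    rw [show comp B (comp B (comp B (comp B (comp B (comp B B))))) = sevB B from rfl,
      ap_pow, ap_pow, List.getD_eq_getElem _ _ (by omega : j < (sevB B).length),
      List.getD_eq_getElem _ _ (show j < idB.length from hj)] at e
    exact e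
  have h := List.all_eq_true.1 ten_sev_ok.2.2.2.2 i (List.mem_range.2 hi)
  rw [hB] at he' hA
  rw [Bool.or_eq_true, Bool.not_eq_true', beq_eq_false_iff_ne, beq_iff_eq] at h
  rwa [h.resolve_left fun e => e he'] at hA

/-- The image of the element of order seven normalizes the subgroup of order eight. -/
theorem seven_norm : (tenSW.map g).prod ∈ Subgroup.normalizer (tenK g : Set M) := by
  set p := (tenSW.map g).prod
  obtain ⟨h1, h2, h3⟩ := D.facts.shift
  have hmem : ∀ i < 3, ((tenW.getD i []).map g).prod ∈ tenK g := fun i hi =>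
    Subgroup.subset_closure ⟨_, by
      rw [List.getD_eq_getElem _ _ (show i < tenW.length from hi)]; exact List.getElem_mem _, rfl⟩
  have hle : (tenK g).map (MulAut.conj p).toMonoidHom ≤ tenK g := by
    rw [tenK, MonoidHom.map_closure, Subgroup.closure_le]
    rintro _ ⟨_, ⟨w, hw, rfl⟩, rfl⟩
    show p * (w.map g).prod * p⁻¹ ∈ tenK g
    obtain ⟨i, hi, rfl⟩ := List.getElem_of_mem hw
    have hi' : i < 3 := hi
    rw [← List.getD_eq_getElem _ [] hi]
    interval_cases i
    · rw [h1, mul_inv_cancel_right]; exact hmem 1 (by norm_num)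
    · rw [h2, mul_inv_cancel_right]; exact hmem 2 (by norm_num)
    · rw [h3, mul_inv_cancel_right]; exact mul_mem (hmem 0 (by norm_num)) (hmem 2 (by norm_num))
  have heq := Subgroup.eq_of_le_of_card_ge hle (by rw [Subgroup.card_map_of_injective (MulAut.conj p).injective])
  rw [Subgroup.mem_normalizer_iff]
  intro y
  conv_rhs => rw [← heq, Subgroup.mem_map_equiv, MulAut.conj_symm_apply]
  rw [show p⁻¹ * (p * y * p⁻¹) * p = y by group]

/-- Conjugation in `E` is governed by the form. -/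
theorem conj_vec {e x : G} {n m : ℕ} (hn : n < 4096) (hm : m < 4096) (he : Rel z e (vec n)) (hx : Rel z x (vec m)) :
    e * x * e⁻¹ = (if bb n m then z else 1) * x := by
  have heE : e ∈ E := J.rel_mem he (D.model.coords.mem n hn)
  have hxE : x ∈ E := J.rel_mem hx (D.model.coords.mem m hm)
  have hiff := D.std.full.comm_vec D.std.isV hn hm
  have hc : e * x = x * e ↔ vec n * vec m = vec m * vec n := by
    have a1 : ∀ {a : G}, a ∈ E → a * z = z * a := fun ha => J.s.z_comm ha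
    have key : ∀ {a b a' b' : G}, a' ∈ E → b' ∈ E → Rel z a a' → Rel z b b' → a' * b' = b' * a' → a * b = b * a := by
      intro a b a' b' ha hb h1 h2 h
      have c1 : Commute z a' := (a1 ha).symm
      have c2 : Commute z b' := (a1 hb).symm
      rcases h1 with k | k <;> rcases h2 with k' | k' <;> rw [k, k']
      · exact h
      · exact (c1.symm.mul_right h).eq
      · exact (c2.mul_left h).eq
      · exact (((Commute.refl z).mul_right c2).mul_left (c1.symm.mul_right h)).eq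
    exact ⟨key heE hxE (J.rel_symm he) (J.rel_symm hx), key (D.model.coords.mem n hn) (D.model.coords.mem m hm) he hx⟩
  cases hb : bb n m
  · rw [hc.2 (hiff.2 hb), mul_inv_cancel_right]; simp
  · rcases J.rel_conj_E heE hxE with k | k
    · exfalso
      have := hiff.1 (hc.1 (mul_inv_eq_iff_eq_mul.1 k))
      rw [hb] at this
      exact Bool.noConfusion this
    · simpa using k

/-- **The codes exist.** -/
theorem exists_base {A : Subgroup G} (hA : IsTen J g A) : ∃ el s, TenBase J g vec A el s := by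
  classical
  have F := D.small
  have V' := D.model.coords
  obtain ⟨s, hs7, hsp, hsA⟩ := D.exists_seven
  obtain ⟨U, hU, hUc, hUab, hUsq, hUπ, -⟩ := D.fix_data
  have hAE := D.inf_eq hA hU
  have hUA : U ≤ A := fun x hx => (hAE.ge hx).1
  have hsN := hA.mem_normalizer F (d := s) (hsp ▸ D.seven_norm)
  have hAc := hA.comm
  -- the commutator with `π` on the fixed space
  set φ := tenPhi π with hφ
  have hφA : ∀ a ∈ U, φ a ∈ U := fun a ha => mul_mem (hUπ a ha) (inv_mem ha)
  have hφmul : ∀ a ∈ U, ∀ b ∈ U, φ (a * b) = φ a * φ b := by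
    intro a ha b hb
    have h1 : (π * b * π⁻¹ * b⁻¹) * a⁻¹ = a⁻¹ * (π * b * π⁻¹ * b⁻¹) :=
      hUab _ (hφA b hb) _ (inv_mem ha)
    simp only [hφ, tenPhi]
    calc π * (a * b) * π⁻¹ * (a * b)⁻¹ = π * a * π⁻¹ * ((π * b * π⁻¹ * b⁻¹) * a⁻¹) := by group
      _ = _ := by rw [h1]; group
  have hφz : ∀ {a b : G}, b ∈ E → Rel z a b → φ a = φ b := by
    intro a b hb h
    rcases h with k | k <;> rw [k]
    have c1 : Commute z (π * b * π⁻¹ * b⁻¹) :=
      (J.s.z_comm (mul_mem (J.conjE J.piz hb) (inv_mem hb))).symm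
    have c2 : Commute z b⁻¹ := (J.s.z_comm (inv_mem hb)).symm
    simp only [hφ, tenPhi]
    calc π * (z * b) * π⁻¹ * (z * b)⁻¹ = (π * z) * b * π⁻¹ * (b⁻¹ * z⁻¹) := by group
      _ = z * (π * b * π⁻¹ * b⁻¹) * z⁻¹ := by rw [J.piz]; group
      _ = _ := by rw [c1.eq, mul_inv_cancel_right]
  have hφcj : ∀ {c : G}, c * π = π * c → ∀ a, c * φ a * c⁻¹ = φ (c * a * c⁻¹) := by
    intro c hc a
    simp only [hφ, tenPhi]
    calc c * (π * a * π⁻¹ * a⁻¹) * c⁻¹ = (c * π) * a * π⁻¹ * a⁻¹ * c⁻¹ := by group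
      _ = (π * c) * a * π⁻¹ * a⁻¹ * c⁻¹ := by rw [hc]
      _ = π * (c * a * c⁻¹) * (c * π⁻¹) * a⁻¹ * c⁻¹ := by group
      _ = π * (c * a * c⁻¹) * (π⁻¹ * c) * a⁻¹ * c⁻¹ := by rw [((show Commute c π from hc).inv_right).eq]
      _ = _ := by group
  -- the vectors
  have hV1 : ∀ k < 64, ap tenV k < 4096 ∧ fixP tenW (ap tenV k) = true ∧
      Nat.xor (ap gW0 (ap tenV k)) (ap tenV k) = ap tenB k := fun k hk => by
    have h := List.all_eq_true.1 ten_vec_ok.1 k (List.mem_range.2 hk)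
    simp only [Bool.and_eq_true, Nat.beq_eq] at h
    exact ⟨JFour.ap_lt (by decide) k, h.1, h.2⟩
  have hVU : ∀ k < 64, vec (ap tenV k) ∈ U := fun k hk => (hU.iff _ (hV1 k hk).1).2 (hV1 k hk).2.1
  have hB1 : ∀ k, ap tenB k < 4096 := fun k => JFour.ap_lt (by decide) k
  have hφrel : ∀ k < 64, Rel z (φ (vec (ap tenV k))) (vec (ap tenB k)) := by
    intro k hk
    obtain ⟨h1, -, h3⟩ := hV1 k hk
    have hvE : vec (ap tenV k) ∈ E := V'.mem _ h1
    rw [← h3]
    refine J.rel_trans ?_ (J.rel_symm (V'.add _ _ (okB_lt (by decide) _) h1))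
    exact J.rel_mul (J.s.z_comm (V'.mem _ (okB_lt (by decide) _))) (D.model.om.2 _ h1) (J.rel_inv hvE)
  set f : ℕ → G := fun k => φ (vec (ap tenV k)) with hf
  have hfmul : ∀ a b, a < 64 → b < 64 → f (a ^^^ b) = f a * f b := by
    intro a b ha hb
    simp only [hf, ap_xor]
    rw [← hφmul _ (hVU a ha) _ (hVU b hb)]
    exact hφz (E.mul_mem (hU.le (hVU a ha)) (hU.le (hVU b hb)))
      (V'.add _ _ (hV1 a ha).1 (hV1 b hb).1)
  have hfU : ∀ k < 64, f k ∈ U := fun k hk => hφA _ (hVU k hk)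
  have hfrel : ∀ k < 64, Rel z (f k) (vec (ap tenB k)) := hφrel
  have hfπ : ∀ k < 64, f k * (π * f k * π⁻¹) * (π⁻¹ * f k * π) = 1 := by
    intro k hk
    simp only [hf, hφ, tenPhi]
    set a := vec (ap tenV k) with ha
    have haU := hVU k hk
    rw [← ha] at haU
    have h1 : Commute (π * a * π⁻¹) a⁻¹ := hUab _ (hUπ a haU) _ (inv_mem haU)
    have h3 : π⁻¹ * a * π ∈ U := by
      have := hUπ _ (hUπ a haU)
      rwa [show π * (π * a * π⁻¹) * π⁻¹ = π * π * a * (π * π)⁻¹ by group, ← J.pi_inv, inv_inv] at this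
    have h2 : π * π = π⁻¹ := J.pi_inv.symm
    have h4 : Commute (a⁻¹) (π⁻¹ * a * π) := hUab _ (inv_mem haU) _ h3
    have h5 : π * (π * a * π⁻¹ * a⁻¹) * π⁻¹ = π⁻¹ * a * π * (π * a * π⁻¹)⁻¹ := by
      calc π * (π * a * π⁻¹ * a⁻¹) * π⁻¹ = (π * π) * a * (π * π)⁻¹ * (π * a * π⁻¹)⁻¹ := by group
        _ = _ := by rw [h2, inv_inv]
    rw [h5]
    calc π * a * π⁻¹ * a⁻¹ * (π⁻¹ * a * π * (π * a * π⁻¹)⁻¹) * (π⁻¹ * (π * a * π⁻¹ * a⁻¹) * π)
        = π * a * π⁻¹ * (a⁻¹ * (π⁻¹ * a * π)) * (π * a * π⁻¹)⁻¹ * a * (π⁻¹ * a * π)⁻¹ := by group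
      _ = π * a * π⁻¹ * ((π⁻¹ * a * π) * a⁻¹) * (π * a * π⁻¹)⁻¹ * a * (π⁻¹ * a * π)⁻¹ := by rw [h4.eq]
      _ = 1 := by
        have h6 : Commute (π * a * π⁻¹) ((π⁻¹ * a * π) * a⁻¹) :=
          (show Commute _ _ from hUab _ (hUπ a haU) _ h3).mul_right h1
        rw [h6.eq, mul_inv_cancel_right]
        group
  -- the three lifts
  have hw : ∀ i < 3, tenW.getD i [] ∈ tenW := fun i hi => by
    rw [List.getD_eq_getElem _ _ (show i < tenW.length from hi)]; exact List.getElem_mem _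
  have hwK : ∀ i < 3, ((tenW.getD i []).map g).prod ∈ tenK g := fun i hi =>
    Subgroup.subset_closure ⟨_, hw i hi, rfl⟩
  have hsz := (mem_CZ.1 s.2).1
  obtain ⟨h01, h12, h20⟩ := D.facts.shift
  rw [← hsp] at h01 h12 h20
  obtain ⟨c, hcp, hc2⟩ := J.exists_lift_invol F (D.facts.sq _ (List.mem_append_left _ (hw 0 (by norm_num))))
  obtain ⟨t, ht2, htp, htr⟩ : ∃ t : ↥(CZ z π), (t : G) * t = 1 ∧ J.proj t = ((tenW.getD 0 []).map g).prod ∧
      (s : G) * (s * (s * t * s⁻¹) * s⁻¹) * (s : G)⁻¹ = (t : G) * (s * (s * t * s⁻¹) * s⁻¹) := by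
    have hcj : ∀ {x : ↥(CZ z π)}, (x : G) * x = 1 →
        ((s * x * s⁻¹ : ↥(CZ z π)) : G) * (s * x * s⁻¹ : ↥(CZ z π)) = 1 := fun {x} hx => by
      simp only [Subgroup.coe_mul, InvMemClass.coe_inv]
      calc (s : G) * x * (s : G)⁻¹ * (s * x * (s : G)⁻¹) = s * ((x : G) * x) * (s : G)⁻¹ := by group
        _ = 1 := by rw [hx]; group
    set c1 := s * c * s⁻¹ with hc1
    set c2 := s * c1 * s⁻¹ with hc2'
    have p1 : J.proj c1 = ((tenW.getD 1 []).map g).prod := by
      rw [hc1, map_mul, map_mul, map_inv, hcp, h01, mul_inv_cancel_right]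
    have p2 : J.proj c2 = ((tenW.getD 2 []).map g).prod := by
      rw [hc2', map_mul, map_mul, map_inv, p1, h12, mul_inv_cancel_right]
    have p3 : J.proj (s * c2 * s⁻¹) = J.proj (c * c2) := by
      rw [map_mul, map_mul, map_inv, p2, h20, mul_inv_cancel_right, map_mul, hcp, p2]
    have e12 := hcj (hcj hc2)
    rw [← hc1, ← hc2'] at e12
    have hcomm : (c : G) * c2 = c2 * c := D.lifts_comm hc2 e12 (by
      rw [hcp, p2]; exact D.facts.comm _ (hw 0 (by norm_num)) _ (hw 2 (by norm_num)))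
    have e02 : ((c * c2 : ↥(CZ z π)) : G) * (c * c2 : ↥(CZ z π)) = 1 := by
      simp only [Subgroup.coe_mul]
      calc (c : G) * c2 * (c * c2) = c * ((c2 : G) * c) * c2 := by group
        _ = (c : G) * c * ((c2 : G) * c2) := by rw [← hcomm]; group
        _ = 1 := by rw [hc2, e12, one_mul]
    rcases J.lift_unique e02 (hcj e12) p3 with k | k
    · refine ⟨c, hc2, hcp, ?_⟩
      simpa only [hc1, hc2', Subgroup.coe_mul, InvMemClass.coe_inv, mul_assoc] using k
    · refine ⟨⟨z, J.z_mem_CZ⟩ * c, ?_, by rw [map_mul, J.proj_z, one_mul, hcp], ?_⟩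
      · show z * (c : G) * (z * c) = 1
        rw [show z * (c : G) * (z * c) = z * ((c : G) * z) * c by group, (mem_CZ.1 c.2).1, ← mul_assoc z, J.zz,
          one_mul, hc2]
      · have hzs : Commute z (s : G) := hsz.symm
        have hz1 : ∀ x : G, (s : G) * (z * x) * (s : G)⁻¹ = z * (s * x * (s : G)⁻¹) := fun x => by
          calc (s : G) * (z * x) * (s : G)⁻¹ = (s * z) * x * (s : G)⁻¹ := by group
            _ = _ := by rw [hzs.eq.symm]; group
        show (s : G) * (s * (s * (z * c) * (s : G)⁻¹) * (s : G)⁻¹) * (s : G)⁻¹ =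
          z * c * (s * (s * (z * c) * (s : G)⁻¹) * (s : G)⁻¹)
        rw [hz1, hz1, hz1]
        simp only [hc1, hc2', Subgroup.coe_mul, InvMemClass.coe_inv] at k
        have hzc : Commute z (c : G) := (mem_CZ.1 c.2).1.symm
        rw [mul_assoc z (c : G), ← mul_assoc (c : G), ← hzc.eq, mul_assoc z (c : G), ← mul_assoc z z,
          J.zz, one_mul, k, ← mul_assoc z z, J.zz, one_mul]
  -- the elements
  set t1 : ↥(CZ z π) := s * t * s⁻¹ with ht1
  set t2 : ↥(CZ z π) := s * t1 * s⁻¹ with ht2'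
  have e1 : (t1 : G) * t1 = 1 := by
    simp only [ht1, Subgroup.coe_mul, InvMemClass.coe_inv]
    calc (s : G) * t * (s : G)⁻¹ * (s * t * (s : G)⁻¹) = s * ((t : G) * t) * (s : G)⁻¹ := by group
      _ = 1 := by rw [ht2]; group
  have e2 : (t2 : G) * t2 = 1 := by
    simp only [ht2', Subgroup.coe_mul, InvMemClass.coe_inv]
    calc (s : G) * t1 * (s : G)⁻¹ * (s * t1 * (s : G)⁻¹) = s * ((t1 : G) * t1) * (s : G)⁻¹ := by group
      _ = 1 := by rw [e1]; group
  have q1 : J.proj t1 = ((tenW.getD 1 []).map g).prod := by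
    rw [ht1, map_mul, map_mul, map_inv, htp, h01, mul_inv_cancel_right]
  have q2 : J.proj t2 = ((tenW.getD 2 []).map g).prod := by
    rw [ht2', map_mul, map_mul, map_inv, q1, h12, mul_inv_cancel_right]
  have htA : (t : G) ∈ A := hA.lift t ht2 (htp ▸ hwK 0 (by norm_num))
  have ht1A : (t1 : G) ∈ A := hA.lift t1 e1 (q1 ▸ hwK 1 (by norm_num))
  have ht2A : (t2 : G) ∈ A := hA.lift t2 e2 (q2 ▸ hwK 2 (by norm_num))
  set L : List G := [z, f 1, f 2, f 4, f 8, f 16, f 32, (t : G), (t1 : G), (t2 : G)] with hL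
  have hLA : ∀ a ∈ L, a ∈ A := by
    simp only [hL, List.mem_cons, List.not_mem_nil, or_false, forall_eq_or_imp, forall_eq]
    exact ⟨hA.z_mem, hUA (hfU 1 (by norm_num)), hUA (hfU 2 (by norm_num)), hUA (hfU 4 (by norm_num)),
      hUA (hfU 8 (by norm_num)), hUA (hfU 16 (by norm_num)), hUA (hfU 32 (by norm_num)), htA, ht1A, ht2A⟩
  set el : ℕ → G := vlist L with hel
  have hadd : ∀ x y, el (x ^^^ y) = el x * el y :=
    vlist_xor_exact (fun a ha => hA.sq a (hLA a ha)) fun a ha b hb => hAc a (hLA a ha) b (hLA b hb)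
  have hmem : ∀ x, el x ∈ A := vlist_mem hLA
  have hp : el 1 = z ∧ el 2 = f 1 ∧ el 4 = f 2 ∧ el 8 = f 4 ∧ el 16 = f 8 ∧ el 32 = f 16 ∧ el 64 = f 32 ∧
      el 128 = (t : G) ∧ el 256 = (t1 : G) ∧ el 512 = (t2 : G) := by
    simp [hel, hL, vlist]
  obtain ⟨p0, p1, p2, p3, p4, p5, p6, p7, p8, p9⟩ := hp
  have hlow : ∀ k < 2 ^ 6, el (2 * k) = f k := by
    refine xor_ext (f := fun k => el (2 * k)) 6 (fun a b _ _ => by simp only [two_mul_xor, hadd])
      (fun a b ha hb => hfmul a b ha hb) fun i hi => ?_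
    interval_cases i <;> norm_num <;> assumption
  have hbit : ∀ (b : Bool) (k : ℕ), el (tenBit b + 2 * k) = (if b then z else 1) * el (2 * k) := by
    intro b k
    cases b
    · simp [tenBit]
    · rw [bit_add, hadd]
      simp [tenBit, p0]
  have hmk : ∀ {n : G}, n * z = z * n → ∀ q < 14,
      (∀ j < 10, n * el (2 ^ j) * n⁻¹ = el ((tenMaps.getD q []).getD j 0)) →
      ∀ x < 2 ^ 10, n * el x * n⁻¹ = el (ap (tenMaps.getD q []) x) := by
    intro n _ q hq hj
    refine xor_ext (f := fun x => n * el x * n⁻¹) 10 (fun a b _ _ => by simp only [hadd]; group)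
      (fun a b _ _ => by simp only [ap_xor, hadd]) fun j hj' => ?_
    rw [hj j hj', ap_pow]
  have hsurj : ∀ a ∈ A, ∃ x, x < 1024 ∧ el x = a := by
    let R : Subgroup G :=
      { carrier := {a | ∃ x, x < 1024 ∧ el x = a}
        one_mem' := ⟨0, by norm_num, by simp [hel, hL, vlist]⟩
        mul_mem' := by
          rintro _ _ ⟨x, hx, rfl⟩ ⟨y, hy, rfl⟩
          exact ⟨x ^^^ y, Nat.xor_lt_two_pow (n := 10) hx hy, hadd x y⟩
        inv_mem' := by
          rintro _ ⟨x, hx, rfl⟩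
          exact ⟨x, hx, (inv_eq_of_mul_eq_one_right (hA.sq _ (hmem x))).symm⟩ }
    have hzR : z ∈ R := ⟨1, by norm_num, p0⟩
    have hUR : U ≤ R := by
      intro x hx
      obtain ⟨n, hn, hr, hiff⟩ := J.vec_mem V' (A := U) hU.z_mem (hU.le hx)
      have h := List.all_eq_true.1 ten_vec_ok.2.1 n
        (List.mem_filter.2 ⟨List.mem_range.2 hn, (hU.iff n hn).1 (hiff.1 hx)⟩)
      rw [Nat.beq_eq] at h
      have hk : tenFind tenB n < 64 := by
        rw [tenFind]
        cases hf' : (List.range 64).find? fun k => Nat.beq (ap tenB k) n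
        · norm_num
        · exact List.mem_range.1 (List.mem_of_find?_eq_some hf')
      have h2 := hfrel _ hk
      rw [h] at h2
      have hmR : f (tenFind tenB n) ∈ R := ⟨2 * tenFind tenB n, by omega, hlow _ hk⟩
      exact (J.mem_vec_iff hzR (J.rel_trans hr (J.rel_symm h2))).2 hmR
    set T : Subgroup M := (R.subgroupOf (CZ z π)).map J.proj with hT
    have hKT : tenK g ≤ T := by
      refine (Subgroup.closure_le _).2 ?_
      rintro _ ⟨w, hw', rfl⟩
      obtain ⟨i, hi, rfl⟩ := List.getElem_of_mem hw'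
      have hi' : i < 3 := hi
      rw [← List.getD_eq_getElem _ [] hi]
      interval_cases i
      · exact ⟨t, ⟨128, by norm_num, p7⟩, htp⟩
      · exact ⟨t1, ⟨256, by norm_num, p8⟩, q1⟩
      · exact ⟨t2, ⟨512, by norm_num, p9⟩, q2⟩
    intro a ha
    obtain ⟨c', hcE, hcA', hc'2, -, hc'K⟩ := hA.split F ha
    obtain ⟨d, hd, hdp⟩ := hKT hc'K
    have hdR : (d : G) ∈ R := hd
    obtain ⟨x, hx, hxe⟩ := hdR
    have hd2 : (d : G) * d = 1 := hxe ▸ hA.sq _ (hmem x)
    have hc'R : (c' : G) ∈ R := by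
      rcases J.lift_unique hd2 hc'2 hdp.symm with k | k <;> rw [k]
      exacts [⟨x, hx, hxe⟩, mul_mem hzR ⟨x, hx, hxe⟩]
    have := mul_mem (hUR (hAE.le ⟨hcA', hcE⟩)) hc'R
    rwa [inv_mul_cancel_right] at this
  have hinj : ∀ x y, x < 1024 → y < 1024 → el x = el y → x = y := by
    intro x y hx hy h
    letI := Fintype.ofFinite ↥A
    let F' : Fin 1024 → ↥A := fun i => ⟨el i, hmem i⟩
    have hs' : Function.Surjective F' := fun a => by
      obtain ⟨x, hx, he⟩ := hsurj a a.2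
      exact ⟨⟨x, hx⟩, Subtype.ext he⟩
    have hb := (Fintype.bijective_iff_surjective_and_card F').2 ⟨hs', by
      rw [Fintype.card_fin, ← Nat.card_eq_fintype_card, hA.card]; norm_num⟩
    exact congrArg Fin.val (hb.1 (a₁ := ⟨x, hx⟩) (a₂ := ⟨y, hy⟩) (Subtype.ext h))
  have hnorm : ∀ {n : G}, n * z = z * n → ∀ q < 14,
      (∀ j < 10, n * el (2 ^ j) * n⁻¹ = el ((tenMaps.getD q []).getD j 0)) →
      n ∈ Subgroup.normalizer (A : Set G) ∧ n * z = z * n ∧
        ∀ x < 1024, n * el x * n⁻¹ = el (ap (tenMaps.getD q []) x) := by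
    intro n hnz q hq hj
    have hall := hmk hnz q hq hj
    refine ⟨?_, hnz, hall⟩
    have hle : A.map (MulAut.conj n).toMonoidHom ≤ A := by
      rintro _ ⟨a, ha, rfl⟩
      obtain ⟨x, hx, rfl⟩ := hsurj a ha
      show n * el x * n⁻¹ ∈ A
      rw [hall x hx]
      exact hmem _
    have heq := Subgroup.eq_of_le_of_card_ge hle (by rw [Subgroup.card_map_of_injective (MulAut.conj n).injective])
    rw [Subgroup.mem_normalizer_iff]
    intro y
    conv_rhs => rw [← heq, Subgroup.mem_map_equiv, MulAut.conj_symm_apply]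
    rw [show n⁻¹ * (n * y * n⁻¹) * n = y by group]
  have htt : ∀ k < 3, el (2 ^ (7 + k)) = ((if k = 0 then t else if k = 1 then t1 else t2 : ↥(CZ z π)) : G) := by
    intro k hk
    interval_cases k <;> norm_num <;> assumption
  have hone : el (2 ^ 0) = z := p0
  have hub : ∀ b < 6, el (2 ^ (1 + b)) = f (2 ^ b) := fun b hb => by
    rw [pow_add, pow_one]; exact hlow _ (two_pow_lt hb)
  have hfind : ∀ {L' : List ℕ} (v : ℕ), tenFind L' v < 64 := fun {L'} v => by
    rw [tenFind]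
    cases hf' : (List.range 64).find? fun k => Nat.beq (ap L' k) v
    · norm_num
    · exact List.mem_range.1 (List.mem_of_find?_eq_some hf')
  have hcjφ : ∀ {c : ↥(CZ z π)} {B : List ℕ}, Acts z vec (c : G) B → ∀ b < 6,
      ap tenV (tenFind tenV (ap B (tenV.getD b 0))) = ap B (tenV.getD b 0) →
      (c : G) * el (2 ^ (1 + b)) * (c : G)⁻¹ = el (2 * tenFind tenV (ap B (tenV.getD b 0))) := by
    intro c B hcB b hb hv
    rw [hub b hb, hlow _ (hfind _)]
    simp only [hf]
    rw [hφcj (mem_CZ.1 c.2).2, hv, ap_pow]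
    refine hφz (V'.mem _ (okB_lt hcB.1 _)) (hcB.2 _ ?_)
    have := (hV1 (2 ^ b) (two_pow_lt hb)).1
    rwa [ap_pow] at this
  have hE : ∀ i < 12, ∀ j < 10, vec (2 ^ i) * el (2 ^ j) * (vec (2 ^ i))⁻¹ = el ((tenMaps.getD i []).getD j 0) := by
    intro i hi j hj
    have h := List.all_eq_true.1 ten_maps_ok.2.2 i (List.mem_range.2 hi)
    simp only [Bool.and_eq_true, List.all_eq_true, List.mem_range, Nat.beq_eq] at h
    obtain ⟨⟨h0, hb⟩, hk⟩ := h
    set e := vec (2 ^ i) with he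
    have hi' : 2 ^ i < 4096 := two_pow_lt (n := 12) hi
    have heE : e ∈ E := V'.mem _ hi'
    rcases Nat.lt_or_ge j 7 with hj7 | hj7
    · rcases Nat.eq_zero_or_pos j with rfl | hj0
      · rw [h0, hone, p0, J.s.z_comm heE, mul_inv_cancel_right]
      obtain ⟨b, hb6, rfl⟩ : ∃ b, b < 6 ∧ j = 1 + b := ⟨j - 1, by omega, by omega⟩
      rw [hb b hb6, show 2 ^ (1 + b) = 2 * 2 ^ b by rw [pow_add, pow_one], hbit,
        hlow _ (two_pow_lt hb6)]
      have hr := hfrel (2 ^ b) (two_pow_lt hb6)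
      rw [ap_pow] at hr
      exact D.conj_vec hi' (ap_pow tenB b ▸ hB1 _) (J.rel_refl e) hr
    obtain ⟨k, hk3, rfl⟩ : ∃ k, k < 3 ∧ j = 7 + k := ⟨j - 7, by omega, by omega⟩
    obtain ⟨hd, hcol⟩ := hk k hk3
    set d := tenDisp k i with hddef
    set kk := tenFind tenB d with hkk
    have hkk64 : kk < 64 := hfind _
    rw [hcol, add_two_pow (lt_of_lt_of_le (b := 128) (by unfold tenBit; split <;> omega)
      (show 2 ^ 7 ≤ 2 ^ (7 + k) from Nat.pow_le_pow_right (by norm_num) (Nat.le_add_right 7 k))), hadd, hbit, hlow kk hkk64, htt k hk3]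
    set τ : ↥(CZ z π) := if k = 0 then t else if k = 1 then t1 else t2 with hτ
    have hτp : J.proj τ = ((tenW.getD k []).map g).prod ∧ (τ : G) * τ = 1 := by
      rw [hτ]
      interval_cases k
      · exact ⟨htp, ht2⟩
      · exact ⟨q1, e1⟩
      · exact ⟨q2, e2⟩
    obtain ⟨hτz, hτπ⟩ := mem_CZ.1 τ.2
    set B := wB (tenW.getD k []) with hBdef
    have hτB : Acts z vec (τ : G) B := acts_ten D.model F (tenW_words (List.mem_append_left _ (hw k hk3)))
      (c := τ) (by rw [mul_inv_cancel]; exact one_mem E) (by rw [hτp.2]; exact one_mem E) hτp.1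
    -- the commutator
    set y := e * τ * e⁻¹ * (τ : G)⁻¹ with hy
    have hye : e * τ * e⁻¹ = y * τ := by rw [hy]; group
    have hte : (τ : G) * e⁻¹ * (τ : G)⁻¹ ∈ E := J.conjE hτz (inv_mem heE)
    have hyE : y ∈ E := by
      rw [hy, show e * τ * e⁻¹ * (τ : G)⁻¹ = e * ((τ : G) * e⁻¹ * (τ : G)⁻¹) by group]
      exact mul_mem heE hte
    set u := f kk with hu
    have hud : Rel z u (vec d) := by
      have := hfrel kk hkk64
      rwa [hd] at this
    have hyr : Rel z y u := by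
      refine J.rel_trans ?_ (J.rel_symm hud)
      have hBn : ap B (2 ^ i) < 4096 := okB_lt hτB.1 _
      rw [show d = Nat.xor (ap B (2 ^ i)) (2 ^ i) from rfl,
        show Nat.xor (ap B (2 ^ i)) (2 ^ i) = Nat.xor (2 ^ i) (ap B (2 ^ i)) from Nat.xor_comm _ _]
      refine J.rel_trans ?_ (J.rel_symm (V'.add _ _ hi' hBn))
      rw [hy, show e * τ * e⁻¹ * (τ : G)⁻¹ = e * ((τ : G) * e⁻¹ * (τ : G)⁻¹) by group]
      exact J.rel_mul (J.s.z_comm heE) (J.rel_refl e)
        (J.rel_trans (J.rel_conj hτz (J.rel_inv heE)) (hτB.2 _ hi'))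
    have huU : u ∈ U := hfU kk hkk64
    set u' := π * u * π⁻¹ with hu'
    set u'' := π⁻¹ * u * π with hu''
    have hu3 : u'' = u' * u := by
      have h := hfπ kk hkk64
      rw [← hu, ← hu', ← hu''] at h
      have h1 : u * u = 1 := hUsq u huU
      have h2 : u' * u' = 1 := hUsq u' (hUπ u huU)
      rw [eq_inv_of_mul_eq_one_right h, mul_inv_rev, inv_eq_of_mul_eq_one_right h1, inv_eq_of_mul_eq_one_right h2]
    set cb := bb (2 ^ i) (ap gW0 d) with hcb
    have hconj : e * u' * e⁻¹ = (if cb then z else 1) * u' := by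
      have hdlt : d < 4096 := hd ▸ hB1 _
      exact D.conj_vec hi' (okB_lt (by decide) _) (J.rel_refl e)
        (J.rel_trans (J.rel_conj J.piz hud) (D.model.om.2 d hdlt))
    have hkey : π⁻¹ * y * π = e * (π * y * π⁻¹) * e⁻¹ * y := by
      set e' := π * e * π⁻¹ with he'
      have hzτ : Commute z (τ : G) := hτz.symm
      have hrel : Rel z (π⁻¹ * e * π) (e * e')⁻¹ := by
        have h := J.prod_three heE
        rw [← he'] at h
        have hee : e * e' ∈ E := mul_mem heE (J.conjE J.piz heE)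
        have := J.rel_mul (b := (e * e')⁻¹) (J.s.z_comm (inv_mem hee)) (J.rel_refl (e * e')⁻¹) h
        rwa [inv_mul_cancel_left, mul_one] at this
      have hcj : ∀ {a b : G}, b ∈ E → Rel z a b → a * τ * a⁻¹ * (τ : G)⁻¹ = b * τ * b⁻¹ * (τ : G)⁻¹ := by
        intro a b hb h
        rcases h with k' | k' <;> rw [k']
        have hbz : Commute z b := (J.s.z_comm hb).symm
        have hall : Commute z (b * τ * b⁻¹) := (hbz.mul_right hzτ).mul_right hbz.inv_right
        rw [show z * b * τ * (z * b)⁻¹ = z * (b * τ * b⁻¹) * z⁻¹ by group, hall.eq, mul_inv_cancel_right]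
      have hπy : π * y * π⁻¹ = e' * τ * e'⁻¹ * (τ : G)⁻¹ := by
        have hc : π * (τ : G) * π⁻¹ = τ := by rw [← hτπ, mul_inv_cancel_right]
        rw [hy, he']
        calc π * (e * τ * e⁻¹ * (τ : G)⁻¹) * π⁻¹ =
            π * e * π⁻¹ * (π * τ * π⁻¹) * (π * e * π⁻¹)⁻¹ * (π * τ * π⁻¹)⁻¹ := by group
          _ = _ := by rw [hc]
      have hπy' : π⁻¹ * y * π = π⁻¹ * e * π * τ * (π⁻¹ * e * π)⁻¹ * (τ : G)⁻¹ := by
        have hc : π⁻¹ * (τ : G) * π = τ := by rw [mul_assoc, hτπ, inv_mul_cancel_left]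
        rw [hy]
        calc π⁻¹ * (e * τ * e⁻¹ * (τ : G)⁻¹) * π =
            π⁻¹ * e * π * (π⁻¹ * τ * π) * (π⁻¹ * e * π)⁻¹ * (π⁻¹ * τ * π)⁻¹ := by group
          _ = _ := by rw [hc]
      rw [hπy', hcj (mul_mem heE (J.conjE J.piz heE)) (J.rel_trans hrel (J.rel_inv (mul_mem heE (J.conjE J.piz heE)))), hπy, hy]
      simp only [he']
      group
    have hfin : y = (if cb then z else 1) * u := by
      have hzu' : Commute z u' := (J.s.z_comm (hU.le (hUπ u huU))).symm
      rcases hyr with k' | k' <;> rw [k'] at hkey ⊢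
      · rw [← hu', ← hu'', hconj, hu3] at hkey
        cases hcb' : cb
        · simp
        · exfalso
          rw [hcb', if_pos rfl] at hkey
          exact J.z_ne (mul_eq_right.1 (show z * (u' * u) = u' * u by rw [← mul_assoc]; exact hkey.symm))
      · have hπz : ∀ a : G, π * (z * a) * π⁻¹ = z * (π * a * π⁻¹) := fun a => by
          rw [← mul_assoc π, J.piz]; group
        have hπz' : π⁻¹ * (z * u) * π = z * u'' := by
          rw [← mul_assoc π⁻¹, (Commute.inv_left (show Commute π z from J.piz)).eq, hu'']; group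
        have hez : e * (z * u') * e⁻¹ = z * (e * u' * e⁻¹) := by
          rw [← mul_assoc e, J.s.z_comm heE]; group
        rw [hπz', hπz, ← hu', hez, hconj, hu3] at hkey
        cases hcb' : cb
        · exfalso
          rw [hcb', if_neg (by simp), one_mul, show z * u' * (z * u) = z * (u' * z) * u by group, ← hzu'.eq,
            ← mul_assoc z z, J.zz, one_mul] at hkey
          exact J.z_ne (mul_eq_right.1 hkey)
        · simp
    rw [hye, hfin]
  have hπ' : ∀ j < 10, π * el (2 ^ j) * π⁻¹ = el ((tenMaps.getD 12 []).getD j 0) := by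
    intro j hj
    by_cases hj7 : 1 ≤ j ∧ j < 7
    · obtain ⟨b, hb6, rfl⟩ : ∃ b, b < 6 ∧ j = 1 + b := ⟨j - 1, by omega, by omega⟩
      have h := List.all_eq_true.1 ten_maps_pi.2 b (List.mem_range.2 hb6)
      simp only [Bool.and_eq_true, Nat.beq_eq] at h
      rw [h.2]
      exact hcjφ (c := ⟨π, J.pi_mem_CZ⟩) D.model.om b hb6 h.1
    · have h := List.all_eq_true.1 ten_maps_pi.1 j (List.mem_range.2 hj)
      simp only [Bool.or_eq_true, decide_eq_true_eq, hj7, false_or, Nat.beq_eq] at h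
      rw [h]
      rcases Nat.eq_zero_or_pos j with rfl | hj0
      · rw [hone, J.piz, mul_inv_cancel_right]
      obtain ⟨k, hk3, rfl⟩ : ∃ k, k < 3 ∧ j = 7 + k := ⟨j - 7, by omega, by omega⟩
      rw [htt k hk3, ← (mem_CZ.1 (if k = 0 then t else if k = 1 then t1 else t2 : ↥(CZ z π)).2).2,
        mul_inv_cancel_right]
  have hs' : ∀ j < 10, (s : G) * el (2 ^ j) * (s : G)⁻¹ = el ((tenMaps.getD 13 []).getD j 0) := by
    have h0 := ten_maps_seven.1
    simp only [Bool.and_eq_true, Nat.beq_eq] at h0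
    obtain ⟨⟨⟨h0, h7⟩, h8⟩, h9⟩ := h0
    intro j hj
    by_cases hj7 : 1 ≤ j ∧ j < 7
    · obtain ⟨b, hb6, rfl⟩ : ∃ b, b < 6 ∧ j = 1 + b := ⟨j - 1, by omega, by omega⟩
      have h := List.all_eq_true.1 ten_maps_seven.2 b (List.mem_range.2 hb6)
      simp only [Bool.and_eq_true, Nat.beq_eq] at h
      rw [h.2]
      exact hcjφ hsA b hb6 h.1
    · have hj' : j = 0 ∨ j = 7 ∨ j = 8 ∨ j = 9 := by omega
      rcases hj' with rfl | rfl | rfl | rfl
      · rw [h0, hone, hsz, mul_inv_cancel_right, p0]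
      · rw [h7, show (2 : ℕ) ^ 7 = 128 from rfl, p7, p8, ht1]; rfl
      · rw [h8, show (2 : ℕ) ^ 8 = 256 from rfl, p8, p9, ht2']; rfl
      · rw [h9, show (2 : ℕ) ^ 9 = 512 from rfl, p9, show (640 : ℕ) = 128 ^^^ 512 from rfl, hadd, p7, p9]
        exact htr
  have htop : J.proj t ≠ 1 := by
    intro h
    have ht0 : (t : G) = 1 ∨ (t : G) = z := J.small_of_proj_one h (Or.inl ht2)
    rcases ht0 with k | k
    · exact absurd (hinj 128 0 (by norm_num) (by norm_num) (by rw [p7, k]; simp [hel, hL, vlist])) (by norm_num)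
    · exact absurd (hinj 128 1 (by norm_num) (by norm_num) (by rw [p7, k, p0])) (by norm_num)
  refine ⟨el, s, hmem, fun x y _ _ => hadd x y, hsurj, hinj, p0, fun k hk => ?_, ⟨t, ht2, htop, p7⟩,
    ⟨hs7, hsp, hsA⟩, fun q hq => ?_, fun i hi =>
      (hnorm (J.s.z_comm (V'.mem _ (two_pow_lt (n := 12) hi))) i (by omega) (hE i hi)).1⟩
  · rw [hlow k hk]; exact hfrel k hk
  rcases Nat.lt_or_ge q 12 with hq' | hq'
  · exact ⟨_, hnorm (J.s.z_comm (V'.mem _ (two_pow_lt (n := 12) hq'))) q hq (hE q hq')⟩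
  · obtain rfl | rfl : q = 12 ∨ q = 13 := by omega
    exacts [⟨π, hnorm J.piz 12 hq hπ'⟩, ⟨(s : G), hnorm hsz 13 hq hs'⟩]

end TenCtx

end CfsgLib.JFourLocal
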