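import Cfsg.Agent.Lib.JFour.HexM
import Cfsg.Agent.Lib.JFourLocal.TenChecks
import Cfsg.Agent.Lib.Golay.Systems.M22Centralizer

/-!
# The elementary subgroup of order eight under the subgroup of order `2 ^ 10`

The elementary subgroups of order eight of the group on 22 points up to conjugation, and the
centralizer, the normalizer and an outer automorphism for the one lying under the subgroup of order
`2 ^ 10`.
-/

set_option autoImplicit false
set_option maxRecDepth 100000
set_option linter.style.haveILetI false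
set_option linter.unusedSectionVars false

open Cfsg

namespace CfsgLib.JFourLocal

variable {M : Type*} [Group M]

/-- The subgroup of order eight generated by the three words. -/
def tenK (g : ℕ → M) : Subgroup M := Subgroup.closure {x | ∃ w ∈ tenW, x = (w.map g).prod}

/-- The kinds of elementary subgroups of order eight. -/
def tenKinds : List (List (List ℕ)) := (tenLow ++ tenSub).map Prod.snd ++ [tenW]

/-- The facts used on the subgroup of order eight. -/
structure TenFacts (M : Type*) [Group M] (g : ℕ → M) : Prop where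
  sq : ∀ w ∈ tenW ++ [tenIW, tenJW], (w.map g).prod * (w.map g).prod = 1
  comm : ∀ v ∈ tenW, ∀ w ∈ tenW, (v.map g).prod * (w.map g).prod = (w.map g).prod * (v.map g).prod
  card : Nat.card (tenK g) = 8
  eight : ∀ A : Subgroup M, Nat.card A = 8 → (∀ a ∈ A, a * a = 1) → ∃ m : M, ∃ W ∈ tenKinds,
    A = Subgroup.closure {x | ∃ w ∈ W, x = m * (w.map g).prod * m⁻¹}
  sub : ∀ t ∈ tenSub, ∀ w ∈ t.2, (w.map g).prod ∈ JFour.hexK g
  cent : ∀ y : M, (∀ x ∈ tenK g, y * x = x * y) → y ∈ tenK g
  norm : 1344 ∣ Nat.card ↥(Subgroup.normalizer (tenK g : Set M))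
  norm2 : ∀ w ∈ [tenIW, tenJW], (w.map g).prod ∈ Subgroup.normalizer (tenK g : Set M)
  seven : orderOf (tenSW.map g).prod = 7
  shift : (tenSW.map g).prod * ((tenW.getD 0 []).map g).prod =
      ((tenW.getD 1 []).map g).prod * (tenSW.map g).prod ∧
    (tenSW.map g).prod * ((tenW.getD 1 []).map g).prod =
      ((tenW.getD 2 []).map g).prod * (tenSW.map g).prod ∧
    (tenSW.map g).prod * ((tenW.getD 2 []).map g).prod =
      ((tenW.getD 0 []).map g).prod * ((tenW.getD 2 []).map g).prod * (tenSW.map g).prod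
  four : ((tenIW ++ tenJW ++ tenIW ++ tenJW).map g).prod ≠ 1 ∧
    ((tenIW ++ tenJW ++ tenIW ++ tenJW).map g).prod * ((tenIW ++ tenJW ++ tenIW ++ tenJW).map g).prod = 1
  meet : ∀ v ∈ ([[], [tenIW], [tenJW], [tenIW, tenJW], [tenJW, tenIW], [tenIW, tenJW, tenIW, tenJW],
      [tenIW, tenJW, tenIW], [tenJW, tenIW, tenJW]] : List (List (List ℕ))).map List.flatten,
    (v.map g).prod ∈ tenK g → (v.map g).prod = 1
  aut : ∃ α : MulAut M, (∀ m, α (α m) = m) ∧ (∀ m : M, α ≠ MulAut.conj m) ∧
    ∀ w ∈ [tenSW, tenIW, tenJW] ++ tenW, α (w.map g).prod = (w.map g).prod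

theorem tenK_map {N : Type*} [Group N] (θ : M →* N) (g : ℕ → M) :
    tenK (fun k => θ (g k)) = (tenK g).map θ := by
  rw [tenK, tenK, MonoidHom.map_closure]
  congr 1
  ext x
  simp only [Set.mem_image, Set.mem_ofPred_eq]
  constructor
  · rintro ⟨w, hw, rfl⟩
    exact ⟨_, ⟨w, hw, rfl⟩, by rw [map_list_prod, List.map_map]; rfl⟩
  · rintro ⟨_, ⟨w, hw, rfl⟩, rfl⟩
    exact ⟨w, hw, by rw [map_list_prod, List.map_map]; rfl⟩

/-- The facts do not depend on the automorphic position. -/
theorem TenFacts.map {g : ℕ → M} (T : TenFacts M g) (θ : M ≃* M) : TenFacts M (fun k => θ (g k)) := by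
  have e : ∀ w : List ℕ, (w.map fun k => θ (g k)).prod = θ (w.map g).prod := fun w => by
    rw [map_list_prod, List.map_map]; rfl
  have eK : tenK (fun k => θ (g k)) = (tenK g).map θ.toMonoidHom := tenK_map θ.toMonoidHom g
  have eH : JFour.hexK (fun k => θ (g k)) = (JFour.hexK g).map θ.toMonoidHom :=
    JFour.hexK_map θ.toMonoidHom g
  have hmem : ∀ x, θ x ∈ tenK (fun k => θ (g k)) ↔ x ∈ tenK g := fun x => by
    rw [eK, Subgroup.mem_map_equiv, θ.symm_apply_apply]
  constructor
  · intro w hw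
    rw [e, ← map_mul, T.sq w hw, map_one]
  · intro v hv w hw
    rw [e, e, ← map_mul, ← map_mul, T.comm v hv w hw]
  · rw [eK, Subgroup.card_map_of_injective θ.injective, T.card]
  · intro A hA h1
    obtain ⟨m, W, hW, he⟩ := T.eight (A.comap θ.toMonoidHom) (by
        rw [← hA]
        refine Nat.card_congr ⟨fun a => ⟨θ a, a.2⟩, fun a => ⟨θ.symm a, ?_⟩, fun a => ?_, fun a => ?_⟩
        · rw [Subgroup.mem_comap, MulEquiv.coe_toMonoidHom, MulEquiv.apply_symm_apply]; exact a.2
        · exact Subtype.ext (θ.symm_apply_apply _)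
        · exact Subtype.ext (θ.apply_symm_apply _))
      (fun a ha => θ.injective (by rw [map_mul, map_one]; exact h1 _ ha))
    refine ⟨θ m, W, hW, ?_⟩
    have h2 := congrArg (Subgroup.map θ.toMonoidHom) he
    rw [Subgroup.map_comap_eq_self_of_surjective θ.surjective, MonoidHom.map_closure] at h2
    rw [h2]
    congr 1
    ext x
    simp only [Set.mem_image, Set.mem_ofPred_eq, e]
    constructor
    · rintro ⟨_, ⟨w, hw, rfl⟩, rfl⟩
      exact ⟨w, hw, by simp⟩
    · rintro ⟨w, hw, rfl⟩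
      exact ⟨_, ⟨w, hw, rfl⟩, by simp⟩
  · intro t ht w hw
    rw [e, eH]
    exact Subgroup.mem_map_of_mem _ (T.sub t ht w hw)
  · intro y hy
    obtain ⟨y, rfl⟩ := θ.surjective y
    refine (hmem y).2 (T.cent y fun x hx => θ.injective ?_)
    rw [map_mul, map_mul]
    exact hy _ ((hmem x).2 hx)
  · rw [eK, ← Subgroup.map_equiv_normalizer_eq, Subgroup.card_map_of_injective θ.injective]
    exact T.norm
  · intro w hw
    rw [e, eK, ← Subgroup.map_equiv_normalizer_eq]
    exact Subgroup.mem_map_of_mem _ (T.norm2 w hw)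
  · rw [e, θ.orderOf_eq, T.seven]
  · obtain ⟨h1, h2, h3⟩ := T.shift
    simp only [e, ← map_mul, h1, h2, h3, and_self]
  · obtain ⟨h1, h2⟩ := T.four
    refine ⟨fun h => h1 (θ.injective (by rw [← e, h, map_one])), ?_⟩
    rw [e, ← map_mul, h2, map_one]
  · intro v hv h
    rw [e] at h ⊢
    rw [T.meet v hv ((hmem _).1 h), map_one]
  · obtain ⟨α, h1, h2, h3⟩ := T.aut
    refine ⟨(θ.symm.trans α).trans θ, fun m => ?_, fun m hm => h2 (θ.symm m) ?_, fun w hw => ?_⟩
    · simp [h1]
    · refine MulEquiv.ext fun x => θ.injective ?_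
      have := DFunLike.congr_fun hm (θ x)
      simp only [MulEquiv.trans_apply, MulEquiv.symm_apply_apply, MulAut.conj_apply] at this
      rw [this, MulAut.conj_apply]
      simp
    · rw [e]
      show θ (α (θ.symm (θ (w.map g).prod))) = _
      rw [θ.symm_apply_apply, h3 w hw]

namespace TenCert

open CfsgLib.Golay CfsgLib.Golay.SylowTwo
open CfsgLib.JFour.M22Cert

theorem mul_eqP {P Q R S : ℕ} (h1 : validP P = true) (h2 : validP Q = true) (h3 : validP R = true)
    (h4 : validP S = true) (h : eqP (mulP P Q) (mulP R S) = true) :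
    toPerm P * toPerm Q = toPerm R * toPerm S := by
  rw [← toPerm_mulP h1 h2, ← toPerm_mulP h3 h4]
  exact toPerm_eq_of_eqP (validP_mulP h1 h2) (validP_mulP h3 h4) h

theorem sq_prod {w : List ℕ} (h : eqP (wordP (w ++ w)) idP = true) :
    (w.map gM).prod * (w.map gM).prod = 1 := by
  rw [← List.prod_append, ← List.map_append, prod_eq (j := []) h]; rfl

theorem comm_prod {v w : List ℕ} (h : eqP (wordP (v ++ w)) (wordP (w ++ v)) = true) :
    (v.map gM).prod * (w.map gM).prod = (w.map gM).prod * (v.map gM).prod := by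
  rw [← List.prod_append, ← List.prod_append, ← List.map_append, ← List.map_append, prod_eq h]

/-- A listed elementary subgroup consists of its eight listed elements. -/
theorem row_iff {t : List ℕ × List (List ℕ)} (ht : t ∈ tenTab) (x : ↥Cfsg.Spor.M22) :
    x ∈ Subgroup.closure {x | ∃ w ∈ t.2, x = (w.map gM).prod} ↔ ∃ i ∈ t.1, x = elM i := by
  have h1 := List.all_eq_true.1 ten_tab_ok t ht
  simp only [Bool.and_eq_true, beq_iff_eq, List.all_eq_true, List.any_eq_true, decide_eq_true_eq] at h1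
  obtain ⟨⟨⟨-, -⟩, hgen⟩, hspan⟩ := h1
  have h2 := List.all_eq_true.1 ten_grp_ok t ht
  simp only [Bool.and_eq_true, List.all_eq_true, List.any_eq_true, List.contains_iff_mem] at h2
  obtain ⟨h0, hmul⟩ := h2
  have hone : elM 0 = 1 := Subtype.ext (by
    show toPerm (el 0) = 1
    rw [← toPerm_idP]
    exact toPerm_eq_of_eqP (el_mem 0).1 validP_idP (by decide +kernel))
  have hclosed : ∀ i ∈ t.1, ∀ j ∈ t.1, ∃ k ∈ t.1, elM i * elM j = elM k := fun i hi j hj => by
    obtain ⟨k, hk, he⟩ := hmul i hi j hj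
    refine ⟨k, hk, Subtype.ext ?_⟩
    show toPerm (el i) * toPerm (el j) = toPerm (el k)
    rw [← toPerm_mulP (el_mem i).1 (el_mem j).1]
    exact toPerm_eq_of_eqP (validP_mulP (el_mem i).1 (el_mem j).1) (el_mem k).1 he
  constructor
  · intro hx
    induction hx using Subgroup.closure_induction with
    | mem x hx =>
      obtain ⟨w, hw, rfl⟩ := hx
      obtain ⟨i, hi, he⟩ := (hgen w hw).2
      exact ⟨i, hi, eq_elM he⟩
    | one => exact ⟨0, h0, hone.symm⟩
    | mul x y _ _ hx hy =>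
      obtain ⟨i, hi, rfl⟩ := hx
      obtain ⟨j, hj, rfl⟩ := hy
      exact hclosed i hi j hj
    | inv x _ hx =>
      have hp : ∀ n : ℕ, ∃ i ∈ t.1, x ^ n = elM i := by
        intro n
        induction n with
        | zero => exact ⟨0, h0, by rw [pow_zero, hone]⟩
        | succ n ih =>
          obtain ⟨i, hi, e⟩ := ih
          obtain ⟨j, hj, e'⟩ := hx
          rw [pow_succ, e, e']
          exact hclosed i hi j hj
      have e : x⁻¹ = x ^ (orderOf x - 1) := inv_eq_of_mul_eq_one_right (by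
        rw [← pow_succ', Nat.sub_add_cancel (orderOf_pos x), pow_orderOf_eq_one])
      rw [e]
      exact hp _
  · rintro ⟨i, hi, rfl⟩
    obtain ⟨-, u, hu, he⟩ := hspan i hi
    rw [← eq_elM he]
    obtain ⟨l, hl, rfl⟩ := List.mem_map.1 hu
    rw [List.map_flatten, List.prod_flatten]
    refine Subgroup.list_prod_mem _ fun y hy => ?_
    simp only [List.map_map, List.mem_map, Function.comp_apply] at hy
    obtain ⟨w, hw, rfl⟩ := hy
    exact Subgroup.subset_closure ⟨w, (List.mem_sublists.1 hl).subset hw, rfl⟩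

theorem card_row_le {t : List ℕ × List (List ℕ)} (ht : t ∈ tenTab) :
    Nat.card ↥(Subgroup.closure {x | ∃ w ∈ t.2, x = (w.map gM).prod}) ≤ 8 := by
  classical
  have h1 := List.all_eq_true.1 ten_tab_ok t ht
  simp only [Bool.and_eq_true, beq_iff_eq] at h1
  have hlen : t.1.length = 8 := h1.1.1.1
  set K := Subgroup.closure {x | ∃ w ∈ t.2, x = (w.map gM).prod}
  let f : Fin 8 → ↥K := fun i => ⟨elM (t.1[(i : ℕ)]'(by omega)), (row_iff ht _).2 ⟨_, List.getElem_mem _, rfl⟩⟩
  refine le_of_le_of_eq (Nat.card_le_card_of_surjective f fun x => ?_) (Nat.card_fin 8)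
  obtain ⟨i, hi, he⟩ := (row_iff ht _).1 x.2
  obtain ⟨p, hp, rfl⟩ := List.getElem_of_mem hi
  exact ⟨⟨p, by omega⟩, Subtype.ext he.symm⟩

/-- An elementary subgroup of order eight in a conjugate of the listed group is a listed one. -/
theorem row_of_conj {A : Subgroup ↥Cfsg.Spor.M22} {c : ↥Cfsg.Spor.M22}
    (hcA : ∀ a ∈ A, ∃ i < 128, c * a * c⁻¹ = elM i) (hA : Nat.card A = 8) (h1 : ∀ a ∈ A, a * a = 1) :
    ∃ t ∈ tenTab, A.map (MulAut.conj c).toMonoidHom = Subgroup.closure {x | ∃ w ∈ t.2, x = (w.map gM).prod} := by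
  classical
  obtain ⟨S, hS1, hS2, hS3, hS4⟩ := finset_of_conj hcA (fun a ha b hb => by
    calc a * b = (a * b)⁻¹ := (inv_eq_of_mul_eq_one_right (h1 _ (mul_mem ha hb))).symm
      _ = b * a := by
        rw [mul_inv_rev, inv_eq_of_mul_eq_one_right (h1 _ ha), inv_eq_of_mul_eq_one_right (h1 _ hb)])
  have hinv : ∀ i ∈ S, i ∈ invI := by
    intro i hi
    obtain ⟨hi128, hmem⟩ := hS1 i hi
    have hc' := inv_ok.1
    simp only [List.all_eq_true, List.mem_range, Bool.or_eq_true, Bool.not_eq_true'] at hc'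
    rcases hc' i hi128 with h | h
    · exact List.contains_iff_mem.1 h
    · exfalso
      have e : elM i * elM i = 1 := by
        calc elM i * elM i = c * (c⁻¹ * elM i * c * (c⁻¹ * elM i * c)) * c⁻¹ := by group
          _ = 1 := by rw [h1 _ hmem]; group
      have e' : toPerm (el i) * toPerm (el i) = 1 := congrArg Subtype.val e
      rw [← toPerm_mulP (el_mem i).1 (el_mem i).1, ← toPerm_idP] at e'
      rw [eqP_of_toPerm_eq (validP_mulP (el_mem i).1 (el_mem i).1) validP_idP e'] at h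
      exact Bool.noConfusion h
  set B := A.map (MulAut.conj c).toMonoidHom with hB
  have hBm : ∀ i ∈ S, elM i ∈ B := fun i hi => ⟨_, (hS1 i hi).2, by
    show c * (c⁻¹ * elM i * c) * c⁻¹ = elM i
    group⟩
  have hBc : Nat.card B = 8 := by rw [hB, Subgroup.card_map_of_injective (MulAut.conj c).injective, hA]
  -- a basis among the indices
  have hS8 : S.card = 8 := hS3.trans hA
  have hT1 : (S.erase 0).Nonempty :=
    Finset.card_pos.1 (by have := Finset.pred_card_le_card_erase (a := 0) (s := S); omega)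
  obtain ⟨a, ha', hamin⟩ := Finset.exists_min_image (S.erase 0) id hT1
  have hT2 : ((S.erase 0).erase a).Nonempty :=
    Finset.card_pos.1 (by
      have := Finset.pred_card_le_card_erase (a := 0) (s := S)
      have := Finset.card_erase_of_mem ha'
      omega)
  obtain ⟨b, hb', hbmin⟩ := Finset.exists_min_image ((S.erase 0).erase a) id hT2
  simp only [Finset.mem_erase] at ha' hb' hamin hbmin
  obtain ⟨ha0, ha⟩ := ha'
  obtain ⟨hba, hb0, hb⟩ := hb'
  have hlt : a < b := lt_of_le_of_ne (hamin b ⟨hb0, hb⟩) (Ne.symm hba)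
  obtain ⟨d, hd⟩ : ∃ d, ∀ i < 128, elM i = elM a * elM b → i = d := by
    by_cases h : ∃ i < 128, elM i = elM a * elM b
    · obtain ⟨d, hd, he⟩ := h
      exact ⟨d, fun i hi e => elM_inj hi hd (e.trans he.symm)⟩
    · exact ⟨0, fun i hi e => absurd ⟨i, hi, e⟩ h⟩
  obtain ⟨e, he⟩ : ((((S.erase 0).erase a).erase b).erase d).Nonempty := Finset.card_pos.1 (by
    have := Finset.pred_card_le_card_erase (a := 0) (s := S)
    have := Finset.pred_card_le_card_erase (a := a) (s := S.erase 0)
    have := Finset.pred_card_le_card_erase (a := b) (s := (S.erase 0).erase a)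
    have := Finset.pred_card_le_card_erase (a := d) (s := ((S.erase 0).erase a).erase b)
    omega)
  simp only [Finset.mem_erase] at he
  obtain ⟨hed, heb, hea, he0, heS⟩ := he
  have htr := ten_triples_ok
  simp only [List.all_eq_true] at htr
  have h := htr a (hinv a ha) b (hinv b hb)
  simp only [hS4 a ha b hb, Bool.not_true, Bool.false_or, Bool.or_eq_true, Bool.not_eq_true',
    List.all_eq_true, Nat.beq_eq] at h
  have hlt' : Nat.blt a b = true := Nat.blt_eq ▸ hlt
  rw [hlt'] at h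
  have h := (h.resolve_left (by simp)) e (hinv e heS)
  have hbe : Nat.blt b e = true :=
    Nat.blt_eq ▸ lt_of_le_of_ne (hbmin e ⟨hea, he0, heS⟩) (Ne.symm heb)
  simp only [hS4 a ha e heS, hS4 b hb e heS, hbe, Bool.true_eq_false, Bool.false_eq_true, false_or, or_false, ha0,
    List.any_eq_true, Bool.and_eq_true, List.contains_iff_mem] at h
  rcases h with h | ⟨t, ht, ⟨hat, hbt⟩, het⟩
  · refine absurd (hd e (hS1 e heS).1 (Subtype.ext ?_)) hed
    show toPerm (el e) = toPerm (el a) * toPerm (el b)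
    rw [← toPerm_mulP (el_mem a).1 (el_mem b).1]
    exact toPerm_eq_of_eqP (el_mem e).1 (validP_mulP (el_mem a).1 (el_mem b).1) h
  refine ⟨t, ht, ?_⟩
  set T := Subgroup.closure {x | ∃ w ∈ t.2, x = (w.map gM).prod} with hT
  set Q := B ⊓ T with hQ
  have hone : elM 0 = 1 := Subtype.ext (by
    show toPerm (el 0) = 1
    rw [← toPerm_idP]
    exact toPerm_eq_of_eqP (el_mem 0).1 validP_idP (by decide +kernel))
  have hmemQ : ∀ i ∈ S, i ∈ t.1 → elM i ∈ Q := fun i hi hit =>
    Subgroup.mem_inf.2 ⟨hBm i hi, (row_iff ht _).2 ⟨i, hit, rfl⟩⟩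
  have hQa := hmemQ a ha hat
  have hQb := hmemQ b hb hbt
  have hQe := hmemQ e heS het
  have hi128 : ∀ i ∈ S, i < 128 := fun i hi => (hS1 i hi).1
  have n1 : ∀ i ∈ S, i ≠ 0 → elM i ≠ 1 := fun i hi h0 k =>
    h0 (elM_inj (hi128 i hi) (by norm_num) (k.trans hone.symm))
  have n2 : ∀ i ∈ S, ∀ j ∈ S, i ≠ j → elM i ≠ elM j := fun i hi j hj hne k =>
    hne (elM_inj (hi128 i hi) (hi128 j hj) k)
  have ha2 : elM a * elM a = 1 := by
    calc elM a * elM a = c * (c⁻¹ * elM a * c * (c⁻¹ * elM a * c)) * c⁻¹ := by group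
      _ = 1 := by rw [h1 _ (hS1 a ha).2]; group
  have hb2 : elM b * elM b = 1 := by
    calc elM b * elM b = c * (c⁻¹ * elM b * c * (c⁻¹ * elM b * c)) * c⁻¹ := by group
      _ = 1 := by rw [h1 _ (hS1 b hb).2]; group
  have p1 : elM a * elM b ≠ 1 := fun k => n2 a ha b hb (Nat.ne_of_lt hlt)
    ((eq_inv_of_mul_eq_one_left k).trans (inv_eq_of_mul_eq_one_right hb2))
  have p2 : elM a * elM b ≠ elM a := fun k => n1 b hb (by omega) (mul_eq_left.1 k)
  have p3 : elM a * elM b ≠ elM b := fun k => n1 a ha ha0 (mul_eq_right.1 k)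
  have p4 : elM e ≠ elM a * elM b := fun k => hed (hd e (hi128 e heS) k)
  have h5 : 5 ≤ Nat.card Q := by
    let L : List ↥Q := [1, ⟨_, hQa⟩, ⟨_, hQb⟩, ⟨_, mul_mem hQa hQb⟩, ⟨_, hQe⟩]
    have hL : L.Nodup := by
      refine List.Nodup.of_map Subtype.val ?_
      simp only [L, List.map_cons, List.map_nil, Subgroup.coe_one, List.nodup_cons, List.mem_cons,
        List.not_mem_nil, or_false, not_or, List.nodup_nil, and_true, not_false_eq_true]
      exact ⟨⟨(n1 a ha ha0).symm, (n1 b hb (by omega)).symm, p1.symm, (n1 e heS he0).symm⟩,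
        ⟨n2 a ha b hb (Nat.ne_of_lt hlt), p2.symm, n2 a ha e heS (Ne.symm hea)⟩,
        ⟨p3.symm, n2 b hb e heS (Ne.symm heb)⟩, p4.symm⟩
    letI := Fintype.ofFinite ↥Q
    rw [Nat.card_eq_fintype_card]
    exact hL.length_le_card
  have hQ8 : Nat.card Q ∣ 8 := hBc ▸ Subgroup.card_dvd_of_le (inf_le_left : Q ≤ B)
  have hQe8 : Nat.card Q = 8 := by
    have := Nat.le_of_dvd (by norm_num) hQ8
    interval_cases h : Nat.card Q <;> first | rfl | norm_num at hQ8
  have e1 : Q = B := Subgroup.eq_of_le_of_card_ge inf_le_left (by rw [hQe8, hBc])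
  have e2 : Q = T := Subgroup.eq_of_le_of_card_ge inf_le_right (by rw [hQe8]; exact card_row_le ht)
  exact e1.symm.trans e2

theorem conj_gen (W : List (List ℕ)) (m : ↥Cfsg.Spor.M22) :
    (Subgroup.closure {x | ∃ w ∈ W, x = (w.map gM).prod}).map (MulAut.conj m).toMonoidHom =
      Subgroup.closure {x | ∃ w ∈ W, x = m * (w.map gM).prod * m⁻¹} := by
  rw [MonoidHom.map_closure]
  congr 1
  ext x
  simp only [Set.mem_image, Set.mem_ofPred_eq, MulEquiv.coe_toMonoidHom, MulAut.conj_apply]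
  constructor
  · rintro ⟨_, ⟨w, hw, rfl⟩, rfl⟩; exact ⟨w, hw, rfl⟩
  · rintro ⟨w, hw, rfl⟩; exact ⟨_, ⟨w, hw, rfl⟩, rfl⟩

theorem eight (A : Subgroup ↥Cfsg.Spor.M22) (hA : Nat.card A = 8) (h1 : ∀ a ∈ A, a * a = 1) :
    ∃ m : ↥Cfsg.Spor.M22, ∃ W ∈ tenKinds,
      A = Subgroup.closure {x | ∃ w ∈ W, x = m * (w.map gM).prod * m⁻¹} := by
  obtain ⟨c, hcA⟩ := exists_list (IsPGroup.of_card (n := 3) (by rw [hA]; norm_num) : IsPGroup 2 A)
  obtain ⟨t, ht, he⟩ := row_of_conj hcA hA h1
  have hAe : A = (Subgroup.closure {x | ∃ w ∈ t.2, x = (w.map gM).prod}).map (MulAut.conj c⁻¹).toMonoidHom := by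
    rw [← he, Subgroup.map_map]
    convert (Subgroup.map_id A).symm using 2
    exact MonoidHom.ext fun x => by simp [mul_assoc]
  rw [tenTab, List.mem_append, List.mem_append] at ht
  have hstd := (beq_iff_eq.1 ten_std_ok.2.1 : tenStd.map Prod.snd = _)
  rcases ht with (ht | ht) | ht
  · exact ⟨c⁻¹, t.2, List.mem_append_left _ (List.mem_map_of_mem (List.mem_append_left _ ht)),
      hAe.trans (conj_gen _ _)⟩
  · exact ⟨c⁻¹, t.2, List.mem_append_left _ (List.mem_map_of_mem (List.mem_append_right _ ht)),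
      hAe.trans (conj_gen _ _)⟩
  have ht2 : t.2 ∈ tenStd.map Prod.snd := List.mem_map_of_mem ht
  rw [hstd, List.mem_cons, List.mem_singleton] at ht2
  rcases ht2 with e | e
  · exact ⟨c⁻¹, tenW, by simp [tenKinds], (hAe.trans (conj_gen _ _)).trans (by rw [e])⟩
  · have hC : (tenCW.1.map gM).prod * (tenCW.2.map gM).prod = 1 := by
      rw [← List.prod_append, ← List.map_append, prod_eq (j := []) ten_std_ok.1]; rfl
    refine ⟨c⁻¹ * (tenCW.1.map gM).prod, tenW, by simp [tenKinds],
      (hAe.trans (conj_gen _ _)).trans (congrArg Subgroup.closure ?_)⟩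
    rw [e]
    ext x
    simp only [Set.mem_ofPred_eq, List.mem_map, exists_exists_and_eq_and, List.map_append, List.prod_append,
      ← eq_inv_of_mul_eq_one_right hC, mul_inv_rev, inv_inv, mul_assoc]

theorem tenW_tab : ∃ t ∈ tenTab, t.2 = tenW := by
  have hstd := (beq_iff_eq.1 ten_std_ok.2.1 : tenStd.map Prod.snd = _)
  have hm : tenW ∈ tenStd.map Prod.snd := by rw [hstd]; exact List.mem_cons_self
  obtain ⟨t, ht, he⟩ := List.mem_map.1 hm
  exact ⟨t, List.mem_append_right _ ht, he⟩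

theorem prod_mem {u : List ℕ} (hu : u ∈ tenProd tenW) : (u.map gM).prod ∈ tenK gM := by
  obtain ⟨l, hl, rfl⟩ := List.mem_map.1 hu
  rw [List.map_flatten, List.prod_flatten]
  refine Subgroup.list_prod_mem _ fun y hy => ?_
  simp only [List.map_map, List.mem_map, Function.comp_apply] at hy
  obtain ⟨w, hw, rfl⟩ := hy
  exact Subgroup.subset_closure ⟨w, (List.mem_sublists.1 hl).subset hw, rfl⟩

theorem card_tenK : Nat.card (tenK gM) = 8 := by
  classical
  obtain ⟨t, ht, he⟩ := tenW_tab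
  refine le_antisymm (by have := card_row_le ht; rwa [he] at this) ?_
  let f : Fin 8 → ↥(tenK gM) := fun i => ⟨(((tenProd tenW).getD (i : ℕ) []).map gM).prod, by
    refine prod_mem ?_
    rw [List.getD_eq_getElem _ _ (by rw [tenProd, List.length_map, List.length_sublists]; exact i.2)]
    exact List.getElem_mem _⟩
  refine (Nat.card_fin 8).symm.trans_le (Nat.card_le_card_of_injective f fun i j h => ?_)
  have h' := List.all_eq_true.1 (List.all_eq_true.1 ten_basic_ok.2.2 i (List.mem_range.2 i.2)) j (List.mem_range.2 j.2)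
  rw [Bool.or_eq_true, beq_iff_eq, Bool.not_eq_true'] at h'
  rcases h' with h' | h'
  · exact Fin.ext h'
  · exact absurd (congrArg Subtype.val h) (gM_ne h')

theorem sq_tenK : ∀ a ∈ tenK gM, a * a = 1 := by
  haveI : IsMulCommutative ↥(tenK gM) := by
    refine Subgroup.isMulCommutative_closure fun a ha b hb => ?_
    obtain ⟨v, hv, rfl⟩ := ha
    obtain ⟨w, hw, rfl⟩ := hb
    exact comm_prod (List.all_eq_true.1 (List.all_eq_true.1 ten_basic_ok.2.1 v hv) w hw)
  intro m hm
  have key : m * m = 1 ∧ m ∈ tenK gM := by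
    induction hm using Subgroup.closure_induction with
    | mem x hx =>
      obtain ⟨w, hw, rfl⟩ := hx
      exact ⟨sq_prod (List.all_eq_true.1 ten_basic_ok.1 w (List.mem_append_left _ hw)),
        Subgroup.subset_closure ⟨w, hw, rfl⟩⟩
    | one => exact ⟨mul_one 1, one_mem _⟩
    | mul x y _ _ hx hy =>
      refine ⟨?_, mul_mem hx.2 hy.2⟩
      have hxy : y * x = x * y := congrArg Subtype.val (mul_comm' (⟨y, hy.2⟩ : ↥(tenK gM)) ⟨x, hx.2⟩)
      calc x * y * (x * y) = x * (y * x) * y := by group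
        _ = x * x * (y * y) := by rw [hxy]; group
        _ = 1 := by rw [hx.1, hy.1, one_mul]
    | inv x _ hx => exact ⟨by rw [← mul_inv_rev, hx.1, inv_one], inv_mem hx.2⟩
  exact key.1

/-- The common fixed points of a list of words are counted on packed permutations. -/
theorem card_fixed (W : List (List ℕ)) :
    Nat.card {x : GolayPt // ∀ k ∈ Subgroup.closure {y : ↥Cfsg.Spor.M22 | ∃ w ∈ W, y = (w.map gM).prod},
      (k : Equiv.Perm GolayPt) x = x} = tenFixed (W.map wordP) := by
  set L := (List.range 24).filter fun p => (W.map wordP).all fun P => Golay.ap P p == p with hL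
  have hnd : L.Nodup := List.nodup_range.filter _
  have hlen : tenFixed (W.map wordP) = L.length := rfl
  have key : ∀ x : GolayPt, (∀ k ∈ Subgroup.closure {y : ↥Cfsg.Spor.M22 | ∃ w ∈ W, y = (w.map gM).prod},
      (k : Equiv.Perm GolayPt) x = x) ↔ idx x ∈ L := by
    intro x
    simp only [hL, List.mem_filter, List.mem_range, idx_lt, true_and, List.all_eq_true, List.mem_map,
      forall_exists_index, and_imp, forall_apply_eq_imp_iff₂, beq_iff_eq]
    constructor
    · intro h w hw
      have h' := h _ (Subgroup.subset_closure ⟨w, hw, rfl⟩)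
      rw [(wordP_val w).2] at h'
      rw [← idx_toPerm (wordP_val w).1, h']
    · intro h k hk
      induction hk using Subgroup.closure_induction with
      | mem y hy =>
        obtain ⟨w, hw, rfl⟩ := hy
        rw [(wordP_val w).2, toPerm_apply (wordP_val w).1, h w hw, pt_idx]
      | one => rfl
      | mul a b _ _ ha hb => rw [Subgroup.coe_mul, Equiv.Perm.mul_apply, hb, ha]
      | inv a _ ha => rw [Subgroup.coe_inv, Equiv.Perm.inv_eq_iff_eq, ha]
  rw [hlen, ← List.toFinset_card_of_nodup hnd, ← Nat.card_eq_finsetCard]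
  refine Nat.card_congr ⟨fun x => ⟨idx x, List.mem_toFinset.2 ((key x).1 x.2)⟩,
    fun p => ⟨pt p, (key _).2 ?_⟩, fun x => Subtype.ext (pt_idx _), fun p => Subtype.ext ?_⟩
  · rw [idx_pt _ (by have := List.mem_toFinset.1 p.2; simp [hL] at this; exact this.1)]
    exact List.mem_toFinset.1 p.2
  · exact idx_pt _ (by have := List.mem_toFinset.1 p.2; simp [hL] at this; exact this.1)

theorem cent (y : ↥Cfsg.Spor.M22) (hy : ∀ x ∈ tenK gM, y * x = x * y) : y ∈ tenK gM := by
  classical
  haveI := Fact.mk Nat.prime_two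
  haveI := Fact.mk Nat.prime_three
  set C := Subgroup.centralizer (tenK gM : Set ↥Cfsg.Spor.M22) with hC
  have hKC : tenK gM ≤ C := fun x hx => Subgroup.mem_centralizer_iff.2 fun a ha => by
    have h1 := sq_tenK _ hx
    have h2 := sq_tenK _ ha
    have h3 := sq_tenK _ (mul_mem ha hx)
    calc a * x = (a * x)⁻¹ := (inv_eq_of_mul_eq_one_right h3).symm
      _ = x * a := by rw [mul_inv_rev, inv_eq_of_mul_eq_one_right h1, inv_eq_of_mul_eq_one_right h2]
  have h3 : ¬ 3 ∣ Nat.card C := by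
    intro h
    obtain ⟨p, hp⟩ := exists_prime_orderOf_dvd_card' (G := ↥C) 3 h
    rw [← Subgroup.orderOf_coe] at hp
    have hle : tenK gM ≤ Subgroup.centralizer ({(p : ↥Cfsg.Spor.M22)} : Set ↥Cfsg.Spor.M22) := fun x hx =>
      Subgroup.mem_centralizer_singleton_iff.2 (Subgroup.mem_centralizer_iff.1 p.2 x hx)
    have := Subgroup.card_dvd_of_le hle
    rw [card_tenK, small.card_three _ hp] at this
    norm_num at this
  obtain ⟨a, ha, ha1⟩ : ∃ a ∈ tenK gM, a ≠ 1 := by
    by_contra hno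
    push Not at hno
    have := Subgroup.card_le_of_le (show tenK gM ≤ ⊥ from fun x hx => Subgroup.mem_bot.2 (hno x hx))
    rw [card_tenK, Subgroup.card_bot] at this
    norm_num at this
  have hCdvd : Nat.card C ∣ 384 := by
    have := Subgroup.card_dvd_of_le (show C ≤ Subgroup.centralizer ({a} : Set ↥Cfsg.Spor.M22) from fun x hx =>
      Subgroup.mem_centralizer_singleton_iff.2 (Subgroup.mem_centralizer_iff.1 hx a ha).symm)
    rwa [small.card_invol a (orderOf_eq_prime (by rw [pow_two]; exact sq_tenK a ha) ha1)] at this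
  have hC2 : IsPGroup 2 C := by
    have hd : Nat.card C ∣ 2 ^ 7 := by
      refine Nat.Coprime.dvd_of_dvd_mul_right (n := 3) ?_ (show Nat.card C ∣ 2 ^ 7 * 3 from hCdvd)
      exact ((Nat.Prime.coprime_iff_not_dvd Nat.prime_three).2 h3).symm
    obtain ⟨n, -, hn⟩ := (Nat.dvd_prime_pow Nat.prime_two).1 hd
    exact IsPGroup.of_card hn
  obtain ⟨c, hc⟩ := exists_list hC2
  obtain ⟨t, ht, he⟩ := row_of_conj (fun a ha => hc a (hKC ha)) card_tenK sq_tenK
  have hrow := ten_cent_ok.2
  have hf := List.all_eq_true.1 hrow t ht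
  have hfix : tenFixed (t.2.map wordP) = 2 := by
    rw [← ten_cent_ok.1, ← card_fixed, ← card_fixed, ← he]
    refine Nat.card_congr ⟨fun x => ⟨(c : Equiv.Perm GolayPt)⁻¹ x.1, fun k hk => ?_⟩,
      fun x => ⟨(c : Equiv.Perm GolayPt) x.1, fun k hk => ?_⟩, fun x => Subtype.ext (by simp), fun x => Subtype.ext (by simp)⟩
    · have h := x.2 _ (Subgroup.mem_map_of_mem (MulAut.conj c).toMonoidHom hk)
      simp only [MulEquiv.coe_toMonoidHom, MulAut.conj_apply, Subgroup.coe_mul, Subgroup.coe_inv,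
        Equiv.Perm.mul_apply] at h
      exact ((c : Equiv.Perm GolayPt).eq_symm_apply).2 h
    · obtain ⟨j, hj, rfl⟩ := hk
      simp only [MulEquiv.coe_toMonoidHom, MulAut.conj_apply, Subgroup.coe_mul, Subgroup.coe_inv,
        Equiv.Perm.mul_apply]
      rw [show ((c : Equiv.Perm GolayPt)⁻¹) ((c : Equiv.Perm GolayPt) x.1) = x.1 from
        (c : Equiv.Perm GolayPt).symm_apply_apply x.1, x.2 j hj]
  rw [hfix] at hf
  simp only [beq_self_eq_true, Bool.not_true, Bool.false_or, List.all_eq_true, List.mem_range,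
    Bool.or_eq_true, List.contains_iff_mem, Bool.not_eq_true'] at hf
  obtain ⟨i, hi, hie⟩ := hc y (Subgroup.mem_centralizer_iff.2 fun x hx => (hy x hx).symm)
  have h1 := List.all_eq_true.1 ten_tab_ok t ht
  simp only [Bool.and_eq_true, List.all_eq_true, decide_eq_true_eq] at h1
  have hit : i ∈ t.1 := by
    refine (hf i hi).resolve_right fun hno => ?_
    rw [List.all_eq_false] at hno
    obtain ⟨j, hj, hne⟩ := hno
    refine hne (com_of_eq hi (h1.2 j hj).1 ?_)
    obtain ⟨x, hx, hxe⟩ := he.ge ((row_iff ht _).2 ⟨j, hj, rfl⟩)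
    have hxe' : c * x * c⁻¹ = elM j := hxe
    rw [← hie, ← hxe', show c * y * c⁻¹ * (c * x * c⁻¹) = c * (y * x) * c⁻¹ by group, hy x hx]
    group
  obtain ⟨x, hx, hxe⟩ := he.ge ((row_iff ht _).2 ⟨i, hit, rfl⟩)
  have hxe' : c * x * c⁻¹ = c * y * c⁻¹ := (show c * x * c⁻¹ = elM i from hxe).trans hie.symm
  rw [mul_right_cancel_iff, mul_right_inj] at hxe'
  exact hxe' ▸ hx
  
theorem mem_norm {x : ↥Cfsg.Spor.M22}
    (h : ∀ w ∈ tenW, ∃ u ∈ tenProd tenW, x * (w.map gM).prod = (u.map gM).prod * x) :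
    x ∈ Subgroup.normalizer (tenK gM : Set ↥Cfsg.Spor.M22) := by
  have hle : (tenK gM).map (MulAut.conj x).toMonoidHom ≤ tenK gM := by
    rw [tenK, MonoidHom.map_closure, Subgroup.closure_le]
    rintro _ ⟨_, ⟨w, hw, rfl⟩, rfl⟩
    obtain ⟨u, hu, he⟩ := h w hw
    show x * (w.map gM).prod * x⁻¹ ∈ tenK gM
    rw [he, mul_inv_cancel_right]
    exact prod_mem hu
  have heq := Subgroup.eq_of_le_of_card_ge hle (by rw [Subgroup.card_map_of_injective (MulAut.conj x).injective])
  rw [Subgroup.mem_normalizer_iff]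
  intro y
  conv_rhs => rw [← heq, Subgroup.mem_map_equiv, MulAut.conj_symm_apply]
  rw [show x⁻¹ * (x * y * x⁻¹) * x = y by group]

theorem word_norm {v : List ℕ} (hv : v ∈ [tenSW, tenTW, tenIW, tenJW]) :
    (v.map gM).prod ∈ Subgroup.normalizer (tenK gM : Set ↥Cfsg.Spor.M22) := by
  refine mem_norm fun w hw => ?_
  obtain ⟨u, hu, he⟩ := List.any_eq_true.1 (List.all_eq_true.1 (List.all_eq_true.1 ten_norm_ok.1 v hv) w hw)
  refine ⟨u, hu, ?_⟩
  rw [← List.prod_append, ← List.prod_append, ← List.map_append, ← List.map_append, prod_eq he]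

theorem order_seven : orderOf (tenSW.map gM).prod = 7 := by
  haveI := Fact.mk (show Nat.Prime 7 by norm_num)
  obtain ⟨h1, h7, -⟩ := ten_word_ok
  refine orderOf_eq_prime ?_ (gM_ne (j := []) h1)
  have h := prod_eq (j := []) h7
  simp only [List.map_append, List.prod_append, List.map_nil, List.prod_nil] at h
  rw [← h]
  simp only [pow_succ, pow_zero, one_mul]

theorem order_three : orderOf (tenTW.map gM).prod = 3 := by
  haveI := Fact.mk Nat.prime_three
  obtain ⟨-, -, h1, h3, -⟩ := ten_word_ok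
  refine orderOf_eq_prime ?_ (gM_ne (j := []) h1)
  have h := prod_eq (j := []) h3
  simp only [List.map_append, List.prod_append, List.map_nil, List.prod_nil] at h
  rw [← h]
  simp only [pow_succ, pow_zero, one_mul]

theorem norm : 1344 ∣ Nat.card ↥(Subgroup.normalizer (tenK gM : Set ↥Cfsg.Spor.M22)) := by
  classical
  set N := Subgroup.normalizer (tenK gM : Set ↥Cfsg.Spor.M22)
  obtain ⟨-, hlen, hnd, hall⟩ := ten_norm_ok
  set B := (HS pcP).subgroupOf Cfsg.Spor.M22
  have hB : Nat.card B = 2 ^ 7 := by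
    rw [Nat.card_congr (Subgroup.subgroupOfEquivOfLe HS_le).toEquiv, card_HS pcP_ok, pcP_len]
  have hmem : ∀ i ∈ tenN, i < 128 ∧ elM i ∈ N ⊓ B := by
    intro i hi
    have h := List.all_eq_true.1 hall i hi
    simp only [Bool.and_eq_true, decide_eq_true_eq, List.all_eq_true, List.any_eq_true] at h
    refine ⟨h.1, Subgroup.mem_inf.2 ⟨mem_norm fun w hw => ?_, Subgroup.mem_subgroupOf.2 (el_mem i).2⟩⟩
    obtain ⟨u, hu, he⟩ := h.2 w hw
    refine ⟨u, hu, Subtype.ext ?_⟩
    rw [Subgroup.coe_mul, Subgroup.coe_mul, (wordP_val w).2, (wordP_val u).2]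
    exact mul_eqP (el_mem i).1 (wordP_val w).1 (wordP_val u).1 (el_mem i).1 he
  have h64 : 64 ≤ Nat.card ↥(N ⊓ B) := by
    let f : Fin 64 → ↥(N ⊓ B) := fun j => ⟨elM (tenN[(j : ℕ)]'(by omega)), (hmem _ (List.getElem_mem _)).2⟩
    refine (Nat.card_fin 64).symm.trans_le (Nat.card_le_card_of_injective f fun a b h => ?_)
    have h' := elM_inj (hmem _ (List.getElem_mem _)).1 (hmem _ (List.getElem_mem _)).1 (congrArg Subtype.val h)
    exact Fin.ext (hnd.getElem_inj_iff.1 h')
  have hd64 : 64 ∣ Nat.card N := by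
    obtain ⟨n, hn, he⟩ := (Nat.dvd_prime_pow Nat.prime_two).1
      (hB ▸ Subgroup.card_dvd_of_le (inf_le_right : N ⊓ B ≤ B))
    refine Dvd.dvd.trans ?_ (Subgroup.card_dvd_of_le (inf_le_left : N ⊓ B ≤ N))
    rw [he] at h64 ⊢
    exact (Nat.pow_dvd_pow 2 (show 6 ≤ n from (Nat.pow_le_pow_iff_right (a := 2) (by norm_num)).1 h64))
  have h7 : 7 ∣ Nat.card N := by
    have := orderOf_dvd_natCard (G := ↥N) ⟨_, word_norm (v := tenSW) (by simp)⟩
    rwa [Subgroup.orderOf_mk, order_seven] at this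
  have h3 : 3 ∣ Nat.card N := by
    have := orderOf_dvd_natCard (G := ↥N) ⟨_, word_norm (v := tenTW) (by simp)⟩
    rwa [Subgroup.orderOf_mk, order_three] at this
  rw [show 1344 = 64 * 7 * 3 from rfl]
  exact Nat.Coprime.mul_dvd_of_dvd_of_dvd (by norm_num) (Nat.Coprime.mul_dvd_of_dvd_of_dvd (by norm_num) hd64 h7) h3

theorem aut : ∃ α : MulAut ↥Cfsg.Spor.M22, (∀ m, α (α m) = m) ∧ (∀ m, α ≠ MulAut.conj m) ∧
    ∀ w ∈ [tenSW, tenIW, tenJW] ++ tenW, α (w.map gM).prod = (w.map gM).prod := by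
  obtain ⟨hu24, hvu, hu23, hu0, huu, hcom⟩ := ten_outer_ok
  have hg : toPerm tenUP ∈ M24 := toPerm_mem_M24 hu24
  have h1 : toPerm tenUP none = some 0 := by
    rw [toPerm_apply hvu, show idx (none : GolayPt) = 23 by decide +kernel, hu23]; decide +kernel
  have h2 : toPerm tenUP (some 0) = none := by
    rw [toPerm_apply hvu, show idx (some 0 : GolayPt) = 0 by decide +kernel, hu0]; decide +kernel
  have huu' : toPerm tenUP * toPerm tenUP = 1 := by
    rw [← toPerm_mulP hvu hvu, toPerm_eq_of_eqP (validP_mulP hvu hvu) validP_idP huu, toPerm_idP]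
  let f : ↥Cfsg.Spor.M22 →* ↥Cfsg.Spor.M22 :=
    MonoidHom.mk' (fun x => ⟨toPerm tenUP * x * (toPerm tenUP)⁻¹, conj_mem_M22 hg h1 h2 x.2⟩)
      fun x y => Subtype.ext (by simp [mul_assoc])
  have hff : ∀ x, f (f x) = x := fun x => Subtype.ext (by
    show toPerm tenUP * (toPerm tenUP * x * (toPerm tenUP)⁻¹) * (toPerm tenUP)⁻¹ = x
    calc _ = (toPerm tenUP * toPerm tenUP) * x * (toPerm tenUP * toPerm tenUP)⁻¹ := by group
      _ = _ := by rw [huu']; group)
  refine ⟨{ toFun := f, invFun := f, left_inv := hff, right_inv := hff, map_mul' := f.map_mul }, hff,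
    fun m e => not_inner_M22 hg h1 h2 ⟨m, m.2, fun x hx => by
      have h := congrArg Subtype.val (DFunLike.congr_fun e ⟨x, hx⟩)
      exact h⟩,
    fun w hw => Subtype.ext ?_⟩
  show toPerm tenUP * ((w.map gM).prod : ↥Cfsg.Spor.M22) * (toPerm tenUP)⁻¹ = _
  rw [(wordP_val w).2, mul_eqP hvu (wordP_val w).1 (wordP_val w).1 hvu (List.all_eq_true.1 hcom w hw),
    mul_inv_cancel_right]

/-- **The facts hold.** -/
theorem ten_facts : TenFacts ↥Cfsg.Spor.M22 gM where
  sq w hw := sq_prod (List.all_eq_true.1 ten_basic_ok.1 w hw)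
  comm v hv w hw := comm_prod (List.all_eq_true.1 (List.all_eq_true.1 ten_basic_ok.2.1 v hv) w hw)
  card := card_tenK
  eight := eight
  sub t ht w hw := by
    obtain ⟨v, hv, he⟩ := List.any_eq_true.1 (List.all_eq_true.1 (List.all_eq_true.1 ten_std_ok.2.2 t ht) w hw)
    rw [prod_eq he]
    obtain ⟨l, hl, rfl⟩ := List.mem_map.1 hv
    rw [List.map_flatten, List.prod_flatten]
    refine Subgroup.list_prod_mem _ fun y hy => ?_
    simp only [List.map_map, List.mem_map, Function.comp_apply] at hy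
    obtain ⟨x, hx, rfl⟩ := hy
    exact Subgroup.subset_closure ⟨x, (List.mem_sublists.1 hl).subset hx, rfl⟩
  cent := cent
  norm := norm
  norm2 w hw := word_norm (List.mem_cons_of_mem _ (List.mem_cons_of_mem _ hw))
  seven := order_seven
  shift := by
    obtain ⟨-, -, -, -, h1, h2, h3, -⟩ := ten_word_ok
    refine ⟨?_, ?_, ?_⟩
    · rw [← List.prod_append, ← List.prod_append, ← List.map_append, ← List.map_append, prod_eq h1]
    · rw [← List.prod_append, ← List.prod_append, ← List.map_append, ← List.map_append, prod_eq h2]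
    · simp only [← List.prod_append, ← List.map_append]
      rw [prod_eq h3]
  four := by
    obtain ⟨-, -, -, -, -, -, -, h4, h8, -⟩ := ten_word_ok
    refine ⟨gM_ne (j := []) h4, ?_⟩
    rw [← List.prod_append, ← List.map_append, prod_eq (j := []) ?_]
    · rfl
    · simp only [List.append_assoc] at h8 ⊢
      exact h8
  meet v hv h := by
    have h' := List.all_eq_true.1 ten_word_ok.2.2.2.2.2.2.2.2.2 v hv
    rw [Bool.or_eq_true, Bool.not_eq_true'] at h'
    rcases h' with h' | h'
    · exact prod_eq (j := []) h'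
    exfalso
    obtain ⟨t, ht, he⟩ := tenW_tab
    have hrow := (row_iff ht ((v.map gM).prod)).1 (by rw [he]; exact h)
    obtain ⟨i, hi, hie⟩ := hrow
    have h1 := List.all_eq_true.1 ten_tab_ok t ht
    simp only [Bool.and_eq_true, List.all_eq_true, List.any_eq_true] at h1
    obtain ⟨-, u, hu, hue⟩ := h1.2 i hi
    rw [← eq_elM hue] at hie
    rw [List.any_eq_false] at h'
    refine h' u (he ▸ hu) (eqP_of_toPerm_eq (wordP_val v).1 (wordP_val u).1 ?_)
    rw [← (wordP_val v).2, ← (wordP_val u).2, hie]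
  aut := aut

theorem ten_gM (θ : ↥Cfsg.Spor.M22 ≃* ↥Cfsg.Spor.M22) :
    TenFacts ↥Cfsg.Spor.M22 (fun k => θ (gM k)) := ten_facts.map θ

end TenCert

end CfsgLib.JFourLocal
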