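import Cfsg.Agent.Lib.JFour.VData
import Cfsg.Agent.Lib.JFour.Cons
import Cfsg.Agent.Lib.JFour.Elem
import Cfsg.Agent.Lib.JFourLocal.TenData

/-!
# Checks on the matrices for the subgroup of order `2 ^ 10`
-/

set_option autoImplicit false
set_option maxRecDepth 100000
set_option Elab.async false

namespace CfsgLib.JFourLocal

open CfsgLib.JFour

/-- The words of involutions whose matrices are used. -/
def tenInv : List (List ℕ) :=
  tenW ++ [tenIW, tenJW] ++ (tenLow ++ tenSub).flatMap Prod.snd

/-- The seventh power of a matrix. -/
def sevB (B : List ℕ) : List ℕ := comp B (comp B (comp B (comp B (comp B (comp B B)))))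

/-- The matrix of the element of order seven. -/
def tenS : List ℕ :=
  sB (((List.range 3).find? fun k => sevB (sB k (wordB MS tenSW)) == idB).getD 0) (wordB MS tenSW)

/-- The cubic in the matrix of order seven cutting out the complement. -/
def tenR (n : ℕ) : Bool :=
  Nat.beq (Nat.xor (Nat.xor (ap tenS (ap tenS (ap tenS n))) (ap tenS (ap tenS n))) n) 0

theorem ten_inv_ok : tenInv.all (fun w =>
    comp (wB w) (wB w) == idB && okB (wB w) && (w.all fun k => decide (k < 5)) &&
      (List.range 3).all fun k => !(comp (sB k (wordB MS w)) (sB k (wordB MS w)) == idB) ||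
        sB k (wordB MS w) == wB w) = true := by
  decide +kernel

theorem ten_sev_ok : (sevB tenS == idB) = true ∧ okB tenS = true ∧
    tenSW.all (fun k => decide (k < 5)) = true ∧ tenTW.all (fun k => decide (k < 5)) = true ∧
    (List.range 3).all (fun k => !(sevB (sB k (wordB MS tenSW)) == idB) ||
      sB k (wordB MS tenSW) == tenS) = true := by
  decide +kernel

theorem ten_fix_counts_0 : ((List.range 4096).filter (fixP tenW)).length = 64 := by
  decide +kernel

theorem ten_fix_counts_1 : tenLow.all (fun t => Nat.ble ((List.range 4096).filter (fixP t.2)).length 32) = true := by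
  decide +kernel

theorem ten_fix_counts_2 : tenSub.all (fun t => Nat.ble ((List.range 4096).filter (fixP t.2)).length 64) = true := by
  decide +kernel

theorem ten_fix_counts : ((List.range 4096).filter (fixP tenW)).length = 64 ∧
    tenLow.all (fun t => Nat.ble ((List.range 4096).filter (fixP t.2)).length 32) = true ∧
    tenSub.all (fun t => Nat.ble ((List.range 4096).filter (fixP t.2)).length 64) = true :=
  ⟨ten_fix_counts_0, ten_fix_counts_1, ten_fix_counts_2⟩

theorem ten_fix_iso_0 : ((List.range 4096).filter (fixP tenW)).all (fun m =>
      ((List.range 4096).filter (fixP tenW)).all fun n => bb m n == false) = true := by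
  decide +kernel

theorem ten_fix_iso_1 : (List.range 12).all (fun i => tenW.all fun w =>
      fixP tenW (Nat.xor (ap (wB w) (2 ^ i)) (2 ^ i))) = true := by
  decide +kernel

theorem ten_fix_iso : ((List.range 4096).filter (fixP tenW)).all (fun m =>
      ((List.range 4096).filter (fixP tenW)).all fun n => bb m n == false) = true ∧
    (List.range 12).all (fun i => tenW.all fun w =>
      fixP tenW (Nat.xor (ap (wB w) (2 ^ i)) (2 ^ i))) = true :=
  ⟨ten_fix_iso_0, ten_fix_iso_1⟩

theorem ten_R_ok_0 : ((List.range 4096).filter tenR).length = 64 := by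
  decide +kernel

theorem ten_R_ok_1 : ((List.range 4096).filter tenR).all (fun m => ((List.range 4096).filter tenR).all fun n => bb m n == false) = true := by
  decide +kernel

theorem ten_R_ok_2 : ((List.range 4096).filter tenR).all (fun m => (Nat.beq m 0 || !fixP tenW m) &&
      tenR (ap gW0 m) && tenR (ap (wB tenIW) m) && tenR (ap (wB tenJW) m)) = true := by
  decide +kernel

theorem ten_R_ok : ((List.range 4096).filter tenR).length = 64 ∧
    ((List.range 4096).filter tenR).all (fun m => ((List.range 4096).filter tenR).all fun n => bb m n == false) = true ∧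
    ((List.range 4096).filter tenR).all (fun m => (Nat.beq m 0 || !fixP tenW m) &&
      tenR (ap gW0 m) && tenR (ap (wB tenIW) m) && tenR (ap (wB tenJW) m)) = true :=
  ⟨ten_R_ok_0, ten_R_ok_1, ten_R_ok_2⟩

end CfsgLib.JFourLocal
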