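import Cfsg.Agent.Lib.JFour.VFinal
import Cfsg.Agent.Lib.JFourLocal.TenM
import Cfsg.Agent.Lib.JFourLocal.TenMat

/-!
# Fixed spaces of the listed elementary subgroups in `E` modulo its centre
-/

set_option autoImplicit false
set_option maxRecDepth 100000
set_option linter.style.haveILetI false
set_option linter.unusedSectionVars false

open Cfsg

namespace CfsgLib.JFourLocal

open CfsgLib.JFour CfsgLib.JFour.Ctx

variable {G : Type*} [Group G] [Finite G] {M : Type*} [Group M] [Finite M] {z π : G} {E : Subgroup G}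
  {g : ℕ → M} {vec : ℕ → G}

/-- The words whose matrices are known. -/
def tenWords : List (List ℕ) := tenInv ++ ([4] :: (duadW ++ hexW))

theorem tenKinds_words {W : List (List ℕ)} (hW : W ∈ tenKinds) {w : List ℕ} (hw : w ∈ W) : w ∈ tenWords := by
  rw [tenKinds, List.mem_append, List.mem_singleton] at hW
  refine List.mem_append_left _ ?_
  rcases hW with hW | rfl
  · obtain ⟨t, ht, rfl⟩ := List.mem_map.1 hW
    exact List.mem_append_right _ (List.mem_flatMap.2 ⟨t, ht, hw⟩)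
  · exact List.mem_append_left _ (List.mem_append_left _ hw)

theorem tenW_words {w : List ℕ} (hw : w ∈ tenW ++ [tenIW, tenJW]) : w ∈ tenWords :=
  List.mem_append_left _ (List.mem_append_left _ hw)

theorem kinds_count {W : List (List ℕ)} (hW : W ∈ tenKinds) : ((List.range 4096).filter (fixP W)).length ≤ 64 := by
  obtain ⟨h1, h2, h3⟩ := ten_fix_counts
  rw [tenKinds, List.mem_append, List.mem_singleton] at hW
  rcases hW with hW | rfl
  · obtain ⟨t, ht, rfl⟩ := List.mem_map.1 hW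
    rcases List.mem_append.1 ht with ht | ht
    · exact (Nat.ble_eq ▸ List.all_eq_true.1 h2 t ht : _ ≤ 32).trans (by norm_num)
    · exact (Nat.ble_eq ▸ List.all_eq_true.1 h3 t ht : _ ≤ 64)
  · exact h1.le

/-- An element with square in `E` and the image of a listed involution acts by its matrix. -/
theorem acts_ten {J : Ctx M z π E} (Mo : J.Model g vec) (F : JFour.Small M) {w : List ℕ} (hw : w ∈ tenWords)
    {a : G} {c : ↥(CZ z π)} (h : a * (c : G)⁻¹ ∈ E) (ha : a * a ∈ E) (hc : J.proj c = (w.map g).prod) :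
    Acts z vec a (wB w) := by
  rcases List.mem_append.1 hw with hw | hw
  swap
  · exact Mo.acts_invol F hw h ha hc
  have hok := ten_inv_ok
  simp only [List.all_eq_true, Bool.and_eq_true, Bool.not_eq_true', beq_iff_eq, decide_eq_true_eq,
    beq_eq_false_iff_ne] at hok
  obtain ⟨⟨⟨-, -⟩, hk5⟩, hall⟩ := hok w hw
  simp only [Bool.or_eq_true, Bool.not_eq_true', beq_eq_false_iff_ne, beq_iff_eq] at hall
  obtain ⟨c₀, hc₀, hA₀⟩ := Mo.lift hk5
  obtain ⟨k, hk, hA⟩ := J.acts_of_proj Mo.coords Mo.om hA₀ (hc.trans hc₀.symm)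
  have hcz := (mem_CZ.1 c.2).1
  have hsq := Mo.coords.acts_mul J hA hcz hA (okB_comp hA.1 hA.1)
  rw [J.part_sq F h ha] at hsq
  have he : comp (sB k (wordB MS w)) (sB k (wordB MS w)) = idB := by
    have hlen : (comp (sB k (wordB MS w)) (sB k (wordB MS w))).length = 12 := by
      have := okB_comp hA.1 hA.1
      simp only [okB, Bool.and_eq_true, beq_iff_eq] at this
      exact this.1
    refine List.ext_getElem (by rw [hlen]; rfl) fun i hi _ => ?_
    rw [hlen] at hi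
    have e := Mo.coords.acts_eq J hsq (Mo.coords.acts_one J) (2 ^ i)
      (lt_of_lt_of_le (Nat.pow_lt_pow_right (by norm_num) hi) (by norm_num))
    rw [ap_pow, ap_pow, List.getD_eq_getElem _ _ (by omega), List.getD_eq_getElem _ _ hi] at e
    exact e
  have hk0 : sB k (wordB MS w) = wB w := (hall k (List.mem_range.2 hk)).resolve_left fun e => e he
  rw [hk0] at hA
  have := Mo.coords.acts_mul_E J hA h hcz
  rwa [show a * (c : G)⁻¹ * (c : G) = a by group] at this

/-- A fixed subgroup given in coordinates. -/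
structure IsFix (z : G) (E : Subgroup G) (vec : ℕ → G) (W : List (List ℕ)) (U : Subgroup G) : Prop where
  le : U ≤ E
  z_mem : z ∈ U
  iff : ∀ n, n < 4096 → (vec n ∈ U ↔ fixP W n = true)
  card : Nat.card U = 2 * ((List.range 4096).filter (fixP W)).length

theorem exists_isFix {J : Ctx M z π E} (Mo : J.Model g vec) (W : List (List ℕ)) :
    ∃ U, IsFix z E vec W U := by
  obtain ⟨U, h1, h2, h3, h4⟩ := J.exists_fixU Mo.coords W
  exact ⟨U, ⟨h1, h2, h3, h4⟩⟩

namespace IsFix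

variable {W : List (List ℕ)} {U : Subgroup G} (hU : IsFix z E vec W U)
include hU

/-- Elements fixed by elements over the words lie in it. -/
theorem mem_of {J : Ctx M z π E} (Mo : J.Model g vec) (F : JFour.Small M) (hW : ∀ w ∈ W, w ∈ tenWords)
    {x : G} (hx : x ∈ E) (h : ∀ w ∈ W, ∃ a : G, a * z = z * a ∧ a * a ∈ E ∧
      (∃ c : ↥(CZ z π), a * (c : G)⁻¹ ∈ E ∧ J.proj c = (w.map g).prod) ∧ Rel z (a * x * a⁻¹) x) :
    x ∈ U := by
  obtain ⟨n, hn, hr, hiff⟩ := J.vec_mem Mo.coords (A := U) hU.z_mem hx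
  refine hiff.2 ((hU.iff n hn).2 ?_)
  simp only [fixP, List.all_eq_true, Nat.beq_eq]
  intro w hw
  obtain ⟨a, haz, ha2, ⟨c, hc, hcp⟩, hax⟩ := h w hw
  have hB := acts_ten Mo F (hW w hw) hc ha2 hcp
  refine (Mo.coords.rel_iff J (okB_lt hB.1 n) hn).1 ?_
  refine J.rel_trans (J.rel_symm (hB.2 n hn)) ?_
  exact J.rel_trans (J.rel_conj haz (J.rel_symm hr)) (J.rel_trans hax hr)

/-- They fix it. -/
theorem rel_of {J : Ctx M z π E} (Mo : J.Model g vec) (F : JFour.Small M) {w : List ℕ} (hw : w ∈ W)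
    (hw' : w ∈ tenWords) {a : G} (haz : a * z = z * a) (ha : a * a ∈ E) {c : ↥(CZ z π)}
    (hc : a * (c : G)⁻¹ ∈ E) (hcp : J.proj c = (w.map g).prod) {x : G} (hx : x ∈ U) :
    Rel z (a * x * a⁻¹) x := by
  obtain ⟨n, hn, hr, hiff⟩ := J.vec_mem Mo.coords (A := U) hU.z_mem (hU.le hx)
  have hfix := (hU.iff n hn).1 (hiff.1 hx)
  simp only [fixP, List.all_eq_true, Nat.beq_eq] at hfix
  have hB := (acts_ten Mo F hw' hc ha hcp).2 n hn
  rw [hfix w hw] at hB
  exact J.rel_trans (J.rel_conj haz hr) (J.rel_trans hB (J.rel_symm hr))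

/-- It is normalized by `π`. -/
theorem pi_conj {J : Ctx M z π E} (Mo : J.Model g vec) (F : JFour.Small M) (hW : ∀ w ∈ W, w ∈ tenWords)
    (hsq : ∀ w ∈ W, (w.map g).prod * (w.map g).prod = 1) {x : G} (hx : x ∈ U) : π * x * π⁻¹ ∈ U := by
  refine hU.mem_of Mo F hW (J.conjE J.piz (hU.le hx)) fun w hw => ?_
  obtain ⟨c, hc, hc2⟩ := J.exists_lift_invol F (hsq w hw)
  have hcE : (c : G) * (c : G)⁻¹ ∈ E := by rw [mul_inv_cancel]; exact one_mem E
  refine ⟨c, (mem_CZ.1 c.2).1, hc2 ▸ one_mem E, ⟨c, hcE, hc⟩, ?_⟩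
  have h := J.rel_conj J.piz (hU.rel_of Mo F hw (hW w hw) (mem_CZ.1 c.2).1 (hc2 ▸ one_mem E) hcE hc hx)
  rwa [show (c : G) * (π * x * π⁻¹) * (c : G)⁻¹ = (c : G) * π * x * ((c : G) * π)⁻¹ by group,
    (mem_CZ.1 c.2).2,
    show π * (c : G) * x * (π * (c : G))⁻¹ = π * ((c : G) * x * (c : G)⁻¹) * π⁻¹ by group]

end IsFix

/-- A 2-subgroup of an abelian subgroup and its translate by `π` meet in the centre, if an outer
element centralizes it. -/
theorem inter_conj_le {J : Ctx M z π E} {Y : Subgroup G} (hY : Y ≤ E) {w : G} (hwz : w * z = z * w)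
    (hwH : w ∉ H0 z π E) (hwY : ∀ y ∈ Y, w * y = y * w) :
    Y ⊓ Y.map (MulAut.conj π).toMonoidHom ≤ Subgroup.zpowers z := by
  obtain ⟨f, hf, hfπ⟩ := (J.not_mem_H0_iff hwz).1 hwH
  rintro u ⟨huY, v, hv, huv⟩
  have huv' : u = π * v * π⁻¹ := huv.symm
  have e1 : w * u * w⁻¹ = u := by rw [hwY u huY, mul_inv_cancel_right]
  have e2 : w * v * w⁻¹ = v := by rw [hwY v hv, mul_inv_cancel_right]
  have hvE : v ∈ E := hY hv
  have e3 : u = f * (π⁻¹ * (f⁻¹ * v * f) * π) * f⁻¹ := by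
    rw [← e1, huv', show w * (π * v * π⁻¹) * w⁻¹ = (w * π * w⁻¹) * (w * v * w⁻¹) * (w * π * w⁻¹)⁻¹ by group,
      e2, hfπ]
    group
  have hvf : f⁻¹ * v * f ∈ E := mul_mem (mul_mem (inv_mem hf) hvE) hf
  have hpz : π⁻¹ * z = z * π⁻¹ := (Commute.inv_left (show Commute π z from J.piz)).eq
  have r1 : Rel z u (π⁻¹ * (f⁻¹ * v * f) * π) := e3 ▸ J.rel_conj_E hf (J.conjE' J.piz hvf)
  have r2 : Rel z (f⁻¹ * v * f) v := by
    have := J.rel_conj_E (inv_mem hf) hvE
    rwa [inv_inv] at this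
  have r3 : Rel z (π⁻¹ * (f⁻¹ * v * f) * π) (π⁻¹ * v * π) := by
    have := J.rel_conj hpz r2
    rwa [inv_inv] at this
  have hfix : Rel z (π * u * π⁻¹) u := by
    convert J.rel_symm (J.rel_trans r1 r3) using 1
    rw [huv', show π * (π * v * π⁻¹) * π⁻¹ = (π * π) * v * (π * π)⁻¹ by group, ← J.pi_inv, inv_inv]
  rcases J.fpf_rel (hY huY) hfix with k | k <;> rw [k]
  · exact one_mem _
  · rw [mul_one]; exact Subgroup.mem_zpowers z

/-- Two translates in an invariant subgroup. -/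
theorem sq_card_le {J : Ctx M z π E} {Y U : Subgroup G} (hY : Y ≤ U) (hπ : ∀ u ∈ U, π * u * π⁻¹ ∈ U)
    (h : Y ⊓ Y.map (MulAut.conj π).toMonoidHom ≤ Subgroup.zpowers z) :
    Nat.card Y * Nat.card Y ≤ 2 * Nat.card U := by
  have hY' : Y.map (MulAut.conj π).toMonoidHom ≤ U := by
    rintro _ ⟨y, hy, rfl⟩
    exact hπ y (hY hy)
  have hprod := card_mul_card_le hY hY'
  rw [Subgroup.card_map_of_injective (MulAut.conj π).injective] at hprod
  exact hprod.trans (Nat.mul_le_mul_right _ (J.card_zpowers_z ▸ Subgroup.card_le_of_le h))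

/-- A 2-subgroup commutes with a conjugate of `z`. -/
theorem exists_conj_central (J : Ctx M z π E) {A : Subgroup G} (hA : IsPGroup 2 A) :
    ∃ k : G, ∀ a ∈ A, k * a * k⁻¹ * z = z * (k * a * k⁻¹) := by
  haveI := Fact.mk Nat.prime_two
  set H := Subgroup.centralizer ({z} : Set G) with hH
  have hEH : E ≤ H := J.s.le_centralizer_z
  haveI hEn : (E.subgroupOf H).Normal := ⟨fun x hx h => Subgroup.mem_subgroupOf.2
    (J.conjE (Subgroup.mem_centralizer_singleton_iff.1 h.2) (Subgroup.mem_subgroupOf.1 hx))⟩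
  obtain ⟨S⟩ : Nonempty (Sylow 2 ↥H) := inferInstance
  have hES : E.subgroupOf H ≤ (S : Subgroup ↥H) := by
    have hE' : IsPGroup 2 ↥(E.subgroupOf H) :=
      (IsPGroup.of_card J.cardE).of_equiv (Subgroup.subgroupOfEquivOfLe hEH).symm
    have h := S.3 (hE'.to_sup_of_normal_left S.2) le_sup_right
    exact le_sup_left.trans h.le
  set P2 := (S : Subgroup ↥H).map H.subtype with hP2
  have hP2p : IsPGroup 2 P2 := S.2.map H.subtype
  have hP2z : ∀ x ∈ P2, x * z = z * x := by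
    rintro _ ⟨x, -, rfl⟩
    exact Subgroup.mem_centralizer_singleton_iff.1 x.2
  obtain ⟨Q, hQ⟩ := hP2p.exists_le_sylow
  have hQP : (Q : Subgroup G) = P2 := by
    by_contra hne
    have hlt : P2 < (Q : Subgroup G) := lt_of_le_of_ne hQ (Ne.symm hne)
    haveI := (Q.2 : IsPGroup 2 ↥(Q : Subgroup G)).isNilpotent
    have hlt' : P2.subgroupOf (Q : Subgroup G) < ⊤ := lt_top_iff_ne_top.2 fun e =>
      hlt.ne (le_antisymm hQ (Subgroup.subgroupOf_eq_top.1 e))
    obtain ⟨t, ht, htn⟩ := SetLike.exists_of_lt (Group.normalizerCondition_of_isNilpotent _ hlt')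
    have hback : ∀ r ∈ P2, (t : G)⁻¹ * r * t ∈ P2 := fun r hr => by
      have := ((Subgroup.mem_normalizer_iff.1 (inv_mem ht) ⟨r, hQ hr⟩).1 hr : _)
      simpa [Subgroup.mem_subgroupOf] using this
    have htz : (t : G) * z * (t : G)⁻¹ = z := by
      set v := (t : G) * z * (t : G)⁻¹ with hv
      have hvc : ∀ r ∈ P2, r * v = v * r := fun r hr => by
        have h1 := hP2z _ (hback r hr)
        calc r * v = (t : G) * ((t : G)⁻¹ * r * t * z) * (t : G)⁻¹ := by rw [hv]; group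
          _ = _ := by rw [h1, hv]; group
      have hvZ : v ∈ Subgroup.zpowers z := J.s.cQ ▸ Subgroup.mem_centralizer_iff.2 fun e he =>
        hvc e ⟨⟨e, hEH he⟩, hES (Subgroup.mem_subgroupOf.2 he), rfl⟩
      rcases J.s.mem_zpowers hvZ with e | e
      · exact absurd (by rwa [hv, mul_inv_eq_one, mul_eq_left] at e) J.z_ne
      · exact e
    have htH : (t : G) ∈ H :=
      Subgroup.mem_centralizer_singleton_iff.2 (mul_inv_eq_iff_eq_mul.1 htz)
    set K := (Q : Subgroup G) ⊓ H with hK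
    have hSK : (S : Subgroup ↥H) ≤ K.subgroupOf H := fun x hx =>
      Subgroup.mem_subgroupOf.2 ⟨hQ ⟨x, hx, rfl⟩, x.2⟩
    have hK2 : IsPGroup 2 ↥(K.subgroupOf H) :=
      (Q.2.to_le inf_le_left).of_equiv (Subgroup.subgroupOfEquivOfLe inf_le_right).symm
    have heq := S.3 hK2 hSK
    have htS : (⟨(t : G), htH⟩ : ↥H) ∈ (S : Subgroup ↥H) :=
      heq.le (Subgroup.mem_subgroupOf.2 ⟨t.2, htH⟩)
    exact htn (Subgroup.mem_subgroupOf.2 ⟨_, htS, rfl⟩)
  obtain ⟨Q', hQ'⟩ := hA.exists_le_sylow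
  obtain ⟨k, hk⟩ := MulAction.exists_smul_eq G Q' Q
  refine ⟨k, fun a ha => hP2z _ ?_⟩
  rw [← hQP, ← hk, Sylow.coe_subgroup_smul]
  exact ⟨a, hQ' ha, rfl⟩

end CfsgLib.JFourLocal
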